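import Groth.Agent.Lib.Helper37.Hz3

/-!
# Henselization project, part 4: flatness of the limit
-/

set_option autoImplicit false
universe u

namespace Groth.Agent.Lib.Helper37.Hz

open IsLocalRing TensorProduct

variable {R : Type u} [CommRing R] {Ω : Type u} [Field Ω] [Algebra R Ω]

instance flat_H : Module.Flat R (H R Ω) := by
  apply Module.Flat.of_forall_isTrivialRelation
  intro l f x hfx
  obtain ⟨i, y, hy⟩ := exists_of_finite x
  have h0 : of i (∑ k, f k • y k) = 0 := by
    rw [map_sum, ← hfx]
    exact Finset.sum_congr rfl fun k _ => by rw [map_smul, hy]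
  obtain ⟨j, hij, hj⟩ := (of_eq_zero_iff _).mp h0
  rw [map_sum] at hj
  have hj' : ∑ k, f k • trans i j hij (y k) = 0 := by
    rw [← hj]
    exact Finset.sum_congr rfl fun k _ => by rw [map_smul]
  have htriv := @Module.Flat.isTrivialRelation_of_sum_smul_eq_zero R (G j) _ _ _ _ (Fin l) _ f
    (fun k => trans i j hij (y k))
  obtain ⟨k, a, z, hz, ha⟩ := htriv hj'
  refine ⟨k, a, fun t => of j (z t), fun t => ?_, ha⟩
  have hzt : trans i j hij (y t) = ∑ s, a t s • z s := hz t
  rw [← hy, ← of_trans i j hij, hzt, map_sum]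
  exact Finset.sum_congr rfl fun s _ => by rw [map_smul]

instance faithfullyFlat_H [IsLocalRing R] [IsLocalHom (algebraMap R Ω)] :
    Module.FaithfullyFlat R (H R Ω) :=
  Module.FaithfullyFlat.of_flat_of_isLocalHom

end Groth.Agent.Lib.Helper37.Hz
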