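import Mathlib

/-!
# Henselization project: scaling the roots of a Hensel datum
-/

set_option autoImplicit false

namespace Groth.Agent.Lib.Helper37.Hz

open Polynomial

variable {A : Type*} [CommRing A]

theorem eval_derivative_scaleRoots_mul (p : A[X]) (s a : A) :
    (p.scaleRoots s).derivative.eval (s * a) * s = s ^ p.natDegree * p.derivative.eval a := by
  set n := p.natDegree with hn
  have h1 : (p.scaleRoots s).derivative.natDegree < n + 1 := by
    have := natDegree_derivative_le (p.scaleRoots s)
    rw [natDegree_scaleRoots] at this
    omega
  have h2 : p.derivative.natDegree < n + 1 := by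
    have := natDegree_derivative_le p
    omega
  rw [eval_eq_sum_range' h1, eval_eq_sum_range' h2, Finset.sum_mul, Finset.mul_sum]
  apply Finset.sum_congr rfl
  intro i _
  rw [coeff_derivative, coeff_derivative, coeff_scaleRoots, ← hn]
  by_cases hi : i + 1 ≤ n
  · have : s ^ n = s ^ (n - (i + 1)) * s ^ i * s := by
      rw [← pow_add, ← pow_succ]
      congr 1
      omega
    rw [this, mul_pow]
    ring
  · have : p.coeff (i + 1) = 0 := coeff_eq_zero_of_natDegree_lt (by omega)
    rw [this]
    ring

end Groth.Agent.Lib.Helper37.Hz
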