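import Groth.Agent.Lib.Helper37.Hz2
import Groth.Agent.Lib.Helper37.HzScale

/-!
# Henselization project, part 5: the Hensel step for pointed étale algebras
-/

set_option autoImplicit false
universe u

namespace Groth.Agent.Lib.Helper37.Hz

open IsLocalRing Polynomial

variable {R : Type u} [CommRing R] {Ω : Type u} [Field Ω] [Algebra R Ω]
variable {C : Type u} [CommRing C] [Algebra R C] [Algebra.Etale R C] (θ : C →ₐ[R] Ω)

/-- Descent of a Hensel datum over the local ring of a pointed étale algebra to a monic polynomial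
over the algebra itself, after scaling. -/
theorem exists_scaled_datum (f : (LocPt θ)[X]) (hf : f.Monic) (a₀ : LocPt θ)
    (h₁ : f.eval a₀ ∈ maximalIdeal (LocPt θ)) (h₂ : IsUnit (f.derivative.eval a₀)) :
    ∃ (g : (ptKer θ).primeCompl) (F : C[X]) (b : C), F.Monic ∧
      F.map (algebraMap C (LocPt θ)) = f.scaleRoots (algebraMap C (LocPt θ) g) ∧
      algebraMap C (LocPt θ) b = algebraMap C (LocPt θ) g * a₀ ∧
      θ (F.eval b) = 0 ∧ θ (F.derivative.eval b) ≠ 0 := by
  classical
  obtain ⟨g, hg⟩ := IsLocalization.exist_integer_multiples_of_finset (ptKer θ).primeCompl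
    (insert a₀ (f.support.image f.coeff))
  set u : LocPt θ := algebraMap C (LocPt θ) g with hu
  have hu_unit : IsUnit u := IsLocalization.map_units (LocPt θ) g
  set n := f.natDegree with hn
  have hF₁monic : (f.scaleRoots u).Monic := (monic_scaleRoots_iff u).mpr hf
  have hint : ∀ x ∈ insert a₀ (f.support.image f.coeff),
      ∃ c : C, algebraMap C (LocPt θ) c = u * x := by
    intro x hx
    obtain ⟨c, hc⟩ := hg x hx
    exact ⟨c, by rw [hc, Algebra.smul_def]⟩
  have hF₁lift : f.scaleRoots u ∈ lifts (algebraMap C (LocPt θ)) := by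
    rw [lifts_iff_coeff_lifts]
    intro i
    rw [coeff_scaleRoots, ← hn]
    rcases lt_trichotomy i n with hi | hi | hi
    · by_cases h0 : f.coeff i = 0
      · exact ⟨0, by rw [h0, zero_mul, map_zero]⟩
      · obtain ⟨c, hc⟩ := hint (f.coeff i)
          (Finset.mem_insert_of_mem (Finset.mem_image_of_mem _ (mem_support_iff.mpr h0)))
        obtain ⟨k, hk⟩ : ∃ k, n - i = k + 1 := ⟨n - i - 1, by omega⟩
        refine ⟨c * (g : C) ^ k, ?_⟩
        rw [map_mul, map_pow, hc, hk, pow_succ, ← hu]
        ring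
    · subst hi
      exact ⟨1, by rw [hf.coeff_natDegree, Nat.sub_self, pow_zero, mul_one, map_one]⟩
    · exact ⟨0, by rw [coeff_eq_zero_of_natDegree_lt hi, zero_mul, map_zero]⟩
  obtain ⟨F, hFmap, -, hFmonic⟩ := lifts_and_degree_eq_and_monic hF₁lift hF₁monic
  obtain ⟨b, hb⟩ := hint a₀ (Finset.mem_insert_self _ _)
  refine ⟨g, F, b, hFmonic, hFmap, hb, ?_, ?_⟩
  · rw [← locPt_algebraMap θ, locPt_eq_zero_iff, ← eval_map_apply, hFmap, hb,
      scaleRoots_eval_mul]
    exact Ideal.mul_mem_left _ _ h₁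
  · rw [← locPt_algebraMap θ, ← isUnit_iff_locPt_ne_zero, ← eval_map_apply, ← derivative_map,
      hFmap, hb]
    have h3 := eval_derivative_scaleRoots_mul f u a₀
    have h4 : IsUnit ((f.scaleRoots u).derivative.eval (u * a₀) * u) := by
      rw [h3]
      exact (hu_unit.pow _).mul h₂
    exact isUnit_of_mul_isUnit_left h4

/-- **The Hensel step.** A Hensel datum over the local ring of a pointed étale algebra acquires a
root in the local ring of a bigger pointed étale algebra. -/
theorem exists_hensel_step (f : (LocPt θ)[X]) (hf : f.Monic) (a₀ : LocPt θ)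
    (h₁ : f.eval a₀ ∈ maximalIdeal (LocPt θ)) (h₂ : IsUnit (f.derivative.eval a₀)) :
    ∃ (D : Type u) (_ : CommRing D) (_ : Algebra R D) (_ : Algebra.Etale R D) (θD : D →ₐ[R] Ω)
      (φ : PtHom θ θD) (a : LocPt θD),
      (f.map (φ.1 : LocPt θ →+* LocPt θD)).eval a = 0 ∧
        a - φ.1 a₀ ∈ maximalIdeal (LocPt θD) := by
  obtain ⟨g, F, b, hFmonic, hFmap, hb, hFb, hF'b⟩ := exists_scaled_datum θ f hf a₀ h₁ h₂
  let P : StandardEtalePair C := ⟨F, hFmonic, derivative F, ⟨1, 0, 1, by ring⟩⟩
  letI : Algebra R P.Ring := ((algebraMap C P.Ring).comp (algebraMap R C)).toAlgebra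
  haveI : IsScalarTower R C P.Ring := IsScalarTower.of_algebraMap_eq (fun _ => rfl)
  haveI : Algebra.Etale R P.Ring := Algebra.Etale.comp R C P.Ring
  letI : Algebra C Ω := (θ : C →+* Ω).toAlgebra
  haveI : IsScalarTower R C Ω := IsScalarTower.of_algebraMap_eq (fun r => (θ.commutes r).symm)
  have hmap : P.HasMap (θ b) := by
    constructor
    · change aeval (θ b) F = 0
      rw [aeval_def]
      change eval₂ (θ : C →+* Ω) ((θ : C →+* Ω) b) F = 0
      rw [eval₂_at_apply]
      exact hFb
    · change IsUnit (aeval (θ b) (derivative F))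
      rw [aeval_def]
      change IsUnit (eval₂ (θ : C →+* Ω) ((θ : C →+* Ω) b) (derivative F))
      rw [eval₂_at_apply]
      exact Ne.isUnit hF'b
  let θD : P.Ring →ₐ[R] Ω := (P.lift (θ b) hmap).restrictScalars R
  let ψ : C →ₐ[R] P.Ring := IsScalarTower.toAlgHom R C P.Ring
  have hψ : θD.comp ψ = θ := by
    ext c
    change P.lift (θ b) hmap (algebraMap C P.Ring c) = θ c
    rw [AlgHom.commutes]
    rfl
  let φ : PtHom θ θD := PtHom.ofAlgHom ψ hψ
  set u : LocPt θ := algebraMap C (LocPt θ) g with hu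
  have hu_unit : IsUnit u := IsLocalization.map_units (LocPt θ) g
  set u' : LocPt θD := φ.1 u with hu'
  have hu'_unit : IsUnit u' := hu_unit.map φ.1
  obtain ⟨v, hv⟩ := hu'_unit.exists_right_inv
  set y : LocPt θD := algebraMap P.Ring (LocPt θD) P.X with hy
  have hcomp : (φ.1 : LocPt θ →+* LocPt θD).comp (algebraMap C (LocPt θ)) =
      (algebraMap P.Ring (LocPt θD)).comp (algebraMap C P.Ring) := by
    ext c
    exact PtHom.ofAlgHom_algebraMap ψ hψ c
  refine ⟨P.Ring, inferInstance, inferInstance, inferInstance, θD, φ, y * v, ?_, ?_⟩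
  · have hsc := scaleRoots_eval_mul (f.map (φ.1 : LocPt θ →+* LocPt θD)) (y * v) u'
    have h3 : u' * (y * v) = y := by rw [mul_comm y v, ← mul_assoc, hv, one_mul]
    have hlc : (φ.1 : LocPt θ →+* LocPt θD) f.leadingCoeff ≠ 0 := by
      rw [hf.leadingCoeff, map_one]
      exact one_ne_zero
    have h4 : (f.map (φ.1 : LocPt θ →+* LocPt θD)).scaleRoots u' =
        (F.map (algebraMap C P.Ring)).map (algebraMap P.Ring (LocPt θD)) := by
      rw [hu', ← RingHom.coe_coe, ← map_scaleRoots f u _ hlc, ← hFmap, Polynomial.map_map,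
        Polynomial.map_map, hcomp]
    rw [h3, h4, hy, eval_map_apply] at hsc
    have h5 : eval P.X (F.map (algebraMap C P.Ring)) = 0 := by
      rw [eval_map, ← aeval_def]
      exact P.hasMap_X.1
    rw [h5, map_zero] at hsc
    exact (hu'_unit.pow _).mul_right_eq_zero.mp hsc.symm
  · have h6 : y * v - φ.1 a₀ = v * (y - φ.1 (u * a₀)) := by
      rw [map_mul, ← hu']
      linear_combination (φ.1 a₀) * hv
    have h7 : φ.1 (u * a₀) = algebraMap P.Ring (LocPt θD) (algebraMap C P.Ring b) := by
      rw [← hb]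
      exact PtHom.ofAlgHom_algebraMap ψ hψ b
    rw [h6, h7, hy, ← map_sub]
    apply Ideal.mul_mem_left
    rw [← locPt_eq_zero_iff, locPt_algebraMap, map_sub]
    change P.lift (θ b) hmap P.X - P.lift (θ b) hmap (algebraMap C P.Ring b) = 0
    rw [P.lift_X, AlgHom.commutes]
    exact sub_self _

end Groth.Agent.Lib.Helper37.Hz
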