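import Groth.Agent.Lib.Helper37.Hz3
import Groth.Agent.Lib.Helper37.Hz5

/-!
# Henselization project, part 6: the limit ring is Henselian
-/

set_option autoImplicit false
universe u

namespace Groth.Agent.Lib.Helper37.Hz

open IsLocalRing Polynomial

variable {R : Type u} [CommRing R] {Ω : Type u} [Field Ω] [Algebra R Ω]

lemma lifts_of_mono {i j : Idx R Ω} (hij : i ≤ j) :
    lifts (of i : G i →+* H R Ω) ≤ lifts (of j : G j →+* H R Ω) := by
  intro p hp
  rw [lifts_iff_coeff_lifts] at hp ⊢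
  intro n
  obtain ⟨x, hx⟩ := hp n
  exact ⟨trans i j hij x, by rw [← hx]; exact of_trans i j hij x⟩

/-- Every polynomial over the limit comes from a stage. -/
lemma exists_mem_lifts (p : (H R Ω)[X]) : ∃ i : Idx R Ω, p ∈ lifts (of i : G i →+* H R Ω) := by
  obtain ⟨i, y, hy⟩ := exists_of_finite (fun k : Fin (p.natDegree + 1) => p.coeff k)
  refine ⟨i, ?_⟩
  rw [lifts_iff_coeff_lifts]
  intro n
  by_cases hn : n < p.natDegree + 1
  · exact ⟨y ⟨n, hn⟩, hy ⟨n, hn⟩⟩
  · exact ⟨0, by rw [coeff_eq_zero_of_natDegree_lt (by omega)]; exact map_zero _⟩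

instance henselian_H : HenselianLocalRing (H R Ω) where
  is_henselian f hf a₀ h₁ h₂ := by
    obtain ⟨i₁, hi₁⟩ := exists_mem_lifts f
    obtain ⟨i₂, y₂, hy₂⟩ := exists_of a₀
    obtain ⟨i, h1i, h2i⟩ := exists_ge_ge i₁ i₂
    have hfi := lifts_of_mono h1i hi₁
    obtain ⟨fi, hfimap, -, hfimonic⟩ := lifts_and_degree_eq_and_monic hfi hf
    set ai : G i := trans i₂ i h2i y₂ with hai
    have hai' : of i ai = a₀ := by rw [hai, of_trans, hy₂]
    have e1 : (of i) (fi.eval ai) = f.eval a₀ := by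
      rw [← hfimap, ← hai']
      exact (eval_map_apply (of i : G i →+* H R Ω) ai).symm
    have e2 : (of i) (fi.derivative.eval ai) = f.derivative.eval a₀ := by
      rw [← hfimap, ← hai', derivative_map]
      exact (eval_map_apply (of i : G i →+* H R Ω) ai).symm
    have h₁i : fi.eval ai ∈ maximalIdeal (G i) := by
      rw [← of_mem_maximalIdeal_iff, e1]
      exact h₁
    have h₂i : IsUnit (fi.derivative.eval ai) := by
      rw [← e2] at h₂
      exact isUnit_of_map_unit (of i : G i →+* H R Ω) _ h₂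
    obtain ⟨D, _, _, _, θD, φ, a, ha0, ham⟩ := exists_hensel_step i.θ fi hfimonic ai h₁i h₂i
    obtain ⟨j, hij, ψ, hψ⟩ := exists_idx_ge θD i φ
    refine ⟨of j (ψ.1 a), ?_, ?_⟩
    · have hcomp : (of i : G i →+* H R Ω) =
          (of j : G j →+* H R Ω).comp ((ψ.1 : LocPt θD →+* G j).comp (φ.1 : G i →+* LocPt θD)) := by
        ext x
        change of i x = of j (ψ.1 (φ.1 x))
        rw [← hψ, of_trans]
      rw [IsRoot, ← hfimap, hcomp, ← Polynomial.map_map, ← Polynomial.map_map]
      change eval ((of j : G j →+* H R Ω) ((ψ.1 : LocPt θD →+* G j) a)) _ = 0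
      rw [eval_map_apply, eval_map_apply, ha0, map_zero, map_zero]
    · rw [← hai', ← of_trans i j hij, hψ, ← map_sub, of_mem_maximalIdeal_iff, ← map_sub]
      exact ψ.map_mem_maximalIdeal ham

end Groth.Agent.Lib.Helper37.Hz
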