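import Groth.Agent.Lib.Helper37.HenselEtale
import Mathlib.RingTheory.LocalRing.ResidueField.Ideal

/-!
Henselian local rings and etale algebras (Stacks 04GG (1) <=> (7) <=> (8)), by helper37.
-/

namespace Groth.Agent.Lib.Helper37

open Polynomial TensorProduct

universe u

/-- Two algebra maps out of an unramified algebra which agree modulo an ideal contained in the
Jacobson radical are equal. -/
theorem algHom_eq_of_unramified_of_sub_mem {R A S : Type*} [CommRing R] [CommRing A] [CommRing S]
    [Algebra R A] [Algebra R S] [Algebra.FormallyUnramified R A] [Algebra.EssFiniteType R A]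
    (J : Ideal S) (hJ : J ≤ Ideal.jacobson ⊥) (f₁ f₂ : A →ₐ[R] S)
    (h : ∀ a, f₁ a - f₂ a ∈ J) : f₁ = f₂ := by
  obtain ⟨t, ht1, ht2⟩ :=
    (Algebra.FormallyUnramified.iff_exists_tensorProduct (R := R) (S := A)).mp inferInstance
  let g := Algebra.TensorProduct.productMap f₁ f₂
  have hg : ∀ a, (f₂ a - f₁ a) * g t = 0 := by
    intro a
    have := congr(g $(ht1 a))
    rw [map_mul, map_sub, map_zero] at this
    simpa [g, Algebra.TensorProduct.productMap_apply_tmul] using this
  have hmk : (Ideal.Quotient.mkₐ R J).comp g =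
      ((Ideal.Quotient.mkₐ R J).comp f₁).comp (Algebra.TensorProduct.lmul' R) := by
    apply Algebra.TensorProduct.ext'
    intro a b
    simp only [AlgHom.comp_apply, g, Algebra.TensorProduct.productMap_apply_tmul,
      Algebra.TensorProduct.lmul'_apply_tmul, map_mul]
    congr 1
    exact (Ideal.Quotient.eq.mpr (h b)).symm
  have hε : g t - 1 ∈ J := by
    have := congr($hmk t)
    simp only [AlgHom.comp_apply, ht2, map_one] at this
    rw [← Ideal.Quotient.eq_zero_iff_mem, map_sub, map_one, sub_eq_zero]
    exact this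
  have hunit : IsUnit (g t) := by
    have := Ideal.mem_jacobson_bot.mp (hJ hε) 1
    simpa using this
  ext a
  have := (hunit.mul_left_eq_zero).mp (hg a)
  exact (sub_eq_zero.mp this).symm



theorem existsUnique_algHom_of_etale_of_henselianLocal (R : Type u) [CommRing R]
    (S : Type u) [CommRing S] [HenselianLocalRing S] [Algebra R S]
    (A : Type u) [CommRing A] [Algebra R A] [Algebra.Etale R A] (q : Ideal A) [q.IsPrime]
    (τ : q.ResidueField →+* IsLocalRing.ResidueField S)
    (hτ : τ.comp (algebraMap R q.ResidueField) = (IsLocalRing.residue S).comp (algebraMap R S)) :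
    ∃! f : A →ₐ[R] S, Ideal.comap f.toRingHom (IsLocalRing.maximalIdeal S) = q ∧
      ∀ a : A, IsLocalRing.residue S (f a) = τ (algebraMap A q.ResidueField a) := by
  set m := IsLocalRing.maximalIdeal S with hm
  have hjac : m ≤ Ideal.jacobson ⊥ := by
    rw [IsLocalRing.jacobson_eq_maximalIdeal ⊥ bot_ne_top]
  let φ : A →ₐ[R] S ⧸ m :=
    { toRingHom := τ.comp (algebraMap A q.ResidueField)
      commutes' := by
        intro r
        change τ (algebraMap A q.ResidueField (algebraMap R A r)) = _
        rw [← IsScalarTower.algebraMap_apply R A q.ResidueField]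
        have := congr($hτ r)
        simp only [RingHom.comp_apply] at this
        rw [this]
        rfl }
  have hφ : ∀ a, φ a = τ (algebraMap A q.ResidueField a) := fun _ => rfl
  let σ : S ⊗[R] A →ₐ[S] S ⧸ m :=
    Algebra.TensorProduct.lift (Algebra.ofId S (S ⧸ m)) φ (fun _ _ => Commute.all _ _)
  obtain ⟨T, hT⟩ := exists_lift_of_etale m σ
  let f : A →ₐ[R] S := (T.restrictScalars R).comp Algebra.TensorProduct.includeRight
  have hf : ∀ a, IsLocalRing.residue S (f a) = τ (algebraMap A q.ResidueField a) := by
    intro a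
    have := congr($hT ((1 : S) ⊗ₜ[R] a))
    simp only [AlgHom.comp_apply, σ, Algebra.TensorProduct.lift_tmul, map_one, one_mul] at this
    rw [← hφ, ← this]
    rfl
  refine ⟨f, ⟨?_, hf⟩, ?_⟩
  · ext a
    rw [Ideal.mem_comap]
    change f a ∈ m ↔ _
    rw [← IsLocalRing.residue_eq_zero_iff, hf, map_eq_zero_iff τ τ.injective,
      Ideal.algebraMap_residueField_eq_zero]
  · rintro f' ⟨-, hf'⟩
    apply algHom_eq_of_unramified_of_sub_mem m hjac
    intro a
    rw [hm, ← IsLocalRing.residue_eq_zero_iff, map_sub, hf', hf, sub_self]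



theorem henselianLocalRing_of_etale_retraction (R : Type u) [CommRing R] [IsLocalRing R]
    (h : ∀ (S : Type u) [CommRing S] [Algebra R S] [Algebra.Etale R S] (q : Ideal S) [q.IsPrime],
      q.LiesOver (IsLocalRing.maximalIdeal R) → Function.Surjective (algebraMap R q.ResidueField) →
      Nonempty (S →ₐ[R] R)) :
    HenselianLocalRing R := by
  refine { toIsLocalRing := inferInstance, is_henselian := fun f hf a₀ h₁ h₂ => ?_ }
  set m := IsLocalRing.maximalIdeal R with hm
  set qq : R[X] := f /ₘ (X - C a₀) with hqq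
  have hfq : f = (X - C a₀) * qq + C (f.eval a₀) := by
    have := modByMonic_add_div f (X - C a₀)
    rw [modByMonic_X_sub_C_eq_C_eval] at this
    rw [hqq, add_comm]
    exact this.symm
  have hqeval : qq.eval a₀ = f.derivative.eval a₀ := by
    have := congr(eval a₀ (derivative $hfq))
    simp only [derivative_add, derivative_mul, derivative_sub, derivative_X, derivative_C,
      sub_zero, one_mul, eval_add, eval_mul, eval_sub, eval_X, eval_C, sub_self, zero_mul,
      add_zero] at this
    exact this.symm
  let P : StandardEtalePair R := ⟨f, hf, derivative f * qq, ⟨qq, 0, 1, by ring⟩⟩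
  let k := IsLocalRing.ResidueField R
  have haeval : ∀ p : R[X], aeval (IsLocalRing.residue R a₀) p = IsLocalRing.residue R (p.eval a₀) := by
    intro p
    change aeval (algebraMap R k a₀) p = algebraMap R k (p.eval a₀)
    rw [aeval_algebraMap_apply, coe_aeval_eq_eval]
  have hmap : P.HasMap (IsLocalRing.residue R a₀) := by
    refine ⟨?_, ?_⟩
    · change aeval _ f = 0
      rw [haeval]
      exact (IsLocalRing.residue_eq_zero_iff _).mpr h₁
    · change IsUnit (aeval _ (derivative f * qq))
      rw [haeval, eval_mul, hqeval]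
      exact (h₂.mul h₂).map _
  let σ : P.Ring →ₐ[R] k := P.lift _ hmap
  have hσsurj : Function.Surjective σ := by
    intro z
    obtain ⟨r, rfl⟩ := IsLocalRing.residue_surjective z
    exact ⟨algebraMap R P.Ring r, σ.commutes r⟩
  let q : Ideal P.Ring := RingHom.ker σ.toRingHom
  have hqprime : q.IsPrime := RingHom.ker_isPrime _
  have hqmax : q.IsMaximal := RingHom.ker_isMaximal_of_surjective σ.toRingHom hσsurj
  have hlies : q.LiesOver m := by
    constructor
    rw [Ideal.under, RingHom.comap_ker, AlgHom.toRingHom_eq_coe, σ.comp_algebraMap]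
    exact (IsLocalRing.ker_residue (R := R)).symm
  have hsurj : Function.Surjective (algebraMap R q.ResidueField) := by
    intro z
    obtain ⟨y', rfl⟩ := (Ideal.bijective_algebraMap_quotient_residueField q).2 z
    obtain ⟨y, rfl⟩ := Ideal.Quotient.mk_surjective y'
    obtain ⟨r, hr⟩ := IsLocalRing.residue_surjective (σ y)
    refine ⟨r, ?_⟩
    have h1 : y - algebraMap R P.Ring r ∈ q := by
      change σ (y - algebraMap R P.Ring r) = 0
      rw [map_sub, σ.commutes, ← hr]
      exact sub_self _
    rw [IsScalarTower.algebraMap_apply R P.Ring q.ResidueField,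
      IsScalarTower.algebraMap_apply P.Ring (P.Ring ⧸ q) q.ResidueField]
    congr 1
    exact (Ideal.Quotient.eq.mpr h1).symm
  obtain ⟨ρ⟩ := h P.Ring q hlies hsurj
  have hX := P.hasMap_X.map ρ
  obtain ⟨hX1, hX2⟩ := hX
  change aeval (ρ P.X) f = 0 at hX1
  change IsUnit (aeval (ρ P.X) (derivative f * qq)) at hX2
  rw [coe_aeval_eq_eval] at hX1 hX2
  set a := ρ P.X with ha
  refine ⟨a, hX1, ?_⟩
  have hqa : IsUnit (qq.eval a) := by
    rw [eval_mul] at hX2
    exact isUnit_of_mul_isUnit_right hX2
  have h3 : (a - a₀) * qq.eval a = -f.eval a₀ := by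
    have := congr(eval a $hfq)
    rw [hX1] at this
    simp only [eval_add, eval_mul, eval_sub, eval_X, eval_C] at this
    linear_combination -this
  have h4 : (a - a₀) * qq.eval a ∈ m := by rw [h3]; exact m.neg_mem h₁
  rcases (IsLocalRing.maximalIdeal.isMaximal R).isPrime.mem_or_mem h4 with h5 | h5
  · exact h5
  · exact absurd hqa ((IsLocalRing.mem_maximalIdeal _).mp h5)


end Groth.Agent.Lib.Helper37
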