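import Groth.Agent.Lib.Helper37.Hz3
import Groth.Agent.Lib.Helper35.EssEtaleLift

/-!
# Henselization project, part 7: the universal property of the limit ring
-/

set_option autoImplicit false
universe u

namespace Groth.Agent.Lib.Helper37.Hz

open IsLocalRing

variable {R : Type u} [CommRing R] {Ω : Type u} [Field Ω] [Algebra R Ω]

section LiftAPI

variable (P : Type*) [CommRing P]

/-- Ring homomorphisms out of the limit. -/
noncomputable def liftRingHom (g : ∀ i : Idx R Ω, G i →+* P)
    (Hg : ∀ i j hij x, g j (trans i j hij x) = g i x) : H R Ω →+* P :=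
  DirectLimit.Ring.lift (G (R := R) (Ω := Ω)) (fun i j h => trans i j h) P g Hg

variable {P}

@[simp] lemma liftRingHom_of (g : ∀ i : Idx R Ω, G i →+* P)
    (Hg : ∀ i j hij x, g j (trans i j hij x) = g i x) (i : Idx R Ω) (x : G i) :
    liftRingHom P g Hg (of i x) = g i x := rfl

lemma ringHom_ext {g₁ g₂ : H R Ω →+* P} (h : ∀ i x, g₁ (of i x) = g₂ (of i x)) : g₁ = g₂ := by
  ext x
  obtain ⟨i, y, rfl⟩ := exists_of x
  exact h i y

end LiftAPI

variable [IsLocalRing R] [IsLocalHom (algebraMap R Ω)]
variable {C : Type u} [CommRing C] [Algebra R C] [Algebra.Etale R C] (θ : C →ₐ[R] Ω)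

instance isLocalHom_locPt : IsLocalHom (locPt θ : LocPt θ →+* Ω) := by
  constructor
  intro x hx
  exact (isUnit_iff_locPt_ne_zero θ x).mpr (IsUnit.ne_zero hx)

variable (T : Type u) [CommRing T] [HenselianLocalRing T] (ψ : R →+* T) [IsLocalHom ψ]
  (τ : Ω →+* ResidueField T) (hτ : τ.comp (algebraMap R Ω) = (residue T).comp ψ)

include hτ in
/-- Unique lifting for the local ring of a pointed étale algebra. -/
theorem existsUnique_lift_locPt :
    ∃! ψ' : LocPt θ →+* T, ψ'.comp (algebraMap R (LocPt θ)) = ψ ∧
      ∀ x, residue T (ψ' x) = τ (locPt θ x) := by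
  let α : ResidueField (LocPt θ) →+* ResidueField T :=
    τ.comp (ResidueField.lift (locPt θ : LocPt θ →+* Ω))
  have hα : α.comp (ResidueField.map (algebraMap R (LocPt θ))) = ResidueField.map ψ := by
    ext r
    obtain ⟨r, rfl⟩ := residue_surjective r
    simp only [α, RingHom.coe_comp, Function.comp_apply, ResidueField.map_residue,
      ResidueField.lift_residue_apply]
    have h1 : (locPt θ : LocPt θ →+* Ω) (algebraMap R (LocPt θ) r) = algebraMap R Ω r :=
      (locPt θ).commutes r
    rw [h1]
    exact RingHom.congr_fun hτ r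
  have hαres : ∀ x : LocPt θ, α (residue (LocPt θ) x) = τ (locPt θ x) := by
    intro x
    simp only [α, RingHom.coe_comp, Function.comp_apply, ResidueField.lift_residue_apply]
    rfl
  obtain ⟨ψ', ⟨-, h2, h3⟩, huniq⟩ := Groth.Agent.Lib.Helper35.EssEtaleLift.existsUnique_lift
    R (LocPt θ) (isEssentiallyEtale_locPt θ) T ψ α hα
  refine ⟨ψ', ⟨h2, fun x => by rw [h3, hαres]⟩, ?_⟩
  rintro ψ'' ⟨h2'', h3''⟩
  apply huniq
  refine ⟨?_, h2'', fun x => by rw [h3'', hαres]⟩
  constructor
  intro x hx
  have h4 : residue T (ψ'' x) ≠ 0 := by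
    rw [Ne, residue_eq_zero_iff, mem_maximalIdeal, mem_nonunits_iff, not_not]
    exact hx
  rw [h3''] at h4
  rw [isUnit_iff_locPt_ne_zero]
  intro h0
  rw [h0, map_zero] at h4
  exact h4 rfl

include hτ in
/-- **Universal property of the limit ring.** -/
theorem existsUnique_lift_H :
    ∃! g : H R Ω →+* T, g.comp (algebraMap R (H R Ω)) = ψ ∧
      ∀ x, residue T (g x) = τ (ptInf x) := by
  choose ψi hψi huniq using fun i : Idx R Ω => existsUnique_lift_locPt i.θ T ψ τ hτ
  have hcompat : ∀ i j hij x, ψi j (trans i j hij x) = ψi i x := by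
    intro i j hij x
    have : (ψi j).comp (trans i j hij : G i →+* G j) = ψi i := by
      apply huniq i
      constructor
      · rw [RingHom.comp_assoc, (trans i j hij).comp_algebraMap]
        exact (hψi j).1
      · intro y
        rw [RingHom.comp_apply, (hψi j).2]
        congr 1
        exact locPt_trans i j hij y
    exact RingHom.congr_fun this x
  refine ⟨liftRingHom T ψi hcompat, ⟨?_, ?_⟩, ?_⟩
  · ext r
    obtain ⟨i⟩ := (inferInstance : Nonempty (Idx R Ω))
    rw [RingHom.comp_apply, ← (of i).commutes r, liftRingHom_of]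
    exact RingHom.congr_fun (hψi i).1 r
  · intro x
    obtain ⟨i, y, rfl⟩ := exists_of x
    rw [liftRingHom_of, (hψi i).2, ptInf_of]
  · rintro g ⟨hg1, hg2⟩
    apply ringHom_ext
    intro i x
    rw [liftRingHom_of]
    have : g.comp (of i : G i →+* H R Ω) = ψi i := by
      apply huniq i
      constructor
      · rw [RingHom.comp_assoc, (of i).comp_algebraMap]
        exact hg1
      · intro y
        rw [RingHom.comp_apply, hg2]
        rfl
    exact RingHom.congr_fun this x

end Groth.Agent.Lib.Helper37.Hz
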