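import Groth.Prelude.Def_Hensel
import Groth.Agent.Lib.Helper37.Hz4
import Groth.Agent.Lib.Helper37.Hz6
import Groth.Agent.Lib.Helper37.Hz7

/-!
# Henselization project, part 10: the strict henselization
-/

set_option autoImplicit false
universe u

namespace Groth.Agent.Lib.Helper37.Hz

open IsLocalRing Polynomial

variable (R : Type u) [CommRing R] [IsLocalRing R]

/-- The separable closure of the residue field. -/
abbrev SepCl : Type u := SeparableClosure (ResidueField R)

instance isLocalHom_algebraMap_sepCl : IsLocalHom (algebraMap R (SepCl R)) := by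
  constructor
  intro r hr
  rw [IsScalarTower.algebraMap_apply R (ResidueField R) (SepCl R)] at hr
  have h1 : algebraMap R (ResidueField R) r ≠ 0 := by
    intro h0
    rw [h0, map_zero] at hr
    exact not_isUnit_zero hr
  have h2 : residue R r ≠ 0 := h1
  rw [Ne, residue_eq_zero_iff, mem_maximalIdeal, mem_nonunits_iff, not_not] at h2
  exact h2

/-- The strict henselization of `R`. -/
abbrev SHens : Type u := H R (SepCl R)

/-- The point of the limit ring as a ring homomorphism. -/
noncomputable def ptInfRingHom {Ω : Type u} [Field Ω] [Algebra R Ω] : H R Ω →+* Ω :=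
  (ptInf : H R Ω →ₐ[R] Ω).toRingHom

lemma ptInfRingHom_apply {Ω : Type u} [Field Ω] [Algebra R Ω] (x : H R Ω) :
    ptInfRingHom R x = ptInf x := rfl

instance isLocalHom_ptInf {Ω : Type u} [Field Ω] [Algebra R Ω] :
    IsLocalHom (ptInfRingHom R : H R Ω →+* Ω) := by
  constructor
  intro x hx
  exact (isUnit_iff_ptInf_ne_zero x).mpr (IsUnit.ne_zero hx)

/-- Every element of the separable closure is the value of the point at some element. -/
lemma ptInf_surjective_sepCl : Function.Surjective (ptInf : SHens R →ₐ[R] SepCl R) := by
  intro ω
  have hsep : IsSeparable (ResidueField R) ω := Algebra.IsSeparable.isSeparable _ ω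
  set p := minpoly (ResidueField R) ω with hp
  have hpmonic : p.Monic := minpoly.monic hsep.isIntegral
  obtain ⟨F, hFmap, -, hFmonic⟩ := lifts_and_degree_eq_and_monic
    ((mem_lifts p).mpr (map_surjective _ residue_surjective p)) hpmonic
  have hF : F.map (algebraMap R (ResidueField R)) = p := hFmap
  let P : StandardEtalePair R := ⟨F, hFmonic, derivative F, ⟨1, 0, 1, by ring⟩⟩
  have hmap : P.HasMap ω := by
    constructor
    · change aeval ω F = 0
      rw [← aeval_map_algebraMap (ResidueField R), hF]
      exact minpoly.aeval _ _
    · change IsUnit (aeval ω (derivative F))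
      rw [← aeval_map_algebraMap (ResidueField R), ← derivative_map, hF]
      exact (Separable.aeval_derivative_ne_zero hsep (minpoly.aeval _ _)).isUnit
  obtain ⟨i, e, he⟩ := exists_idx P.Ring (P.lift ω hmap)
  refine ⟨of i (algebraMap i.Ring (G i) (e P.X)), ?_⟩
  rw [ptInf_of, locPt_algebraMap]
  have := DFunLike.congr_fun he P.X
  rw [P.lift_X] at this
  exact this

/-- The residue field of the strict henselization is the separable closure. -/
noncomputable def residueEquiv : ResidueField (SHens R) ≃+* SepCl R :=
  RingEquiv.ofBijective (ResidueField.lift (ptInfRingHom R : SHens R →+* SepCl R))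
    ⟨(ResidueField.lift (ptInfRingHom R : SHens R →+* SepCl R)).injective, by
      intro ω
      obtain ⟨x, hx⟩ := ptInf_surjective_sepCl R ω
      exact ⟨residue _ x, by rw [ResidueField.lift_residue_apply]; exact hx⟩⟩

lemma residueEquiv_residue (x : SHens R) : residueEquiv R (residue _ x) = ptInf x :=
  ResidueField.lift_residue_apply (ptInfRingHom R : SHens R →+* SepCl R) x

lemma residueEquiv_algebraMap (z : ResidueField R) :
    residueEquiv R (ResidueField.map (algebraMap R (SHens R)) z) =
      algebraMap (ResidueField R) (SepCl R) z := by
  obtain ⟨r, rfl⟩ := residue_surjective z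
  rw [ResidueField.map_residue, residueEquiv_residue, AlgHom.commutes]
  rfl

instance isSepClosure_SHens :
    IsSepClosure (ResidueField R) (ResidueField (SHens R)) where
  sep_closed := by
    constructor
    intro p hp
    have h1 : (p.map (residueEquiv R : ResidueField (SHens R) →+* SepCl R)).Splits :=
      IsSepClosed.splits_of_separable _ (hp.map)
    have h2 := h1.map ((residueEquiv R).symm : SepCl R →+* ResidueField (SHens R))
    rwa [Polynomial.map_map, RingEquiv.symm_comp, Polynomial.map_id] at h2  -- placeholder names
  separable := by
    refine Algebra.IsSeparable.of_equiv_equiv (A₁ := ResidueField R) (B₁ := SepCl R)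
      (RingEquiv.refl (ResidueField R)) (residueEquiv R).symm ?_
    ext z
    simp only [RingHom.coe_comp, Function.comp_apply, RingEquiv.coe_ringHom_refl, RingHom.id_apply,
      RingHom.coe_coe]
    rw [RingEquiv.eq_symm_apply]
    exact residueEquiv_algebraMap R z

instance isStrictHenselization_SHens : Hensel.IsStrictHenselization R (SHens R) where
  henselian := inferInstance
  isSepClosure := isSepClosure_SHens R
  universal T _ _ f _ τ hτ := by
    let τ' : SepCl R →+* ResidueField T := τ.comp ((residueEquiv R).symm : SepCl R →+* _)
    have hτ' : τ'.comp (algebraMap R (SepCl R)) = (residue T).comp f := by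
      ext r
      have h1 : (residueEquiv R).symm (algebraMap R (SepCl R) r) =
          ResidueField.map (algebraMap R (SHens R)) (residue R r) := by
        rw [RingEquiv.symm_apply_eq, residueEquiv_algebraMap]
        rfl
      simp only [τ', RingHom.coe_comp, Function.comp_apply, RingHom.coe_coe, h1]
      rw [← RingHom.comp_apply τ, hτ, ResidueField.map_residue]
    have hiff : ∀ (g : SHens R →+* T), (∀ x, residue T (g x) = τ' (ptInf x)) ↔
        (∀ x, residue T (g x) = τ (residue (SHens R) x)) := by
      intro g
      have : ∀ x : SHens R, τ' (ptInf x) = τ (residue (SHens R) x) := by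
        intro x
        simp only [τ', RingHom.coe_comp, Function.comp_apply, RingHom.coe_coe]
        rw [← residueEquiv_residue, RingEquiv.symm_apply_apply]
      simp only [this]
    obtain ⟨g, ⟨hg1, hg2⟩, huniq⟩ := existsUnique_lift_H T f τ' hτ'
    refine ⟨g, ⟨hg1, (hiff g).mp hg2⟩, ?_⟩
    rintro g' ⟨hg1', hg2'⟩
    exact huniq g' ⟨hg1', (hiff g').mpr hg2'⟩

/-- Existence of the strict henselization. -/
theorem exists_isStrictHenselization :
    ∃ (S : Type u) (_ : CommRing S) (_ : IsLocalRing S) (_ : Algebra R S)
      (_ : IsLocalHom (algebraMap R S)), Hensel.IsStrictHenselization R S :=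
  ⟨SHens R, inferInstance, inferInstance, inferInstance, inferInstance, inferInstance⟩

end Groth.Agent.Lib.Helper37.Hz
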