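import Groth.Agent.Lib.Helper37.HenselIdem
import Groth.Agent.Lib.Helper3.Hensel
import Mathlib.RingTheory.Artinian.Ring
import Mathlib.RingTheory.Ideal.Over

namespace Groth.Agent.Lib.Helper37

open Polynomial

/-- `HenselianRing R (maximalIdeal R)` implies `HenselianLocalRing R`. -/
theorem henselianLocalRing_of_henselianRing (R : Type*) [CommRing R] [IsLocalRing R]
    [h : HenselianRing R (IsLocalRing.maximalIdeal R)] : HenselianLocalRing R where
  is_henselian f hf a₀ h₁ h₂ := h.is_henselian f hf a₀ h₁ (h₂.map _)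

/-- A local ring which is integral over a Henselian pair `(R, I)`, such that the quotient by `IS`
has nilpotent maximal ideal, is a Henselian local ring. -/
theorem henselianLocalRing_of_finite (R : Type*) [CommRing R] [HenselianLocalRing R]
    (S : Type*) [CommRing S] [IsLocalRing S] [Algebra R S] [Module.Finite R S] :
    HenselianLocalRing S := by
  set mR := IsLocalRing.maximalIdeal R with hmR
  set I : Ideal S := mR.map (algebraMap R S) with hI
  have hint : Algebra.IsIntegral R S := Algebra.IsIntegral.of_finite R S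
  have hRh : HenselianRing R mR := inferInstance
  -- `S` is Henselian at `I`
  have hSI : HenselianRing S I := by
    have hjacB : I ≤ Ideal.jacobson ⊥ := map_le_jacobson_of_isIntegral hRh.jac
    refine henselianRing_of_idempotent_lift _ hjacB ?_
    intro F hF ε hε
    have hfin : Module.Finite S (AdjoinRoot F) := hF.finite_adjoinRoot
    have hint1 : Algebra.IsIntegral S (AdjoinRoot F) :=
      Algebra.IsIntegral.of_finite S (AdjoinRoot F)
    have hint2 : Algebra.IsIntegral R (AdjoinRoot F) := Algebra.IsIntegral.trans S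
    have hmap : Ideal.map (algebraMap S (AdjoinRoot F)) I =
        Ideal.map (algebraMap R (AdjoinRoot F)) mR := by
      rw [hI, Ideal.map_map, ← IsScalarTower.algebraMap_eq]
    rw [hmap] at hε ⊢
    exact exists_idempotent_lift mR ε hε
  have hIle : I ≤ IsLocalRing.maximalIdeal S := by
    rw [← IsLocalRing.jacobson_eq_maximalIdeal ⊥ bot_ne_top]
    exact hSI.jac
  -- the quotient is Artinian
  have hfinq : Module.Finite (R ⧸ mR) (S ⧸ I) :=
    Module.Finite.of_restrictScalars_finite R (R ⧸ mR) (S ⧸ I)
  let _ : Field (R ⧸ mR) := Ideal.Quotient.field mR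
  have hart : IsArtinianRing (S ⧸ I) := IsArtinianRing.of_finite (R ⧸ mR) (S ⧸ I)
  have hnil : ∀ x ∈ Ideal.map (Ideal.Quotient.mk I) (IsLocalRing.maximalIdeal S), IsNilpotent x := by
    intro x hx
    have hxj : x ∈ Ideal.jacobson (⊥ : Ideal (S ⧸ I)) := by
      refine map_le_jacobson_of_surjective _ Ideal.Quotient.mk_surjective ?_ hx
      rw [IsLocalRing.jacobson_eq_maximalIdeal ⊥ bot_ne_top]
    obtain ⟨n, hn⟩ := IsArtinianRing.isNilpotent_jacobson_bot (R := S ⧸ I)
    refine ⟨n, ?_⟩
    have : x ^ n ∈ Ideal.jacobson (⊥ : Ideal (S ⧸ I)) ^ n := Ideal.pow_mem_pow hxj n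
    rw [hn] at this
    exact this
  have hQ : HenselianRing (S ⧸ I) (Ideal.map (Ideal.Quotient.mk I) (IsLocalRing.maximalIdeal S)) :=
    Groth.Agent.Lib.Helper3.henselianRing_of_forall_isNilpotent _ hnil
  have : HenselianRing S (IsLocalRing.maximalIdeal S) := henselianRing_of_quotient hIle
  exact henselianLocalRing_of_henselianRing S


universe u

/-- If `B` is integral over a local ring `R`, is isomorphic to a finite product of local rings, and
`ε ∈ B` is idempotent modulo `mB`, then `ε` is congruent modulo `mB` to an idempotent. -/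
theorem exists_idempotent_of_pi_local {R : Type*} [CommRing R] (I : Ideal R)
    (hI : I ≤ Ideal.jacobson ⊥)
    {B : Type*} [CommRing B] [Algebra R B] [Algebra.IsIntegral R B]
    {ι : Type*} [Fintype ι] (A : ι → Type*) [∀ i, CommRing (A i)] [∀ i, IsLocalRing (A i)]
    (φ : B ≃+* (∀ i, A i)) (ε : B) (hε : ε * ε - ε ∈ I.map (algebraMap R B)) :
    ∃ e : B, IsIdempotentElem e ∧ e - ε ∈ I.map (algebraMap R B) := by
  classical
  set IB := I.map (algebraMap R B) with hIB
  have hjacB : IB ≤ Ideal.jacobson ⊥ := map_le_jacobson_of_isIntegral hI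
  set J : Ideal (∀ i, A i) := IB.map φ.toRingHom with hJ
  have hJmem : ∀ z, z ∈ J ↔ φ.symm z ∈ IB := by
    intro z
    rw [hJ, Ideal.mem_map_iff_of_surjective φ.toRingHom φ.surjective]
    constructor
    · rintro ⟨w, hw, rfl⟩
      change φ.symm (φ w) ∈ IB
      rwa [RingEquiv.symm_apply_apply]
    · intro h
      exact ⟨φ.symm z, h, φ.apply_symm_apply z⟩
  let Ji : ∀ i, Ideal (A i) := fun i => J.map (Pi.evalRingHom A i)
  have hJi : ∀ i (a : A i), a ∈ Ji i ↔ ∃ y ∈ J, y i = a := by
    intro i a
    exact Ideal.mem_map_iff_of_surjective _ (Function.surjective_eval i)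
  have hsingle : ∀ i (a : A i), a ∈ Ji i → Pi.single i a ∈ J := by
    intro i a ha
    obtain ⟨y, hy, rfl⟩ := (hJi i a).mp ha
    have : Pi.single i (y i) = y * Pi.single i (1 : A i) := by
      ext k
      by_cases hk : k = i
      · subst hk; simp
      · simp [Pi.single_eq_of_ne hk]
    rw [this]
    exact J.mul_mem_right _ hy
  have hJiproper : ∀ i, (1 : A i) ∉ Ji i := by
    intro i h1
    have hδ := hsingle i 1 h1
    rw [hJmem] at hδ
    set δ := φ.symm (Pi.single i (1 : A i)) with hδdef
    have hidem : IsIdempotentElem δ := by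
      change δ * δ = δ
      rw [hδdef, ← map_mul, ← Pi.single_mul, one_mul]
    have h0 : δ = 0 :=
      eq_of_isIdempotentElem_of_sub_mem_jacobson hidem IsIdempotentElem.zero
        (by rw [sub_zero]; exact hjacB hδ)
    have : Pi.single i (1 : A i) = 0 := by
      have := congr(φ $h0)
      rwa [hδdef, RingEquiv.apply_symm_apply, map_zero] at this
    have h10 : (1 : A i) = 0 := by
      have := congr($this i)
      simp at this
    exact one_ne_zero h10
  have hall : ∀ z : (∀ i, A i), (∀ i, z i ∈ Ji i) → z ∈ J := by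
    intro z hz
    rw [← Finset.univ_sum_single z]
    exact J.sum_mem fun i _ => hsingle i _ (hz i)
  set x := φ ε with hx
  have hxi : ∀ i, x i * x i - x i ∈ Ji i := by
    intro i
    refine (hJi i _).mpr ⟨x * x - x, ?_, rfl⟩
    rw [hJmem, hx, map_sub, map_mul, RingEquiv.symm_apply_apply]
    exact hε
  let e' : ∀ i, A i := fun i => if IsUnit (1 - x i) then 0 else 1
  have he'idem : IsIdempotentElem e' := by
    change e' * e' = e'
    ext i
    simp only [Pi.mul_apply, e']
    split_ifs <;> simp
  have he'x : ∀ i, e' i - x i ∈ Ji i := by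
    intro i
    simp only [e']
    split_ifs with hu
    · obtain ⟨v, hv⟩ := hu
      have : (0 : A i) - x i = (x i * x i - x i) * ↑v⁻¹ := by
        have h1 : (1 - x i) * ↑v⁻¹ = 1 := by rw [← hv, Units.mul_inv]
        calc (0 : A i) - x i = -(x i) * ((1 - x i) * ↑v⁻¹) := by rw [h1]; ring
          _ = _ := by ring
      rw [this]
      exact (Ji i).mul_mem_right _ (hxi i)
    · have hxu : IsUnit (x i) := (IsLocalRing.isUnit_or_isUnit_one_sub_self (x i)).resolve_right hu
      obtain ⟨v, hv⟩ := hxu
      have : (1 : A i) - x i = -((x i * x i - x i) * ↑v⁻¹) := by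
        have h1 : x i * ↑v⁻¹ = 1 := by rw [← hv, Units.mul_inv]
        calc (1 : A i) - x i = (1 - x i) * (x i * ↑v⁻¹) := by rw [h1]; ring
          _ = _ := by ring
      rw [this]
      exact (Ji i).neg_mem ((Ji i).mul_mem_right _ (hxi i))
  have hmem : e' - x ∈ J := hall _ (fun i => he'x i)
  refine ⟨φ.symm e', ?_, ?_⟩
  · exact he'idem.map φ.symm.toRingHom
  · rw [hJmem, map_sub, hx, RingEquiv.symm_apply_apply] at hmem
    exact hmem


theorem henselianLocalRing_of_adjoinRoot_pi_local (R : Type u) [CommRing R] [IsLocalRing R]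
    (h : ∀ F : R[X], F.Monic →
      ∃ (ι : Type u) (_ : Fintype ι) (A : ι → Type u) (_ : ∀ i, CommRing (A i)),
        (∀ i, IsLocalRing (A i)) ∧ Nonempty (AdjoinRoot F ≃+* (∀ i, A i))) :
    HenselianLocalRing R := by
  have hjac : IsLocalRing.maximalIdeal R ≤ Ideal.jacobson ⊥ := by
    rw [IsLocalRing.jacobson_eq_maximalIdeal ⊥ bot_ne_top]
  have : HenselianRing R (IsLocalRing.maximalIdeal R) := by
    refine henselianRing_of_idempotent_lift _ hjac ?_
    intro F hF ε hε
    obtain ⟨ι, _, A, _, hloc, ⟨φ⟩⟩ := h F hF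
    have hfin : Module.Finite R (AdjoinRoot F) := hF.finite_adjoinRoot
    have hint : Algebra.IsIntegral R (AdjoinRoot F) := Algebra.IsIntegral.of_finite R _
    exact exists_idempotent_of_pi_local _ hjac A φ ε hε
  exact henselianLocalRing_of_henselianRing R


end Groth.Agent.Lib.Helper37
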