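import Groth.Agent.Lib.Helper37.HenselFactor
import Mathlib.RingTheory.Ideal.GoingUp
import Mathlib.RingTheory.IntegralClosure.IsIntegral.Basic
import Mathlib.RingTheory.IntegralClosure.Algebra.Ideal
import Mathlib.RingTheory.AdjoinRoot

/-!
Henselian pairs and idempotents (Stacks 09XI (1) <=> (3) <=> (4)), by helper37.

* `exists_idempotent_lift`: idempotents lift along `B → B/IB` for integral `B` over a Henselian pair.
* `map_le_jacobson_of_isIntegral`, `eq_of_isIdempotentElem_of_sub_mem_jacobson`: injectivity.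
* `henselianRing_of_idempotent_lift`, `le_jacobson_of_idempotents_injOn`: the converse.
-/

namespace Groth.Agent.Lib.Helper37

open Polynomial

universe u

/-- For an integral extension, the extension of an ideal contained in the Jacobson radical is
contained in the Jacobson radical. -/
theorem map_le_jacobson_of_isIntegral {A B : Type*} [CommRing A] [CommRing B] [Algebra A B]
    [Algebra.IsIntegral A B] {I : Ideal A} (hI : I ≤ Ideal.jacobson ⊥) :
    I.map (algebraMap A B) ≤ Ideal.jacobson ⊥ := by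
  rw [Ideal.jacobson]
  refine le_sInf ?_
  rintro M ⟨-, hM⟩
  rw [Ideal.map_le_iff_le_comap]
  have hmax : (M.comap (algebraMap A B)).IsMaximal :=
    Ideal.isMaximal_comap_of_isIntegral_of_isMaximal (R := A) M
  refine hI.trans ?_
  rw [Ideal.jacobson]
  exact sInf_le ⟨bot_le, hmax⟩

/-- Idempotents which are congruent modulo the Jacobson radical are equal. -/
theorem eq_of_isIdempotentElem_of_sub_mem_jacobson {B : Type*} [CommRing B] {e₁ e₂ : B}
    (h₁ : IsIdempotentElem e₁) (h₂ : IsIdempotentElem e₂)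
    (h : e₁ - e₂ ∈ Ideal.jacobson (⊥ : Ideal B)) : e₁ = e₂ := by
  set x := e₁ - e₂ with hx
  have h3 : x * x * x = x := by
    have a1 := h₁.eq
    have a2 := h₂.eq
    rw [hx]
    linear_combination (e₁ + 1 - 3 * e₂) * a1 + (3 * e₁ - e₂ - 1) * a2
  have h4 : IsUnit (1 - x * x) := by
    have := Ideal.mem_jacobson_bot.mp h (-x)
    have e : x * -x + 1 = 1 - x * x := by ring
    rwa [e] at this
  have h5 : x * (1 - x * x) = 0 := by linear_combination -h3
  have := (h4.mul_left_eq_zero).mp h5
  exact sub_eq_zero.mp this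


/-- Stacks 09XG: if `b` is idempotent modulo `IB` in an integral `A`-algebra `B`, then `b` is a root of
a monic polynomial congruent to `X^d (X - 1)^d` modulo `I`, with `d ≥ 1`. -/
theorem exists_monic_aeval_eq_zero_of_sq_sub_mem {A B : Type*} [CommRing A] [CommRing B]
    [Algebra A B] [Algebra.IsIntegral A B] (I : Ideal A) (b : B)
    (hb : b * b - b ∈ I.map (algebraMap A B)) :
    ∃ (d : ℕ) (f : A[X]), f.Monic ∧ aeval b f = 0 ∧
      f.map (Ideal.Quotient.mk I) = X ^ (d + 1) * (X - 1) ^ (d + 1) := by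
  cases subsingleton_or_nontrivial A with
  | inl hA =>
    have hB : Subsingleton B := by
      refine subsingleton_of_zero_eq_one ?_
      rw [← map_one (algebraMap A B), ← map_zero (algebraMap A B), Subsingleton.elim (0 : A) 1]
    exact ⟨0, 1, monic_one, Subsingleton.elim _ _, Subsingleton.elim _ _⟩
  | inr hA =>
  obtain ⟨g, hg, hgz, hgI⟩ := Polynomial.exists_monic_aeval_eq_zero_forall_mem_of_mem_map hb
  have hgmap : g.map (Ideal.Quotient.mk I) = X ^ g.natDegree := by
    ext i
    rw [coeff_map, coeff_X_pow]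
    split_ifs with h
    · rw [h, hg.coeff_natDegree, map_one]
    · exact Ideal.Quotient.eq_zero_iff_mem.mpr (hgI i h)
  have hq : (X ^ 2 - X : A[X]).Monic := by
    apply monic_X_pow_sub
    exact degree_X_le.trans_lt (by norm_num)
  have hqdeg : (X ^ 2 - X : A[X]).natDegree ≠ 0 := by
    have : (X ^ 2 - X : A[X]).natDegree = 2 := by
      rw [natDegree_sub_eq_left_of_natDegree_lt] <;> simp
    rw [this]; norm_num
  refine ⟨g.natDegree, (X * g).comp (X ^ 2 - X), (monic_X.mul hg).comp hq hqdeg, ?_, ?_⟩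
  · rw [aeval_comp]
    have : aeval b (X ^ 2 - X : A[X]) = b * b - b := by simp [pow_two]
    rw [this, map_mul, hgz, mul_zero]
  · rw [Polynomial.map_comp, Polynomial.map_mul, hgmap, map_X]
    simp only [Polynomial.map_sub, Polynomial.map_pow, map_X, mul_comp, X_comp, X_pow_comp]
    have : (X ^ 2 - X : (A ⧸ I)[X]) = X * (X - 1) := by ring
    rw [this, mul_pow]
    ring


/-- **Idempotents lift** along `B → B/IB` for an integral algebra `B` over a Henselian pair
`(A, I)`. -/
theorem exists_idempotent_lift {A B : Type*} [CommRing A] [CommRing B] [Algebra A B]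
    [Algebra.IsIntegral A B] (I : Ideal A) [hI : HenselianRing A I] (b : B)
    (hb : b * b - b ∈ I.map (algebraMap A B)) :
    ∃ e : B, IsIdempotentElem e ∧ e - b ∈ I.map (algebraMap A B) := by
  obtain ⟨d, f, hf, hfb, hfmap⟩ := exists_monic_aeval_eq_zero_of_sq_sub_mem I b hb
  have hX1 : (X - 1 : (A ⧸ I)[X]).Monic := by
    have := monic_X_sub_C (1 : A ⧸ I)
    rwa [C_1] at this
  have hcop : IsCoprime ((X : (A ⧸ I)[X]) ^ (d + 1)) ((X - 1) ^ (d + 1)) := by
    apply IsCoprime.pow
    exact ⟨1, -1, by ring⟩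
  obtain ⟨g, h, hg, hh, hfgh, hgmap, hhmap⟩ :=
    exists_factor_lift I f hf _ _ (monic_X_pow _) (hX1.pow _) hcop hfmap
  obtain ⟨ubar, vbar, huv⟩ := hcop
  obtain ⟨u, rfl⟩ := Polynomial.map_surjective _ Ideal.Quotient.mk_surjective ubar
  obtain ⟨v, rfl⟩ := Polynomial.map_surjective _ Ideal.Quotient.mk_surjective vbar
  set IB := I.map (algebraMap A B) with hIB
  have hjacB : IB ≤ Ideal.jacobson ⊥ := map_le_jacobson_of_isIntegral hI.jac
  set s : B := aeval b (u * g + v * h) with hs
  have hr : s - 1 ∈ IB := by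
    have := aeval_sub_aeval_mem_map I b (u * g + v * h) 1 (by
      rw [Polynomial.map_add, Polynomial.map_mul, Polynomial.map_mul, hgmap, hhmap, huv,
        Polynomial.map_one])
    rw [map_one] at this
    exact this
  have hsunit : IsUnit s := by
    have := Ideal.mem_jacobson_bot.mp (hjacB hr) 1
    simpa using this
  obtain ⟨su, hsu⟩ := hsunit
  set w : B := ↑su⁻¹ with hw
  have hws : w * s = 1 := by rw [hw, ← hsu, Units.inv_mul]
  set x : B := w * aeval b (u * g) with hx
  set y : B := w * aeval b (v * h) with hy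
  have hxy1 : x + y = 1 := by
    rw [hx, hy, ← mul_add, ← map_add, ← hs, hws]
  have hxy0 : x * y = 0 := by
    have : x * y = w * w * aeval b (u * v) * aeval b (g * h) := by
      rw [hx, hy]; simp only [map_mul]; ring
    rw [this, ← hfgh, hfb, mul_zero]
  have hxidem : IsIdempotentElem x := by
    change x * x = x
    have : x * x = x * (x + y) - x * y := by ring
    rw [this, hxy1, hxy0, mul_one, sub_zero]
  refine ⟨x, hxidem, ?_⟩
  -- congruence modulo `IB`
  let π := Ideal.Quotient.mk IB
  set β := π b with hβ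
  have hββ : β * β = β := by
    rw [← sub_eq_zero, hβ, ← map_mul, ← map_sub]
    exact Ideal.Quotient.eq_zero_iff_mem.mpr hb
  have hπ : ∀ p q : A[X], p.map (Ideal.Quotient.mk I) = q.map (Ideal.Quotient.mk I) →
      π (aeval b p) = π (aeval b q) := by
    intro p q hpq
    rw [← sub_eq_zero, ← map_sub]
    exact Ideal.Quotient.eq_zero_iff_mem.mpr (aeval_sub_aeval_mem_map I b p q hpq)
  have h1 : π (aeval b (u * g)) = π (aeval b u) * β ^ (d + 1) := by
    rw [hπ (u * g) (u * X ^ (d + 1)) (by
      rw [Polynomial.map_mul, Polynomial.map_mul, hgmap, Polynomial.map_pow, map_X])]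
    simp [hβ]
  have h2 : π (aeval b (v * h)) = π (aeval b v) * (β - 1) ^ (d + 1) := by
    rw [hπ (v * h) (v * (X - 1) ^ (d + 1)) (by
      rw [Polynomial.map_mul, Polynomial.map_mul, hhmap, Polynomial.map_pow, Polynomial.map_sub,
        map_X, Polynomial.map_one])]
    simp [hβ]
  have hπs : π s = 1 := by
    rw [← sub_eq_zero, ← map_one π, ← map_sub]
    exact Ideal.Quotient.eq_zero_iff_mem.mpr hr
  have hπw : π w = 1 := by
    have := congr(π $hws)
    rwa [map_mul, hπs, mul_one, map_one] at this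
  have hβpow : β ^ (d + 1) = β := by
    have : IsIdempotentElem β := hββ
    exact this.pow_succ_eq d
  have hβ0 : β * (β - 1) ^ (d + 1) = 0 := by
    rw [pow_succ', ← mul_assoc]
    have : β * (β - 1) = 0 := by rw [mul_sub, hββ, mul_one, sub_self]
    rw [this, zero_mul]
  have hsum : π (aeval b u) * β ^ (d + 1) + π (aeval b v) * (β - 1) ^ (d + 1) = 1 := by
    rw [← h1, ← h2, ← map_add, ← map_add, ← hs, hπs]
  have hUβ : π (aeval b u) * β = β := by
    have := congr($hsum * β)
    rw [add_mul, mul_assoc, mul_assoc, mul_comm ((β - 1) ^ (d + 1)) β, hβ0, mul_zero, add_zero,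
      hβpow, hββ, one_mul] at this
    exact this
  rw [← Ideal.Quotient.eq_zero_iff_mem, map_sub, sub_eq_zero, hx, map_mul, hπw, one_mul]
  change π (aeval b (u * g)) = β
  rw [h1, hβpow, hUβ]


/-- Nakayama step: if `e` is an idempotent of a module-finite `A`-algebra `B` congruent modulo `IB` to
an element `θ` with `θ * ker σ ⊆ IB`, where `σ : B → A/I`, and `I` is in the Jacobson radical, then
`eB = Ae`. -/
theorem exists_smul_eq_mul_of_idempotent {A : Type*} [CommRing A] (I : Ideal A)
    (hjac : I ≤ Ideal.jacobson ⊥)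
    {B : Type*} [CommRing B] [Algebra A B] [Module.Finite A B]
    (σ : B →ₐ[A] A ⧸ I) (θ : B)
    (hθ : ∀ x, σ x = 0 → θ * x ∈ I.map (algebraMap A B))
    (e : B) (he : IsIdempotentElem e) (heθ : e - θ ∈ I.map (algebraMap A B)) :
    ∀ b : B, ∃ a : A, e * b = a • e := by
  set IB := I.map (algebraMap A B) with hIB
  set Me : Submodule A B := Submodule.map (Algebra.lmul A B e) ⊤ with hMe
  have hMefg : Me.FG := Submodule.FG.map _ Module.Finite.fg_top
  have hsmul : ∀ z ∈ IB, e * z ∈ I • Me := by
    intro z hz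
    rw [hMe, ← Submodule.map_smul'']
    refine ⟨z, ?_, rfl⟩
    rw [Ideal.smul_top_eq_map]
    exact hz
  have hle : Me ≤ Submodule.span A {e} ⊔ I • Me := by
    rintro _ ⟨b', -, rfl⟩
    change e * b' ∈ _
    obtain ⟨a, ha⟩ := Ideal.Quotient.mk_surjective (σ b')
    have hy : σ (b' - algebraMap A B a) = 0 := by
      rw [map_sub, AlgHom.commutes, ← ha]
      exact sub_self _
    have hey : e * (b' - algebraMap A B a) ∈ IB := by
      have : e * (b' - algebraMap A B a) =
          (e - θ) * (b' - algebraMap A B a) + θ * (b' - algebraMap A B a) := by ring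
      rw [this]
      exact IB.add_mem (IB.mul_mem_right _ heθ) (hθ _ hy)
    have hdecomp : e * b' = a • e + e * (e * (b' - algebraMap A B a)) := by
      rw [← mul_assoc, he.eq, Algebra.smul_def]; ring
    rw [hdecomp]
    exact Submodule.add_mem_sup (Submodule.smul_mem _ _ (Submodule.mem_span_singleton_self e))
      (hsmul _ hey)
  have hfin := Submodule.le_of_le_smul_of_le_jacobson_bot hMefg hjac hle
  intro b'
  have : e * b' ∈ Submodule.span A {e} := hfin ⟨b', Submodule.mem_top, rfl⟩
  obtain ⟨a, ha⟩ := Submodule.mem_span_singleton.mp this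
  exact ⟨a, ha.symm⟩

/-- A linear functional maps `IB` into `I`. -/
theorem linearMap_mem_of_mem_map {A : Type*} [CommRing A] (I : Ideal A)
    {B : Type*} [CommRing B] [Algebra A B] (l : B →ₗ[A] A) (z : B)
    (hz : z ∈ I.map (algebraMap A B)) : l z ∈ I := by
  have hz' : z ∈ (I • ⊤ : Submodule A B) := by
    rw [Ideal.smul_top_eq_map]; exact hz
  refine Submodule.smul_induction_on hz' ?_ ?_
  · intro i hi b _
    rw [map_smul, smul_eq_mul]
    exact I.mul_mem_right _ hi
  · intro x y hx hy
    rw [map_add]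
    exact I.add_mem hx hy


/-- If idempotents lift along `B → B/IB` for the monogenic finite free algebras `B = A[X]/(f)`
and `I` is contained in the Jacobson radical, then `(A, I)` is a Henselian pair. -/
theorem henselianRing_of_idempotent_lift {A : Type*} [CommRing A] (I : Ideal A)
    (hjac : I ≤ Ideal.jacobson ⊥)
    (H : ∀ f : A[X], f.Monic → ∀ ε : AdjoinRoot f,
      ε * ε - ε ∈ I.map (algebraMap A (AdjoinRoot f)) →
      ∃ e : AdjoinRoot f, IsIdempotentElem e ∧ e - ε ∈ I.map (algebraMap A (AdjoinRoot f))) :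
    HenselianRing A I := by
  refine ⟨hjac, fun f hf a₀ h₁ h₂ => ?_⟩
  cases subsingleton_or_nontrivial A with
  | inl hA => exact ⟨a₀, Subsingleton.elim _ _, by simp⟩
  | inr hA =>
  have hunit : IsUnit (f.derivative.eval a₀) := isUnit_of_isUnit_mk hjac h₂
  obtain ⟨u₀, hu₀⟩ := hunit
  set B := AdjoinRoot f
  have hfin : Module.Finite A B := hf.finite_adjoinRoot
  have hof : ∀ x : A, AdjoinRoot.of f x = algebraMap A B x := fun _ => rfl
  set IB := I.map (algebraMap A B) with hIB
  set t : B := AdjoinRoot.root f with ht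
  -- division of `f` by `X - a₀`
  set q : A[X] := f /ₘ (X - C a₀) with hq
  have hfq : f = (X - C a₀) * q + C (f.eval a₀) := by
    have := modByMonic_add_div f (X - C a₀)
    rw [modByMonic_X_sub_C_eq_C_eval] at this
    rw [hq, add_comm]
    exact this.symm
  have hqeval : q.eval a₀ = (u₀ : A) := by
    have := congr(eval a₀ (derivative $hfq))
    simp only [derivative_add, derivative_mul, derivative_sub, derivative_X, derivative_C,
      sub_zero, one_mul, eval_add, eval_mul, eval_sub, eval_X, eval_C, sub_self, zero_mul,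
      add_zero] at this
    rw [← this, hu₀]
  -- `q` has degree `< deg f` and is monic
  have hfdeg : 0 < f.natDegree := by
    by_contra h0
    have : f = 1 := hf.natDegree_eq_zero.mp (by omega)
    rw [this] at hu₀
    simp at hu₀
  have hqdeg : q.natDegree = f.natDegree - 1 := by
    rw [hq, natDegree_divByMonic _ (monic_X_sub_C a₀), natDegree_X_sub_C]
  have hqmonic : q.Monic := by
    rw [Monic, hq, leadingCoeff_divByMonic_of_monic (monic_X_sub_C a₀)]
    · exact hf
    · rw [degree_X_sub_C, degree_eq_natDegree hf.ne_zero]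
      exact_mod_cast hfdeg
  have hqmod : q %ₘ f = q := by
    rw [modByMonic_eq_self_iff hf]
    apply degree_lt_degree
    rw [hqdeg]; omega
  -- the approximate idempotent
  obtain ⟨q₂, hq₂⟩ : (X - C a₀) ∣ q - C (q.eval a₀) := X_sub_C_dvd_sub_C_eval
  have hmkf : AdjoinRoot.mk f ((X - C a₀) * q) = algebraMap A B (-(f.eval a₀)) := by
    have : (X - C a₀) * q = f - C (f.eval a₀) := by rw [hfq]; simp
    rw [this, map_sub, AdjoinRoot.mk_self, zero_sub, AdjoinRoot.mk_C, map_neg]
    rfl
  set ε : B := (↑u₀⁻¹ : A) • AdjoinRoot.mk f q with hε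
  have hεsub : ε - 1 = algebraMap A B ↑u₀⁻¹ * AdjoinRoot.mk f ((X - C a₀) * q₂) := by
    rw [← hq₂, hε, Algebra.smul_def, map_sub, hqeval, AdjoinRoot.mk_C, mul_sub]
    have : algebraMap A B ↑u₀⁻¹ * AdjoinRoot.of f ↑u₀ = 1 := by
      change algebraMap A B ↑u₀⁻¹ * algebraMap A B ↑u₀ = 1
      rw [← map_mul, Units.inv_mul, map_one]
    rw [this]
  have hεε : ε * ε - ε ∈ IB := by
    have : ε * ε - ε = algebraMap A B (↑u₀⁻¹ * ↑u₀⁻¹ * (-(f.eval a₀))) * AdjoinRoot.mk f q₂ := by
      have h1 : ε * ε - ε = ε * (ε - 1) := by ring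
      rw [h1, hεsub, hε, Algebra.smul_def, map_mul, map_mul, map_mul, ← hmkf, map_mul]
      ring
    rw [this]
    apply Ideal.mul_mem_right
    apply Ideal.mem_map_of_mem
    exact I.mul_mem_left _ (I.neg_mem h₁)
  obtain ⟨e, he, heε⟩ := H f hf ε hεε
  -- the section
  have hσ0 : f.eval₂ (Ideal.Quotient.mkₐ A I) (Ideal.Quotient.mk I a₀) = 0 := by
    change f.eval₂ (Ideal.Quotient.mk I) (Ideal.Quotient.mk I a₀) = 0
    rw [eval₂_hom]
    exact Ideal.Quotient.eq_zero_iff_mem.mpr h₁
  let σ : B →ₐ[A] A ⧸ I :=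
    AdjoinRoot.liftAlgHom f (Ideal.Quotient.mkₐ A I) (Ideal.Quotient.mk I a₀) hσ0
  have hσmk : ∀ p : A[X], σ (AdjoinRoot.mk f p) = Ideal.Quotient.mk I (p.eval a₀) := by
    intro p
    change p.eval₂ (Ideal.Quotient.mk I) (Ideal.Quotient.mk I a₀) = _
    rw [eval₂_hom]
  have hεker : ∀ x, σ x = 0 → ε * x ∈ IB := by
    intro x hx
    obtain ⟨p, rfl⟩ := AdjoinRoot.mk_surjective x
    rw [hσmk] at hx
    have hpI : p.eval a₀ ∈ I := Ideal.Quotient.eq_zero_iff_mem.mp hx
    obtain ⟨p₂, hp₂⟩ : (X - C a₀) ∣ p - C (p.eval a₀) := X_sub_C_dvd_sub_C_eval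
    have hp : p = (X - C a₀) * p₂ + C (p.eval a₀) := by rw [← hp₂]; ring
    have : ε * AdjoinRoot.mk f p =
        algebraMap A B (↑u₀⁻¹ * (-(f.eval a₀))) * AdjoinRoot.mk f p₂ +
          algebraMap A B (p.eval a₀) * ε := by
      conv_lhs => rw [hp]
      rw [map_add, map_mul, AdjoinRoot.mk_C, mul_add, hε, Algebra.smul_def, map_mul, ← hmkf,
        map_mul, hof]
      ring
    rw [this]
    refine IB.add_mem (Ideal.mul_mem_right _ _ (Ideal.mem_map_of_mem _ ?_))
      (Ideal.mul_mem_right _ _ (Ideal.mem_map_of_mem _ hpI))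
    exact I.mul_mem_left _ (I.neg_mem h₁)
  have heB := exists_smul_eq_mul_of_idempotent I hjac σ ε hεker e he heε
  -- the linear functional
  let l : B →ₗ[A] A := (lcoeff A (f.natDegree - 1)).comp (AdjoinRoot.modByMonicHom hf)
  have hlε : l ε = ↑u₀⁻¹ := by
    change (lcoeff A (f.natDegree - 1)) (AdjoinRoot.modByMonicHom hf ε) = _
    rw [hε, map_smul, AdjoinRoot.modByMonicHom_mk, hqmod, map_smul, lcoeff_apply, ← hqdeg,
      hqmonic.coeff_natDegree, smul_eq_mul, mul_one]
  have hle_unit : IsUnit (l e) := by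
    apply isUnit_of_isUnit_mk hjac
    have h1 : l e - l ε ∈ I := by
      rw [← map_sub]; exact linearMap_mem_of_mem_map I l _ heε
    have h2 : Ideal.Quotient.mk I (l e) = Ideal.Quotient.mk I (l ε) := by
      rw [← sub_eq_zero, ← map_sub]; exact Ideal.Quotient.eq_zero_iff_mem.mpr h1
    rw [h2, hlε]
    exact (Units.isUnit u₀⁻¹).map _
  have hann : ∀ a : A, a • e = 0 → a = 0 := by
    intro a ha
    have := congr(l $ha)
    rw [map_smul, map_zero, smul_eq_mul] at this
    exact (hle_unit.mul_left_eq_zero).mp this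
  obtain ⟨a, ha⟩ := heB t
  have hpow : ∀ k : ℕ, e * t ^ k = (a ^ k) • e := by
    intro k
    induction k with
    | zero => simp
    | succ k ih =>
      rw [pow_succ, ← mul_assoc, ih, smul_mul_assoc, ha, smul_smul, pow_succ]
  have hpoly : ∀ p : A[X], e * aeval t p = (p.eval a) • e := by
    intro p
    induction p using Polynomial.induction_on' with
    | add p q hp hq => rw [map_add, mul_add, hp, hq, eval_add, add_smul]
    | monomial k c =>
      rw [aeval_monomial, eval_monomial, ← Algebra.smul_def, mul_smul_comm, hpow, smul_smul]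
  refine ⟨a, ?_, ?_⟩
  · apply hann
    rw [← hpoly, AdjoinRoot.aeval_eq, AdjoinRoot.mk_self, mul_zero]
  · have h1 : (a - a₀) • e ∈ IB := by
      have h2 : (a - a₀) • e = e * AdjoinRoot.mk f (X - C a₀) := by
        rw [← AdjoinRoot.aeval_eq, hpoly]
        simp
      rw [h2]
      have h3 : σ (AdjoinRoot.mk f (X - C a₀)) = 0 := by
        rw [hσmk]; simp
      have : e * AdjoinRoot.mk f (X - C a₀) =
          (e - ε) * AdjoinRoot.mk f (X - C a₀) + ε * AdjoinRoot.mk f (X - C a₀) := by ring
      rw [this]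
      exact IB.add_mem (IB.mul_mem_right _ heε) (hεker _ h3)
    have h4 := linearMap_mem_of_mem_map I l _ h1
    rw [map_smul, smul_eq_mul] at h4
    obtain ⟨v, hv⟩ := hle_unit
    have : a - a₀ = (a - a₀) * l e * ↑v⁻¹ := by
      rw [← hv, mul_assoc, Units.mul_inv, mul_one]
    rw [this]
    exact I.mul_mem_right _ h4



/-- If reduction modulo `IB` is injective on idempotents for all cyclic `A`-algebras `B = A/J`, then
`I` is contained in the Jacobson radical. -/
theorem le_jacobson_of_idempotents_injOn {A : Type u} [CommRing A] (I : Ideal A)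
    (H : ∀ J : Ideal A, Set.InjOn (Ideal.Quotient.mk (I.map (algebraMap A (A ⧸ J))))
      {e : A ⧸ J | IsIdempotentElem e}) :
    I ≤ Ideal.jacobson ⊥ := by
  intro i hi
  rw [Ideal.mem_jacobson_bot]
  intro y
  set c := i * y + 1 with hc
  by_contra hcu
  set J : Ideal A := Ideal.span {c * (1 - c)} with hJ
  have hidem : IsIdempotentElem (Ideal.Quotient.mk J c) := by
    change Ideal.Quotient.mk J c * Ideal.Quotient.mk J c = Ideal.Quotient.mk J c
    rw [← map_mul, Ideal.Quotient.eq, hJ, Ideal.mem_span_singleton]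
    exact ⟨-1, by ring⟩
  have hcong : Ideal.Quotient.mk (I.map (algebraMap A (A ⧸ J))) (Ideal.Quotient.mk J c) =
      Ideal.Quotient.mk (I.map (algebraMap A (A ⧸ J))) 1 := by
    rw [Ideal.Quotient.eq]
    have : Ideal.Quotient.mk J c - 1 = algebraMap A (A ⧸ J) (i * y) := by
      rw [hc, map_add, map_one, add_sub_cancel_right]; rfl
    rw [this]
    exact Ideal.mem_map_of_mem _ (I.mul_mem_right _ hi)
  have h1 : Ideal.Quotient.mk J c = 1 := H J hidem IsIdempotentElem.one hcong
  rw [← map_one (Ideal.Quotient.mk J), Ideal.Quotient.eq, hJ, Ideal.mem_span_singleton] at h1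
  obtain ⟨a, ha⟩ := h1
  obtain ⟨m, hm, hcm⟩ := exists_max_ideal_of_mem_nonunits (show c ∈ nonunits A from hcu)
  have h2 : (1 - c) * (1 + c * a) = 0 := by linear_combination (-1 : A) * ha
  have h3 : (1 - c) * (1 + c * a) ∈ m := by rw [h2]; exact m.zero_mem
  rcases hm.isPrime.mem_or_mem h3 with h | h
  · apply hm.ne_top
    rw [Ideal.eq_top_iff_one]
    have : (1 : A) = (1 - c) + c := by ring
    rw [this]; exact m.add_mem h hcm
  · apply hm.ne_top
    rw [Ideal.eq_top_iff_one]
    have : (1 : A) = (1 + c * a) - c * a := by ring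
    rw [this]; exact m.sub_mem h (m.mul_mem_right _ hcm)


end Groth.Agent.Lib.Helper37
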