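import Groth.Agent.Lib.Helper37.HenselEtale
import Groth.Agent.Lib.Helper37.HenselLocal
import Groth.Agent.Lib.Helper37.HenselIdem
import Mathlib.RingTheory.TensorProduct.Quotient

/-!
Maps out of étale algebras over Henselian pairs (by helper37).

* `henselianRing_map_of_isIntegral`: universe polymorphic S0526.
* `algHom_comp_mk_bijective`: `Hom_A(E, C) → Hom_A(E, C/IC)` is bijective for `E` étale, `C` integral.
* `tensorProduct_map_bijective`: `Hom_A(B₁, B₂) → Hom_{A/I}(B₁/I, B₂/I)` is bijective.
-/

namespace Groth.Agent.Lib.Helper37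

open TensorProduct

/-- If `(A, I)` is a Henselian pair and `B` is an integral `A`-algebra, then `(B, IB)` is a
Henselian pair (universe polymorphic version of S0526). -/
theorem henselianRing_map_of_isIntegral {A : Type*} [CommRing A] (I : Ideal A) [HenselianRing A I]
    (B : Type*) [CommRing B] [Algebra A B] [Algebra.IsIntegral A B] :
    HenselianRing B (Ideal.map (algebraMap A B) I) := by
  have hI : HenselianRing A I := inferInstance
  have hjacB : Ideal.map (algebraMap A B) I ≤ Ideal.jacobson ⊥ :=
    map_le_jacobson_of_isIntegral hI.jac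
  refine henselianRing_of_idempotent_lift _ hjacB ?_
  intro F hF ε hε
  have hfin : Module.Finite B (AdjoinRoot F) := hF.finite_adjoinRoot
  have hint1 : Algebra.IsIntegral B (AdjoinRoot F) := Algebra.IsIntegral.of_finite B (AdjoinRoot F)
  have hint : Algebra.IsIntegral A (AdjoinRoot F) := Algebra.IsIntegral.trans B
  have hmap : Ideal.map (algebraMap B (AdjoinRoot F)) (Ideal.map (algebraMap A B) I) =
      Ideal.map (algebraMap A (AdjoinRoot F)) I := by
    rw [Ideal.map_map, ← IsScalarTower.algebraMap_eq]
  rw [hmap] at hε ⊢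
  exact exists_idempotent_lift I ε hε

/-- Over a Henselian pair `(A, I)`, maps from an étale algebra `E` to an integral algebra `C`
correspond bijectively to maps `E → C/IC`. -/
theorem algHom_comp_mk_bijective {A : Type*} [CommRing A] (I : Ideal A) [HenselianRing A I]
    (C : Type*) [CommRing C] [Algebra A C] [Algebra.IsIntegral A C]
    (E : Type*) [CommRing E] [Algebra A E] [Algebra.Etale A E] :
    Function.Bijective (fun φ : E →ₐ[A] C =>
      (Ideal.Quotient.mkₐ A (I.map (algebraMap A C))).comp φ) := by
  have hI : HenselianRing A I := inferInstance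
  set IC := I.map (algebraMap A C) with hIC
  have hC : HenselianRing C IC := henselianRing_map_of_isIntegral I C
  constructor
  · intro φ₁ φ₂ h
    refine algHom_eq_of_unramified_of_sub_mem IC hC.jac φ₁ φ₂ fun a => ?_
    have := congr($h a)
    simp only [AlgHom.comp_apply, Ideal.Quotient.mkₐ_eq_mk] at this
    exact Ideal.Quotient.eq.mp this
  · intro σ
    let σC : C ⊗[A] E →ₐ[C] C ⧸ IC :=
      Algebra.TensorProduct.lift (Algebra.ofId C (C ⧸ IC)) σ (fun _ _ => .all _ _)
    obtain ⟨τ, hτ⟩ := exists_lift_of_etale IC σC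
    refine ⟨(τ.restrictScalars A).comp Algebra.TensorProduct.includeRight, ?_⟩
    ext x
    have := congr($hτ (1 ⊗ₜ x))
    simp only [AlgHom.comp_apply, Ideal.Quotient.mkₐ_eq_mk] at this
    simp only [AlgHom.comp_apply, Ideal.Quotient.mkₐ_eq_mk, AlgHom.restrictScalars_apply,
      Algebra.TensorProduct.includeRight_apply]
    rw [this]
    simp [σC]

end Groth.Agent.Lib.Helper37

namespace Groth.Agent.Lib.Helper37

open TensorProduct

/-- Over a Henselian pair `(A, I)`, base change to `A/I` is bijective on maps from an étale algebra to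
an integral algebra. -/
theorem tensorProduct_map_bijective {A : Type*} [CommRing A] (I : Ideal A) [HenselianRing A I]
    (B₁ B₂ : Type*) [CommRing B₁] [CommRing B₂] [Algebra A B₁] [Algebra A B₂]
    [Algebra.Etale A B₁] [Algebra.IsIntegral A B₂] :
    Function.Bijective (fun φ : B₁ →ₐ[A] B₂ =>
      Algebra.TensorProduct.map (AlgHom.id (A ⧸ I) (A ⧸ I)) φ) := by
  have hL := algHom_comp_mk_bijective I B₂ B₁
  let Θ := Algebra.TensorProduct.quotIdealMapEquivQuotTensor B₂ I
  constructor
  · intro φ₁ φ₂ h
    apply hL.1
    ext b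
    have := congr($h (1 ⊗ₜ b))
    simp only [Algebra.TensorProduct.map_tmul, AlgHom.coe_id, id_eq] at this
    apply Θ.injective
    simpa [Θ] using this
  · intro ψ
    let σ : B₁ →ₐ[A] B₂ ⧸ I.map (algebraMap A B₂) :=
      ((Θ.symm.toAlgHom.restrictScalars A).comp (ψ.restrictScalars A)).comp
        Algebra.TensorProduct.includeRight
    obtain ⟨φ, hφ⟩ := hL.2 σ
    refine ⟨φ, ?_⟩
    apply Algebra.TensorProduct.ext_ring
    ext b
    have := congr($hφ b)
    simp only [AlgHom.comp_apply, Ideal.Quotient.mkₐ_eq_mk, σ] at this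
    have h2 := congr(Θ $this)
    simpa [Θ] using h2

end Groth.Agent.Lib.Helper37
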