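import Groth.Agent.Lib.Helper37.Hz29
import Groth.Agent.Lib.Helper37.HenselFinite
import Groth.Agent.Lib.Helper37.HenselHom

/-!
# Henselization project, part 30: integral local algebras over henselian local rings, and the
henselization of a local ring integral over `A`

* `henselianLocalRing_of_isIntegral`: a local ring integral over a henselian local ring is henselian.
* `IntTens`: `B ⊗_A A^h` for a local integral `A → B`.
-/

set_option autoImplicit false
universe u

namespace Groth.Agent.Lib.Helper37.Hz

open IsLocalRing TensorProduct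

/-- A local ring which is integral over a henselian local ring is henselian. -/
theorem henselianLocalRing_of_isIntegral (R : Type*) [CommRing R] [HenselianLocalRing R]
    (S : Type*) [CommRing S] [IsLocalRing S] [Algebra R S] [Algebra.IsIntegral R S] :
    HenselianLocalRing S := by
  have hRh : HenselianRing R (maximalIdeal R) := inferInstance
  have hSI : HenselianRing S ((maximalIdeal R).map (algebraMap R S)) :=
    henselianRing_map_of_isIntegral (maximalIdeal R) S
  have hIle : (maximalIdeal R).map (algebraMap R S) ≤ maximalIdeal S := by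
    have := hSI.jac
    rwa [IsLocalRing.jacobson_eq_maximalIdeal ⊥ bot_ne_top] at this
  have hrad : ∀ x ∈ maximalIdeal S, ∃ n : ℕ, x ^ n ∈ (maximalIdeal R).map (algebraMap R S) := by
    intro x hx
    have : x ∈ ((maximalIdeal R).map (algebraMap R S)).radical := by
      rw [Ideal.radical_eq_sInf, Ideal.mem_sInf]
      rintro P ⟨hIP, hP⟩
      have h1 : maximalIdeal R = P.comap (algebraMap R S) := by
        refine (maximalIdeal.isMaximal R).eq_of_le (Ideal.comap_ne_top _ hP.ne_top) ?_
        rw [← Ideal.map_le_iff_le_comap]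
        exact hIP
      have hmax : (P.comap (algebraMap R S)).IsMaximal := h1 ▸ maximalIdeal.isMaximal R
      have : P.IsMaximal := Ideal.isMaximal_of_isIntegral_of_isMaximal_comap P hmax
      rw [IsLocalRing.eq_maximalIdeal this]
      exact hx
    exact this
  have hnil : ∀ x ∈ Ideal.map (Ideal.Quotient.mk ((maximalIdeal R).map (algebraMap R S)))
      (maximalIdeal S), IsNilpotent x := by
    intro x hx
    rw [Ideal.mem_map_iff_of_surjective _ Ideal.Quotient.mk_surjective] at hx
    obtain ⟨y, hy, rfl⟩ := hx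
    obtain ⟨n, hn⟩ := hrad y hy
    exact ⟨n, by rw [← map_pow, Ideal.Quotient.eq_zero_iff_mem]; exact hn⟩
  have hQ : HenselianRing (S ⧸ (maximalIdeal R).map (algebraMap R S))
      (Ideal.map (Ideal.Quotient.mk _) (maximalIdeal S)) :=
    Groth.Agent.Lib.Helper3.henselianRing_of_forall_isNilpotent _ hnil
  have : HenselianRing S (maximalIdeal S) := henselianRing_of_quotient hIle
  exact henselianLocalRing_of_henselianRing S

namespace IntTens

variable (A B S : Type u) [CommRing A] [IsLocalRing A] [CommRing B] [IsLocalRing B] [Algebra A B]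
  [IsLocalHom (algebraMap A B)] [Algebra.IsIntegral A B]
  [CommRing S] [IsLocalRing S] [Algebra A S] [IsLocalHom (algebraMap A S)]

attribute [local instance] Algebra.TensorProduct.rightAlgebra

omit [IsLocalRing A] [IsLocalRing B] [IsLocalHom (algebraMap A B)] [IsLocalRing S]
  [IsLocalHom (algebraMap A S)] in
lemma isIntegral : Algebra.IsIntegral S (B ⊗[A] S) where
  isIntegral x := by
    induction x using TensorProduct.induction_on with
    | zero => exact isIntegral_zero
    | add x y hx hy => exact hx.add hy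
    | tmul b s =>
      have h1 : IsIntegral S (b ⊗ₜ[A] (1 : S)) :=
        (Algebra.IsIntegral.isIntegral (R := A) b).map_of_comp_eq (algebraMap A S)
          (Algebra.TensorProduct.includeLeft (R := A) (S := A) (A := B) (B := S)).toRingHom
          (by
            ext a
            simp only [RingHom.coe_comp, Function.comp_apply, AlgHom.toRingHom_eq_coe,
              RingHom.coe_coe, Algebra.TensorProduct.includeLeft_apply]
            change (1 : B) ⊗ₜ[A] (algebraMap A S a) = _
            rw [Algebra.algebraMap_eq_smul_one, Algebra.algebraMap_eq_smul_one (A := B) a,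
              TensorProduct.smul_tmul])
      have h2 : b ⊗ₜ[A] s = s • (b ⊗ₜ[A] (1 : S)) := by
        rw [Algebra.smul_def]
        change _ = ((1 : B) ⊗ₜ[A] s) * _
        rw [Algebra.TensorProduct.tmul_mul_tmul, one_mul, mul_one]
      rw [h2]
      exact h1.smul s

omit [IsLocalRing A] [IsLocalRing B] [IsLocalHom (algebraMap A B)] [IsLocalRing S]
  [IsLocalHom (algebraMap A S)] [Algebra.IsIntegral A B] in
lemma algebraMap_right_apply (s : S) : algebraMap S (B ⊗[A] S) s = (1 : B) ⊗ₜ[A] s := rfl

omit [IsLocalRing A] [IsLocalRing B] [IsLocalHom (algebraMap A B)] [IsLocalRing S]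
  [IsLocalHom (algebraMap A S)] [Algebra.IsIntegral A B] in
lemma algebraMap_comm (a : A) :
    algebraMap S (B ⊗[A] S) (algebraMap A S a) = algebraMap B (B ⊗[A] S) (algebraMap A B a) := by
  rw [algebraMap_right_apply, Algebra.TensorProduct.algebraMap_apply,
    Algebra.algebraMap_eq_smul_one, Algebra.algebraMap_eq_smul_one (A := B) a,
    Algebra.algebraMap_self, RingHom.id_apply, TensorProduct.smul_tmul]

variable [hS : Hensel.IsHenselization A S]

include hS in
omit [IsLocalRing B] [IsLocalHom (algebraMap A B)] [Algebra.IsIntegral A B] in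
/-- Every element of `B ⊗_A S` is congruent to some `b ⊗ 1` modulo `𝔪_S`. -/
lemma exists_sub_mem (x : B ⊗[A] S) :
    ∃ b : B, x - b ⊗ₜ[A] (1 : S) ∈ (maximalIdeal S).map (algebraMap S (B ⊗[A] S)) := by
  induction x using TensorProduct.induction_on with
  | zero => exact ⟨0, by simp⟩
  | add x y hx hy =>
    obtain ⟨b₁, h₁⟩ := hx
    obtain ⟨b₂, h₂⟩ := hy
    refine ⟨b₁ + b₂, ?_⟩
    have : x + y - (b₁ + b₂) ⊗ₜ[A] (1 : S) = (x - b₁ ⊗ₜ[A] (1 : S)) + (y - b₂ ⊗ₜ[A] (1 : S)) := by
      rw [TensorProduct.add_tmul]; ring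
    rw [this]
    exact Ideal.add_mem _ h₁ h₂
  | tmul b s =>
    obtain ⟨a, ha⟩ := exists_sub_mem_maximalIdeal_of_isHenselization A S s
    refine ⟨a • b, ?_⟩
    have : b ⊗ₜ[A] s - (a • b) ⊗ₜ[A] (1 : S) =
        (b ⊗ₜ[A] (1 : S)) * algebraMap S (B ⊗[A] S) (s - algebraMap A S a) := by
      rw [algebraMap_right_apply, Algebra.TensorProduct.tmul_mul_tmul, mul_one, one_mul,
        TensorProduct.tmul_sub, TensorProduct.smul_tmul, Algebra.algebraMap_eq_smul_one]
    rw [this]
    exact Ideal.mul_mem_left _ _ (Ideal.mem_map_of_mem _ ha)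

omit [IsLocalRing A] [IsLocalRing B] [IsLocalHom (algebraMap A B)] [IsLocalHom (algebraMap A S)] hS in
/-- Maximal ideals of `B ⊗_A S` contain `𝔪_S`. -/
lemma map_le_of_isMaximal (n : Ideal (B ⊗[A] S)) [hn : n.IsMaximal] :
    (maximalIdeal S).map (algebraMap S (B ⊗[A] S)) ≤ n := by
  haveI := isIntegral A B S
  rw [Ideal.map_le_iff_le_comap]
  have hmax : (n.comap (algebraMap S (B ⊗[A] S))).IsMaximal :=
    Ideal.isMaximal_comap_of_isIntegral_of_isMaximal (R := S) n
  exact (IsLocalRing.eq_maximalIdeal hmax).ge

omit hS in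
/-- Maximal ideals of `B ⊗_A S` lie over `𝔪_B`. -/
lemma comap_of_isMaximal (n : Ideal (B ⊗[A] S)) [hn : n.IsMaximal] :
    n.comap (algebraMap B (B ⊗[A] S)) = maximalIdeal B := by
  have h1 : (n.comap (algebraMap B (B ⊗[A] S))).comap (algebraMap A B) = maximalIdeal A := by
    refine ((maximalIdeal.isMaximal A).eq_of_le ?_ ?_).symm
    · exact Ideal.comap_ne_top _ (Ideal.comap_ne_top _ hn.ne_top)
    · intro a ha
      rw [Ideal.mem_comap, Ideal.mem_comap, ← algebraMap_comm]
      refine map_le_of_isMaximal A B S n (Ideal.mem_map_of_mem _ ?_)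
      exact map_nonunit (algebraMap A S) a ha
  have hmax : (n.comap (algebraMap B (B ⊗[A] S))).IsMaximal :=
    Ideal.isMaximal_of_isIntegral_of_isMaximal_comap (R := A) _
      (h1 ▸ maximalIdeal.isMaximal A)
  exact IsLocalRing.eq_maximalIdeal hmax

include hS in
/-- `B ⊗_A S` has at most one maximal ideal. -/
lemma le_of_isMaximal (n n' : Ideal (B ⊗[A] S)) [hn : n.IsMaximal] [hn' : n'.IsMaximal] :
    n ≤ n' := by
  intro x hx
  obtain ⟨b, hb⟩ := exists_sub_mem A B S x
  have h1 : b ⊗ₜ[A] (1 : S) ∈ n := by
    have := Ideal.sub_mem _ hx (map_le_of_isMaximal A B S n hb)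
    rwa [sub_sub_cancel] at this
  have h2 : b ∈ maximalIdeal B := by
    rw [← comap_of_isMaximal A B S n, Ideal.mem_comap, Algebra.TensorProduct.algebraMap_apply,
      Algebra.algebraMap_self, RingHom.id_apply]
    exact h1
  have h3 : b ⊗ₜ[A] (1 : S) ∈ n' := by
    rw [← comap_of_isMaximal A B S n', Ideal.mem_comap, Algebra.TensorProduct.algebraMap_apply,
      Algebra.algebraMap_self, RingHom.id_apply] at h2
    exact h2
  have := Ideal.add_mem _ (map_le_of_isMaximal A B S n' hb) h3
  rwa [sub_add_cancel] at this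

include hS in
lemma isLocalRing : IsLocalRing (B ⊗[A] S) := by
  haveI : Module.FaithfullyFlat A S := faithfullyFlat_of_isHenselization A S
  haveI : Nontrivial (B ⊗[A] S) := Module.FaithfullyFlat.rTensor_nontrivial A S B
  obtain ⟨n, hn⟩ := Ideal.exists_maximal (B ⊗[A] S)
  refine IsLocalRing.of_unique_max_ideal ⟨n, hn, fun n' hn' => ?_⟩
  exact (hn'.eq_of_le hn.ne_top (le_of_isMaximal A B S n' n)).symm ▸ rfl

include hS in
lemma isLocalHom (_h : IsLocalRing (B ⊗[A] S)) : IsLocalHom (algebraMap B (B ⊗[A] S)) := by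
  refine ((local_hom_TFAE (algebraMap B (B ⊗[A] S))).out 4 0).mp ?_
  exact comap_of_isMaximal A B S (maximalIdeal (B ⊗[A] S))

include hS in
lemma henselianLocalRing (_h : IsLocalRing (B ⊗[A] S)) : HenselianLocalRing (B ⊗[A] S) := by
  haveI := isIntegral A B S
  haveI := hS.henselian
  exact henselianLocalRing_of_isIntegral S (B ⊗[A] S)

include hS in
/-- `B ⊗_A S` is a henselization of `B`. -/
theorem isHenselization (h : IsLocalRing (B ⊗[A] S))
    (h' : IsLocalHom (algebraMap B (B ⊗[A] S))) : Hensel.IsHenselization B (B ⊗[A] S) where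
  henselian := henselianLocalRing A B S h
  universal T _ _ f hf := by
    have hloc : IsLocalHom (f.comp (algebraMap A B)) := RingHom.isLocalHom_comp _ _
    obtain ⟨k, hk, huniq⟩ := hS.universal T (f.comp (algebraMap A B)) hloc
    letI : Algebra A T := (f.comp (algebraMap A B)).toAlgebra
    let f' : B →ₐ[A] T := ⟨f, fun a => rfl⟩
    let k' : S →ₐ[A] T := ⟨k, fun a => RingHom.congr_fun hk a⟩
    let g : B ⊗[A] S →ₐ[A] T := Algebra.TensorProduct.lift f' k' (fun _ _ => Commute.all _ _)
    have key : ∀ g' : B ⊗[A] S →+* T, g'.comp (algebraMap B (B ⊗[A] S)) = f →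
        ∀ x, g' x = g x := by
      intro g' hg' x
      have h1 : g'.comp (algebraMap S (B ⊗[A] S)) = k := by
        refine huniq _ ?_
        ext a
        simp only [RingHom.coe_comp, Function.comp_apply]
        rw [algebraMap_comm, ← hg']
        rfl
      induction x using TensorProduct.induction_on with
      | zero => rw [map_zero, map_zero]
      | add x y hx hy => rw [map_add, map_add, hx, hy]
      | tmul b s =>
        have e : b ⊗ₜ[A] s = algebraMap B (B ⊗[A] S) b * algebraMap S (B ⊗[A] S) s := by
          rw [algebraMap_right_apply, Algebra.TensorProduct.algebraMap_apply,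
            Algebra.TensorProduct.tmul_mul_tmul, mul_one, one_mul, Algebra.algebraMap_self,
            RingHom.id_apply]
        have e2 : g (b ⊗ₜ[A] s) = f b * k s := Algebra.TensorProduct.lift_tmul _ _ _ b s
        rw [e2, e, map_mul]
        congr 1
        · exact RingHom.congr_fun hg' b
        · exact RingHom.congr_fun h1 s
    have hg : (g : B ⊗[A] S →+* T).comp (algebraMap B (B ⊗[A] S)) = f := by
      ext b
      simp only [RingHom.coe_comp, Function.comp_apply, RingHom.coe_coe]
      rw [Algebra.TensorProduct.algebraMap_apply, Algebra.algebraMap_self, RingHom.id_apply]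
      have e2 : g (b ⊗ₜ[A] (1 : S)) = f b * k 1 := Algebra.TensorProduct.lift_tmul _ _ _ b 1
      rw [e2, map_one, mul_one]
    refine ⟨(g : B ⊗[A] S →+* T), hg, fun g' hg' => RingHom.ext fun x => ?_⟩
    exact key g' hg' x

end IntTens

end Groth.Agent.Lib.Helper37.Hz
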