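import Groth.Agent.Lib.Helper37.Hz49

set_option autoImplicit false
universe u

open TensorProduct IsLocalRing

namespace Groth.Agent.Lib.Helper37.Hz

namespace TotNorm

open Groth.Agent.Lib.Helper4

/-- Elements of a minimal prime are killed, up to a power, by an element outside. -/
lemma exists_mul_pow_eq_zero {D : Type*} [CommRing D] (P : Ideal D) (hP : P ∈ minimalPrimes D)
    (x : D) (hx : x ∈ P) : ∃ t : D, t ∉ P ∧ ∃ k : ℕ, t * x ^ k = 0 := by
  haveI := hP.1.1
  have h1 := IsLocalization.AtPrime.radical_map_of_mem_minimalPrimes (A := Localization.AtPrime P)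
    P ⊥ hP
  have h2 : algebraMap D (Localization.AtPrime P) x ∈
      ((⊥ : Ideal D).map (algebraMap D (Localization.AtPrime P))).radical := by
    rw [h1]
    exact Ideal.mem_map_of_mem _ hx
  rw [Ideal.map_bot] at h2
  obtain ⟨k, hk⟩ := h2
  rw [Ideal.mem_bot, ← map_pow] at hk
  obtain ⟨t, ht⟩ := (IsLocalization.map_eq_zero_iff P.primeCompl (Localization.AtPrime P) _).mp hk
  exact ⟨t, t.2, k, ht⟩

variable {B : Type u} [CommRing B] {Q : Type*} [CommRing Q] [Algebra B Q] (H : Hyp B Q)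
variable {D : Type u} [CommRing D] [Algebra B D]

include H in
/-- A prime of an ind-étale `B`-algebra contains at most one minimal prime. -/
theorem minimalPrime_unique_of_le (hD : HasFactorization (etaleClass B) D) (n : Ideal D)
    [n.IsPrime] (P₁ P₂ : Ideal D) (h₁ : P₁ ∈ minimalPrimes D) (h₂ : P₂ ∈ minimalPrimes D)
    (hn₁ : P₁ ≤ n) (hn₂ : P₂ ≤ n) : P₁ = P₂ := by
  have hle : ∀ P₁ P₂ : Ideal D, P₁ ∈ minimalPrimes D → P₂ ∈ minimalPrimes D → P₁ ≤ n → P₂ ≤ n →
      P₁ ≤ P₂ := by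
    intro P₁ P₂ h₁ h₂ hn₁ hn₂ x hx
    haveI := h₁.1.1
    haveI := h₂.1.1
    obtain ⟨t, ht, k, hk⟩ := exists_mul_pow_eq_zero P₁ h₁ x hx
    obtain ⟨v, hv, hv'⟩ := exists_mul_eq_zero H hD n t (x ^ k) hk
    rcases hv' with h | h
    · exfalso
      have : v * t ∈ P₁ := h ▸ P₁.zero_mem
      rcases Ideal.IsPrime.mem_or_mem inferInstance this with h3 | h3
      · exact hv (hn₁ h3)
      · exact ht h3
    · have : v * x ^ k ∈ P₂ := h ▸ P₂.zero_mem
      rcases Ideal.IsPrime.mem_or_mem inferInstance this with h3 | h3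
      · exact absurd (hn₂ h3) hv
      · exact Ideal.IsPrime.mem_of_pow_mem inferInstance k h3
  exact le_antisymm (hle P₁ P₂ h₁ h₂ hn₁ hn₂) (hle P₂ P₁ h₂ h₁ hn₂ hn₁)

omit H in
/-- A domain which is integral over a henselian local ring is local. -/
theorem isLocalRing_of_isIntegral_of_isDomain (S : Type u) [CommRing S] [HenselianLocalRing S]
    (D' : Type u) [CommRing D'] [IsDomain D'] [Algebra S D'] [Algebra.IsIntegral S D'] :
    IsLocalRing D' := by
  refine IsLocalRing.of_isUnit_or_isUnit_one_sub_self fun x => ?_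
  have hx : IsIntegral S x := Algebra.IsIntegral.isIntegral x
  have hfg := hx.fg_adjoin_singleton
  haveI : Module.Finite S (Algebra.adjoin S {x}) := Module.Finite.iff_fg.mpr hfg
  obtain ⟨ι, _, R, _, hloc, ⟨e⟩⟩ := exists_pi_isLocalRing_of_finite S (Algebra.adjoin S {x})
  haveI := hloc
  haveI : IsLocalRing (Algebra.adjoin S {x}) := by
    refine Unibranch.isLocalRing_of_pi e fun c hc => ?_
    have : c * (c - 1) = 0 := by rw [mul_sub, hc.eq, mul_one, sub_self]
    rcases mul_eq_zero.mp this with h | h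
    · exact Or.inl h
    · exact Or.inr (sub_eq_zero.mp h)
  set x₁ : Algebra.adjoin S {x} := ⟨x, Algebra.subset_adjoin (Set.mem_singleton _)⟩ with hx₁
  rcases IsLocalRing.isUnit_or_isUnit_one_sub_self x₁ with h | h
  · exact Or.inl (h.map (Algebra.adjoin S {x}).val)
  · exact Or.inr (h.map (Algebra.adjoin S {x}).val)

omit H in
/-- In a ring integral over a henselian local ring every prime lies in a unique maximal
ideal. -/
theorem maximal_unique_of_le (S : Type u) [CommRing S] [HenselianLocalRing S]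
    (C : Type u) [CommRing C] [Algebra S C] [Algebra.IsIntegral S C] (q : Ideal C) [q.IsPrime]
    (m₁ m₂ : Ideal C) [hm₁ : m₁.IsMaximal] [hm₂ : m₂.IsMaximal] (h₁ : q ≤ m₁) (h₂ : q ≤ m₂) :
    m₁ = m₂ := by
  haveI : Algebra.IsIntegral S (C ⧸ q) := Algebra.IsIntegral.trans C
  haveI : IsLocalRing (C ⧸ q) := isLocalRing_of_isIntegral_of_isDomain S (C ⧸ q)
  have hle : ∀ m₁ m₂ : Ideal C, m₁.IsMaximal → m₂.IsMaximal → q ≤ m₁ → q ≤ m₂ → m₁ ≤ m₂ := by
    intro m₁ m₂ hm₁ hm₂ h₁ h₂ x hx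
    by_contra hx2
    obtain ⟨c, y, hy, hcy⟩ := (Ideal.IsMaximal.exists_inv hm₂) hx2
    -- c * x + y = 1
    have key : ∀ (m : Ideal C), m.IsMaximal → q ≤ m → ∀ z ∈ m,
        ¬ IsUnit (Ideal.Quotient.mk q z) := by
      intro m hm hqm z hz hu
      obtain ⟨w, hw⟩ := hu.exists_right_inv
      obtain ⟨w, rfl⟩ := Ideal.Quotient.mk_surjective w
      rw [← map_mul, ← map_one (Ideal.Quotient.mk q), Ideal.Quotient.eq] at hw
      have h1 : z * w ∈ m := Ideal.mul_mem_right _ _ hz
      have h2 : (1 : C) ∈ m := by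
        have := Ideal.sub_mem _ h1 (hqm hw)
        rwa [sub_sub_cancel] at this
      exact hm.ne_top ((Ideal.eq_top_iff_one _).mpr h2)
    rcases IsLocalRing.isUnit_or_isUnit_one_sub_self (Ideal.Quotient.mk q (c * x)) with h | h
    · exact key m₁ hm₁ h₁ _ (Ideal.mul_mem_left _ _ hx) h
    · have : (1 : C ⧸ q) - Ideal.Quotient.mk q (c * x) = Ideal.Quotient.mk q y := by
        rw [← map_one (Ideal.Quotient.mk q), ← hcy, map_add, add_sub_cancel_left]
      rw [this] at h
      exact key m₂ hm₂ h₂ _ hy h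
  exact le_antisymm (hle m₁ m₂ hm₁ hm₂ h₁ h₂) (hle m₂ m₁ hm₂ hm₁ h₂ h₁)

end TotNorm

end Groth.Agent.Lib.Helper37.Hz
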