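import Groth.Agent.Lib.Helper37.Hensel
import Mathlib.Algebra.Polynomial.Taylor
import Mathlib.Algebra.Polynomial.Eval.Degree

/-!
Henselian pairs pass to arbitrary quotients (Mathlib's `HenselianRing`), by helper37.

The proof normalises a monic polynomial with a simple root modulo `I` to Gabber's form
`Z^n - Z^(n-1) + (coefficients in I)`, whose coefficients can be lifted along a surjection.
-/

namespace Groth.Agent.Lib.Helper37

open Polynomial

variable {A : Type*} [CommRing A]

/-- Key computation: if `z` is a unit root of `∑ d_j Z^(n-j)` where `d_0 = 1` and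
`d_j = c_j i₀^(j-1) (-u⁻¹)^j` for `j ≥ 1`, then `T = i₀ (-u⁻¹) z⁻¹` is a root of `∑ c_j T^j`
(here `c_0 = i₀`). -/
theorem gabber_root_aux {B : Type*} [CommRing B] (n : ℕ) (c : ℕ → B) (u z : Bˣ)
    (hz : ∑ j ∈ Finset.range (n + 1),
      (if j = 0 then 1 else c j * c 0 ^ (j - 1) * (-(↑u⁻¹ : B)) ^ j) * (z : B) ^ (n - j) = 0) :
    ∑ j ∈ Finset.range (n + 1), c j * (c 0 * (-(↑u⁻¹ : B)) * (↑z⁻¹ : B)) ^ j = 0 := by
  have key : ∀ j ∈ Finset.range (n + 1),
      c j * (c 0 * (-(↑u⁻¹ : B)) * (↑z⁻¹ : B)) ^ j =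
        c 0 * (↑z⁻¹ : B) ^ n *
          ((if j = 0 then 1 else c j * c 0 ^ (j - 1) * (-(↑u⁻¹ : B)) ^ j) * (z : B) ^ (n - j)) := by
    intro j hj
    have hjn : j ≤ n := Nat.lt_succ_iff.mp (Finset.mem_range.mp hj)
    have hz1 : (↑z⁻¹ : B) ^ n * (z : B) ^ (n - j) = (↑z⁻¹ : B) ^ j := by
      have : (↑z⁻¹ : B) ^ n = (↑z⁻¹ : B) ^ j * (↑z⁻¹ : B) ^ (n - j) := by
        rw [← pow_add, Nat.add_sub_cancel' hjn]
      rw [this, mul_assoc, ← mul_pow, Units.inv_mul, one_pow, mul_one]
    by_cases hj0 : j = 0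
    · subst hj0
      simp only [pow_zero, mul_one, if_true, Nat.sub_zero, one_mul]
      rw [mul_assoc, ← mul_pow, Units.inv_mul, one_pow, mul_one]
    · rw [if_neg hj0]
      have hj1 : j = (j - 1) + 1 := by omega
      calc c j * (c 0 * (-(↑u⁻¹ : B)) * (↑z⁻¹ : B)) ^ j
          = c j * (c 0 ^ j * (-(↑u⁻¹ : B)) ^ j * (↑z⁻¹ : B) ^ j) := by rw [mul_pow, mul_pow]
        _ = c j * (c 0 * c 0 ^ (j - 1) * (-(↑u⁻¹ : B)) ^ j * (↑z⁻¹ : B) ^ j) := by
            rw [← pow_succ', ← hj1]
        _ = c 0 * ((↑z⁻¹ : B) ^ n * (z : B) ^ (n - j)) *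
              (c j * c 0 ^ (j - 1) * (-(↑u⁻¹ : B)) ^ j) := by rw [hz1]; ring
        _ = _ := by ring
  rw [Finset.sum_congr rfl key, ← Finset.mul_sum, hz, mul_zero]

/-- Henselian pairs pass to quotients: if `A` is Henselian at `I` and `φ : A → B` is surjective,
then `B` is Henselian at the image of `I`. -/
theorem henselianRing_map_of_surjective {B : Type*} [CommRing B] (φ : A →+* B)
    (hφ : Function.Surjective φ) (I : Ideal A) [hI : HenselianRing A I] :
    HenselianRing B (I.map φ) := by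
  have hjac : I.map φ ≤ Ideal.jacobson ⊥ := map_le_jacobson_of_surjective φ hφ hI.jac
  refine ⟨hjac, fun f hf b₀ h₁ h₂ => ?_⟩
  have hunit : IsUnit (f.derivative.eval b₀) := isUnit_of_isUnit_mk hjac h₂
  obtain ⟨u, hu⟩ := hunit
  -- trivial case: degree zero
  by_cases hdeg : f.natDegree = 0
  · have hf1 : f = 1 := hf.natDegree_eq_zero.mp hdeg
    have h1 : (1 : B) ∈ I.map φ := by simpa [hf1] using h₁
    have : IsUnit ((1 : B) * (-1) + 1) := Ideal.mem_jacobson_bot.mp (hjac h1) (-1)
    have h0 : (0 : B) = 1 := by simpa using this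
    have hsub : Subsingleton B := subsingleton_of_zero_eq_one h0
    exact ⟨b₀, Subsingleton.elim _ _, by simp⟩
  obtain ⟨m, hm⟩ : ∃ m, f.natDegree = m + 1 := Nat.exists_eq_succ_of_ne_zero hdeg
  -- Taylor expansion at `b₀`
  set t := taylor b₀ f with ht
  set c : ℕ → B := fun j => t.coeff j with hc
  have hc0 : c 0 = f.eval b₀ := taylor_coeff_zero ..
  have hc1 : c 1 = (u : B) := by rw [hu]; exact taylor_coeff_one ..
  have hcn : c (m + 1) = 1 := by
    have : t.Monic := by
      rw [Monic, ht, leadingCoeff_taylor]; exact hf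
    have h2 : t.natDegree = m + 1 := by rw [ht, natDegree_taylor, hm]
    rw [← h2]; exact this
  have htdeg : t.natDegree < m + 1 + 1 := by rw [ht, natDegree_taylor, hm]; omega
  have hc0I : c 0 ∈ I.map φ := by rw [hc0]; exact h₁
  -- the normalised coefficients
  set d : ℕ → B := fun j => if j = 0 then 1 else c j * c 0 ^ (j - 1) * (-(↑u⁻¹ : B)) ^ j with hd
  have hd1 : d 1 = -1 := by
    simp only [hd, one_ne_zero, if_false, Nat.sub_self, pow_zero, mul_one, pow_one, hc1]
    rw [mul_neg, Units.mul_inv]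
  have hdI : ∀ j, 2 ≤ j → d j ∈ I.map φ := by
    intro j hj
    have hj0 : j ≠ 0 := by omega
    simp only [hd, hj0, if_false]
    have : c 0 ^ (j - 1) ∈ I.map φ := by
      have : j - 1 = (j - 2) + 1 := by omega
      rw [this, pow_succ]
      exact Ideal.mul_mem_left _ _ hc0I
    exact Ideal.mul_mem_right _ _ (Ideal.mul_mem_left _ _ this)
  -- lift the coefficients to `A`
  have hlift : ∀ j, ∃ a : A, a ∈ I ∧ (2 ≤ j → φ a = d j) := by
    intro j
    by_cases hj : 2 ≤ j
    · obtain ⟨a, haI, ha⟩ := (Ideal.mem_map_iff_of_surjective φ hφ).mp (hdI j hj)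
      exact ⟨a, haI, fun _ => ha⟩
    · exact ⟨0, I.zero_mem, fun h => absurd h hj⟩
  choose ε hεI hεφ using hlift
  set δ : ℕ → A := fun j => if j = 0 then 1 else if j = 1 then -1 else ε j with hδ
  have hδφ : ∀ j, φ (δ j) = d j := by
    intro j
    by_cases hj0 : j = 0
    · subst hj0; simp [hδ, hd]
    by_cases hj1 : j = 1
    · subst hj1; rw [hd1]; simp [hδ]
    · have : 2 ≤ j := by omega
      simp only [hδ, hj0, hj1, if_false]
      exact hεφ j this
  -- Gabber's polynomial over `A`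
  set k : A[X] := ∑ j ∈ Finset.range (m + 1 + 1), C (δ j) * X ^ (m + 1 - j) with hk
  have hkmonic : k.Monic := by
    apply monic_of_natDegree_le_of_coeff_eq_one (m + 1)
    · apply natDegree_sum_le_of_forall_le
      intro j _
      exact (natDegree_C_mul_X_pow_le _ _).trans (Nat.sub_le _ _)
    · rw [hk, finsetSum_coeff]
      rw [Finset.sum_eq_single 0]
      · simp [hδ]
      · intro j hj hj0
        have hjn : j ≤ m + 1 := Nat.lt_succ_iff.mp (Finset.mem_range.mp hj)
        rw [coeff_C_mul_X_pow]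
        have : m + 1 ≠ m + 1 - j := by omega
        simp [this]
      · intro h; exact absurd (Finset.mem_range.mpr (Nat.succ_pos _)) h
  have hk1 : k.eval 1 ∈ I := by
    rw [hk, eval_finsetSum]
    simp only [eval_mul, eval_C, eval_pow, eval_X, one_pow, mul_one]
    rw [Finset.sum_range_succ', Finset.sum_range_succ']
    have h01 : δ (0 + 1) + δ 0 = 0 := by simp [hδ]
    rw [add_assoc, h01, add_zero]
    refine I.sum_mem fun j _ => ?_
    have h0 : j + 1 + 1 ≠ 0 := by omega
    have h1 : j + 1 + 1 ≠ 1 := by omega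
    simp only [hδ, h0, h1, if_false]
    exact hεI _
  have hk2 : IsUnit (Ideal.Quotient.mk I (k.derivative.eval 1)) := by
    have : k.derivative.eval 1 - 1 ∈ I := by
      rw [hk, derivative_sum, eval_finsetSum]
      simp only [derivative_C_mul_X_pow, eval_mul, eval_C, eval_pow, eval_X, one_pow, mul_one]
      rw [Finset.sum_range_succ', Finset.sum_range_succ']
      have h01 : δ (0 + 1) * ((m + 1 - (0 + 1) : ℕ) : A) + δ 0 * ((m + 1 - 0 : ℕ) : A) - 1 = 0 := by
        simp [hδ]
      rw [add_assoc, add_sub_assoc, h01, add_zero]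
      refine I.sum_mem fun j _ => ?_
      have h0 : j + 1 + 1 ≠ 0 := by omega
      have h1 : j + 1 + 1 ≠ 1 := by omega
      simp only [hδ, h0, h1, if_false]
      exact I.mul_mem_right _ (hεI _)
    have h1 : Ideal.Quotient.mk I (k.derivative.eval 1) = 1 := by
      rw [← sub_eq_zero, ← map_one (Ideal.Quotient.mk I), ← map_sub,
        Ideal.Quotient.eq_zero_iff_mem]
      exact this
    rw [h1]; exact isUnit_one
  obtain ⟨z, hz, hzI⟩ := hI.is_henselian k hkmonic 1 hk1 hk2
  -- the image of `z` is a unit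
  have hzB : φ z - 1 ∈ I.map φ := by
    rw [← map_one φ, ← map_sub]; exact Ideal.mem_map_of_mem _ hzI
  have hzunit : IsUnit (φ z) := by
    have := Ideal.mem_jacobson_bot.mp (hjac hzB) 1
    simpa using this
  obtain ⟨w, hw⟩ := hzunit
  have hroot : ∑ j ∈ Finset.range (m + 1 + 1), d j * (w : B) ^ (m + 1 - j) = 0 := by
    have := congrArg φ hz.eq_zero
    rw [hk, eval_finsetSum, map_sum, map_zero] at this
    simp only [eval_mul, eval_C, eval_pow, eval_X, map_mul, map_pow, hδφ] at this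
    rw [hw]; exact this
  have hT := gabber_root_aux (m + 1) c u w hroot
  refine ⟨c 0 * (-(↑u⁻¹ : B)) * (↑w⁻¹ : B) + b₀, ?_, ?_⟩
  · rw [IsRoot.def, ← taylor_eval, eval_eq_sum_range' htdeg]
    exact hT
  · rw [add_sub_cancel_right]
    exact Ideal.mul_mem_right _ _ (Ideal.mul_mem_right _ _ hc0I)

end Groth.Agent.Lib.Helper37
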