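import Groth.Agent.Lib.Helper37.HenselLocal
import Groth.Agent.Lib.Helper37.HenselFinite
import Mathlib.RingTheory.Etale.QuasiFinite

/-!
Finite algebras over Henselian local rings are finite products of local rings
(Stacks 04GG (1) => (10)), by helper37.
-/

namespace Groth.Agent.Lib.Helper37

open Polynomial TensorProduct

universe u

/-- Over a Henselian local ring, an étale neighbourhood of the closed point with trivial residue
field extension has a section through the given point. -/
theorem exists_section_of_etale_of_residueField_bijective (R : Type u) [CommRing R]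
    [HenselianLocalRing R] (R' : Type u) [CommRing R'] [Algebra R R'] [Algebra.Etale R R']
    (P : Ideal R') [P.IsPrime] [P.LiesOver (IsLocalRing.maximalIdeal R)]
    (hbij : Function.Bijective (Ideal.ResidueField.mapₐ (IsLocalRing.maximalIdeal R) P
      (Algebra.ofId _ _) (P.over_def _))) :
    ∃ τ : R' →ₐ[R] R, Ideal.comap τ.toRingHom (IsLocalRing.maximalIdeal R) = P := by
  set m := IsLocalRing.maximalIdeal R with hm
  let e₁ : m.ResidueField ≃ₐ[R] P.ResidueField := AlgEquiv.ofBijective _ hbij
  let e₂ : (R ⧸ m) ≃+* m.ResidueField :=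
    RingEquiv.ofBijective (algebraMap (R ⧸ m) m.ResidueField)
      (Ideal.bijective_algebraMap_quotient_residueField m)
  let τres : P.ResidueField →+* IsLocalRing.ResidueField R :=
    (e₂.symm : m.ResidueField →+* R ⧸ m).comp (e₁.symm : P.ResidueField →+* m.ResidueField)
  have hτ : τres.comp (algebraMap R P.ResidueField) =
      (IsLocalRing.residue R).comp (algebraMap R R) := by
    ext r
    change e₂.symm (e₁.symm (algebraMap R P.ResidueField r)) = Ideal.Quotient.mk m r
    have h1 : (e₁.symm : P.ResidueField →+* m.ResidueField) (algebraMap R P.ResidueField r) =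
        algebraMap R m.ResidueField r := e₁.symm.commutes r
    have h2 : algebraMap R m.ResidueField r = e₂ (Ideal.Quotient.mk m r) := by
      rw [IsScalarTower.algebraMap_apply R (R ⧸ m) m.ResidueField]; rfl
    have h3 : e₁.symm (algebraMap R P.ResidueField r) = e₂ (Ideal.Quotient.mk m r) := by
      rw [← h2]; exact h1
    rw [h3, RingEquiv.symm_apply_apply]
  obtain ⟨τ, ⟨hτ1, -⟩, -⟩ := existsUnique_algHom_of_etale_of_henselianLocal R R R' P τres hτ
  exact ⟨τ, hτ1⟩


/-- Dropping trivial factors from a product of rings. -/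
noncomputable def piSubtypeEquivOfSubsingleton {ι : Type*} (A : ι → Type*) [∀ i, CommRing (A i)]
    (p : ι → Prop) (h : ∀ i, ¬ p i → Subsingleton (A i)) :
    (∀ i, A i) ≃+* (∀ i : {i // p i}, A i.1) := by
  classical
  exact
  { toFun := fun f i => f i.1
    invFun := fun g i => if hi : p i then g ⟨i, hi⟩ else 0
    left_inv := by
      intro f
      funext i
      by_cases hi : p i
      · simp [hi]
      · have := h i hi
        exact Subsingleton.elim _ _
    right_inv := by
      intro g
      funext i
      simp [i.2]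
    map_mul' := fun _ _ => rfl
    map_add' := fun _ _ => rfl }

theorem exists_pi_isLocalRing_of_finite (R : Type u) [CommRing R] [HenselianLocalRing R]
    (S : Type u) [CommRing S] [Algebra R S] [Module.Finite R S] :
    ∃ (ι : Type u) (_ : Fintype ι) (A : ι → Type u) (_ : ∀ i, CommRing (A i)),
      (∀ i, IsLocalRing (A i)) ∧ Nonempty (S ≃+* (∀ i, A i)) := by
  classical
  set m := IsLocalRing.maximalIdeal R with hm
  obtain ⟨R', _, _, _, P, _, _, n, e, he, P', _, _, hbij, heP', H⟩ :=
    Algebra.exists_etale_completeOrthogonalIdempotents_forall_liesOver_eq (R := R) (S := S) m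
  obtain ⟨τ, hτ⟩ := exists_section_of_etale_of_residueField_bijective R R' P hbij
  let ψ : R' ⊗[R] S →ₐ[R] S :=
    Algebra.TensorProduct.productMap ((Algebra.ofId R S).comp τ) (AlgHom.id R S)
  have hψ : ∀ (r' : R') (s : S), ψ (r' ⊗ₜ s) = algebraMap R S (τ r') * s := by
    intro r' s
    simp [ψ, Algebra.TensorProduct.productMap_apply_tmul, Algebra.ofId_apply]
  have hψsurj : Function.Surjective ψ := fun s => ⟨1 ⊗ₜ s, by rw [hψ]; simp⟩
  set ε : Fin (n + 1) → S := fun i => ψ (e i) with hε
  have hεc : CompleteOrthogonalIdempotents ε := he.map ψ.toRingHom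
  have hint : Algebra.IsIntegral R S := Algebra.IsIntegral.of_finite R S
  -- key claim
  have key : ∀ (i : Fin (n + 1)) (M : Ideal S), M.IsMaximal → ε i ∉ M →
      ∃ j : Fin n, i = j.castSucc ∧ M = (P' j).map ψ.toRingHom := by
    intro i M hM hεM
    have hMprime : M.IsPrime := hM.isPrime
    have hMm : M.comap (algebraMap R S) = m :=
      IsLocalRing.eq_maximalIdeal (Ideal.isMaximal_comap_of_isIntegral_of_isMaximal (R := R) M)
    set P'' : Ideal (R' ⊗[R] S) := M.comap ψ.toRingHom with hP''
    have hP''prime : P''.IsPrime := Ideal.comap_isPrime _ _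
    have hP''lies : P''.LiesOver P := by
      constructor
      rw [Ideal.under, hP'', Ideal.comap_comap, ← hτ, hm.symm, ← hMm, Ideal.comap_comap]
      congr 1
      ext r'
      simp only [RingHom.comp_apply]
      change algebraMap R S (τ r') = ψ (algebraMap R' (R' ⊗[R] S) r')
      rw [Algebra.TensorProduct.algebraMap_apply, Algebra.algebraMap_self_apply, hψ, mul_one]
    have heP'' : e i ∉ P'' := hεM
    obtain ⟨hlast, hj⟩ := H P'' hP''prime hP''lies
    have hMeq : M = P''.map ψ.toRingHom := (Ideal.map_comap_of_surjective _ hψsurj M).symm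
    induction i using Fin.lastCases with
    | last => exact absurd hlast heP''
    | cast j =>
      refine ⟨j, rfl, ?_⟩
      rw [hMeq, hj j heP'']
  -- the factors
  let A' : Fin (n + 1) → Type u := fun i => S ⧸ Ideal.span {1 - ε i}
  have hlocal : ∀ i, Nontrivial (A' i) → IsLocalRing (A' i) := by
    intro i hnt
    apply IsLocalRing.of_unique_max_ideal
    obtain ⟨M₀, hM₀⟩ := Ideal.exists_maximal (A' i)
    refine ⟨M₀, hM₀, ?_⟩
    intro M₁ hM₁
    have hcomap : ∀ (M : Ideal (A' i)), M.IsMaximal →
        (M.comap (Ideal.Quotient.mk (Ideal.span {1 - ε i}))).IsMaximal ∧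
          ε i ∉ M.comap (Ideal.Quotient.mk (Ideal.span {1 - ε i})) := by
      intro M hM
      have h1 := Ideal.comap_isMaximal_of_surjective (Ideal.Quotient.mk (Ideal.span {1 - ε i}))
        Ideal.Quotient.mk_surjective (K := M)
      refine ⟨h1, fun hmem => ?_⟩
      have h2 : (1 - ε i) ∈ M.comap (Ideal.Quotient.mk (Ideal.span {1 - ε i})) := by
        rw [Ideal.mem_comap]
        have : Ideal.Quotient.mk (Ideal.span {1 - ε i}) (1 - ε i) = 0 :=
          Ideal.Quotient.eq_zero_iff_mem.mpr (Ideal.subset_span rfl)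
        rw [this]
        exact M.zero_mem
      apply h1.ne_top
      rw [Ideal.eq_top_iff_one]
      have h3 := Ideal.add_mem _ hmem h2
      have h4 : ε i + (1 - ε i) = 1 := by ring
      rwa [h4] at h3
    obtain ⟨h0a, h0b⟩ := hcomap M₀ hM₀
    obtain ⟨h1a, h1b⟩ := hcomap M₁ hM₁
    obtain ⟨j₀, hj₀, hM₀eq⟩ := key i _ h0a h0b
    obtain ⟨j₁, hj₁, hM₁eq⟩ := key i _ h1a h1b
    have hjj : j₀ = j₁ := Fin.castSucc_injective _ (hj₀.symm.trans hj₁)
    subst hjj
    exact Ideal.comap_injective_of_surjective _ Ideal.Quotient.mk_surjective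
      (hM₁eq.trans hM₀eq.symm)
  -- assemble
  let e₁ : S ≃+* (∀ i, A' i) := RingEquiv.ofBijective _ hεc.bijective_pi
  let p : Fin (n + 1) → Prop := fun i => Nontrivial (A' i)
  let e₂ : (∀ i, A' i) ≃+* (∀ i : {i // p i}, A' i.1) :=
    piSubtypeEquivOfSubsingleton A' p (fun i hi => not_nontrivial_iff_subsingleton.mp hi)
  let ι : Type u := ULift.{u} {i // p i}
  let e₃ : (∀ i : {i // p i}, A' i.1) ≃+* (∀ i : ι, A' i.down.1) :=
    { toFun := fun f i => f i.down
      invFun := fun g i => g ⟨i⟩
      left_inv := fun _ => rfl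
      right_inv := fun _ => rfl
      map_mul' := fun _ _ => rfl
      map_add' := fun _ _ => rfl }
  exact ⟨ι, inferInstance, fun i => A' i.down.1, fun i => inferInstance,
    fun i => hlocal i.down.1 i.down.2, ⟨(e₁.trans e₂).trans e₃⟩⟩


end Groth.Agent.Lib.Helper37
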