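import Groth.Agent.Lib.Helper37.Hz52

set_option autoImplicit false
universe u

open TensorProduct IsLocalRing

namespace Groth.Agent.Lib.Helper37.Hz

namespace Branches

attribute [local instance] Algebra.TensorProduct.rightAlgebra

variable (A S : Type u) [CommRing A] [IsLocalRing A]
  [CommRing S] [IsLocalRing S] [Algebra A S] [IsLocalHom (algebraMap A S)]

/-- If `A` has infinitely many minimal primes, so has any faithfully flat `A`-algebra. -/
theorem infinite_minimalPrimes_of_faithfullyFlat {A S : Type*} [CommRing A] [CommRing S]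
    [Algebra A S] [Module.FaithfullyFlat A S] (h : ¬ (minimalPrimes A).Finite) :
    ¬ (minimalPrimes S).Finite := by
  intro hfin
  apply h
  refine (hfin.image (Ideal.comap (algebraMap A S))).subset ?_
  intro P hP
  obtain ⟨Q, hQ, hQP⟩ := exists_minimalPrimes_comap_eq_of_faithfullyFlat (B := S) hP
  exact ⟨Q, hQ, hQP⟩

variable [hS : Hensel.IsHenselization A S]

include hS in
/-- The minimal primes of the henselization are in bijection with the maximal ideals of the
normalization (finitely many minimal primes). -/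
theorem nonempty_equiv (hfin : (minimalPrimes A).Finite) :
    Nonempty (minimalPrimes S ≃ MaximalSpectrum (CAlg2.normRed A)) := by
  classical
  haveI : HenselianLocalRing S := hS.henselian
  haveI : Module.FaithfullyFlat A S := faithfullyFlat_of_isHenselization A S
  haveI : Module.Flat A S := Module.FaithfullyFlat.toFlat
  have hind := isIndEtale_of_isHenselization A S
  -- e₁
  let e₁ : minimalPrimes (CAlg2.normRed A ⊗[A] S) ≃ minimalPrimes S :=
    (Birat.bijOn_minimalPrimes_normRed A S).equiv _
  -- e₂
  have hmax : ∀ q : minimalPrimes (CAlg2.normRed A ⊗[A] S),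
      ∃! m : Ideal (CAlg2.normRed A ⊗[A] S), m.IsMaximal ∧ (q : Ideal _) ≤ m := by
    intro q
    haveI := q.2.1.1
    exact TotNorm.existsUnique_maximal_ge A S q.1
  let f₂ : minimalPrimes (CAlg2.normRed A ⊗[A] S) →
      MaximalSpectrum (CAlg2.normRed A ⊗[A] S) :=
    fun q => ⟨(hmax q).choose, (hmax q).choose_spec.1.1⟩
  have hf₂le : ∀ q : minimalPrimes (CAlg2.normRed A ⊗[A] S),
      (q : Ideal (CAlg2.normRed A ⊗[A] S)) ≤ (f₂ q).asIdeal := fun q => (hmax q).choose_spec.1.2
  have hf₂ : Function.Bijective f₂ := by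
    constructor
    · intro q₁ q₂ h
      haveI := (f₂ q₁).isMaximal.isPrime
      have hu := TotNorm.existsUnique_minimalPrime_le A S hfin hind (f₂ q₁).asIdeal
      apply Subtype.ext
      exact hu.unique ⟨q₁.2, hf₂le q₁⟩ ⟨q₂.2, h ▸ hf₂le q₂⟩
    · intro m
      haveI := m.isMaximal.isPrime
      obtain ⟨q, hq, hqm⟩ := Ideal.exists_minimalPrimes_le (I := ⊥) (J := m.asIdeal) bot_le
      refine ⟨⟨q, hq⟩, ?_⟩
      apply MaximalSpectrum.ext
      exact ((hmax ⟨q, hq⟩).unique (hmax ⟨q, hq⟩).choose_spec.1 ⟨m.isMaximal, hqm⟩)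
  -- e₃
  let f₃ : MaximalSpectrum (CAlg2.normRed A ⊗[A] S) → MaximalSpectrum (CAlg2.normRed A) :=
    fun n =>
      haveI := n.isMaximal
      ⟨n.asIdeal.comap (algebraMap (CAlg2.normRed A) (CAlg2.normRed A ⊗[A] S)),
        IntTensG.comap_isMaximal A (CAlg2.normRed A) S n.asIdeal⟩
  have hf₃ : Function.Bijective f₃ := by
    constructor
    · intro n₁ n₂ h
      haveI := n₁.isMaximal
      haveI := n₂.isMaximal
      have h' : n₁.asIdeal.comap (algebraMap (CAlg2.normRed A) (CAlg2.normRed A ⊗[A] S)) =
          n₂.asIdeal.comap (algebraMap (CAlg2.normRed A) (CAlg2.normRed A ⊗[A] S)) :=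
        congrArg MaximalSpectrum.asIdeal h
      apply MaximalSpectrum.ext
      exact le_antisymm
        (IntTensG.le_of_comap_le A (CAlg2.normRed A) S _ _ (le_of_eq h'))
        (IntTensG.le_of_comap_le A (CAlg2.normRed A) S _ _ (le_of_eq h'.symm))
    · intro m'
      haveI := m'.isMaximal
      obtain ⟨n, hn, hnm⟩ := IntTensG.exists_isMaximal_comap_eq A (CAlg2.normRed A) S m'.asIdeal
      exact ⟨⟨n, hn⟩, MaximalSpectrum.ext hnm⟩
  exact ⟨e₁.symm.trans ((Equiv.ofBijective f₂ hf₂).trans (Equiv.ofBijective f₃ hf₃))⟩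

include hS in
theorem card_minimalPrimes_eq_numBranches :
    ENat.card (minimalPrimes S) = Brnch.numBranches A := by
  classical
  unfold Brnch.numBranches
  split_ifs with hfin
  · obtain ⟨e⟩ := nonempty_equiv A S hfin
    exact ENat.card_congr e
  · haveI : Module.FaithfullyFlat A S := faithfullyFlat_of_isHenselization A S
    have hinf : (minimalPrimes S).Infinite := infinite_minimalPrimes_of_faithfullyFlat hfin
    haveI : Infinite (minimalPrimes S) := hinf.to_subtype
    exact ENat.card_eq_top_of_infinite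

end Branches

end Groth.Agent.Lib.Helper37.Hz
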