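import Groth.Agent.Lib.Helper37.Hz55

/-!
# Henselization project, part 56: comparison maps between (strict) henselizations, complete local
rings are henselian, cardinality of minimal primes under faithfully flat maps.
-/

set_option autoImplicit false
universe u

open TensorProduct IsLocalRing

namespace Groth.Agent.Lib.Helper37.Hz

namespace Compare

/-- A local ring which is adically complete with respect to its maximal ideal is henselian. -/
theorem henselianLocalRing_of_isAdicComplete (R : Type*) [CommRing R] [IsLocalRing R]
    [IsAdicComplete (maximalIdeal R) R] : HenselianLocalRing R where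
  is_henselian f hf a₀ h₁ h₂ := by
    refine HenselianRing.is_henselian (I := maximalIdeal R) f hf a₀ h₁ ?_
    exact h₂.map (Ideal.Quotient.mk (maximalIdeal R))

/-- A henselian local ring is its own henselization. -/
theorem isHenselization_self (R : Type u) [CommRing R] [hR : HenselianLocalRing R] :
    Hensel.IsHenselization R R where
  henselian := hR
  universal T _ _ f _ := by
    refine ⟨f, ?_, ?_⟩
    · ext x; rfl
    · intro g hg
      rw [← hg]
      ext x; rfl

/-- Along a faithfully flat ring map the number of minimal primes does not decrease. -/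
theorem card_minimalPrimes_le_of_faithfullyFlat (R S : Type*) [CommRing R] [CommRing S]
    [Algebra R S] [Module.FaithfullyFlat R S] :
    ENat.card (minimalPrimes R) ≤ ENat.card (minimalPrimes S) := by
  classical
  have h : ∀ P : minimalPrimes R, ∃ Q : minimalPrimes S,
      (Q : Ideal S).comap (algebraMap R S) = P := by
    intro P
    obtain ⟨Q, hQ, hQP⟩ := exists_minimalPrimes_comap_eq_of_faithfullyFlat (B := S) P.2
    exact ⟨⟨Q, hQ⟩, hQP⟩
  choose f hf using h
  refine ENat.card_le_card_of_injective (f := f) ?_
  intro P₁ P₂ h12
  apply Subtype.ext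
  rw [← hf P₁, ← hf P₂, h12]

section Flat

variable (R S C : Type u) [CommRing R] [CommRing S] [CommRing C] [Algebra R S] [Algebra R C]
  [Algebra S C] [IsScalarTower R S C]

/-- Cancellation of flatness along a weakly étale map. -/
theorem flat_of_weaklyEtale [Algebra.WeaklyEtale R S] [Module.Flat R C] : Module.Flat S C :=
  flat_of_flat_lmul' (Algebra.WeaklyEtale.flat_lmul' R S)

end Flat

section Hens

variable (R R' S S' : Type u) [CommRing R] [IsLocalRing R] [CommRing R'] [IsLocalRing R']
  [CommRing S] [IsLocalRing S] [CommRing S'] [IsLocalRing S']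
  [Algebra R R'] [IsLocalHom (algebraMap R R')]
  [Algebra R S] [IsLocalHom (algebraMap R S)]
  [Algebra R' S'] [IsLocalHom (algebraMap R' S')]

/-- The comparison map between henselizations. -/
theorem exists_map_of_isHenselization [hS : Hensel.IsHenselization R S]
    [hS' : HenselianLocalRing S'] :
    ∃ g : S →+* S', g.comp (algebraMap R S) = (algebraMap R' S').comp (algebraMap R R') ∧
      IsLocalHom g := by
  have hloc : IsLocalHom ((algebraMap R' S').comp (algebraMap R R')) :=
    RingHom.isLocalHom_comp _ _
  obtain ⟨g, hg, -⟩ := hS.universal S' ((algebraMap R' S').comp (algebraMap R R')) hloc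
  refine ⟨g, hg, ⟨fun x hx => ?_⟩⟩
  by_contra hnot
  have hx' : x ∈ maximalIdeal S := hnot
  rw [← map_maximalIdeal_of_isHenselization R S] at hx'
  have h2 : g x ∈ ((maximalIdeal R).map (algebraMap R S)).map g := Ideal.mem_map_of_mem _ hx'
  rw [Ideal.map_map, hg] at h2
  have h3 : (maximalIdeal R).map ((algebraMap R' S').comp (algebraMap R R')) ≤ maximalIdeal S' :=
    ((IsLocalRing.local_hom_TFAE _).out 0 2).mp hloc
  exact (h3 h2) hx

/-- The comparison map between strict henselizations. -/
theorem exists_map_of_isStrictHenselization [hS : Hensel.IsStrictHenselization R S]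
    [hS' : HenselianLocalRing S'] [IsSepClosed (ResidueField S')] :
    ∃ g : S →+* S', g.comp (algebraMap R S) = (algebraMap R' S').comp (algebraMap R R') ∧
      IsLocalHom g := by
  haveI hloc : IsLocalHom ((algebraMap R' S').comp (algebraMap R R')) :=
    RingHom.isLocalHom_comp _ _
  haveI : IsSepClosure (ResidueField R) (ResidueField S) := hS.isSepClosure
  haveI : Algebra.IsSeparable (ResidueField R) (ResidueField S) := IsSepClosure.separable
  letI : Algebra (ResidueField R) (ResidueField S') :=
    (ResidueField.map ((algebraMap R' S').comp (algebraMap R R'))).toAlgebra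
  let τ : ResidueField S →ₐ[ResidueField R] ResidueField S' :=
    IsSepClosed.lift
  have hτ : (τ : ResidueField S →+* ResidueField S').comp
      (ResidueField.map (algebraMap R S)) =
      ResidueField.map ((algebraMap R' S').comp (algebraMap R R')) := by
    ext z
    exact τ.commutes z
  obtain ⟨g, ⟨hg1, hg2⟩, -⟩ := hS.universal S' ((algebraMap R' S').comp (algebraMap R R'))
    (τ : ResidueField S →+* ResidueField S') hτ
  refine ⟨g, hg1, ⟨fun x hx => ?_⟩⟩
  by_contra hnot
  have hx' : x ∈ maximalIdeal S := hnot
  have h1 : residue S x = 0 := (residue_eq_zero_iff x).mpr hx'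
  have h2 : residue S' (g x) = 0 := by rw [hg2, h1, map_zero]
  exact ((residue_eq_zero_iff (g x)).mp h2) hx

end Hens

end Compare

end Groth.Agent.Lib.Helper37.Hz
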