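import Groth.Agent.Lib.Helper37.Hz16
import Groth.Agent.Lib.Helper37.Hz7
import Groth.Agent.Lib.Helper37.Hz6
import Groth.Agent.Lib.Helper37.Hz4

/-!
# Henselization project, part 18: the stage maps `G i → H R Ω` are faithfully flat

If every element of `Ω` is a simple root of a monic polynomial over `R`, the limit ring over `R`
is also the limit ring over each stage `G i` (abstract uniqueness), hence flat over `G i`.
-/

set_option autoImplicit false
universe u

namespace Groth.Agent.Lib.Helper37.Hz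

open IsLocalRing Polynomial

section StageFlat

variable {R : Type u} [CommRing R] [IsLocalRing R] {Ω : Type u} [Field Ω] [Algebra R Ω]
  [IsLocalHom (algebraMap R Ω)]
variable (B : Type u) [CommRing B] [IsLocalRing B] [Algebra R B] [Algebra B Ω]
  [IsLocalHom (algebraMap B Ω)] [IsScalarTower R B Ω]

omit [IsLocalRing R] [IsLocalHom (algebraMap R Ω)] [IsLocalRing B] [IsLocalHom (algebraMap B Ω)] in
lemma sepOver_of_tower [SepOver R Ω] : SepOver B Ω where
  sep ω := by
    obtain ⟨F, hF, h0, h1⟩ := SepOver.sep (R := R) ω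
    refine ⟨F.map (algebraMap R B), hF.map _, ?_, ?_⟩
    · rw [aeval_map_algebraMap]; exact h0
    · rw [derivative_map, aeval_map_algebraMap]; exact h1

omit [IsLocalRing R] [IsLocalRing B] [IsLocalHom (algebraMap B Ω)] in
variable (Ω) in
include Ω in
lemma isLocalHom_of_tower : IsLocalHom (algebraMap R B) := by
  constructor
  intro r hr
  have h1 : IsUnit (algebraMap R Ω r) := by
    rw [IsScalarTower.algebraMap_apply R B Ω]
    exact hr.map _
  exact isUnit_of_map_unit (algebraMap R Ω) r h1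

omit [IsLocalRing R] [IsLocalHom (algebraMap R Ω)] in
lemma ptInf_eq_of_residue_eq [SepOver R Ω] {T : Type u} [CommRing T] [IsLocalRing T]
    (pt : T →+* Ω) (ρT : ResidueField T ≃+* Ω) (hρT : ∀ t, ρT (residue T t) = pt t)
    (g : H R Ω →+* T) (hg : ∀ x, residue T (g x) = (ρT.symm : Ω →+* ResidueField T) (ptInf x))
    (x : H R Ω) : pt (g x) = ptInf x := by
  rw [← hρT, hg]
  exact ρT.apply_symm_apply _

variable [SepOver R Ω]

/-- A local `R`-algebra `B` with a point in `Ω` having unique lifts to henselian local rings, and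
mapping to the limit ring compatibly with the points: the limit ring over `R` is the limit ring
over `B`. -/
theorem exists_ringEquiv_stage (o : B →ₐ[R] H R Ω) (ho : ∀ b, ptInf (o b) = algebraMap B Ω b)
    (huniq : ∀ (T : Type u) [CommRing T] [HenselianLocalRing T] (ψ : R →+* T) [IsLocalHom ψ]
      (τ : Ω →+* ResidueField T) (_ : τ.comp (algebraMap R Ω) = (residue T).comp ψ)
      (b₁ b₂ : B →+* T), b₁.comp (algebraMap R B) = ψ → b₂.comp (algebraMap R B) = ψ →
      (∀ x, residue T (b₁ x) = τ (algebraMap B Ω x)) →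
      (∀ x, residue T (b₂ x) = τ (algebraMap B Ω x)) → b₁ = b₂) :
    ∃ e : H R Ω ≃+* H B Ω, ∀ b, e (o b) = algebraMap B (H B Ω) b := by
  have : SepOver B Ω := sepOver_of_tower (R := R) B
  have : IsLocalHom (algebraMap R B) := isLocalHom_of_tower Ω B
  let ρ : ResidueField (H R Ω) ≃+* Ω := residueEquivΩ R Ω
  let ρ' : ResidueField (H B Ω) ≃+* Ω := residueEquivΩ B Ω
  have hρ : ∀ x, ρ (residue _ x) = ptInf x := residueEquivΩ_residue
  have hρ' : ∀ x, ρ' (residue _ x) = ptInf x := residueEquivΩ_residue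
  let ψ : R →+* H B Ω := (algebraMap B (H B Ω)).comp (algebraMap R B)
  have : IsLocalHom ψ := RingHom.isLocalHom_comp _ _
  have hτu : (ρ'.symm : Ω →+* ResidueField (H B Ω)).comp (algebraMap R Ω) =
      (residue (H B Ω)).comp ψ := by
    ext r
    simp only [RingHom.comp_apply, RingHom.coe_coe, ψ]
    rw [RingEquiv.symm_apply_eq, hρ', AlgHom.commutes, ← IsScalarTower.algebraMap_apply]
  obtain ⟨u, ⟨hu1, hu2⟩, -⟩ :=
    existsUnique_lift_H (R := R) (Ω := Ω) (H B Ω) ψ (ρ'.symm : Ω →+* _) hτu
  have : IsLocalHom (o : B →+* H R Ω) := by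
    constructor
    intro b hb
    have hb' : IsUnit (o b) := hb
    rw [isUnit_iff_ptInf_ne_zero, ho] at hb'
    exact isUnit_of_map_unit (algebraMap B Ω) b (Ne.isUnit hb')
  have hτv : (ρ.symm : Ω →+* ResidueField (H R Ω)).comp (algebraMap B Ω) =
      (residue (H R Ω)).comp (o : B →+* H R Ω) := by
    ext b
    simp only [RingHom.comp_apply, RingHom.coe_coe]
    rw [RingEquiv.symm_apply_eq, hρ, ho]
  obtain ⟨v, ⟨hv1, hv2⟩, -⟩ :=
    existsUnique_lift_H (R := B) (Ω := Ω) (H R Ω) (o : B →+* H R Ω) (ρ.symm : Ω →+* _) hτv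
  have hpu : ∀ x, ptInf (u x) = ptInf x := fun x => by
    rw [← hρ', hu2]
    exact ρ'.apply_symm_apply _
  have hpv : ∀ y, ptInf (v y) = ptInf y := fun y => by
    rw [← hρ, hv2]
    exact ρ.apply_symm_apply _
  -- `v ∘ u = id`
  have hvu : v.comp u = RingHom.id _ := by
    have hτ0 : (ρ.symm : Ω →+* ResidueField (H R Ω)).comp (algebraMap R Ω) =
        (residue (H R Ω)).comp (algebraMap R (H R Ω)) := by
      ext r
      simp only [RingHom.comp_apply, RingHom.coe_coe]
      rw [RingEquiv.symm_apply_eq, hρ, AlgHom.commutes]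
    obtain ⟨w, -, hw⟩ := existsUnique_lift_H (R := R) (Ω := Ω) (H R Ω)
      (algebraMap R (H R Ω)) (ρ.symm : Ω →+* _) hτ0
    rw [hw (v.comp u) ⟨?_, ?_⟩, hw (RingHom.id _) ⟨?_, ?_⟩]
    · exact RingHom.id_comp _
    · intro x
      simp only [RingHom.id_apply, RingHom.coe_coe]
      rw [RingEquiv.eq_symm_apply, hρ]
    · rw [RingHom.comp_assoc, hu1]
      change (v.comp (algebraMap B (H B Ω))).comp (algebraMap R B) = _
      rw [hv1]
      exact o.comp_algebraMap
    · intro x
      simp only [RingHom.comp_apply, RingHom.coe_coe]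
      rw [RingEquiv.eq_symm_apply, hρ, hpv, hpu]
  -- `u ∘ o = algebraMap`
  have huo : u.comp (o : B →+* H R Ω) = algebraMap B (H B Ω) := by
    apply huniq (H B Ω) ψ (ρ'.symm : Ω →+* _) hτu
    · rw [RingHom.comp_assoc]
      have : (o : B →+* H R Ω).comp (algebraMap R B) = algebraMap R (H R Ω) := o.comp_algebraMap
      rw [this, hu1]
    · rfl
    · intro b
      simp only [RingHom.comp_apply, RingHom.coe_coe]
      rw [RingEquiv.eq_symm_apply, hρ', hpu, ho]
    · intro b
      simp only [RingHom.coe_coe]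
      rw [RingEquiv.eq_symm_apply, hρ', AlgHom.commutes]
  -- `u ∘ v = id`
  have huv : u.comp v = RingHom.id _ := by
    have hτ0 : (ρ'.symm : Ω →+* ResidueField (H B Ω)).comp (algebraMap B Ω) =
        (residue (H B Ω)).comp (algebraMap B (H B Ω)) := by
      ext r
      simp only [RingHom.comp_apply, RingHom.coe_coe]
      rw [RingEquiv.symm_apply_eq, hρ', AlgHom.commutes]
    obtain ⟨w, -, hw⟩ := existsUnique_lift_H (R := B) (Ω := Ω) (H B Ω)
      (algebraMap B (H B Ω)) (ρ'.symm : Ω →+* _) hτ0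
    rw [hw (u.comp v) ⟨?_, ?_⟩, hw (RingHom.id _) ⟨?_, ?_⟩]
    · exact RingHom.id_comp _
    · intro x
      simp only [RingHom.id_apply, RingHom.coe_coe]
      rw [RingEquiv.eq_symm_apply, hρ']
    · rw [RingHom.comp_assoc, hv1, huo]
    · intro x
      simp only [RingHom.comp_apply, RingHom.coe_coe]
      rw [RingEquiv.eq_symm_apply, hρ', hpu, hpv]
  refine ⟨RingEquiv.ofRingHom u v huv hvu, fun b => ?_⟩
  exact RingHom.congr_fun huo b

/-- flatness of a stage map, abstract form -/
theorem flat_of_stage (o : B →ₐ[R] H R Ω) (ho : ∀ b, ptInf (o b) = algebraMap B Ω b)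
    (huniq : ∀ (T : Type u) [CommRing T] [HenselianLocalRing T] (ψ : R →+* T) [IsLocalHom ψ]
      (τ : Ω →+* ResidueField T) (_ : τ.comp (algebraMap R Ω) = (residue T).comp ψ)
      (b₁ b₂ : B →+* T), b₁.comp (algebraMap R B) = ψ → b₂.comp (algebraMap R B) = ψ →
      (∀ x, residue T (b₁ x) = τ (algebraMap B Ω x)) →
      (∀ x, residue T (b₂ x) = τ (algebraMap B Ω x)) → b₁ = b₂) :
    (o : B →+* H R Ω).Flat := by
  obtain ⟨e, he⟩ := exists_ringEquiv_stage B o ho huniq
  let _ : Algebra B (H R Ω) := (o : B →+* H R Ω).toAlgebra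
  let e' : H R Ω ≃ₗ[B] H B Ω :=
    { e with
      map_smul' := fun b x => by
        change e (b • x) = b • e x
        rw [Algebra.smul_def, Algebra.smul_def, map_mul]
        congr 1
        exact he b }
  exact Module.Flat.of_linearEquiv e'

end StageFlat

section Stage

variable {R : Type u} [CommRing R] [IsLocalRing R] {Ω : Type u} [Field Ω] [Algebra R Ω]
  [IsLocalHom (algebraMap R Ω)] [SepOver R Ω]

/-- **The stage maps into the limit ring are flat.** -/
theorem flat_of (i : Idx R Ω) : (of i : G i →+* H R Ω).Flat := by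
  let _ : Algebra (G i) Ω := (locPt i.θ : G i →+* Ω).toAlgebra
  have : IsLocalHom (algebraMap (G i) Ω) := isLocalHom_locPt i.θ
  have : IsScalarTower R (G i) Ω :=
    IsScalarTower.of_algebraMap_eq (fun r => ((locPt i.θ).commutes r).symm)
  apply flat_of_stage (G i) (of i) (fun b => rfl)
  intro T _ _ ψ _ τ hτ b₁ b₂ h1 h2 h3 h4
  exact (existsUnique_lift_locPt i.θ T ψ τ hτ).unique ⟨h1, h3⟩ ⟨h2, h4⟩

/-- The stage maps into the limit ring are faithfully flat. -/
theorem faithfullyFlat_of (i : Idx R Ω) :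
    let _ : Algebra (G i) (H R Ω) := (of i : G i →+* H R Ω).toAlgebra
    Module.FaithfullyFlat (G i) (H R Ω) := by
  let _ : Algebra (G i) (H R Ω) := (of i : G i →+* H R Ω).toAlgebra
  have : Module.Flat (G i) (H R Ω) := flat_of i
  have : IsLocalHom (algebraMap (G i) (H R Ω)) := isLocalHom_of i
  exact Module.FaithfullyFlat.of_flat_of_isLocalHom

/-- Ideals of a stage are contracted from the limit ring. -/
theorem comap_map_of (i : Idx R Ω) (J : Ideal (G i)) :
    (J.map (of i : G i →+* H R Ω)).comap (of i : G i →+* H R Ω) = J := by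
  let _ : Algebra (G i) (H R Ω) := (of i : G i →+* H R Ω).toAlgebra
  have : Module.FaithfullyFlat (G i) (H R Ω) := faithfullyFlat_of i
  exact Ideal.comap_map_eq_self_of_faithfullyFlat J

end Stage

end Groth.Agent.Lib.Helper37.Hz
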