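import Groth.Agent.Lib.Helper37.Hz10

/-!
# Henselization project, part 11: uniqueness of the strict henselization and first properties
-/

set_option autoImplicit false
universe u

namespace Groth.Agent.Lib.Helper37.Hz

open IsLocalRing

section Generic

variable {R : Type u} [CommRing R] [IsLocalRing R] {Ω : Type u} [Field Ω] [Algebra R Ω]
  [IsLocalHom (algebraMap R Ω)]
variable {S : Type u} [CommRing S] [IsLocalRing S] [Algebra R S]

theorem map_maximalIdeal_of_algEquiv (e : S ≃ₐ[R] H R Ω) :
    (maximalIdeal R).map (algebraMap R S) = maximalIdeal S := by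
  have h3 : (maximalIdeal (H R Ω)).map (e.symm.toRingEquiv : H R Ω →+* S) = maximalIdeal S :=
    map_ringEquiv_maximalIdeal e.symm.toRingEquiv
  rw [← h3, ← map_maximalIdeal_H, Ideal.map_map]
  congr 1
  ext r
  exact (e.symm.commutes r).symm

theorem faithfullyFlat_of_algEquiv (e : S ≃ₐ[R] H R Ω) : Module.FaithfullyFlat R S :=
  Module.FaithfullyFlat.of_linearEquiv (R := R) (M := H R Ω) (N := S) e.toLinearEquiv

end Generic

variable (R : Type u) [CommRing R] [IsLocalRing R]
variable (S : Type u) [CommRing S] [IsLocalRing S] [Algebra R S] [IsLocalHom (algebraMap R S)]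
  [hS : Hensel.IsStrictHenselization R S]

/-- Any strict henselization is isomorphic, as an `R`-algebra, to the constructed one. -/
theorem nonempty_algEquiv_SHens : Nonempty (S ≃ₐ[R] SHens R) := by
  haveI : HenselianLocalRing S := hS.henselian
  haveI : IsSepClosure (ResidueField R) (ResidueField S) := hS.isSepClosure
  let σ : ResidueField S ≃ₐ[ResidueField R] ResidueField (SHens R) :=
    IsSepClosure.equiv (ResidueField R) (ResidueField S) (ResidueField (SHens R))
  have hσ : (σ : ResidueField S →+* ResidueField (SHens R)).comp
      (ResidueField.map (algebraMap R S)) = ResidueField.map (algebraMap R (SHens R)) := by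
    ext z
    exact σ.commutes z
  have hσ' : (σ.symm : ResidueField (SHens R) →+* ResidueField S).comp
      (ResidueField.map (algebraMap R (SHens R))) = ResidueField.map (algebraMap R S) := by
    ext z
    exact σ.symm.commutes z
  obtain ⟨g, ⟨hg1, hg2⟩, -⟩ := hS.universal (SHens R) (algebraMap R (SHens R))
    (σ : ResidueField S →+* ResidueField (SHens R)) hσ
  obtain ⟨g', ⟨hg1', hg2'⟩, -⟩ := (isStrictHenselization_SHens R).universal S (algebraMap R S)
    (σ.symm : ResidueField (SHens R) →+* ResidueField S) hσ'
  have h1 : g'.comp g = RingHom.id S := by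
    obtain ⟨k, -, hk⟩ := hS.universal S (algebraMap R S) (RingHom.id _) (RingHom.id_comp _)
    rw [hk (g'.comp g) ⟨by rw [RingHom.comp_assoc, hg1, hg1'], fun x => by
        rw [RingHom.comp_apply, hg2', hg2]
        exact σ.symm_apply_apply _⟩,
      hk (RingHom.id S) ⟨RingHom.id_comp _, fun x => rfl⟩]
  have h2 : g.comp g' = RingHom.id (SHens R) := by
    obtain ⟨k, -, hk⟩ := (isStrictHenselization_SHens R).universal (SHens R)
      (algebraMap R (SHens R)) (RingHom.id _) (RingHom.id_comp _)
    rw [hk (g.comp g') ⟨by rw [RingHom.comp_assoc, hg1', hg1], fun x => by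
        rw [RingHom.comp_apply, hg2, hg2']
        exact σ.apply_symm_apply _⟩,
      hk (RingHom.id (SHens R)) ⟨RingHom.id_comp _, fun x => rfl⟩]
  exact ⟨{ toFun := g
           invFun := g'
           left_inv := fun x => RingHom.congr_fun h1 x
           right_inv := fun x => RingHom.congr_fun h2 x
           map_mul' := map_mul g
           map_add' := map_add g
           commutes' := fun r => RingHom.congr_fun hg1 r }⟩

include hS in
theorem map_maximalIdeal_of_isStrictHenselization :
    (maximalIdeal R).map (algebraMap R S) = maximalIdeal S := by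
  obtain ⟨e⟩ := nonempty_algEquiv_SHens R S
  exact map_maximalIdeal_of_algEquiv e

include hS in
theorem faithfullyFlat_of_isStrictHenselization : Module.FaithfullyFlat R S := by
  obtain ⟨e⟩ := nonempty_algEquiv_SHens R S
  exact faithfullyFlat_of_algEquiv e

end Groth.Agent.Lib.Helper37.Hz
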