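import Groth.Agent.Lib.Helper37.Hz4
import Groth.Agent.S9407

/-!
# Henselization project, part 12: dimension and reducedness of the limit ring
-/

set_option autoImplicit false
universe u

namespace Groth.Agent.Lib.Helper37.Hz

open IsLocalRing

/-- A faithfully flat algebra has dimension at least that of the base. -/
theorem ringKrullDim_le_of_faithfullyFlat (A B : Type*) [CommRing A] [CommRing B] [Algebra A B]
    [Module.FaithfullyFlat A B] : ringKrullDim A ≤ ringKrullDim B := by
  apply iSup_le
  intro l
  obtain ⟨P, hP⟩ := PrimeSpectrum.comap_surjective_of_faithfullyFlat (A := A) (B := B) l.last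
  haveI : P.asIdeal.LiesOver l.last.asIdeal := ⟨by rw [← hP]; rfl⟩
  obtain ⟨L, hL, -, -⟩ := Ideal.exists_ltSeries_of_hasGoingDown l P.asIdeal
  rw [← hL]
  exact Order.LTSeries.length_le_krullDim L

variable {R : Type u} [CommRing R] {Ω : Type u} [Field Ω] [Algebra R Ω]

/-- Incomparability: the contraction to `R` is strictly monotone on primes of the limit ring. -/
lemma under_lt_under_of_lt {P Q : Ideal (H R Ω)} [P.IsPrime] [Q.IsPrime] (h : P < Q) :
    P.under R < Q.under R := by
  refine lt_of_le_of_ne (Ideal.comap_mono h.le) fun heq => ?_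
  obtain ⟨x, hxQ, hxP⟩ := Set.exists_of_ssubset h
  obtain ⟨i, y, rfl⟩ := exists_of x
  set Pi : Ideal (G i) := P.comap (of i : G i →+* H R Ω) with hPi
  set Qi : Ideal (G i) := Q.comap (of i : G i →+* H R Ω) with hQi
  have hle : Pi ≤ Qi := Ideal.comap_mono h.le
  have hcomp : (of i : G i →+* H R Ω).comp (algebraMap R (G i)) = algebraMap R (H R Ω) :=
    (of i).comp_algebraMap
  have hunder : Pi.under R = Qi.under R := by
    rw [Ideal.under_def, Ideal.under_def, hPi, hQi, Ideal.comap_comap, Ideal.comap_comap, hcomp]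
    exact heq
  have := Algebra.QuasiFinite.eq_of_le_of_under_eq (R := R) Pi Qi hle hunder
  have hy : y ∈ Qi := hxQ
  rw [← this] at hy
  exact hxP hy

theorem ringKrullDim_H_le : ringKrullDim (H R Ω) ≤ ringKrullDim R := by
  apply Order.krullDim_le_of_strictMono (fun P => PrimeSpectrum.comap (algebraMap R (H R Ω)) P)
  intro P Q hPQ
  rw [← PrimeSpectrum.asIdeal_lt_asIdeal] at hPQ ⊢
  exact under_lt_under_of_lt hPQ

theorem ringKrullDim_H [IsLocalRing R] [IsLocalHom (algebraMap R Ω)] :
    ringKrullDim (H R Ω) = ringKrullDim R :=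
  le_antisymm ringKrullDim_H_le (ringKrullDim_le_of_faithfullyFlat R (H R Ω))

/-- The limit ring is reduced if `R` is. -/
theorem isReduced_H [IsReduced R] : IsReduced (H R Ω) := by
  constructor
  rintro x ⟨n, hn⟩
  obtain ⟨i, y, rfl⟩ := exists_of x
  rw [← map_pow, of_eq_zero_iff] at hn
  obtain ⟨j, hij, hj⟩ := hn
  rw [map_pow] at hj
  haveI : IsReduced i.Ring := Groth.Agent.S9407.result R i.Ring
  haveI : IsReduced j.Ring := Groth.Agent.S9407.result R j.Ring
  haveI : IsReduced (G j) :=
    isReduced_localizationPreserves (ptKer j.θ).primeCompl (G j) inferInstance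
  have h0 : trans i j hij y = 0 := IsNilpotent.eq_zero ⟨n, hj⟩
  rw [← of_trans i j hij, h0, map_zero]

theorem isReduced_iff_H [IsLocalRing R] [IsLocalHom (algebraMap R Ω)] :
    IsReduced R ↔ IsReduced (H R Ω) := by
  constructor
  · intro h
    exact isReduced_H
  · intro h
    exact isReduced_of_injective (algebraMap R (H R Ω))
      (FaithfulSMul.algebraMap_injective R (H R Ω))

end Groth.Agent.Lib.Helper37.Hz
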