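import Groth.Agent.Lib.Helper37.Hz9
import Groth.Agent.Lib.Helper37.Hz11
import Groth.Agent.Lib.Helper37.Hz12

/-!
# Henselization project, part 13: dimension and reducedness of (strict) henselizations
-/

set_option autoImplicit false
universe u

namespace Groth.Agent.Lib.Helper37.Hz

open IsLocalRing

variable (R : Type u) [CommRing R] [IsLocalRing R]
variable (S : Type u) [CommRing S] [IsLocalRing S] [Algebra R S] [IsLocalHom (algebraMap R S)]

theorem ringKrullDim_of_isHenselization [Hensel.IsHenselization R S] :
    ringKrullDim S = ringKrullDim R := by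
  obtain ⟨e⟩ := nonempty_algEquiv_Hens R S
  rw [ringKrullDim_eq_of_ringEquiv e.toRingEquiv]
  exact ringKrullDim_H

theorem ringKrullDim_of_isStrictHenselization [Hensel.IsStrictHenselization R S] :
    ringKrullDim S = ringKrullDim R := by
  obtain ⟨e⟩ := nonempty_algEquiv_SHens R S
  rw [ringKrullDim_eq_of_ringEquiv e.toRingEquiv]
  exact ringKrullDim_H

theorem isReduced_iff_of_isHenselization [Hensel.IsHenselization R S] :
    IsReduced R ↔ IsReduced S := by
  obtain ⟨e⟩ := nonempty_algEquiv_Hens R S
  rw [isReduced_iff_H (Ω := ResidueField R)]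
  constructor
  · intro h
    exact isReduced_of_injective e.toRingEquiv.toRingHom e.injective
  · intro h
    exact isReduced_of_injective e.symm.toRingEquiv.toRingHom e.symm.injective

theorem isReduced_iff_of_isStrictHenselization [Hensel.IsStrictHenselization R S] :
    IsReduced R ↔ IsReduced S := by
  obtain ⟨e⟩ := nonempty_algEquiv_SHens R S
  rw [isReduced_iff_H (Ω := SepCl R)]
  constructor
  · intro h
    exact isReduced_of_injective e.toRingEquiv.toRingHom e.injective
  · intro h
    exact isReduced_of_injective e.symm.toRingEquiv.toRingHom e.symm.injective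

end Groth.Agent.Lib.Helper37.Hz
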