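import Groth.Agent.Lib.Helper37.Hz19
import Groth.Agent.Lib.Helper37.Hz13

/-!
# Henselization project, part 20: Noetherian and regular transfer to (strict) henselizations
-/

set_option autoImplicit false
universe u

namespace Groth.Agent.Lib.Helper37.Hz

open IsLocalRing Groth.Agent.Lib.Helper83

section Hens

variable (R : Type u) [CommRing R] [IsLocalRing R]
variable (S : Type u) [CommRing S] [IsLocalRing S] [Algebra R S] [IsLocalHom (algebraMap R S)]
  [hS : Hensel.IsHenselization R S]

theorem isNoetherianRing_iff_of_isHenselization : IsNoetherianRing R ↔ IsNoetherianRing S := by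
  constructor
  · intro h
    obtain ⟨e⟩ := nonempty_algEquiv_Hens R S
    exact isNoetherianRing_of_ringEquiv (Hens R) e.symm.toRingEquiv
  · intro h
    have := faithfullyFlat_of_isHenselization R S
    exact isNoetherianRing_of_faithfullyFlat R S

theorem isRegularLocalRing_iff_of_isHenselization [IsNoetherianRing R] :
    IsRegularLocalRing R ↔ IsRegularLocalRing S := by
  have : IsNoetherianRing S := (isNoetherianRing_iff_of_isHenselization R S).mp inferInstance
  have : Module.FaithfullyFlat R S := faithfullyFlat_of_isHenselization R S
  exact isRegularLocalRing_iff_of_flat_of_map_maximalIdeal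
    (map_maximalIdeal_of_isHenselization R S)

end Hens

section SHens

variable (R : Type u) [CommRing R] [IsLocalRing R]
variable (S : Type u) [CommRing S] [IsLocalRing S] [Algebra R S] [IsLocalHom (algebraMap R S)]
  [hS : Hensel.IsStrictHenselization R S]

theorem isNoetherianRing_iff_of_isStrictHenselization :
    IsNoetherianRing R ↔ IsNoetherianRing S := by
  constructor
  · intro h
    obtain ⟨e⟩ := nonempty_algEquiv_SHens R S
    exact isNoetherianRing_of_ringEquiv (SHens R) e.symm.toRingEquiv
  · intro h
    have := faithfullyFlat_of_isStrictHenselization R S
    exact isNoetherianRing_of_faithfullyFlat R S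

theorem isRegularLocalRing_iff_of_isStrictHenselization [IsNoetherianRing R] :
    IsRegularLocalRing R ↔ IsRegularLocalRing S := by
  have : IsNoetherianRing S :=
    (isNoetherianRing_iff_of_isStrictHenselization R S).mp inferInstance
  have : Module.FaithfullyFlat R S := faithfullyFlat_of_isStrictHenselization R S
  exact isRegularLocalRing_iff_of_flat_of_map_maximalIdeal
    (map_maximalIdeal_of_isStrictHenselization R S)

end SHens

end Groth.Agent.Lib.Helper37.Hz
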