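import Groth.Agent.Lib.Helper37.Hz16
import Groth.Agent.Lib.Helper4.IndEtaleComp

/-!
# Henselization project, part 17: the limit ring is ind-étale

* `exists_factor_of_finitePresentation`: a map from a finitely presented algebra into a
  "filtered union" of algebras factors through a stage.
* `hasFactorization_of_isLocalization`: localizations have the étale factorization property.
* `hasFactorization_H`, `isIndEtale_H`.
-/

set_option autoImplicit false
universe u

namespace Groth.Agent.Lib.Helper37.Hz

open IsLocalRing Groth.Agent.Lib.Helper4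

section General

variable {C : Type u} [CommRing C] {L : Type u} [CommRing L] [Algebra C L]
variable {ι : Type*} (G : ι → Type u) [∀ i, CommRing (G i)] [∀ i, Algebra C (G i)]
variable (o : ∀ i, G i →ₐ[C] L)

/-- A map from a finitely presented algebra into a filtered union of algebras factors through a
stage. -/
theorem exists_factor_of_finitePresentation
    (h1 : ∀ (n : ℕ) (x : Fin n → L), ∃ (i : ι) (y : Fin n → G i), ∀ k, o i (y k) = x k)
    (h2 : ∀ (i : ι) (y : G i), o i y = 0 →
      ∃ (j : ι) (f : G i →ₐ[C] G j), (o j).comp f = o i ∧ f y = 0)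
    (P : Type u) [CommRing P] [Algebra C P] [Algebra.FinitePresentation C P] (φ : P →ₐ[C] L) :
    ∃ (i : ι) (ψ : P →ₐ[C] G i), (o i).comp ψ = φ := by
  classical
  obtain ⟨n, g, hg, S, hS⟩ := Algebra.FinitePresentation.out (R := C) (A := P)
  obtain ⟨i₀, y₀, hy₀⟩ := h1 n (fun k => φ (g (MvPolynomial.X k)))
  have key : ∀ T : Finset (MvPolynomial (Fin n) C), (∀ f ∈ T, g f = 0) →
      ∃ (i : ι) (a : MvPolynomial (Fin n) C →ₐ[C] G i), (o i).comp a = φ.comp g ∧
        ∀ f ∈ T, a f = 0 := by
    intro T
    induction T using Finset.induction_on with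
    | empty =>
      intro _
      refine ⟨i₀, MvPolynomial.aeval y₀, ?_, by simp⟩
      apply MvPolynomial.algHom_ext
      intro k
      simp [hy₀]
    | insert f₀ T _ ih =>
      intro hT
      obtain ⟨i, a, ha, haT⟩ := ih (fun f hf => hT f (Finset.mem_insert_of_mem hf))
      have h0 : o i (a f₀) = 0 := by
        have := congrArg (fun m => m f₀) ha
        simp only [AlgHom.comp_apply] at this
        rw [this, hT f₀ (Finset.mem_insert_self _ _), map_zero]
      obtain ⟨j, f, hf, hfy⟩ := h2 i (a f₀) h0
      refine ⟨j, f.comp a, ?_, ?_⟩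
      · rw [← AlgHom.comp_assoc, hf, ha]
      · intro p hp
        rcases Finset.mem_insert.mp hp with rfl | hp
        · exact hfy
        · rw [AlgHom.comp_apply, haT p hp, map_zero]
  have hSg : ∀ f ∈ S, g f = 0 := by
    intro f hf
    have : f ∈ RingHom.ker g.toRingHom := hS ▸ Ideal.subset_span hf
    exact this
  obtain ⟨i, a, ha, haS⟩ := key S hSg
  have hker : ∀ p : MvPolynomial (Fin n) C, g p = 0 → a p = 0 := by
    intro p hp
    have hp' : p ∈ Ideal.span (S : Set (MvPolynomial (Fin n) C)) := by
      rw [hS]; exact hp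
    have : Ideal.span (S : Set (MvPolynomial (Fin n) C)) ≤ RingHom.ker a.toRingHom := by
      rw [Ideal.span_le]
      intro f hf
      exact haS f hf
    exact this hp'
  let e : (MvPolynomial (Fin n) C ⧸ RingHom.ker g.toRingHom) ≃ₐ[C] P :=
    Ideal.quotientKerAlgEquivOfSurjective hg
  let ψ₀ : (MvPolynomial (Fin n) C ⧸ RingHom.ker g.toRingHom) →ₐ[C] G i :=
    Ideal.Quotient.liftₐ _ a (fun p hp => hker p hp)
  refine ⟨i, ψ₀.comp e.symm.toAlgHom, ?_⟩
  ext p
  obtain ⟨q, rfl⟩ := hg p
  have h1 : e.symm (g q) = Ideal.Quotient.mk _ q := by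
    rw [AlgEquiv.symm_apply_eq]
    rfl
  have h2 : (ψ₀.comp e.symm.toAlgHom) (g q) = a q := by
    change ψ₀ (e.symm (g q)) = a q
    rw [h1]
    rfl
  have h3 := congrArg (fun m => m q) ha
  simp only [AlgHom.comp_apply] at h3
  rw [AlgHom.comp_apply, h2, h3]

end General

section Loc

variable (C : Type u) [CommRing C] (M : Submonoid C) (L : Type u) [CommRing L] [Algebra C L]
  [IsLocalization M L]

/-- the map `C[1/s] → M⁻¹C` for `s ∈ M` -/
noncomputable def awayTo (s : M) : Localization.Away (s : C) →ₐ[C] L :=
  IsLocalization.Away.liftAlgHom (S := Localization.Away (s : C)) (f := Algebra.ofId C L) (s : C)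
    (IsLocalization.map_units L s)

lemma awayTo_algebraMap (s : M) (c : C) :
    awayTo C M L s (algebraMap C _ c) = algebraMap C L c := by
  simp [awayTo]

include M in
theorem hasFactorization_of_isLocalization : HasFactorization (etaleClass C) L := by
  intro P _ _ _ φ
  have H1 : ∀ (n : ℕ) (x : Fin n → L), ∃ (i : M) (y : Fin n → Localization.Away (i : C)),
      ∀ k, awayTo C M L i (y k) = x k := by
    intro n x
    obtain ⟨b, hb⟩ := IsLocalization.exist_integer_multiples M (Finset.univ : Finset (Fin n)) x
    choose c hc using fun k => hb k (Finset.mem_univ k)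
    refine ⟨b, fun k => IsLocalization.mk' (Localization.Away (b : C)) (c k)
      (⟨b, Submonoid.mem_powers _⟩ : Submonoid.powers (b : C)), fun k => ?_⟩
    have hu : IsUnit (algebraMap C L b) := IsLocalization.map_units L b
    apply hu.mul_left_cancel
    change algebraMap C L b * awayTo C M L b (IsLocalization.mk' (Localization.Away (b : C)) (c k)
      (⟨b, Submonoid.mem_powers _⟩ : Submonoid.powers (b : C))) = algebraMap C L b * x k
    rw [← Algebra.smul_def (b : C) (x k), ← hc k, ← awayTo_algebraMap C M L b (c k),
      ← IsLocalization.mk'_spec' (Localization.Away (b : C)) (c k)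
        (⟨b, Submonoid.mem_powers _⟩ : Submonoid.powers (b : C)), map_mul, awayTo_algebraMap]
  have H2 : ∀ (i : M) (y : Localization.Away (i : C)), awayTo C M L i y = 0 →
      ∃ (j : M) (f : Localization.Away (i : C) →ₐ[C] Localization.Away (j : C)),
        (awayTo C M L j).comp f = awayTo C M L i ∧ f y = 0 := by
    intro s y hy
    obtain ⟨⟨c, p⟩, hcp⟩ := IsLocalization.surj (Submonoid.powers (s : C)) y
    have h0 : algebraMap C L c = 0 := by
      rw [← awayTo_algebraMap C M L s c, ← hcp, map_mul, hy, zero_mul]
    obtain ⟨t, ht⟩ := (IsLocalization.map_eq_zero_iff M L c).mp h0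
    have hus : IsUnit (algebraMap C (Localization.Away ((s * t : M) : C)) (s : C)) := by
      have h1 : IsUnit (algebraMap C (Localization.Away ((s * t : M) : C)) ((s * t : M) : C)) :=
        IsLocalization.Away.algebraMap_isUnit _
      rw [Submonoid.coe_mul, map_mul] at h1
      exact isUnit_of_mul_isUnit_left h1
    have hut : IsUnit (algebraMap C (Localization.Away ((s * t : M) : C)) (t : C)) := by
      have h1 : IsUnit (algebraMap C (Localization.Away ((s * t : M) : C)) ((s * t : M) : C)) :=
        IsLocalization.Away.algebraMap_isUnit _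
      rw [Submonoid.coe_mul, map_mul] at h1
      exact isUnit_of_mul_isUnit_right h1
    let f : Localization.Away (s : C) →ₐ[C] Localization.Away ((s * t : M) : C) :=
      IsLocalization.Away.liftAlgHom (S := Localization.Away (s : C))
        (f := Algebra.ofId C _) (s : C) hus
    refine ⟨s * t, f, ?_, ?_⟩
    · apply IsLocalization.algHom_ext (Submonoid.powers (s : C))
      ext
    · have hup : IsUnit (algebraMap C (Localization.Away ((s * t : M) : C)) (p : C)) := by
        obtain ⟨m, hm⟩ := p.2
        rw [← hm, map_pow]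
        exact hus.pow m
      have h1 : f y * algebraMap C _ (p : C) = algebraMap C _ c := by
        have := congrArg f hcp
        rw [map_mul] at this
        simpa [f] using this
      have h2 : algebraMap C (Localization.Away ((s * t : M) : C)) c = 0 := by
        apply hut.mul_left_cancel
        rw [← map_mul, ht, map_zero, mul_zero]
      rw [h2] at h1
      exact (hup.mul_left_eq_zero).mp h1
  obtain ⟨s, ψ, hψ⟩ := exists_factor_of_finitePresentation
    (fun s : M => Localization.Away (s : C)) (awayTo C M L) H1 H2 P φ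
  exact ⟨Localization.Away (s : C), inferInstance, inferInstance,
      (inferInstance : Algebra.Etale C (Localization.Away (s : C))), ψ, awayTo C M L s, hψ⟩

end Loc

section HH

variable {R : Type u} [CommRing R] [IsLocalRing R] {Ω : Type u} [Field Ω] [Algebra R Ω]
  [IsLocalHom (algebraMap R Ω)]

omit [IsLocalRing R] [IsLocalHom (algebraMap R Ω)] in
theorem hasFactorization_locPt {C : Type u} [CommRing C] [Algebra R C] [Algebra.Etale R C]
    (θ : C →ₐ[R] Ω) : HasFactorization (etaleClass R) (LocPt θ) :=
  hasFactorization_of_etale_of_hasFactorization R C (LocPt θ)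
    (hasFactorization_of_isLocalization C (ptKer θ).primeCompl (LocPt θ))

variable (R Ω) in
theorem hasFactorization_H : HasFactorization (etaleClass R) (H R Ω) := by
  intro P _ _ _ φ
  have H1 : ∀ (n : ℕ) (x : Fin n → H R Ω), ∃ (i : Idx R Ω) (y : Fin n → G i),
      ∀ k, of i (y k) = x k := fun n x => exists_of_finite x
  have H2 : ∀ (i : Idx R Ω) (y : G i), of i y = 0 →
      ∃ (j : Idx R Ω) (f : G i →ₐ[R] G j), (of j).comp f = of i ∧ f y = 0 := by
    intro i y hy
    obtain ⟨k, hik, h⟩ := (of_eq_zero_iff y).mp hy
    refine ⟨k, trans i k hik, ?_, h⟩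
    ext x
    exact of_trans i k hik x
  obtain ⟨j, ψ, hψ⟩ := exists_factor_of_finitePresentation
    (fun i : Idx R Ω => G i) (fun i => of i) H1 H2 P φ
  obtain ⟨E, _, _, hE, α, β, hαβ⟩ := hasFactorization_locPt j.θ P ψ
  refine ⟨E, inferInstance, inferInstance, hE, α, (of j).comp β, ?_⟩
  rw [AlgHom.comp_assoc, hαβ, hψ]

variable (R Ω) in
theorem isIndEtale_H : EtPBC.IsIndEtale R (H R Ω) :=
  (isIndEtale_iff_hasFactorization _).mpr (hasFactorization_H R Ω)

theorem isIndEtale_of_algEquiv {S : Type u} [CommRing S] [Algebra R S] (e : S ≃ₐ[R] H R Ω) :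
    EtPBC.IsIndEtale R S :=
  (isIndEtale_iff_hasFactorization _).mpr
    (HasFactorization.of_retract e.toAlgHom e.symm.toAlgHom (by ext x; simp)
      (hasFactorization_H R Ω))

end HH

end Groth.Agent.Lib.Helper37.Hz
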