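import Groth.Agent.Lib.Helper37.Hz8

/-!
# Henselization project, part 9: uniqueness of the henselization and first properties
-/

set_option autoImplicit false
universe u

namespace Groth.Agent.Lib.Helper37.Hz

open IsLocalRing

variable (R : Type u) [CommRing R] [IsLocalRing R]
variable (S : Type u) [CommRing S] [IsLocalRing S] [Algebra R S] [IsLocalHom (algebraMap R S)]
  [hS : Hensel.IsHenselization R S]

/-- Any henselization is isomorphic, as an `R`-algebra, to the constructed one. -/
theorem nonempty_algEquiv_Hens : Nonempty (S ≃ₐ[R] Hens R) := by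
  haveI : HenselianLocalRing S := hS.henselian
  obtain ⟨g, hg, -⟩ := hS.universal (Hens R) (algebraMap R (Hens R)) inferInstance
  obtain ⟨g', hg', -⟩ := (isHenselization_Hens R).universal S (algebraMap R S) inferInstance
  have h1 : g'.comp g = RingHom.id S := by
    obtain ⟨k, -, hk⟩ := hS.universal S (algebraMap R S) inferInstance
    rw [hk (g'.comp g) (by change (g'.comp g).comp _ = _; rw [RingHom.comp_assoc, hg, hg']),
      hk (RingHom.id S) (RingHom.id_comp _)]
  have h2 : g.comp g' = RingHom.id (Hens R) := by
    obtain ⟨k, -, hk⟩ := (isHenselization_Hens R).universal (Hens R) (algebraMap R (Hens R))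
      inferInstance
    rw [hk (g.comp g') (by change (g.comp g').comp _ = _; rw [RingHom.comp_assoc, hg', hg]),
      hk (RingHom.id (Hens R)) (RingHom.id_comp _)]
  exact ⟨{ toFun := g
           invFun := g'
           left_inv := fun x => RingHom.congr_fun h1 x
           right_inv := fun x => RingHom.congr_fun h2 x
           map_mul' := map_mul g
           map_add' := map_add g
           commutes' := fun r => RingHom.congr_fun hg r }⟩

include hS in
theorem map_maximalIdeal_of_isHenselization :
    (maximalIdeal R).map (algebraMap R S) = maximalIdeal S := by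
  obtain ⟨e⟩ := nonempty_algEquiv_Hens R S
  have h3 : (maximalIdeal (Hens R)).map (e.symm.toRingEquiv : Hens R →+* S) = maximalIdeal S :=
    map_ringEquiv_maximalIdeal e.symm.toRingEquiv
  rw [← h3, ← map_maximalIdeal_H, Ideal.map_map]
  congr 1
  ext r
  exact (e.symm.commutes r).symm

include hS in
theorem faithfullyFlat_of_isHenselization : Module.FaithfullyFlat R S := by
  obtain ⟨e⟩ := nonempty_algEquiv_Hens R S
  exact Module.FaithfullyFlat.of_linearEquiv (R := R) (M := Hens R) (N := S) e.toLinearEquiv

include hS in
theorem exists_sub_mem_maximalIdeal_of_isHenselization (x : S) :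
    ∃ r : R, x - algebraMap R S r ∈ maximalIdeal S := by
  obtain ⟨e⟩ := nonempty_algEquiv_Hens R S
  obtain ⟨r, hr⟩ := residue_surjective (ptInf (e x))
  refine ⟨r, ?_⟩
  have h1 : e x - algebraMap R (Hens R) r ∈ maximalIdeal (Hens R) := by
    rw [← ptInf_eq_zero_iff, map_sub, AlgHom.commutes, sub_eq_zero]
    exact hr.symm
  have h2 : e (x - algebraMap R S r) ∈ maximalIdeal (Hens R) := by
    rwa [map_sub, e.commutes]
  rw [mem_maximalIdeal, mem_nonunits_iff] at h2 ⊢
  exact fun hu => h2 (hu.map e)

include hS in
theorem residueField_map_bijective_of_isHenselization :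
    Function.Bijective (ResidueField.map (algebraMap R S)) := by
  refine ⟨(ResidueField.map (algebraMap R S)).injective, ?_⟩
  intro z
  obtain ⟨x, rfl⟩ := residue_surjective z
  obtain ⟨r, hr⟩ := exists_sub_mem_maximalIdeal_of_isHenselization R S x
  refine ⟨residue R r, ?_⟩
  rw [ResidueField.map_residue]
  rw [← residue_eq_zero_iff, map_sub, sub_eq_zero] at hr
  exact hr.symm

include hS in
theorem exists_sub_mem_map_pow_of_isHenselization (n : ℕ) (x : S) :
    ∃ r : R, x - algebraMap R S r ∈ (maximalIdeal R ^ n).map (algebraMap R S) := by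
  induction n generalizing x with
  | zero =>
    exact ⟨0, by rw [pow_zero, Ideal.one_eq_top, Ideal.map_top]; exact Submodule.mem_top⟩
  | succ n ih =>
    obtain ⟨r, hr⟩ := ih x
    suffices h : ∀ y ∈ (maximalIdeal R ^ n).map (algebraMap R S),
        ∃ r' : R, y - algebraMap R S r' ∈ (maximalIdeal R ^ (n + 1)).map (algebraMap R S) by
      obtain ⟨r', hr'⟩ := h _ hr
      refine ⟨r + r', ?_⟩
      have : x - algebraMap R S (r + r') = x - algebraMap R S r - algebraMap R S r' := by
        rw [map_add]; ring
      rwa [this]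
    intro y hy
    refine Submodule.span_induction ?_ ?_ ?_ ?_ hy
    · rintro _ ⟨a, ha, rfl⟩
      exact ⟨a, by rw [sub_self]; exact Ideal.zero_mem _⟩
    · exact ⟨0, by rw [map_zero, sub_zero]; exact Ideal.zero_mem _⟩
    · rintro y₁ y₂ - - ⟨r₁, h₁⟩ ⟨r₂, h₂⟩
      refine ⟨r₁ + r₂, ?_⟩
      have : y₁ + y₂ - algebraMap R S (r₁ + r₂) =
          (y₁ - algebraMap R S r₁) + (y₂ - algebraMap R S r₂) := by rw [map_add]; ring
      rw [this]
      exact Ideal.add_mem _ h₁ h₂
    · rintro s y₁ hy₁ ⟨r₁, h₁⟩
      obtain ⟨t, ht⟩ := exists_sub_mem_maximalIdeal_of_isHenselization R S s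
      rw [← map_maximalIdeal_of_isHenselization R S] at ht
      refine ⟨t * r₁, ?_⟩
      have : s • y₁ - algebraMap R S (t * r₁) =
          (s - algebraMap R S t) * y₁ + algebraMap R S t * (y₁ - algebraMap R S r₁) := by
        rw [map_mul, smul_eq_mul]; ring
      rw [this]
      apply Ideal.add_mem
      · have : (maximalIdeal R ^ (n + 1)).map (algebraMap R S) =
            (maximalIdeal R).map (algebraMap R S) * (maximalIdeal R ^ n).map (algebraMap R S) := by
          rw [← Ideal.map_mul, pow_succ']
        rw [this]
        exact Ideal.mul_mem_mul ht hy₁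
      · exact Ideal.mul_mem_left _ _ h₁

end Groth.Agent.Lib.Helper37.Hz
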