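import Groth.Agent.Lib.Helper37.Hensel
import Mathlib.LinearAlgebra.Matrix.Charpoly.LinearMap
import Mathlib.LinearAlgebra.Matrix.Charpoly.Basic
import Mathlib.RingTheory.Henselian
import Mathlib.RingTheory.Nakayama

/-!
Core of the theory of Henselian pairs (Mathlib's `HenselianRing`), by helper37.

Main result of this file: `exists_idempotent_of_section`.  If `(A, I)` is a Henselian pair,
`B` is a module-finite `A`-algebra, `σ : B → A/I` is an `A`-algebra map and `θ ∈ B` is an element
with `σ θ = 1` and `θ * ker σ ⊆ IB` (so that `θ` is an idempotent modulo `IB` cutting out the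
section `σ`), then there is an honest idempotent `e ∈ B` with `e ≡ θ` modulo `IB` and `eB = Ae`.

The proof applies the simple-root lifting property to the characteristic polynomial of a matrix
representing multiplication by `θ`; modulo `I` this matrix has rank one.
-/

namespace Groth.Agent.Lib.Helper37

open Polynomial

section aeval

variable {A : Type*} [CommRing A] (I : Ideal A) {B : Type*} [CommRing B] [Algebra A B]

/-- If all coefficients of `p` lie in `I`, then `aeval θ p ∈ IB`. -/
theorem aeval_mem_map_of_coeff_mem (θ : B) (p : A[X]) (hp : ∀ i, p.coeff i ∈ I) :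
    aeval θ p ∈ I.map (algebraMap A B) := by
  rw [aeval_eq_sum_range]
  refine Submodule.sum_mem _ fun i _ => ?_
  rw [Algebra.smul_def]
  exact Ideal.mul_mem_right _ _ (Ideal.mem_map_of_mem _ (hp i))

/-- Polynomials which agree modulo `I` have values which agree modulo `IB`. -/
theorem aeval_sub_aeval_mem_map (θ : B) (p q : A[X])
    (h : p.map (Ideal.Quotient.mk I) = q.map (Ideal.Quotient.mk I)) :
    aeval θ p - aeval θ q ∈ I.map (algebraMap A B) := by
  rw [← map_sub]
  apply aeval_mem_map_of_coeff_mem
  intro i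
  rw [coeff_sub, ← Ideal.Quotient.eq]
  have := congr(($h).coeff i)
  simpa [coeff_map] using this

/-- Cayley-Hamilton for a generating family: if the matrix `M` represents multiplication by `θ`
with respect to a generating family, then `θ` is a root of the characteristic polynomial. -/
theorem aeval_charpoly_eq_zero_of_represents {ι : Type*} [Fintype ι] [DecidableEq ι] (b : ι → B)
    (hb : Submodule.span A (Set.range b) = ⊤) (M : Matrix ι ι A) (θ : B)
    (hM : M.Represents b (Algebra.lmul A B θ)) : aeval θ M.charpoly = 0 := by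
  have h1 : aeval (Algebra.lmul A B θ) M.charpoly = 0 := by
    let M' : Matrix.isRepresentation A b := ⟨M, _, hM⟩
    have h2 : Matrix.isRepresentation.toEnd A b hb M' = Algebra.lmul A B θ :=
      Matrix.isRepresentation.eq_toEnd_of_represents A b hb M' hM
    rw [← h2, Polynomial.aeval_algHom_apply,
      ← map_zero (Matrix.isRepresentation.toEnd A b hb)]
    congr 1
    ext1
    rw [Polynomial.aeval_subalgebra_coe, Matrix.aeval_self_charpoly, Subalgebra.coe_zero]
  rw [Polynomial.aeval_algHom_apply] at h1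
  have := congr($h1 1)
  simpa using this

end aeval


/-- **Key lemma.** Let `(A, I)` be a Henselian pair, `B` a module-finite `A`-algebra,
`σ : B → A/I` an `A`-algebra map and `θ ∈ B` with `σ θ = 1` and `θ * ker σ ⊆ IB`.  Then there is an
idempotent `e ∈ B` with `e ≡ θ` modulo `IB` and `eB = Ae`. -/
theorem exists_idempotent_of_section {A : Type*} [CommRing A] (I : Ideal A)
    [hI : HenselianRing A I]
    {B : Type*} [CommRing B] [Algebra A B] [Module.Finite A B]
    (σ : B →ₐ[A] A ⧸ I) (θ : B) (hθ1 : σ θ = 1)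
    (hθ : ∀ x, σ x = 0 → θ * x ∈ I.map (algebraMap A B)) :
    ∃ e : B, IsIdempotentElem e ∧ e - θ ∈ I.map (algebraMap A B) ∧
      ∀ b : B, ∃ a : A, e * b = a • e := by
  classical
  set IB := I.map (algebraMap A B) with hIB
  -- σ kills IB
  have hσIB : ∀ x ∈ IB, σ x = 0 := by
    intro x hx
    have : IB ≤ RingHom.ker σ.toRingHom := by
      rw [hIB, Ideal.map_le_iff_le_comap]
      intro a ha
      rw [Ideal.mem_comap, RingHom.mem_ker]
      change σ (algebraMap A B a) = 0
      rw [AlgHom.commutes]
      exact Ideal.Quotient.eq_zero_iff_mem.mpr ha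
    exact this hx
  -- generators
  obtain ⟨n, s, hs⟩ := Module.Finite.exists_fin (R := A) (M := B)
  let b : Fin (n+1) → B := Fin.cons 1 s
  have hb : Submodule.span A (Set.range b) = ⊤ := by
    rw [eq_top_iff, ← hs]
    apply Submodule.span_mono
    rintro _ ⟨i, rfl⟩
    exact ⟨i.succ, by simp [b]⟩
  -- lifts of σ (b i)
  have hl : ∀ i, ∃ a : A, Ideal.Quotient.mk I a = σ (b i) :=
    fun i => Ideal.Quotient.mk_surjective _
  choose l hl using hl
  -- θ as a combination
  obtain ⟨u, hu⟩ : ∃ u : Fin (n+1) → A, ∑ i, u i • b i = θ := by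
    have : θ ∈ Submodule.span A (Set.range b) := hb ▸ Submodule.mem_top
    exact (Submodule.mem_span_range_iff_exists_fun A).mp this
  -- the error terms
  have hε : ∀ j, ∃ ε : Fin (n+1) → A, (∀ i, ε i ∈ I) ∧
      θ * b j - l j • θ = ∑ i, ε i • b i := by
    intro j
    have h1 : θ * b j - l j • θ ∈ IB := by
      have : θ * b j - l j • θ = θ * (b j - algebraMap A B (l j)) := by
        rw [Algebra.smul_def]; ring
      rw [this]
      apply hθ
      rw [map_sub, AlgHom.commutes, ← hl j]
      exact sub_self _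
    have h2 : θ * b j - l j • θ ∈ I • (Submodule.span A (Set.range b)) := by
      rw [hb, Ideal.smul_top_eq_map]; exact h1
    obtain ⟨a, ha, hsum⟩ := (Submodule.mem_ideal_smul_span_iff_exists_sum I b _).mp h2
    refine ⟨a, ha, ?_⟩
    rw [← hsum, Finsupp.sum_fintype]
    simp
  choose ε hεI hε using hε
  -- the matrix
  let M : Matrix (Fin (n+1)) (Fin (n+1)) A := Matrix.of fun i j => u i * l j + ε j i
  have hM : M.Represents b (Algebra.lmul A B θ) := by
    rw [Matrix.represents_iff']
    intro j
    have h3 : θ * b j = l j • θ + ∑ i, ε j i • b i := by rw [← hε j]; ring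
    simp only [M, Matrix.of_apply, add_smul, Finset.sum_add_distrib]
    change _ = θ * b j
    rw [h3, ← hu, Finset.smul_sum]
    congr 1
    apply Finset.sum_congr rfl
    intro i _
    rw [mul_comm, mul_smul]
  have hchar := aeval_charpoly_eq_zero_of_represents b hb M θ hM
  -- the characteristic polynomial modulo `I`
  have hMmap : M.map (Ideal.Quotient.mk I) =
      Matrix.vecMulVec (fun i => Ideal.Quotient.mk I (u i))
        (fun j => Ideal.Quotient.mk I (l j)) := by
    ext i j
    simp [M, Matrix.vecMulVec_apply, Ideal.Quotient.eq_zero_iff_mem.mpr (hεI j i)]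
  have hdot : (fun i => Ideal.Quotient.mk I (u i)) ⬝ᵥ (fun j => Ideal.Quotient.mk I (l j)) = 1 := by
    rw [← hθ1, ← hu, map_sum]
    simp only [dotProduct, hl, map_smul]
    apply Finset.sum_congr rfl
    intro i _
    rw [Algebra.smul_def]
    rfl
  have hχ : M.charpoly.map (Ideal.Quotient.mk I) = X ^ n * (X - 1) := by
    rw [← Matrix.charpoly_map, hMmap, Matrix.charpoly_vecMulVec, hdot]
    simp [pow_succ]
    ring
  -- the polynomial to which we apply Hensel
  set P : A[X] := X * M.charpoly with hP
  have hPmonic : P.Monic := monic_X.mul (Matrix.charpoly_monic M)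
  have hPmap : P.map (Ideal.Quotient.mk I) = X ^ (n + 1) * (X - 1) := by
    rw [hP, Polynomial.map_mul, hχ, map_X]; ring
  have hPθ : aeval θ P = 0 := by rw [hP, map_mul, hchar, mul_zero]
  have mk_eval : ∀ (p : A[X]) (a : A), Ideal.Quotient.mk I (p.eval a) =
      (p.map (Ideal.Quotient.mk I)).eval (Ideal.Quotient.mk I a) := by
    intro p a
    rw [eval_map, eval₂_hom]
  have hP1 : P.eval 1 ∈ I := by
    rw [← Ideal.Quotient.eq_zero_iff_mem, mk_eval, hPmap]
    simp
  have hP1' : IsUnit (Ideal.Quotient.mk I (P.derivative.eval 1)) := by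
    rw [mk_eval, ← derivative_map, hPmap]
    simp
  obtain ⟨α, hα, hα1⟩ := hI.is_henselian P hPmonic 1 hP1 hP1'
  -- factor `P = (X - α) ψ`
  set ψ : A[X] := P /ₘ (X - C α) with hψ
  have hfac : (X - C α) * ψ = P := mul_divByMonic_eq_iff_isRoot.mpr hα
  have hmkα : Ideal.Quotient.mk I α = 1 := by
    rw [← sub_eq_zero, ← map_one (Ideal.Quotient.mk I), ← map_sub]
    exact Ideal.Quotient.eq_zero_iff_mem.mpr hα1
  have hψmap : ψ.map (Ideal.Quotient.mk I) = X ^ (n + 1) := by
    have h1 : (X - C (1 : A ⧸ I)) * ψ.map (Ideal.Quotient.mk I) = (X - C 1) * X ^ (n + 1) := by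
      have := congr(Polynomial.map (Ideal.Quotient.mk I) $hfac)
      rw [Polynomial.map_mul, Polynomial.map_sub, map_X, map_C, hmkα, hPmap] at this
      rw [this, map_one]; ring
    exact (monic_X_sub_C (1 : A ⧸ I)).isRegular.left h1
  have hψα : IsUnit (ψ.eval α) := by
    apply isUnit_of_isUnit_mk hI.jac
    rw [mk_eval, hψmap, hmkα]
    simp
  obtain ⟨v, hv⟩ := hψα
  set w : B := aeval θ ψ with hw
  have h1 : (θ - algebraMap A B α) * w = 0 := by
    have := congr(aeval θ $hfac)
    rw [map_mul, map_sub, aeval_X, aeval_C, hPθ] at this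
    exact this
  obtain ⟨q, hq⟩ : (X - C α) ∣ ψ - C (ψ.eval α) := X_sub_C_dvd_sub_C_eval
  have h2 : w - algebraMap A B (ψ.eval α) = (θ - algebraMap A B α) * aeval θ q := by
    have := congr(aeval θ $hq)
    rw [map_sub, aeval_C, map_mul, map_sub, aeval_X, aeval_C] at this
    exact this
  have h3 : w * w = algebraMap A B (ψ.eval α) * w := by
    have : w * (w - algebraMap A B (ψ.eval α)) = 0 := by
      rw [h2, ← mul_assoc, mul_comm w, h1, zero_mul]
    linear_combination this
  have hvv : algebraMap A B ↑v⁻¹ * algebraMap A B (ψ.eval α) = 1 := by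
    rw [← map_mul, ← hv, Units.inv_mul, map_one]
  set e : B := (↑v⁻¹ : A) • w with he_def
  have he : IsIdempotentElem e := by
    change e * e = e
    simp only [he_def, Algebra.smul_def]
    calc _ = algebraMap A B ↑v⁻¹ * algebraMap A B ↑v⁻¹ * (w * w) := by ring
      _ = algebraMap A B ↑v⁻¹ * (algebraMap A B ↑v⁻¹ * algebraMap A B (ψ.eval α)) * w := by
        rw [h3]; ring
      _ = _ := by rw [hvv, mul_one]
  -- congruences
  have hθsq : ∀ k : ℕ, θ ^ (k + 1) - θ ∈ IB := by
    have h0 : θ * θ - θ ∈ IB := by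
      have : θ * θ - θ = θ * (θ - 1) := by ring
      rw [this]
      apply hθ
      rw [map_sub, hθ1, map_one, sub_self]
    intro k
    induction k with
    | zero => simp
    | succ k ih =>
      have : θ ^ (k + 1 + 1) - θ = θ * (θ ^ (k + 1) - θ) + (θ * θ - θ) := by ring
      rw [this]
      exact IB.add_mem (IB.mul_mem_left _ ih) h0
  have hwθ : w - θ ^ (n + 1) ∈ IB := by
    have := aeval_sub_aeval_mem_map I θ ψ (X ^ (n + 1)) (by rw [hψmap]; simp)
    simpa using this
  have hv1 : (↑v⁻¹ : A) - 1 ∈ I := by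
    rw [← Ideal.Quotient.eq_zero_iff_mem, map_sub, map_one, sub_eq_zero]
    have h4 : Ideal.Quotient.mk I (ψ.eval α) = 1 := by
      rw [mk_eval, hψmap, hmkα]; simp
    have h5 : Ideal.Quotient.mk I ↑v⁻¹ * Ideal.Quotient.mk I (ψ.eval α) = 1 := by
      rw [← map_mul, ← hv, Units.inv_mul, map_one]
    rwa [h4, mul_one] at h5
  have heθ : e - θ ∈ IB := by
    have : e - θ = algebraMap A B ((↑v⁻¹ : A) - 1) * w + (w - θ ^ (n + 1)) + (θ ^ (n + 1) - θ) := by
      rw [he_def, Algebra.smul_def, map_sub, map_one]; ring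
    rw [this]
    exact IB.add_mem (IB.add_mem (IB.mul_mem_right _ (Ideal.mem_map_of_mem _ hv1)) hwθ) (hθsq n)
  refine ⟨e, he, heθ, ?_⟩
  -- Nakayama: `eB = Ae`
  set Me : Submodule A B := Submodule.map (Algebra.lmul A B e) ⊤ with hMe
  have hMefg : Me.FG := Submodule.FG.map _ Module.Finite.fg_top
  have hsmul : ∀ z ∈ IB, e * z ∈ I • Me := by
    intro z hz
    rw [hMe, ← Submodule.map_smul'']
    refine ⟨z, ?_, rfl⟩
    rw [Ideal.smul_top_eq_map]
    exact hz
  have hle : Me ≤ Submodule.span A {e} ⊔ I • Me := by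
    rintro _ ⟨b', -, rfl⟩
    change e * b' ∈ _
    obtain ⟨a, ha⟩ := Ideal.Quotient.mk_surjective (σ b')
    have hy : σ (b' - algebraMap A B a) = 0 := by
      rw [map_sub, AlgHom.commutes, ← ha]
      exact sub_self _
    have hey : e * (b' - algebraMap A B a) ∈ IB := by
      have : e * (b' - algebraMap A B a) =
          (e - θ) * (b' - algebraMap A B a) + θ * (b' - algebraMap A B a) := by ring
      rw [this]
      exact IB.add_mem (IB.mul_mem_right _ heθ) (hθ _ hy)
    have hdecomp : e * b' = a • e + e * (e * (b' - algebraMap A B a)) := by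
      rw [← mul_assoc, he.eq, Algebra.smul_def]; ring
    rw [hdecomp]
    exact Submodule.add_mem_sup (Submodule.smul_mem _ _ (Submodule.mem_span_singleton_self e))
      (hsmul _ hey)
  have hfin := Submodule.le_of_le_smul_of_le_jacobson_bot hMefg hI.jac hle
  intro b'
  have : e * b' ∈ Submodule.span A {e} := hfin ⟨b', Submodule.mem_top, rfl⟩
  obtain ⟨a, ha⟩ := Submodule.mem_span_singleton.mp this
  exact ⟨a, ha.symm⟩


end Groth.Agent.Lib.Helper37
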