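import Groth.Agent.Lib.Helper37.HenselIdem
import Mathlib.LinearAlgebra.Matrix.Charpoly.Coeff
import Mathlib.LinearAlgebra.Matrix.Charpoly.Basic

/-!
Lifting idempotent matrices and finite projective modules over Henselian pairs (by helper37).

* `charpoly_mul_charpoly_one_sub`: `χ_E χ_{1-E} = (X^2-X)^n` for an idempotent matrix.
* `exists_idempotent_matrix_lift`: idempotent matrices lift along `A → A/I`.
* `exists_finite_projective_lift`: finite projective `A/I`-modules lift to finite projective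
  `A`-modules (Stacks 0D4A, existence).
-/

namespace Groth.Agent.Lib.Helper37

open Polynomial Matrix

/-- For an idempotent matrix `E`, `χ_E · χ_{1-E} = (X^2 - X)^n`. -/
theorem charpoly_mul_charpoly_one_sub {R : Type*} [CommRing R] {n : ℕ}
    (E : Matrix (Fin n) (Fin n) R) (hE : E * E = E) :
    E.charpoly * (1 - E).charpoly = (X ^ 2 - X) ^ n := by
  have h1 : charmatrix E * charmatrix (1 - E) = (X ^ 2 - X : R[X]) • (1 : Matrix (Fin n) (Fin n) R[X]) := by
    simp only [charmatrix, map_sub, map_one]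
    set c := (C : R →+* R[X]).mapMatrix E with hc
    have hcc : c * c = c := by rw [hc, ← map_mul, hE]
    have hs : ∀ M : Matrix (Fin n) (Fin n) R[X], Matrix.scalar (Fin n) (X : R[X]) * M =
        M * Matrix.scalar (Fin n) (X : R[X]) := fun M => (Matrix.scalar_commute _ (fun _ => Commute.all _ _) M).eq
    have hX : Matrix.scalar (Fin n) (X : R[X]) = (X : R[X]) • (1 : Matrix (Fin n) (Fin n) R[X]) := by
      ext i j
      simp [Matrix.one_apply, Matrix.diagonal_apply]
    rw [hX]
    simp only [sub_mul, mul_sub, mul_one, one_mul, smul_mul_assoc, mul_smul_comm, hcc, sub_smul,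
      pow_two, mul_smul, smul_sub]
    abel
  have := congr(Matrix.det $h1)
  rw [Matrix.det_mul, Matrix.det_smul, Matrix.det_one, mul_one, Fintype.card_fin] at this
  exact this


/-- If the class of `x` in `R[X]/(p)` lies in `I·R[X]/(p)`, then `p̄ ∣ x̄` in `(R/I)[X]`. -/
theorem map_dvd_map_of_mk_mem_map {R : Type*} [CommRing R] (I : Ideal R) (p x : R[X])
    (h : AdjoinRoot.mk p x ∈ I.map (algebraMap R (AdjoinRoot p))) :
    p.map (Ideal.Quotient.mk I) ∣ x.map (Ideal.Quotient.mk I) := by
  have h1 : I.map (algebraMap R (AdjoinRoot p)) = (I.map (C : R →+* R[X])).map (AdjoinRoot.mk p) := by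
    rw [Ideal.map_map]
    rfl
  rw [h1, Ideal.mem_map_iff_of_surjective _ AdjoinRoot.mk_surjective] at h
  obtain ⟨x', hx', hxx'⟩ := h
  have h2 : AdjoinRoot.mk p (x - x') = 0 := by rw [map_sub, hxx', sub_self]
  rw [AdjoinRoot.mk_eq_zero] at h2
  obtain ⟨c, hc⟩ := h2
  have h3 : x'.map (Ideal.Quotient.mk I) = 0 := by
    rw [Ideal.mem_map_C_iff] at hx'
    ext k
    rw [coeff_map, coeff_zero]
    exact Ideal.Quotient.eq_zero_iff_mem.mpr (hx' k)
  refine ⟨c.map (Ideal.Quotient.mk I), ?_⟩
  have : x = x' + p * c := by rw [← hc]; ring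
  rw [this, Polynomial.map_add, Polynomial.map_mul, h3, zero_add]

/-- Idempotent matrices lift along `A → A/I` for a Henselian pair `(A, I)`. -/
theorem exists_idempotent_matrix_lift {R : Type*} [CommRing R] (I : Ideal R) [hI : HenselianRing R I]
    {n : ℕ} (E : Matrix (Fin n) (Fin n) (R ⧸ I)) (hE : E * E = E) :
    ∃ e : Matrix (Fin n) (Fin n) R, e * e = e ∧ e.map (Ideal.Quotient.mk I) = E := by
  let π := Ideal.Quotient.mk I
  -- an arbitrary lift
  let b : Matrix (Fin n) (Fin n) R := E.map (Function.surjInv Ideal.Quotient.mk_surjective)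
  have hb : b.map π = E := by
    ext i j
    simp only [b, Matrix.map_apply]
    exact Function.surjInv_eq Ideal.Quotient.mk_surjective _
  set p := b.charpoly with hp
  have hpm : p.Monic := Matrix.charpoly_monic b
  have hpmap : p.map π = E.charpoly := by rw [hp, ← Matrix.charpoly_map, hb]
  set q := (1 - b).charpoly with hq
  have hqmap : q.map π = (1 - E).charpoly := by
    rw [hq, ← Matrix.charpoly_map]
    congr 1
    have : (1 - b).map π = π.mapMatrix (1 - b) := rfl
    rw [this, map_sub, map_one, RingHom.mapMatrix_apply, hb]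
  have hpq : p.map π * q.map π = (X ^ 2 - X) ^ n := by
    rw [hpmap, hqmap]
    exact charpoly_mul_charpoly_one_sub E hE
  set k := n + 1 with hk
  have hcop : IsCoprime ((X : (R ⧸ I)[X]) ^ k) ((X - 1) ^ k) := by
    apply IsCoprime.pow
    exact ⟨1, -1, by ring⟩
  obtain ⟨ubar, vbar, huv⟩ := hcop
  obtain ⟨u, rfl⟩ := Polynomial.map_surjective _ Ideal.Quotient.mk_surjective ubar
  obtain ⟨v, rfl⟩ := Polynomial.map_surjective _ Ideal.Quotient.mk_surjective vbar
  set B := AdjoinRoot p
  have hfin : Module.Finite R B := hpm.finite_adjoinRoot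
  set t : B := AdjoinRoot.root p with ht
  have hpt : aeval t p = 0 := AdjoinRoot.aeval_eq p ▸ AdjoinRoot.mk_self
  set θ : B := aeval t (u * X ^ k) with hθ
  have hθθ : θ * θ - θ ∈ I.map (algebraMap R B) := by
    have h1 : θ * θ - θ = aeval t (u * X ^ k * (u * X ^ k) - u * X ^ k) -
        aeval t (- (u * v) * (X ^ 2 - X) * q * p) := by
      rw [map_mul (aeval t) _ p, hpt, mul_zero, sub_zero, map_sub, map_mul]
    rw [h1]
    apply aeval_sub_aeval_mem_map I t
    simp only [Polynomial.map_sub, Polynomial.map_mul, Polynomial.map_pow, Polynomial.map_neg,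
      map_X]
    have h2 : (X ^ 2 - X : (R ⧸ I)[X]) * q.map π * p.map π = (X ^ 2 - X) ^ k := by
      rw [mul_assoc, mul_comm (q.map π), hpq, hk, pow_succ' _ n]
    have h3 : ((X : (R ⧸ I)[X]) ^ 2 - X) ^ k = X ^ k * (X - 1) ^ k := by
      rw [← mul_pow]; congr 1; ring
    have h4 : -(u.map π * v.map π) * (X ^ 2 - X) * q.map π * p.map π =
        -(u.map π * v.map π) * (X ^ k * (X - 1) ^ k) := by
      rw [← h3, ← h2]; ring
    rw [h4]
    linear_combination (u.map π * X ^ k) * huv
  obtain ⟨ε, hε, hεθ⟩ := exists_idempotent_lift I θ hθθ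
  obtain ⟨Epoly, rfl⟩ := AdjoinRoot.mk_surjective ε
  have hdvd : p ∣ Epoly * Epoly - Epoly := by
    rw [← AdjoinRoot.mk_eq_zero, map_sub, map_mul, sub_eq_zero]
    exact hε
  have hdvd2 : p.map π ∣ (Epoly - u * X ^ k).map π := by
    apply map_dvd_map_of_mk_mem_map I
    rw [map_sub]
    have : AdjoinRoot.mk p (u * X ^ k) = θ := by rw [hθ, AdjoinRoot.aeval_eq]
    rw [this]
    exact hεθ
  refine ⟨aeval b Epoly, ?_, ?_⟩
  · obtain ⟨c, hc⟩ := hdvd
    have h5 : aeval b (Epoly * Epoly - Epoly) = 0 := by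
      rw [hc, map_mul, hp, Matrix.aeval_self_charpoly, zero_mul]
    rw [map_sub, map_mul, sub_eq_zero] at h5
    exact h5
  · have hcomm : (algebraMap (R ⧸ I) (Matrix (Fin n) (Fin n) (R ⧸ I))).comp π =
        (π.mapMatrix).comp (algebraMap R (Matrix (Fin n) (Fin n) R)) := by
      ext r i j
      simp [Matrix.algebraMap_matrix_apply]
      split_ifs <;> simp
    have h6 := Polynomial.map_aeval_eq_aeval_map hcomm Epoly b
    rw [RingHom.mapMatrix_apply, RingHom.mapMatrix_apply] at h6
    rw [h6, hb]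
    -- evaluate at `E`
    obtain ⟨c, hc⟩ := hdvd2
    have h7 : Epoly.map π = (u * X ^ k).map π + p.map π * c := by
      rw [← hc, Polynomial.map_sub]; ring
    rw [h7, map_add, map_mul, hpmap, Matrix.aeval_self_charpoly, zero_mul, add_zero,
      Polynomial.map_mul, Polynomial.map_pow, map_X, map_mul, map_pow, aeval_X]
    have hEk : ∀ j : ℕ, E ^ (j + 1) = E := fun j => IsIdempotentElem.pow_succ_eq j hE
    have h8 := congr(aeval E ($huv * X))
    simp only [add_mul, one_mul, map_add, map_mul, map_pow, aeval_X, map_sub, map_one] at h8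
    have h9 : (E - 1) ^ k * E = 0 := by
      rw [hk, pow_succ, mul_assoc]
      have : (E - 1) * E = 0 := by rw [sub_mul, one_mul, hE, sub_self]
      rw [this, mul_zero]
    rw [mul_assoc _ ((E - 1) ^ k), h9, mul_zero, add_zero, mul_assoc, ← pow_succ, hEk] at h8
    rw [hk, hEk]
    exact h8


open TensorProduct in
/-- Every element of `(R/I) ⊗ P` is of the form `1 ⊗ x`. -/
theorem exists_one_tmul_eq {R : Type*} [CommRing R] (I : Ideal R) {P : Type*} [AddCommGroup P]
    [Module R P] (z : (R ⧸ I) ⊗[R] P) : ∃ x : P, z = 1 ⊗ₜ x := by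
  induction z using TensorProduct.induction_on with
  | zero => exact ⟨0, by simp⟩
  | tmul c x =>
    obtain ⟨r, rfl⟩ := Ideal.Quotient.mk_surjective c
    refine ⟨r • x, ?_⟩
    rw [← TensorProduct.smul_tmul]
    congr 1
    rw [Algebra.smul_def, mul_one]
    rfl
  | add a b ha hb =>
    obtain ⟨x, rfl⟩ := ha
    obtain ⟨y, rfl⟩ := hb
    exact ⟨x + y, by rw [TensorProduct.tmul_add]⟩

universe u

open TensorProduct in
/-- **Finite projective modules lift over a Henselian pair.** -/
theorem exists_finite_projective_lift {R : Type u} [CommRing R] (I : Ideal R) [HenselianRing R I]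
    (Q : Type u) [AddCommGroup Q] [Module (R ⧸ I) Q] [Module.Finite (R ⧸ I) Q]
    [Module.Projective (R ⧸ I) Q] :
    ∃ (P : Type u) (_ : AddCommGroup P) (_ : Module R P), Module.Finite R P ∧
      Module.Projective R P ∧ Nonempty (TensorProduct R (R ⧸ I) P ≃ₗ[R ⧸ I] Q) := by
  obtain ⟨n, fbar, gbar, hfsurj, -, hfg⟩ :=
    Module.Finite.exists_comp_eq_id_of_projective (R ⧸ I) Q
  set ebar : (Fin n → R ⧸ I) →ₗ[R ⧸ I] (Fin n → R ⧸ I) := gbar ∘ₗ fbar with hebar
  have hfe : ∀ w, fbar (ebar w) = fbar w := by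
    intro w
    have := congr($hfg (fbar w))
    simpa [hebar] using this
  set E := LinearMap.toMatrix' ebar with hEdef
  have hE : E * E = E := by
    rw [hEdef, ← LinearMap.toMatrix'_comp]
    congr 1
    apply LinearMap.ext
    intro w
    rw [LinearMap.comp_apply]
    conv_lhs => rw [hebar, LinearMap.comp_apply, hfe]
    rw [hebar, LinearMap.comp_apply]
  obtain ⟨e, he, heE⟩ := exists_idempotent_matrix_lift I E hE
  let π : (Fin n → R) →ₗ[R] (Fin n → R ⧸ I) :=
    LinearMap.compLeft ((Ideal.Quotient.mkₐ R I).toLinearMap) (Fin n)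
  have hπ : ∀ w j, π w j = Ideal.Quotient.mk I (w j) := fun w j => rfl
  have hπsurj : Function.Surjective π := by
    intro w
    refine ⟨fun j => Function.surjInv Ideal.Quotient.mk_surjective (w j), ?_⟩
    ext j
    rw [hπ]
    exact Function.surjInv_eq Ideal.Quotient.mk_surjective _
  have hπe : ∀ w, π (e.mulVec w) = ebar (π w) := by
    intro w
    ext j
    rw [hπ, RingHom.map_mulVec, heE, hEdef, LinearMap.toMatrix'_mulVec]
    rfl
  have hee : ∀ w, e.mulVec (e.mulVec w) = e.mulVec w := by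
    intro w
    rw [Matrix.mulVec_mulVec, he]
  set P : Submodule R (Fin n → R) := LinearMap.range (Matrix.toLin' e) with hP
  have hPmem : ∀ x : P, e.mulVec x.1 = x.1 := by
    rintro ⟨_, w, rfl⟩
    simp only [Matrix.toLin'_apply]
    exact hee w
  have hfinP : Module.Finite R P := Module.Finite.range _
  have hprojP : Module.Projective R P := by
    refine Module.Projective.of_split P.subtype
      (LinearMap.codRestrict P (Matrix.toLin' e) (fun w => ⟨w, rfl⟩)) ?_
    ext x : 1
    apply Subtype.ext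
    simp only [LinearMap.comp_apply, Submodule.subtype_apply, LinearMap.codRestrict_apply,
      Matrix.toLin'_apply, LinearMap.id_apply]
    exact hPmem x
  refine ⟨P, inferInstance, inferInstance, hfinP, hprojP, ?_⟩
  let _ : Module R Q := Module.compHom Q (Ideal.Quotient.mk I)
  have : IsScalarTower R (R ⧸ I) Q := IsScalarTower.of_algebraMap_smul fun r x => rfl
  let ψ : P →ₗ[R] Q := (fbar.restrictScalars R) ∘ₗ π ∘ₗ P.subtype
  have hψ : ∀ x : P, ψ x = fbar (π x.1) := fun x => rfl
  let Ψ : (R ⧸ I) ⊗[R] P →ₗ[R ⧸ I] Q := LinearMap.liftBaseChange (R ⧸ I) ψ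
  have hΨ : ∀ x : P, Ψ (1 ⊗ₜ x) = ψ x := fun x => LinearMap.liftBaseChange_one_tmul _ _ _
  have hsurj : Function.Surjective Ψ := by
    intro q
    obtain ⟨wbar, rfl⟩ := hfsurj q
    obtain ⟨w, rfl⟩ := hπsurj wbar
    refine ⟨1 ⊗ₜ ⟨e.mulVec w, w, rfl⟩, ?_⟩
    rw [hΨ, hψ, hπe, hfe]
  have hinj : Function.Injective Ψ := by
    rw [injective_iff_map_eq_zero]
    intro z hz
    obtain ⟨x, rfl⟩ := exists_one_tmul_eq I z
    rw [hΨ, hψ] at hz
    have h1 : ebar (π x.1) = 0 := by
      rw [hebar, LinearMap.comp_apply, hz, map_zero]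
    rw [← hπe, hPmem] at h1
    have h2 : ∀ j, x.1 j ∈ I := by
      intro j
      have := congr_fun h1 j
      rw [hπ] at this
      exact Ideal.Quotient.eq_zero_iff_mem.mp this
    let pj : Fin n → P := fun j => ⟨e.mulVec (Pi.single j 1), Pi.single j 1, rfl⟩
    have h3 : x = ∑ j, x.1 j • pj j := by
      apply Subtype.ext
      rw [Submodule.coe_sum]
      simp only [Submodule.coe_smul, pj]
      conv_lhs => rw [← hPmem x, ← Matrix.toLin'_apply, pi_eq_sum_univ' x.1]
      rw [map_sum]
      refine Finset.sum_congr rfl fun j _ => ?_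
      rw [map_smul, Matrix.toLin'_apply]
    rw [h3, TensorProduct.tmul_sum]
    refine Finset.sum_eq_zero fun j _ => ?_
    rw [← TensorProduct.smul_tmul]
    have : (x.1 j • (1 : R ⧸ I)) = 0 := by
      rw [Algebra.smul_def, mul_one]
      exact Ideal.Quotient.eq_zero_iff_mem.mpr (h2 j)
    rw [this, TensorProduct.zero_tmul]
  exact ⟨LinearEquiv.ofBijective Ψ ⟨hinj, hsurj⟩⟩

end Groth.Agent.Lib.Helper37
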