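import Groth.Agent.Lib.Helper37.HenselSplit
import Groth.Agent.Lib.Helper37.HenselProj
import Groth.Agent.Lib.Helper37.HenselCore

namespace Groth.Agent.Lib.Helper37

open Polynomial TensorProduct

/-- `R[X]/(f)` is quasi-finite over `R` at every prime lying over a prime `p` of `R` modulo which `f`
does not vanish. -/
theorem quasiFiniteAt_adjoinRoot {R : Type*} [CommRing R] (f : R[X]) (p : Ideal R) [p.IsPrime]
    (hf : f.map (algebraMap R p.ResidueField) ≠ 0)
    (q : Ideal (AdjoinRoot f)) [q.IsPrime] [q.LiesOver p] :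
    Algebra.QuasiFiniteAt R q := by
  set S := AdjoinRoot f
  set f' := f.map (algebraMap R p.ResidueField) with hf'
  have hfinS : Algebra.FiniteType R S :=
    Algebra.FiniteType.of_surjective (AdjoinRoot.mkₐ f) AdjoinRoot.mk_surjective
  -- the fibre is finite
  have hev : f'.eval₂ (algebraMap p.ResidueField (p.Fiber S))
      ((1 : p.ResidueField) ⊗ₜ[R] AdjoinRoot.root f) = 0 := by
    rw [hf', Polynomial.eval₂_map]
    have h1 : (algebraMap p.ResidueField (p.Fiber S)).comp (algebraMap R p.ResidueField) =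
        (Algebra.TensorProduct.includeRight : S →ₐ[R] p.Fiber S).toRingHom.comp
          (algebraMap R S) := by
      ext r
      simp [Algebra.TensorProduct.algebraMap_apply, Algebra.algebraMap_eq_smul_one,
        TensorProduct.smul_tmul]
    rw [h1]
    have h2 : ((1 : p.ResidueField) ⊗ₜ[R] AdjoinRoot.root f : p.Fiber S) =
        (Algebra.TensorProduct.includeRight : S →ₐ[R] p.Fiber S).toRingHom (AdjoinRoot.root f) := rfl
    have h5 : Polynomial.eval₂ (algebraMap R S) (AdjoinRoot.root f) f = 0 := AdjoinRoot.eval₂_root f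
    rw [h2, ← Polynomial.hom_eval₂, h5, map_zero]
  let Φ : AdjoinRoot f' →ₐ[p.ResidueField] p.Fiber S :=
    AdjoinRoot.liftAlgHom f' (Algebra.ofId _ _) (1 ⊗ₜ AdjoinRoot.root f) hev
  have hΦsurj : Function.Surjective Φ := by
    rw [← AlgHom.range_eq_top, eq_top_iff]
    rintro z -
    induction z using TensorProduct.induction_on with
    | zero => exact Subalgebra.zero_mem _
    | add a b ha hb => exact Subalgebra.add_mem _ ha hb
    | tmul c s =>
      obtain ⟨P, rfl⟩ := AdjoinRoot.mk_surjective s
      have : c ⊗ₜ[R] AdjoinRoot.mk f P =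
          c • Φ (AdjoinRoot.mk f' (P.map (algebraMap R p.ResidueField))) := by
        rw [AdjoinRoot.liftAlgHom_mk, Polynomial.eval₂_map]
        have h3 : ((Algebra.ofId p.ResidueField (p.Fiber S)) : p.ResidueField →+* p.Fiber S).comp
            (algebraMap R p.ResidueField) =
            (Algebra.TensorProduct.includeRight : S →ₐ[R] p.Fiber S).toRingHom.comp
              (algebraMap R S) := by
          ext r
          simp [Algebra.ofId_apply, Algebra.TensorProduct.algebraMap_apply,
            Algebra.algebraMap_eq_smul_one, TensorProduct.smul_tmul]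
        rw [h3]
        have h2 : ((1 : p.ResidueField) ⊗ₜ[R] AdjoinRoot.root f : p.Fiber S) =
            (Algebra.TensorProduct.includeRight : S →ₐ[R] p.Fiber S).toRingHom
              (AdjoinRoot.root f) := rfl
        rw [h2, ← Polynomial.hom_eval₂]
        have h4 : Polynomial.eval₂ (algebraMap R S) (AdjoinRoot.root f) P = AdjoinRoot.mk f P := by
          rw [← AdjoinRoot.aeval_eq]; rfl
        rw [h4]
        simp [TensorProduct.smul_tmul']
      rw [this]
      exact Subalgebra.smul_mem _ (AlgHom.mem_range_self _ _) c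
  have hfinAdj : Module.Finite p.ResidueField (AdjoinRoot f') :=
    (AdjoinRoot.powerBasis hf).finite
  have hfinFib : Module.Finite p.ResidueField (p.Fiber S) :=
    Module.Finite.of_surjective Φ.toLinearMap hΦsurj
  obtain ⟨Q, hQ⟩ := (PrimeSpectrum.preimageEquivFiber R S
    ⟨p, inferInstance⟩).symm.surjective ⟨⟨q, ‹_›⟩, PrimeSpectrum.ext (q.over_def p).symm⟩
  have hQq : Q.asIdeal.comap Algebra.TensorProduct.includeRight.toRingHom = q :=
    congr($(hQ).1.1)
  exact Algebra.QuasiFiniteAt.of_quasiFiniteAt_residueField p q Q.asIdeal hQq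



universe u

open IsLocalRing in
/-- Over a Henselian local ring, an element of `R[X]/(f)` (with `f` nonzero modulo `m`) that is
idempotent modulo `m` lifts to an idempotent `ε` such that `(R[X]/(f))/(1 - ε)` is finite. -/
theorem exists_idempotent_adjoinRoot (R : Type u) [CommRing R] [HenselianLocalRing R]
    (f : R[X]) (hfbar : f.map (residue R) ≠ 0) : ∀ (β : AdjoinRoot f)
    (_ : β * β - β ∈ (maximalIdeal R).map (algebraMap R (AdjoinRoot f))),
    ∃ ε : AdjoinRoot f, IsIdempotentElem ε ∧
      ε - β ∈ (maximalIdeal R).map (algebraMap R (AdjoinRoot f)) ∧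
      Module.Finite R (AdjoinRoot f ⧸ Ideal.span ({1 - ε} : Set (AdjoinRoot f))) := by
  set m := maximalIdeal R with hm
  set S := AdjoinRoot f
  have hfinS : Algebra.FiniteType R S :=
    Algebra.FiniteType.of_surjective (AdjoinRoot.mkₐ f) AdjoinRoot.mk_surjective
  set mS := m.map (algebraMap R S) with hmS
  intro β hββ
  -- (b) quasi-finiteness at the closed fibre
  have hfres : f.map (algebraMap R m.ResidueField) ≠ 0 := by
    intro h0
    apply hfbar
    ext i
    have := congr(($h0).coeff i)
    rw [coeff_map, coeff_zero, Ideal.algebraMap_residueField_eq_zero] at this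
    rw [coeff_map, coeff_zero]
    exact (residue_eq_zero_iff _).mpr this
  -- (c) the finite part
  obtain ⟨e, he, hfinA, heq⟩ := exists_idempotent_split R S
  have heq' : ∀ (q : Ideal S) [q.IsPrime], q.LiesOver m → e ∉ q := by
    intro q _ hq
    exact heq q hq (quasiFiniteAt_adjoinRoot f m hfres q)
  -- (d) `1 - e ∈ mS`
  have h1e : 1 - e ∈ mS := by
    have htop : mS ⊔ Ideal.span {e} = ⊤ := by
      by_contra hne
      obtain ⟨M, hM, hle⟩ := Ideal.exists_le_maximal _ hne
      have hMp : M.IsPrime := hM.isPrime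
      have hover : M.LiesOver m := by
        constructor
        have h1 : mS ≤ M := le_sup_left.trans hle
        rw [hmS, Ideal.map_le_iff_le_comap] at h1
        exact ((maximalIdeal.isMaximal R).eq_of_le (Ideal.comap_ne_top _ hM.ne_top) h1)
      exact heq' M hover (hle (Ideal.mem_sup_right (Ideal.subset_span rfl)))
    rw [Ideal.eq_top_iff_one, Submodule.mem_sup] at htop
    obtain ⟨x, hx, y, hy, hxy⟩ := htop
    rw [Ideal.mem_span_singleton'] at hy
    obtain ⟨c, rfl⟩ := hy
    have : 1 - e = (1 - e) * x := by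
      have := he.eq
      linear_combination (-(1 - e)) * hxy - c * this
    rw [this]
    exact Ideal.mul_mem_left _ _ hx
  set A₁ := S ⧸ Ideal.span ({1 - e} : Set S) with hA₁
  have hintA₁ : Algebra.IsIntegral R A₁ := Algebra.IsIntegral.of_finite R A₁
  have hmA₁ : m.map (algebraMap R A₁) = mS.map (Ideal.Quotient.mk (Ideal.span ({1 - e} : Set S))) := by
    rw [hmS, Ideal.map_map]
    rfl
  have hb₁ : Ideal.Quotient.mk (Ideal.span ({1 - e} : Set S)) β *
      Ideal.Quotient.mk (Ideal.span ({1 - e} : Set S)) β -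
      Ideal.Quotient.mk (Ideal.span ({1 - e} : Set S)) β ∈ m.map (algebraMap R A₁) := by
    rw [hmA₁, ← map_mul, ← map_sub]
    exact Ideal.mem_map_of_mem _ hββ
  obtain ⟨ε₁, hε₁, hε₁β⟩ := exists_idempotent_lift (A := R) (B := A₁) m _ hb₁
  obtain ⟨s₁, rfl⟩ := Ideal.Quotient.mk_surjective ε₁
  -- (f) the idempotent of `S`
  have hs₁ : s₁ * s₁ - s₁ ∈ Ideal.span ({1 - e} : Set S) := by
    rw [← Ideal.Quotient.eq_zero_iff_mem, map_sub, map_mul, sub_eq_zero]
    exact hε₁
  set ε : S := e * s₁ with hε
  have hεidem : IsIdempotentElem ε := by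
    rw [Ideal.mem_span_singleton'] at hs₁
    obtain ⟨c, hc⟩ := hs₁
    change ε * ε = ε
    have := he.eq
    rw [hε]
    linear_combination (s₁ * s₁ - c) * this - e * hc
  have hs₁β : s₁ - β ∈ mS := by
    rw [hmA₁, ← map_sub, Ideal.mem_map_iff_of_surjective _ Ideal.Quotient.mk_surjective] at hε₁β
    obtain ⟨y, hy, hys⟩ := hε₁β
    rw [Ideal.Quotient.eq, Ideal.mem_span_singleton'] at hys
    obtain ⟨c, hc⟩ := hys
    have : s₁ - β = y - c * (1 - e) := by rw [hc]; ring
    rw [this]
    exact mS.sub_mem hy (mS.mul_mem_left _ h1e)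
  have hεβ : ε - β ∈ mS := by
    have : ε - β = (s₁ - β) - (1 - e) * s₁ := by rw [hε]; ring
    rw [this]
    exact mS.sub_mem hs₁β (mS.mul_mem_right _ h1e)
  have hfinA' : Module.Finite R (S ⧸ Ideal.span ({1 - ε} : Set S)) := by
    have hle : Ideal.span ({1 - e} : Set S) ≤ Ideal.span ({1 - ε} : Set S) := by
      rw [Ideal.span_le, Set.singleton_subset_iff, SetLike.mem_coe, Ideal.mem_span_singleton']
      refine ⟨1 - e, ?_⟩
      have := he.eq
      rw [hε]
      linear_combination s₁ * this
    exact Module.Finite.of_surjective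
      ((Ideal.Quotient.factorₐ R hle).toLinearMap) (Ideal.Quotient.factor_surjective hle)
  exact ⟨ε, hεidem, hεβ, hfinA'⟩

open IsLocalRing in
theorem exists_factor_of_idempotent (R : Type u) [CommRing R] [IsLocalRing R]
    (f gt ht' u v : R[X]) (hgt : gt.Monic)
    (huv : u.map (residue R) * gt.map (residue R) + v.map (residue R) * ht'.map (residue R) = 1)
    (hf : f.map (residue R) = gt.map (residue R) * ht'.map (residue R))
    (hh0 : ht'.map (residue R) ≠ 0)
    (ε : AdjoinRoot f) (hε : IsIdempotentElem ε)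
    (hεβ : ε - AdjoinRoot.mk f (v * ht') ∈ (maximalIdeal R).map (algebraMap R (AdjoinRoot f)))
    [Module.Finite R (AdjoinRoot f ⧸ Ideal.span ({1 - ε} : Set (AdjoinRoot f)))] :
    ∃ g h : R[X], f = g * h ∧ g.Monic ∧ g.map (residue R) = gt.map (residue R) ∧
      h.map (residue R) = ht'.map (residue R) := by
  set m := maximalIdeal R with hm
  set κ := ResidueField R
  set π : R →+* κ := residue R with hπ
  have hπsurj : Function.Surjective π := residue_surjective
  have hgtπ : (gt.map π).Monic := hgt.map π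
  have hfbar : f.map π ≠ 0 := by rw [hf]; exact mul_ne_zero hgtπ.ne_zero hh0
  set mS := m.map (algebraMap R (AdjoinRoot f)) with hmS
  set d := gt.natDegree with hd
  obtain ⟨Et, hEt⟩ := AdjoinRoot.mk_surjective ε
  have h1 : f.map π ∣ (Et - v * ht').map π := by
    apply map_dvd_map_of_mk_mem_map m f
    rw [map_sub, hEt]; exact hεβ
  have h2 : f ∣ Et * Et - Et := by
    rw [← AdjoinRoot.mk_eq_zero, map_sub, map_mul, hEt, hε.eq, sub_self]
  have hgf : gt.map π ∣ f.map π := Dvd.intro _ hf.symm
  have hK2 : ∀ p : R[X], f ∣ Et * p → gt.map π ∣ p.map π := by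
    intro p hp
    have h3 : f.map π ∣ Et.map π * p.map π := by
      rw [← Polynomial.map_mul]; exact Polynomial.map_dvd π hp
    obtain ⟨w, hw⟩ := h1
    have h4 : gt.map π ∣ v.map π * ht'.map π * p.map π := by
      have : v.map π * ht'.map π * p.map π = Et.map π * p.map π - f.map π * w * p.map π := by
        simp only [Polynomial.map_sub, Polynomial.map_mul] at hw
        linear_combination (-p.map π) * hw
      rw [this]
      apply dvd_sub
      · exact hgf.trans h3
      · exact Dvd.dvd.mul_right (Dvd.dvd.mul_right hgf _) _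
    have h5 : p.map π = u.map π * gt.map π * p.map π + v.map π * ht'.map π * p.map π := by
      linear_combination (-(p.map π)) * huv
    rw [h5]
    exact dvd_add (Dvd.dvd.mul_right (Dvd.intro_left _ rfl) _) h4
  have hK3 : ∀ p : R[X], f ∣ Et * p → p.map π = 0 →
      ∃ c : R[X], c.map π = 0 ∧ p = (1 - Et) * p + f * c := by
    rintro p ⟨c, hc⟩ hp0
    refine ⟨c, ?_, by rw [← hc]; ring⟩
    have : f.map π * c.map π = 0 := by
      rw [← Polynomial.map_mul, ← hc, Polynomial.map_mul, hp0, mul_zero]
    exact (mul_eq_zero.mp this).resolve_left hfbar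
  -- the finite algebra `A = S/(1-ε)`
  set J : Ideal (AdjoinRoot f) := Ideal.span ({1 - ε} : Set (AdjoinRoot f)) with hJ
  set A := AdjoinRoot f ⧸ J with hA
  let φ : R[X] →ₐ[R] A := (Ideal.Quotient.mkₐ R J).comp (AdjoinRoot.mkₐ f)
  have hφapp : ∀ p, φ p = Ideal.Quotient.mk J (AdjoinRoot.mk f p) := fun p => rfl
  have hφsurj : Function.Surjective φ :=
    (Ideal.Quotient.mkₐ_surjective R J).comp AdjoinRoot.mk_surjective
  have hφ0 : ∀ p, φ p = 0 ↔ f ∣ Et * p := by
    intro p
    rw [hφapp, Ideal.Quotient.eq_zero_iff_mem, hJ, Ideal.mem_span_singleton',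
      ← AdjoinRoot.mk_eq_zero, map_mul, hEt]
    constructor
    · rintro ⟨c, hc⟩
      rw [← hc]
      have := hε.eq
      linear_combination (-c) * this
    · intro h
      exact ⟨AdjoinRoot.mk f p, by linear_combination (-1 : AdjoinRoot f) * h⟩
  -- `φ gt ∈ m A`
  have hφgt : φ gt ∈ m.map (algebraMap R A) := by
    have hmA : m.map (algebraMap R A) = mS.map (Ideal.Quotient.mk J) := by
      rw [hmS, Ideal.map_map]; rfl
    have h3 : AdjoinRoot.mk f (gt * (v * ht')) ∈ mS := by
      have := aeval_sub_aeval_mem_map m (AdjoinRoot.root f) (gt * (v * ht')) (v * f) (by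
        change Polynomial.map π _ = Polynomial.map π _
        simp only [Polynomial.map_mul, hf]; ring)
      rwa [AdjoinRoot.aeval_eq, AdjoinRoot.aeval_eq, map_mul _ v f, AdjoinRoot.mk_self, mul_zero,
        sub_zero] at this
    have h4 : AdjoinRoot.mk f gt = AdjoinRoot.mk f gt * (1 - ε) +
        (AdjoinRoot.mk f gt * (ε - AdjoinRoot.mk f (v * ht')) + AdjoinRoot.mk f (gt * (v * ht'))) := by
      simp only [map_mul]; ring
    rw [hφapp, h4, map_add, hmA]
    have h5 : Ideal.Quotient.mk J (AdjoinRoot.mk f gt * (1 - ε)) = 0 := by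
      rw [Ideal.Quotient.eq_zero_iff_mem]
      exact Ideal.mul_mem_left _ _ (Ideal.subset_span rfl)
    rw [h5, zero_add]
    exact Ideal.mem_map_of_mem _ (mS.add_mem (mS.mul_mem_left _ hεβ) h3)
  -- Nakayama: `A` is spanned by the images of `X^i`, `i < d`
  set N : Submodule R A := Submodule.map φ.toLinearMap (degreeLT R d) with hN
  have hNtop : (⊤ : Submodule R A) ≤ N := by
    apply Submodule.le_of_le_smul_of_le_jacobson_bot (I := m) Module.Finite.fg_top
      (IsLocalRing.maximalIdeal_le_jacobson _)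
    rintro a -
    obtain ⟨p, rfl⟩ := hφsurj a
    have hp : p = p %ₘ gt + gt * (p /ₘ gt) := (Polynomial.modByMonic_add_div p gt).symm
    rw [hp, map_add, map_mul]
    apply Submodule.add_mem_sup
    · refine ⟨p %ₘ gt, ?_, rfl⟩
      rw [SetLike.mem_coe, Polynomial.mem_degreeLT, hd, ← Polynomial.degree_eq_natDegree hgt.ne_zero]
      exact Polynomial.degree_modByMonic_lt p hgt
    · rw [Ideal.smul_top_eq_map]
      exact Ideal.mul_mem_right _ _ hφgt
  have hXd : φ (X ^ d) ∈ N := hNtop Submodule.mem_top
  obtain ⟨r, hr, hrφ⟩ := hXd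
  rw [SetLike.mem_coe, Polynomial.mem_degreeLT] at hr
  set g : R[X] := X ^ d - r with hg
  have hgmonic : g.Monic := Polynomial.monic_X_pow_sub hr
  have hgdeg : g.natDegree = d := by
    apply Polynomial.natDegree_eq_of_degree_eq_some
    rw [hg, Polynomial.degree_sub_eq_left_of_degree_lt (by rwa [Polynomial.degree_X_pow]),
      Polynomial.degree_X_pow]
  have hKg : f ∣ Et * g := by
    rw [← hφ0, hg, map_sub, sub_eq_zero]
    exact hrφ.symm
  have hgbar : g.map π = gt.map π := by
    apply Polynomial.eq_of_monic_of_dvd_of_natDegree_le hgtπ (hgmonic.map π) (hK2 g hKg)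
    rw [hgmonic.natDegree_map, hgt.natDegree_map, hgdeg]
  -- `g ∣ f` by Nakayama in `R[X]/(g)`
  have hfinM : Module.Finite R (AdjoinRoot g) := hgmonic.finite_adjoinRoot
  set I' : Ideal (AdjoinRoot g) :=
    Ideal.span {AdjoinRoot.mk g f, AdjoinRoot.mk g (1 - Et)} with hI'
  have hI'fg : (I'.restrictScalars R).FG :=
    Submodule.FG.restrictScalars (Submodule.fg_span (Set.toFinite _))
  have hmem : ∀ p : R[X], p.map π = 0 →
      AdjoinRoot.mk g p ∈ m.map (algebraMap R (AdjoinRoot g)) := by
    intro p hp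
    rw [← AdjoinRoot.aeval_eq]
    apply aeval_mem_map_of_coeff_mem
    intro i
    have := congr(($hp).coeff i)
    rw [coeff_map, coeff_zero] at this
    exact (residue_eq_zero_iff _).mp this
  have hle : I'.restrictScalars R ≤ m • I'.restrictScalars R := by
    rw [← Ideal.smul_restrictScalars]
    intro x hx
    rw [Submodule.restrictScalars_mem, hI', Ideal.mem_span_pair] at hx
    obtain ⟨c, c', rfl⟩ := hx
    obtain ⟨a', rfl⟩ := AdjoinRoot.mk_surjective c
    obtain ⟨b', rfl⟩ := AdjoinRoot.mk_surjective c'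
    set P : R[X] := a' * f + b' * (1 - Et) with hP
    set p : R[X] := P %ₘ g with hp
    have hxP : AdjoinRoot.mk g a' * AdjoinRoot.mk g f + AdjoinRoot.mk g b' * AdjoinRoot.mk g (1 - Et) =
        AdjoinRoot.mk g p := by
      rw [← map_mul, ← map_mul, ← map_add, ← hP, eq_comm, AdjoinRoot.mk_eq_mk]
      exact Polynomial.dvd_modByMonic_sub P g
    have hKP : f ∣ Et * P := by
      have : Et * P = (Et * a') * f - b' * (Et * Et - Et) := by rw [hP]; ring
      rw [this]
      exact dvd_sub (Dvd.intro_left _ rfl) (Dvd.dvd.mul_left h2 _)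
    have hKp : f ∣ Et * p := by
      have : Et * p = Et * P - (Et * g) * (P /ₘ g) := by
        rw [hp, Polynomial.modByMonic_eq_sub_mul_div P g]; ring
      rw [this]
      exact dvd_sub hKP (Dvd.dvd.mul_right hKg _)
    have hp0 : p.map π = 0 := by
      apply Polynomial.eq_zero_of_dvd_of_degree_lt (hK2 p hKp)
      calc (p.map π).degree ≤ p.degree := Polynomial.degree_map_le
        _ < g.degree := Polynomial.degree_modByMonic_lt P hgmonic
        _ = (gt.map π).degree := by
          rw [← hgbar, hgmonic.degree_map]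
    obtain ⟨c, hc0, hpc⟩ := hK3 p hKp hp0
    rw [Submodule.restrictScalars_mem, hxP, hpc, map_add, map_mul, map_mul]
    apply Submodule.add_mem
    · rw [mul_comm]
      exact Submodule.smul_mem_smul (hmem p hp0) (Ideal.subset_span (by simp))
    · rw [mul_comm]
      exact Submodule.smul_mem_smul (hmem c hc0) (Ideal.subset_span (by simp))
  have hbot : I'.restrictScalars R = ⊥ :=
    Submodule.eq_bot_of_le_smul_of_le_jacobson_bot m _ hI'fg hle
      (IsLocalRing.maximalIdeal_le_jacobson _)
  have hgf' : g ∣ f := by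
    rw [← AdjoinRoot.mk_eq_zero]
    have : AdjoinRoot.mk g f ∈ I'.restrictScalars R :=
      Ideal.subset_span (Set.mem_insert _ _)
    rw [hbot] at this
    exact this
  obtain ⟨h, hh⟩ := hgf'
  refine ⟨g, h, hh, hgmonic, hgbar, ?_⟩
  have h6 : gt.map π * h.map π = gt.map π * ht'.map π := by
    rw [← hf, hh, Polynomial.map_mul, hgbar]
  exact mul_left_cancel₀ hgtπ.ne_zero h6

open IsLocalRing in
/-- **Hensel's lemma for non-monic polynomials** over a Henselian local ring: a factorization of the
reduction into a monic factor and a coprime factor lifts. -/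
theorem exists_factor_lift_of_henselianLocalRing (R : Type u) [CommRing R] [HenselianLocalRing R]
    (f : R[X]) (g₀ h₀ : (ResidueField R)[X]) (hg : g₀.Monic)
    (hc : IsCoprime g₀ h₀) (hf : f.map (residue R) = g₀ * h₀) :
    ∃ g h : R[X], f = g * h ∧ g.Monic ∧ g.map (residue R) = g₀ ∧ h.map (residue R) = h₀ := by
  by_cases hh0 : h₀ = 0
  · subst hh0
    have hu : IsUnit g₀ := isCoprime_zero_right.mp hc
    have hg1 : g₀ = 1 := hg.eq_one_of_isUnit hu
    refine ⟨1, f, by rw [one_mul], monic_one, by rw [Polynomial.map_one, hg1], ?_⟩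
    rw [hf, mul_zero]
  have hπsurj : Function.Surjective (residue R) := residue_surjective
  have hfbar : f.map (residue R) ≠ 0 := by
    rw [hf]
    exact mul_ne_zero hg.ne_zero hh0
  obtain ⟨ubar, vbar, huv⟩ := hc
  obtain ⟨gt, rfl, -, hgt⟩ := Polynomial.lifts_and_natDegree_eq_and_monic
    ((Polynomial.mem_lifts _).mpr (Polynomial.map_surjective _ hπsurj g₀)) hg
  obtain ⟨ht', rfl⟩ := Polynomial.map_surjective _ hπsurj h₀
  obtain ⟨u, rfl⟩ := Polynomial.map_surjective _ hπsurj ubar
  obtain ⟨v, rfl⟩ := Polynomial.map_surjective _ hπsurj vbar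
  have hββ : AdjoinRoot.mk f (v * ht') * AdjoinRoot.mk f (v * ht') - AdjoinRoot.mk f (v * ht') ∈
      (maximalIdeal R).map (algebraMap R (AdjoinRoot f)) := by
    have h1 : AdjoinRoot.mk f (v * ht') * AdjoinRoot.mk f (v * ht') - AdjoinRoot.mk f (v * ht') =
        aeval (AdjoinRoot.root f) (v * ht' * (v * ht') - v * ht') -
          aeval (AdjoinRoot.root f) (-(u * v) * f) := by
      rw [AdjoinRoot.aeval_eq, AdjoinRoot.aeval_eq, map_mul _ _ f, AdjoinRoot.mk_self, mul_zero,
        sub_zero, map_sub, map_mul _ (v * ht') (v * ht')]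
    rw [h1]
    apply aeval_sub_aeval_mem_map (maximalIdeal R) (AdjoinRoot.root f)
    change Polynomial.map (residue R) _ = Polynomial.map (residue R) _
    simp only [Polynomial.map_sub, Polynomial.map_mul, Polynomial.map_neg, hf]
    linear_combination (v.map (residue R) * ht'.map (residue R)) * huv
  obtain ⟨ε, hε, hεβ, hfin⟩ := exists_idempotent_adjoinRoot R f hfbar _ hββ
  exact exists_factor_of_idempotent R f gt ht' u v hgt huv hf hh0 ε hε hεβ

end Groth.Agent.Lib.Helper37
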