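import Groth.Agent.Lib.Helper37.HenselPi
import Mathlib.RingTheory.Etale.QuasiFinite

/-!
Structure of finite type algebras over a Henselian local ring (Stacks 04GG (1) ⇒ (11)), by helper37.

* `exists_idempotent_of_quasiFiniteAt`: a prime over the closed point at which `S` is quasi-finite is
  isolated by an idempotent `e` with `S/(1-e)` finite.
* `finite_setOf_quasiFiniteAt`: there are finitely many such primes.
* `exists_idempotent_split`, `exists_idempotent_split'`: the splitting `S = (finite) × (rest)`.
* `finite_quotient_one_sub_iff`, `fg_range_mulLeft_join`, `fg_range_mulLeft_one_sub_prod`: joins of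
  idempotents with finite factors.
* `quasiFiniteAt_comap_of_idempotent`.
-/

namespace Groth.Agent.Lib.Helper37

open TensorProduct

universe u

/-- Over a Henselian local ring, a prime `q` over the closed point at which a finite-type algebra is
quasi-finite is cut out in the closed fibre by an idempotent `e` with `S/(1-e)` finite. -/
theorem exists_idempotent_of_quasiFiniteAt (R : Type u) [CommRing R] [HenselianLocalRing R]
    (S : Type u) [CommRing S] [Algebra R S] [Algebra.FiniteType R S]
    (q : Ideal S) [q.IsPrime] [q.LiesOver (IsLocalRing.maximalIdeal R)]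
    [Algebra.QuasiFiniteAt R q] :
    ∃ e : S, IsIdempotentElem e ∧ e ∉ q ∧ Module.Finite R (S ⧸ Ideal.span ({1 - e} : Set S)) ∧
      ∀ q' : Ideal S, q'.IsPrime → q'.LiesOver (IsLocalRing.maximalIdeal R) → e ∉ q' → q' = q := by
  set m := IsLocalRing.maximalIdeal R with hm
  obtain ⟨R', _, _, _, P, _, _, e', he', P', _, _, hP'q, he'P', hbij, hfin, huniq⟩ :=
    Algebra.exists_etale_isIdempotentElem_forall_liesOver_eq (R := R) (S := S) m q
  obtain ⟨τ, hτ⟩ := exists_section_of_etale_of_residueField_bijective R R' P hbij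
  let μ : R' ⊗[R] S →ₐ[R] S :=
    Algebra.TensorProduct.lift ((Algebra.ofId R S).comp τ) (AlgHom.id R S) (fun _ _ => .all _ _)
  have hμ1 : ∀ x : R', μ (algebraMap R' (R' ⊗[R] S) x) = algebraMap R S (τ x) := by
    intro x
    simp [μ, Algebra.TensorProduct.algebraMap_apply, Algebra.ofId_apply]
  have hμ2 : ∀ s : S, μ (Algebra.TensorProduct.includeRight s) = s := by
    intro s
    simp [μ]
  -- primes of `S` over `m` pull back to primes over `P`
  have key : ∀ q' : Ideal S, q'.IsPrime → q'.LiesOver m →
      (q'.comap μ.toRingHom).LiesOver P ∧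
      (q'.comap μ.toRingHom).comap Algebra.TensorProduct.includeRight.toRingHom = q' := by
    intro q' _ hq'
    constructor
    · constructor
      ext x
      rw [Ideal.under, Ideal.mem_comap, Ideal.mem_comap, ← hτ, Ideal.mem_comap]
      change _ ↔ μ (algebraMap R' (R' ⊗[R] S) x) ∈ q'
      rw [hμ1]
      have := hq'.over
      rw [← hm, this, Ideal.under, Ideal.mem_comap]
      rfl
    · ext s
      rw [Ideal.mem_comap, Ideal.mem_comap]
      change μ (Algebra.TensorProduct.includeRight s) ∈ q' ↔ _
      rw [hμ2]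
  refine ⟨μ e', he'.map μ, ?_, ?_, ?_⟩
  · obtain ⟨h1, h2⟩ := key q inferInstance inferInstance
    have hP1 : q.comap μ.toRingHom = P' := by
      have : (q.comap μ.toRingHom).IsPrime := Ideal.comap_isPrime _ _
      exact Ideal.eq_of_comap_eq_comap_of_bijective_residueFieldMap hbij _ _ (h2.trans hP'q.symm)
    intro hmem
    apply he'P'
    rw [← hP1]
    exact hmem
  · -- finiteness
    set T := S ⧸ Ideal.span ({1 - μ e'} : Set S)
    have hunit : IsUnit ((Ideal.Quotient.mk (Ideal.span ({1 - μ e'} : Set S))).comp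
        μ.toRingHom e') := by
      have : (Ideal.Quotient.mk (Ideal.span ({1 - μ e'} : Set S))) (μ e') = 1 := by
        rw [← map_one (Ideal.Quotient.mk _), eq_comm, Ideal.Quotient.eq]
        exact Ideal.subset_span rfl
      rw [RingHom.comp_apply]
      change IsUnit (Ideal.Quotient.mk _ (μ e'))
      rw [this]
      exact isUnit_one
    let ν : Localization.Away e' →+* T := IsLocalization.Away.lift e' hunit
    have hν : ∀ x, ν (algebraMap _ _ x) = Ideal.Quotient.mk _ (μ x) := by
      intro x
      exact IsLocalization.Away.lift_eq e' hunit x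
    have hνsurj : Function.Surjective ν := by
      intro y
      obtain ⟨s, rfl⟩ := Ideal.Quotient.mk_surjective y
      exact ⟨algebraMap _ _ (Algebra.TensorProduct.includeRight s), by rw [hν, hμ2]⟩
    have : RingHomSurjective τ.toRingHom := ⟨fun r => ⟨algebraMap R R' r, by simp⟩⟩
    let νl : Localization.Away e' →ₛₗ[τ.toRingHom] T :=
      { toFun := ν
        map_add' := map_add ν
        map_smul' := by
          intro r' x
          rw [Algebra.smul_def, map_mul, IsScalarTower.algebraMap_apply R' (R' ⊗[R] S), hν, hμ1,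
            Algebra.smul_def]
          rfl }
    exact Module.Finite.of_surjective νl hνsurj
  · intro q' hq'prime hq' heq'
    obtain ⟨h1, h2⟩ := key q' hq'prime hq'
    have : (q'.comap μ.toRingHom).IsPrime := Ideal.comap_isPrime _ _
    have hP2 : q'.comap μ.toRingHom = P' := huniq _ this h1 heq'
    rw [← h2, hP2, hP'q]

end Groth.Agent.Lib.Helper37

namespace Groth.Agent.Lib.Helper37

open TensorProduct

universe u

/-- `S/(1-e)` is a finite `R`-module iff the `R`-submodule `eS` is finitely generated. -/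
theorem finite_quotient_one_sub_iff {R S : Type*} [CommRing R] [CommRing S] [Algebra R S]
    {e : S} (he : IsIdempotentElem e) :
    Module.Finite R (S ⧸ Ideal.span ({1 - e} : Set S)) ↔
      (LinearMap.range (LinearMap.mulLeft R e)).FG := by
  set J := Ideal.span ({1 - e} : Set S) with hJ
  constructor
  · intro h
    -- the map `S/(1-e) → S`, `x ↦ e x`
    let g : (S ⧸ J) →ₗ[R] S :=
      Submodule.liftQ (J.restrictScalars R) (LinearMap.mulLeft R e) (by
        intro x hx
        change x ∈ J at hx
        rw [hJ, Ideal.mem_span_singleton'] at hx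
        obtain ⟨a, rfl⟩ := hx
        change e * (a * (1 - e)) = 0
        have := he.eq
        linear_combination (-a) * this)
    have hg : LinearMap.range g = LinearMap.range (LinearMap.mulLeft R e) := by
      apply le_antisymm
      · rintro _ ⟨x, rfl⟩
        obtain ⟨s, rfl⟩ := Ideal.Quotient.mk_surjective x
        exact ⟨s, rfl⟩
      · rintro _ ⟨s, rfl⟩
        exact ⟨Ideal.Quotient.mk J s, rfl⟩
    rw [← hg, LinearMap.range_eq_map]
    exact Module.Finite.fg_top.map g
  · intro h
    have : Module.Finite R (LinearMap.range (LinearMap.mulLeft R e)) :=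
      Module.Finite.iff_fg.mpr h
    let f : LinearMap.range (LinearMap.mulLeft R e) →ₗ[R] (S ⧸ J) :=
      (Ideal.Quotient.mkₐ R J).toLinearMap.comp (Submodule.subtype _)
    refine Module.Finite.of_surjective f ?_
    intro y
    obtain ⟨s, rfl⟩ := Ideal.Quotient.mk_surjective y
    refine ⟨⟨e * s, s, rfl⟩, ?_⟩
    change Ideal.Quotient.mk J (e * s) = Ideal.Quotient.mk J s
    rw [Ideal.Quotient.eq, hJ, Ideal.mem_span_singleton']
    exact ⟨-s, by ring⟩

end Groth.Agent.Lib.Helper37

namespace Groth.Agent.Lib.Helper37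

theorem fg_range_mulLeft_join {R S : Type*} [CommRing R] [CommRing S] [Algebra R S]
    {e₁ e₂ : S} (h₁ : IsIdempotentElem e₁) (h₂ : IsIdempotentElem e₂)
    (hfg₁ : (LinearMap.range (LinearMap.mulLeft R e₁)).FG)
    (hfg₂ : (LinearMap.range (LinearMap.mulLeft R e₂)).FG) :
    IsIdempotentElem (e₁ + (1 - e₁) * e₂) ∧
      (LinearMap.range (LinearMap.mulLeft R (e₁ + (1 - e₁) * e₂))).FG := by
  have a1 := h₁.eq
  have a2 := h₂.eq
  have hE : IsIdempotentElem (e₁ + (1 - e₁) * e₂) := by
    change _ * _ = _
    linear_combination (1 - e₂) * a1 + ((1 - e₁) * (1 - e₁)) * a2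
  refine ⟨hE, ?_⟩
  have : LinearMap.range (LinearMap.mulLeft R (e₁ + (1 - e₁) * e₂)) =
      LinearMap.range (LinearMap.mulLeft R e₁) ⊔
        (LinearMap.range (LinearMap.mulLeft R e₂)).map (LinearMap.mulLeft R (1 - e₁)) := by
    apply le_antisymm
    · rintro _ ⟨x, rfl⟩
      have hx1 : e₁ * x ∈ LinearMap.range (LinearMap.mulLeft R e₁) := ⟨x, rfl⟩
      have hx2 : (1 - e₁) * (e₂ * x) ∈
          (LinearMap.range (LinearMap.mulLeft R e₂)).map (LinearMap.mulLeft R (1 - e₁)) :=
        ⟨e₂ * x, ⟨x, rfl⟩, rfl⟩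
      have h := Submodule.add_mem_sup hx1 hx2
      convert h using 1
      simp only [LinearMap.mulLeft_apply]
      ring
    · rw [sup_le_iff]
      constructor
      · rintro _ ⟨x, rfl⟩
        refine ⟨e₁ * x, ?_⟩
        simp only [LinearMap.mulLeft_apply]
        linear_combination ((1 - e₂) * x) * a1
      · rintro _ ⟨_, ⟨x, rfl⟩, rfl⟩
        refine ⟨(1 - e₁) * (e₂ * x), ?_⟩
        simp only [LinearMap.mulLeft_apply]
        linear_combination ((1 - e₁) * (1 - e₁) * x) * a2
  rw [this]
  exact hfg₁.sup (hfg₂.map _)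

theorem fg_range_mulLeft_one_sub_prod {R S : Type*} [CommRing R] [CommRing S] [Algebra R S]
    {ι : Type*} (s : Finset ι) (e : ι → S) (he : ∀ i ∈ s, IsIdempotentElem (e i))
    (hfg : ∀ i ∈ s, (LinearMap.range (LinearMap.mulLeft R (e i))).FG) :
    IsIdempotentElem (1 - ∏ i ∈ s, (1 - e i)) ∧
      (LinearMap.range (LinearMap.mulLeft R (1 - ∏ i ∈ s, (1 - e i)))).FG := by
  classical
  induction s using Finset.induction_on with
  | empty =>
    simp only [Finset.prod_empty, sub_self]
    refine ⟨IsIdempotentElem.zero, ?_⟩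
    have : LinearMap.range (LinearMap.mulLeft R (0 : S)) = ⊥ := by
      rw [eq_bot_iff]
      rintro _ ⟨x, rfl⟩
      simp
    rw [this]
    exact Submodule.fg_bot
  | insert a s ha ih =>
    obtain ⟨ih1, ih2⟩ := ih (fun i hi => he i (Finset.mem_insert_of_mem hi))
      (fun i hi => hfg i (Finset.mem_insert_of_mem hi))
    have := fg_range_mulLeft_join (R := R) (he a (Finset.mem_insert_self a s)) ih1
      (hfg a (Finset.mem_insert_self a s)) ih2
    have heq : 1 - ∏ i ∈ insert a s, (1 - e i) =
        e a + (1 - e a) * (1 - ∏ i ∈ s, (1 - e i)) := by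
      rw [Finset.prod_insert ha]
      ring
    rw [heq]
    exact this

end Groth.Agent.Lib.Helper37

namespace Groth.Agent.Lib.Helper37

universe u

/-- The primes over the closed point at which a finite type algebra over a local ring is
quasi-finite are finite in number. -/
theorem finite_setOf_quasiFiniteAt (R : Type*) [CommRing R] [IsLocalRing R]
    (S : Type*) [CommRing S] [Algebra R S] [Algebra.FiniteType R S] :
    {q : Ideal S | ∃ (_ : q.IsPrime), q.LiesOver (IsLocalRing.maximalIdeal R) ∧
      Algebra.QuasiFiniteAt R q}.Finite := by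
  set m := IsLocalRing.maximalIdeal R with hm
  set mS := m.map (algebraMap R S) with hmS
  have hN : IsNoetherianRing (S ⧸ mS) := by
    have := Algebra.FiniteType.of_restrictScalars_finiteType R (R ⧸ m) (S ⧸ mS)
    have : IsNoetherianRing (R ⧸ m) :=
      inferInstanceAs (IsNoetherianRing (IsLocalRing.ResidueField R))
    exact Algebra.FiniteType.isNoetherianRing (R ⧸ m) _
  have hfin : mS.minimalPrimes.Finite := by
    rw [Ideal.minimalPrimes_eq_comap]
    exact (minimalPrimes.finite_of_isNoetherianRing (S ⧸ mS)).image _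
  refine hfin.subset ?_
  rintro q ⟨hq, hqm, hqf⟩
  have hle : mS ≤ q := by
    rw [hmS, Ideal.map_le_iff_le_comap]
    exact hqm.over.le
  refine ⟨⟨hq, hle⟩, ?_⟩
  rintro q' ⟨hq', hle'⟩ hq'q
  have hunder : q'.under R = q.under R := by
    rw [← hqm.over]
    apply le_antisymm
    · rw [hqm.over]
      exact Ideal.comap_mono hq'q
    · rw [hmS, Ideal.map_le_iff_le_comap] at hle'
      exact hle'
  exact (Algebra.QuasiFiniteAt.eq_of_le_of_under_eq hq'q hunder).ge

/-- Structure of finite type algebras over a Henselian local ring: there is an idempotent `e` with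
`S/(1-e)` finite, such that `D(e)` contains all primes over the closed point at which `S` is
quasi-finite. -/
theorem exists_idempotent_split (R : Type u) [CommRing R] [HenselianLocalRing R]
    (S : Type u) [CommRing S] [Algebra R S] [Algebra.FiniteType R S] :
    ∃ e : S, IsIdempotentElem e ∧ Module.Finite R (S ⧸ Ideal.span ({1 - e} : Set S)) ∧
      ∀ (q : Ideal S) [q.IsPrime], q.LiesOver (IsLocalRing.maximalIdeal R) →
        Algebra.QuasiFiniteAt R q → e ∉ q := by
  classical
  set m := IsLocalRing.maximalIdeal R with hm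
  set Q : Set (Ideal S) := {q : Ideal S | ∃ (_ : q.IsPrime), q.LiesOver m ∧
      Algebra.QuasiFiniteAt R q} with hQ
  have hQfin : Q.Finite := finite_setOf_quasiFiniteAt R S
  have hex : ∀ q : Q, ∃ e : S, IsIdempotentElem e ∧ e ∉ q.1 ∧
      Module.Finite R (S ⧸ Ideal.span ({1 - e} : Set S)) := by
    rintro ⟨q, hq, hqm, hqf⟩
    obtain ⟨e, he, heq, hfin, -⟩ := exists_idempotent_of_quasiFiniteAt R S q
    exact ⟨e, he, heq, hfin⟩
  choose ε hε1 hε2 hε3 using hex
  have : Fintype Q := hQfin.fintype
  obtain ⟨hE1, hE2⟩ := fg_range_mulLeft_one_sub_prod (R := R) (Finset.univ : Finset Q) ε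
    (fun i _ => hε1 i) (fun i _ => (finite_quotient_one_sub_iff (hε1 i)).mp (hε3 i))
  refine ⟨_, hE1, (finite_quotient_one_sub_iff hE1).mpr hE2, ?_⟩
  intro q hq hqm hqf hmem
  have hqQ : q ∈ Q := ⟨hq, hqm, hqf⟩
  have h2 : ε ⟨q, hqQ⟩ * (1 - ∏ i ∈ (Finset.univ : Finset Q), (1 - ε i)) = ε ⟨q, hqQ⟩ := by
    rw [← Finset.mul_prod_erase _ _ (Finset.mem_univ (⟨q, hqQ⟩ : Q))]
    have := (hε1 ⟨q, hqQ⟩).eq
    linear_combination (∏ x ∈ (Finset.univ : Finset Q).erase ⟨q, hqQ⟩, (1 - ε x)) * this
  apply hε2 ⟨q, hqQ⟩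
  rw [← h2]
  exact q.mul_mem_left _ hmem

end Groth.Agent.Lib.Helper37

namespace Groth.Agent.Lib.Helper37

universe u

/-- Quasi-finiteness at a prime of `S/(e)`, `e` idempotent, implies quasi-finiteness at its
preimage in `S`. -/
theorem quasiFiniteAt_comap_of_idempotent {R S : Type*} [CommRing R] [CommRing S] [Algebra R S]
    {e : S} (he : IsIdempotentElem e) (q : Ideal (S ⧸ Ideal.span ({e} : Set S))) [q.IsPrime]
    [Algebra.QuasiFiniteAt R q] :
    Algebra.QuasiFiniteAt R (q.comap (Ideal.Quotient.mk (Ideal.span ({e} : Set S)))) := by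
  set q' := q.comap (Ideal.Quotient.mk (Ideal.span ({e} : Set S))) with hq'
  have hq'prime : q'.IsPrime := Ideal.comap_isPrime _ _
  have heq' : e ∈ q' := by
    rw [hq', Ideal.mem_comap]
    have : Ideal.Quotient.mk (Ideal.span ({e} : Set S)) e = 0 := Ideal.Quotient.eq_zero_iff_mem.mpr (Ideal.subset_span rfl)
    rw [this]
    exact q.zero_mem
  have h1e : 1 - e ∉ q' := by
    intro h
    apply hq'prime.ne_top
    rw [Ideal.eq_top_iff_one]
    have : (1 : S) = (1 - e) + e := by ring
    rw [this]
    exact q'.add_mem h heq'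
  have he0 : algebraMap S (Localization.AtPrime q') e = 0 := by
    have hu : IsUnit (algebraMap S (Localization.AtPrime q') (1 - e)) :=
      IsLocalization.map_units (M := q'.primeCompl) _ ⟨1 - e, h1e⟩
    have : algebraMap S (Localization.AtPrime q') (1 - e) * algebraMap S (Localization.AtPrime q') e
        = 0 := by
      rw [← map_mul]
      have : (1 - e) * e = 0 := by
        have := he.eq
        linear_combination -this
      rw [this, map_zero]
    exact (hu.mul_right_eq_zero).mp this
  let g : (S ⧸ Ideal.span ({e} : Set S)) →ₐ[R] Localization.AtPrime q' :=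
    Ideal.Quotient.liftₐ (Ideal.span ({e} : Set S)) (IsScalarTower.toAlgHom R S (Localization.AtPrime q')) (by
      intro a ha
      rw [Ideal.mem_span_singleton'] at ha
      obtain ⟨b, rfl⟩ := ha
      simp only [IsScalarTower.coe_toAlgHom', map_mul, he0, mul_zero])
  have hg : ∀ s : S, g (Ideal.Quotient.mk (Ideal.span ({e} : Set S)) s) = algebraMap S _ s := fun s => rfl
  let f : Localization.AtPrime q →ₐ[R] Localization.AtPrime q' :=
    IsLocalization.liftAlgHom (M := q.primeCompl) (f := g) (by
      rintro ⟨y, hy⟩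
      obtain ⟨s, rfl⟩ := Ideal.Quotient.mk_surjective y
      rw [hg]
      exact IsLocalization.map_units (M := q'.primeCompl) _ ⟨s, hy⟩)
  refine Algebra.QuasiFinite.of_surjective_algHom f ?_
  intro x
  obtain ⟨a, ⟨s, hs⟩, rfl⟩ := IsLocalization.exists_mk'_eq q'.primeCompl x
  refine ⟨IsLocalization.mk' _ (Ideal.Quotient.mk (Ideal.span ({e} : Set S)) a) (⟨Ideal.Quotient.mk (Ideal.span ({e} : Set S)) s, hs⟩ : q.primeCompl),
    ?_⟩
  simp only [f, IsLocalization.coe_liftAlgHom, AlgHom.toRingHom_eq_coe, IsLocalization.lift_mk',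
    RingHom.coe_coe, hg]
  rw [Units.mul_inv_eq_iff_eq_mul, IsUnit.coe_liftRight]
  simp only [MonoidHom.domRestrict_apply]
  change _ = _ * g (Ideal.Quotient.mk _ s)
  rw [hg]
  exact (IsLocalization.mk'_spec _ a ⟨s, hs⟩).symm

/-- Stacks 04GG (1) ⇒ (11). -/
theorem exists_idempotent_split' (R : Type u) [CommRing R] [HenselianLocalRing R]
    (S : Type u) [CommRing S] [Algebra R S] [Algebra.FiniteType R S] :
    ∃ e : S, IsIdempotentElem e ∧ Module.Finite R (S ⧸ Ideal.span ({1 - e} : Set S)) ∧
      ∀ (q : Ideal (S ⧸ Ideal.span ({e} : Set S))) [q.IsPrime],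
        q.LiesOver (IsLocalRing.maximalIdeal R) → ¬ Algebra.QuasiFiniteAt R q := by
  obtain ⟨e, he, hfin, h⟩ := exists_idempotent_split R S
  refine ⟨e, he, hfin, ?_⟩
  intro q hq hqm hqf
  have := quasiFiniteAt_comap_of_idempotent (R := R) he q
  refine h (q.comap (Ideal.Quotient.mk (Ideal.span ({e} : Set S)))) ?_ this ?_
  · constructor
    rw [hqm.over, Ideal.under, Ideal.under, Ideal.comap_comap]
    rfl
  · rw [Ideal.mem_comap]
    have : Ideal.Quotient.mk (Ideal.span ({e} : Set S)) e = 0 :=
      Ideal.Quotient.eq_zero_iff_mem.mpr (Ideal.subset_span rfl)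
    rw [this]
    exact q.zero_mem

end Groth.Agent.Lib.Helper37
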