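import Groth.Agent.Lib.Helper37.Hz18
import Groth.Agent.Lib.Helper83.FlatLocalDim

/-!
# Henselization project, part 19: the limit ring of a Noetherian local ring is Noetherian

* `isNoetherianRing_of_faithfullyFlat`: Noetherian descent.
* `isNoetherianRing_of_closed_fg`: `M` f.g., `A ⧸ M` Noetherian, f.g. ideals `M`-adically closed
  ⇒ `A` Noetherian (via the completion, which is Noetherian by helper83).
* `isNoetherianRing_H`.
-/

set_option autoImplicit false
universe u

namespace Groth.Agent.Lib.Helper37.Hz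

open IsLocalRing Polynomial Groth.Agent.Lib.Helper83

section Abstract

/-- Noetherian descent along faithfully flat maps. -/
theorem isNoetherianRing_of_faithfullyFlat (A B : Type*) [CommRing A] [CommRing B] [Algebra A B]
    [Module.FaithfullyFlat A B] [IsNoetherianRing B] : IsNoetherianRing A := by
  have hB : WellFoundedGT (Ideal B) := isNoetherian_iff'.mp inferInstance
  have hmono : StrictMono (Ideal.map (algebraMap A B)) :=
    Monotone.strictMono_of_injective (fun _ _ h => Ideal.map_mono h)
      Ideal.map_injective_of_faithfullyFlat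
  exact isNoetherian_iff'.mpr hmono.wellFoundedGT

/-- A ring with a finitely generated ideal `M` with `A ⧸ M` Noetherian in which all finitely
generated ideals are `M`-adically closed is Noetherian. -/
theorem isNoetherianRing_of_closed_fg {A : Type*} [CommRing A] (M : Ideal A) (hM : M.FG)
    [IsNoetherianRing (A ⧸ M)]
    (hcl : ∀ 𝔞 : Ideal A, 𝔞.FG → ∀ x, (∀ n : ℕ, x ∈ 𝔞 ⊔ M ^ n) → x ∈ 𝔞) :
    IsNoetherianRing A := by
  classical
  have hÂ : IsNoetherianRing (AdicCompletion M A) := by
    have := AdicCompletion.isAdicComplete_self M hM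
    have : IsNoetherianRing (AdicCompletion M A ⧸ M.map (algebraMap A (AdicCompletion M A))) :=
      isNoetherianRing_of_ringEquiv _ (adicCompletionQuotientEquiv M hM).symm
    exact isNoetherianRing_of_isAdicComplete (M.map (algebraMap A (AdicCompletion M A)))
      (hM.map _)
  rw [isNoetherianRing_iff_ideal_fg]
  intro I
  have hfg : (I.map (algebraMap A (AdicCompletion M A))).FG := IsNoetherian.noetherian _
  obtain ⟨s, hs, hspan⟩ := (Submodule.fg_span_iff_fg_span_finset_subset _).mp hfg
  obtain ⟨t, ht, rfl⟩ := Finset.subset_set_image_iff.mp hs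
  set 𝔞 : Ideal A := Ideal.span (t : Set A) with h𝔞
  have h𝔞I : 𝔞 ≤ I := Ideal.span_le.mpr ht
  have hmap : I.map (algebraMap A (AdicCompletion M A)) =
      𝔞.map (algebraMap A (AdicCompletion M A)) := by
    rw [h𝔞, Ideal.map_span, ← Finset.coe_image]
    exact hspan
  have hI𝔞 : I ≤ 𝔞 := by
    intro x hx
    apply hcl 𝔞 ⟨t, rfl⟩
    intro n
    have h1 : algebraMap A (AdicCompletion M A) x ∈ 𝔞.map (algebraMap A (AdicCompletion M A)) := by
      rw [← hmap]
      exact Ideal.mem_map_of_mem _ hx
    have h2 := Ideal.mem_map_of_mem (AdicCompletion.evalₐ M n).toRingHom h1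
    rw [Ideal.map_map] at h2
    have hcomp : (AdicCompletion.evalₐ M n).toRingHom.comp (algebraMap A (AdicCompletion M A)) =
        Ideal.Quotient.mk (M ^ n) := by
      ext a
      exact (AdicCompletion.evalₐ M n).commutes a
    rw [hcomp] at h2
    have h3 : (AdicCompletion.evalₐ M n).toRingHom (algebraMap A (AdicCompletion M A) x) =
        Ideal.Quotient.mk (M ^ n) x := (AdicCompletion.evalₐ M n).commutes x
    rw [h3] at h2
    have h4 : x ∈ (𝔞.map (Ideal.Quotient.mk (M ^ n))).comap (Ideal.Quotient.mk (M ^ n)) := h2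
    rw [Ideal.comap_map_of_surjective _ Ideal.Quotient.mk_surjective, ← RingHom.ker_eq_comap_bot,
      Ideal.mk_ker] at h4
    exact h4
  rw [le_antisymm hI𝔞 h𝔞I]
  exact ⟨t, rfl⟩

/-- Krull's intersection theorem modulo an ideal. -/
theorem mem_of_forall_mem_sup_pow_of_isLocalRing {A : Type*} [CommRing A] [IsLocalRing A]
    [IsNoetherianRing A] (J : Ideal A) (z : A)
    (hz : ∀ n : ℕ, z ∈ J ⊔ maximalIdeal A ^ n) : z ∈ J := by
  have hK : (⨅ i : ℕ, maximalIdeal A ^ i • ⊤ : Submodule A (A ⧸ J)) = ⊥ :=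
    Ideal.iInf_pow_smul_eq_bot_of_isLocalRing (maximalIdeal A) (Ideal.IsPrime.ne_top inferInstance)
  have h1 : (Ideal.Quotient.mk J z : A ⧸ J) ∈
      (⨅ i : ℕ, maximalIdeal A ^ i • ⊤ : Submodule A (A ⧸ J)) := by
    rw [Submodule.mem_iInf]
    intro n
    obtain ⟨j, hj, w, hw, rfl⟩ := Submodule.mem_sup.mp (hz n)
    have h2 : (Ideal.Quotient.mk J (j + w) : A ⧸ J) = w • (1 : A ⧸ J) := by
      rw [map_add, Ideal.Quotient.eq_zero_iff_mem.mpr hj, zero_add, Algebra.smul_def, mul_one]
      rfl
    rw [h2]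
    exact Submodule.smul_mem_smul hw Submodule.mem_top
  rw [hK, Submodule.mem_bot] at h1
  exact Ideal.Quotient.eq_zero_iff_mem.mp h1

end Abstract

section HN

variable {R : Type u} [CommRing R] [IsLocalRing R] {Ω : Type u} [Field Ω] [Algebra R Ω]
  [IsLocalHom (algebraMap R Ω)]

instance isNoetherianRing_idxRing [IsNoetherianRing R] (i : Idx R Ω) :
    IsNoetherianRing i.Ring :=
  inferInstanceAs (IsNoetherianRing (MvPolynomial (Fin i.n) R ⧸ i.I))

omit [IsLocalRing R] [IsLocalHom (algebraMap R Ω)] in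
lemma isNoetherianRing_locPt {C : Type u} [CommRing C] [Algebra R C] [IsNoetherianRing C]
    (θ : C →ₐ[R] Ω) : IsNoetherianRing (LocPt θ) :=
  IsLocalization.isNoetherianRing (ptKer θ).primeCompl (LocPt θ) inferInstance

instance isNoetherianRing_G [IsNoetherianRing R] (i : Idx R Ω) : IsNoetherianRing (G i) :=
  isNoetherianRing_locPt i.θ

lemma map_maximalIdeal_of (i : Idx R Ω) :
    (maximalIdeal (G i)).map (of i : G i →+* H R Ω) = maximalIdeal (H R Ω) := by
  rw [← map_maximalIdeal_locPt i.θ, Ideal.map_map]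
  have : (of i : G i →+* H R Ω).comp (algebraMap R (G i)) = algebraMap R (H R Ω) :=
    (of i).comp_algebraMap
  rw [this, map_maximalIdeal_H]

variable [SepOver R Ω] [IsNoetherianRing R]

/-- Finitely generated ideals of the limit ring are closed in the adic topology. -/
theorem mem_of_forall_mem_sup_pow_H (𝔞 : Ideal (H R Ω)) (h𝔞 : 𝔞.FG) (x : H R Ω)
    (hx : ∀ n : ℕ, x ∈ 𝔞 ⊔ maximalIdeal (H R Ω) ^ n) : x ∈ 𝔞 := by
  obtain ⟨r, a, ha⟩ := Submodule.fg_iff_exists_fin_generating_family.mp h𝔞
  obtain ⟨i, y, hy⟩ := exists_of_finite (R := R) (Ω := Ω)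
    (fun o : Option (Fin r) => o.elim x a)
  have hy0 : of i (y none) = x := hy none
  have hyk : ∀ k, of i (y (some k)) = a k := fun k => hy (some k)
  set J : Ideal (G i) := Ideal.span (Set.range fun k => y (some k)) with hJ
  have hJmap : J.map (of i : G i →+* H R Ω) = 𝔞 := by
    rw [hJ, Ideal.map_span, ← Set.range_comp, ← ha]
    congr 2
    ext k
    exact hyk k
  have hmem : y none ∈ J := by
    apply mem_of_forall_mem_sup_pow_of_isLocalRing
    intro n
    have h1 : of i (y none) ∈ (J ⊔ maximalIdeal (G i) ^ n).map (of i : G i →+* H R Ω) := by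
      rw [Ideal.map_sup, Ideal.map_pow, hJmap, map_maximalIdeal_of, hy0]
      exact hx n
    have h2 : y none ∈ ((J ⊔ maximalIdeal (G i) ^ n).map (of i : G i →+* H R Ω)).comap
        (of i : G i →+* H R Ω) := h1
    rwa [comap_map_of] at h2
  rw [← hy0, ← hJmap]
  exact Ideal.mem_map_of_mem _ hmem

/-- **The limit ring of a Noetherian local ring is Noetherian.** -/
instance isNoetherianRing_H : IsNoetherianRing (H R Ω) := by
  have hM : (maximalIdeal (H R Ω)).FG := by
    rw [← map_maximalIdeal_H]
    exact Ideal.FG.map (IsNoetherian.noetherian _) _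
  have : IsNoetherianRing (H R Ω ⧸ maximalIdeal (H R Ω)) :=
    inferInstanceAs (IsNoetherianRing (ResidueField (H R Ω)))
  exact isNoetherianRing_of_closed_fg (maximalIdeal (H R Ω)) hM mem_of_forall_mem_sup_pow_H

end HN

end Groth.Agent.Lib.Helper37.Hz
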