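import Groth.Agent.Lib.Helper37.Hz30
import Groth.Agent.S0736
import Groth.Agent.Lib.Helper37.Hz17

/-!
# Henselization project, part 31: weakly étale cancellation of flatness

* `flat_prod`: a product of two flat modules is flat.
* `flat_of_flat_lmul'`: if `S ⊗_R S → S` is flat and `C` is an `S`-algebra flat over `R`, then `C` is
  flat over `S`.
* `flat_module_of_flat_lmul'`: the same for modules (via the trivial square zero extension).
* (strict) henselizations are weakly étale.
-/

set_option autoImplicit false
universe u

namespace Groth.Agent.Lib.Helper37.Hz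

open IsLocalRing TensorProduct

/-- A product of two flat modules is flat. -/
theorem flat_prod (R : Type u) [CommRing R] (M N : Type*) [AddCommGroup M] [AddCommGroup N]
    [Module R M] [Module R N] [Module.Flat R M] [Module.Flat R N] : Module.Flat R (M × N) := by
  rw [Module.Flat.iff_lTensor_injectiveₛ]
  intro P _ _ Q
  have key : (TensorProduct.prodLeft R R M N P).toLinearMap ∘ₗ (Q.subtype.lTensor (M × N)) =
      (LinearMap.prodMap (Q.subtype.lTensor M) (Q.subtype.lTensor N)) ∘ₗ
        (TensorProduct.prodLeft R R M N Q).toLinearMap := by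
    refine TensorProduct.ext' fun mn q => ?_
    obtain ⟨m, n⟩ := mn
    simp
  have h1 : Function.Injective ((LinearMap.prodMap (Q.subtype.lTensor M) (Q.subtype.lTensor N)) ∘ₗ
      (TensorProduct.prodLeft R R M N Q).toLinearMap) := by
    rw [LinearMap.coe_comp]
    refine Function.Injective.comp ?_ (TensorProduct.prodLeft R R M N Q).injective
    exact Function.Injective.prodMap
      (Module.Flat.lTensor_preserves_injective_linearMap _ Q.injective_subtype)
      (Module.Flat.lTensor_preserves_injective_linearMap _ Q.injective_subtype)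
  rw [← key, LinearMap.coe_comp] at h1
  exact Function.Injective.of_comp h1

/-- Cancellation: if `S ⊗_R S → S` is flat and the `S`-algebra `C` is flat over `R`, then `C` is flat
over `S`. -/
theorem flat_of_flat_lmul' {R S C : Type u} [CommRing R] [CommRing S] [CommRing C] [Algebra R S]
    [Algebra R C] [Algebra S C] [IsScalarTower R S C]
    (h : (Algebra.TensorProduct.lmul' (S := S) R).Flat) [Module.Flat R C] : Module.Flat S C := by
  have h1 : (Algebra.TensorProduct.mapOfCompatibleSMul S R S S C).Flat :=
    RingHom.Flat.mapOfCompatibleSMul S C h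
  have h2 : (algebraMap S (S ⊗[R] C)).Flat := RingHom.flat_algebraMap_iff.mpr inferInstance
  have h3 : ((Algebra.TensorProduct.lid S C : S ⊗[S] C ≃ₐ[S] C) : S ⊗[S] C →+* C).Flat :=
    RingHom.Flat.of_bijective (Algebra.TensorProduct.lid S C).bijective
  have h4 := (h2.comp h1).comp h3
  have e : (((Algebra.TensorProduct.lid S C : S ⊗[S] C ≃ₐ[S] C) : S ⊗[S] C →+* C).comp
      ((Algebra.TensorProduct.mapOfCompatibleSMul S R S S C : S ⊗[R] C →+* S ⊗[S] C).comp
        (algebraMap S (S ⊗[R] C)))) = algebraMap S C := by
    ext s
    simp [Algebra.TensorProduct.algebraMap_apply, Algebra.algebraMap_eq_smul_one]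
  rw [← RingHom.flat_algebraMap_iff, ← e]
  exact h4

/-- Cancellation for modules: if `S ⊗_R S → S` is flat and the `S`-module `M` is flat over `R`
(and `S` is flat over `R`), then `M` is flat over `S`. -/
theorem flat_module_of_flat_lmul' {R S M : Type u} [CommRing R] [CommRing S] [Algebra R S]
    [AddCommGroup M] [Module R M] [Module S M] [IsScalarTower R S M]
    (h : (Algebra.TensorProduct.lmul' (S := S) R).Flat) [Module.Flat R S] [Module.Flat R M] :
    Module.Flat S M := by
  letI : Module Sᵐᵒᵖ M := Module.compHom M
    ((RingHom.id S).fromOpposite (fun _ _ => Commute.all _ _))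
  haveI : IsCentralScalar S M := ⟨fun s m => rfl⟩
  haveI : IsScalarTower R Sᵐᵒᵖ M := ⟨fun r s m => by
    change (MulOpposite.unop (r • s)) • m = r • (MulOpposite.unop s • m)
    rw [MulOpposite.unop_smul, smul_assoc]⟩
  haveI : Module.Flat R (TrivSqZeroExt S M) := flat_prod R S M
  haveI : Module.Flat S (TrivSqZeroExt S M) := flat_of_flat_lmul' (R := R) h
  exact Module.Flat.of_retract (TrivSqZeroExt.inrHom S M) (TrivSqZeroExt.sndHom S M)
    (by ext m; simp)

section

variable (R : Type u) [CommRing R] [IsLocalRing R]
variable (S : Type u) [CommRing S] [IsLocalRing S] [Algebra R S] [IsLocalHom (algebraMap R S)]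

theorem isIndEtale_of_isHenselization [Hensel.IsHenselization R S] : EtPBC.IsIndEtale R S := by
  obtain ⟨e⟩ := nonempty_algEquiv_Hens R S
  exact isIndEtale_of_algEquiv e

theorem isIndEtale_of_isStrictHenselization [Hensel.IsStrictHenselization R S] :
    EtPBC.IsIndEtale R S := by
  obtain ⟨e⟩ := nonempty_algEquiv_SHens R S
  exact isIndEtale_of_algEquiv e

theorem weaklyEtale_of_isHenselization [Hensel.IsHenselization R S] : Algebra.WeaklyEtale R S :=
  Groth.Agent.S0736.result R S (isIndEtale_of_isHenselization R S)

theorem weaklyEtale_of_isStrictHenselization [Hensel.IsStrictHenselization R S] :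
    Algebra.WeaklyEtale R S :=
  Groth.Agent.S0736.result R S (isIndEtale_of_isStrictHenselization R S)

end

end Groth.Agent.Lib.Helper37.Hz
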