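import Groth.Agent.Lib.Helper35.EtaleMonogenic
import Mathlib.FieldTheory.PrimitiveElement
import Mathlib.RingTheory.TensorProduct.Pi
import Mathlib.RingTheory.Etale.Pi

/-!
Lifting finite étale algebras from the residue field of a local ring (by helper37), on top of
helper35's `EtaleMonogenic`.
-/

namespace Groth.Agent.Lib.Helper37

open TensorProduct Polynomial IsLocalRing

universe u

/-- A finite separable field extension of the residue field of a local ring is the closed fibre of
a monogenic finite étale algebra. -/
theorem exists_monic_etale_lift_of_field (R : Type u) [CommRing R] [IsLocalRing R]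
    (L : Type u) [Field L] [Algebra (ResidueField R) L] [Module.Finite (ResidueField R) L]
    [Algebra.IsSeparable (ResidueField R) L] :
    ∃ P : R[X], P.Monic ∧ Algebra.Etale R (AdjoinRoot P) ∧
      Nonempty (ResidueField R ⊗[R] AdjoinRoot P ≃ₐ[ResidueField R] L) := by
  set κ := ResidueField R
  obtain ⟨α, hα⟩ := Field.exists_primitive_element κ L
  have hαint : IsIntegral κ α := IsIntegral.of_finite κ α
  set p := minpoly κ α with hp
  have hpm : p.Monic := minpoly.monic hαint
  have hps : p.Separable := Algebra.IsSeparable.isSeparable κ α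
  obtain ⟨P₀, hP₀⟩ := Polynomial.map_surjective (residue R) residue_surjective p
  obtain ⟨P, hPmap, hPdeg, hPm⟩ :=
    Polynomial.lifts_and_natDegree_eq_and_monic ((Polynomial.mem_lifts p).mpr ⟨P₀, hP₀⟩) hpm
  have hPs : P.Separable :=
    Groth.Agent.Lib.Helper35.EtaleMonogenic.separable_of_map_residue R P hPm (by rw [hPmap]; exact hps)
  have hEt : Algebra.Etale R (AdjoinRoot P) :=
    Groth.Agent.Lib.Helper35.EtaleMonogenic.etale_quotient_of_separable P hPm hPs
  refine ⟨P, hPm, hEt, ?_⟩
  let _ : Algebra R L := ((algebraMap κ L).comp (algebraMap R κ)).toAlgebra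
  have : IsScalarTower R κ L := IsScalarTower.of_algebraMap_eq (fun _ => rfl)
  have hev : P.eval₂ (Algebra.ofId R L : R →+* L) α = 0 := by
    have : (Algebra.ofId R L : R →+* L) = (algebraMap κ L).comp (residue R) := rfl
    rw [this, ← Polynomial.eval₂_map, hPmap]
    exact minpoly.aeval κ α
  let g : AdjoinRoot P →ₐ[R] L := AdjoinRoot.liftAlgHom P (Algebra.ofId R L) α hev
  let Φ : κ ⊗[R] AdjoinRoot P →ₐ[κ] L :=
    Algebra.TensorProduct.lift (Algebra.ofId κ L) g (fun _ _ => .all _ _)
  have hΦα : Φ (1 ⊗ₜ AdjoinRoot.root P) = α := by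
    simp [Φ, g]
  have hsurj : Function.Surjective Φ := by
    rw [← AlgHom.range_eq_top, eq_top_iff]
    have h1 : Algebra.adjoin κ {α} = ⊤ := by
      have := IntermediateField.adjoin_simple_toSubalgebra_of_isAlgebraic hαint.isAlgebraic
      rw [← this, hα, IntermediateField.top_toSubalgebra]
    rw [← h1, Algebra.adjoin_le_iff, Set.singleton_subset_iff]
    exact ⟨_, hΦα⟩
  have hfree : Module.Free R (AdjoinRoot P) := hPm.free_adjoinRoot
  have hfin : Module.Finite R (AdjoinRoot P) := hPm.finite_adjoinRoot
  have hrank : Module.finrank κ (κ ⊗[R] AdjoinRoot P) = Module.finrank κ L := by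
    rw [Module.finrank_baseChange, (AdjoinRoot.powerBasis' hPm).finrank, AdjoinRoot.powerBasis'_dim,
      hPdeg, (Field.primitive_element_iff_minpoly_natDegree_eq κ α).mp hα]
  have hinj : Function.Injective Φ :=
    (LinearMap.injective_iff_surjective_of_finrank_eq_finrank hrank (f := Φ.toLinearMap)).mpr hsurj
  exact ⟨AlgEquiv.ofBijective Φ ⟨hinj, hsurj⟩⟩

end Groth.Agent.Lib.Helper37

namespace Groth.Agent.Lib.Helper37

open TensorProduct Polynomial IsLocalRing

universe u

/-- Every finite étale algebra over the residue field of a local ring is the closed fibre of a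
finite étale algebra. -/
theorem exists_finite_etale_lift_residueField (R : Type u) [CommRing R] [IsLocalRing R]
    (A : Type u) [CommRing A] [Algebra (ResidueField R) A]
    [Algebra.Etale (ResidueField R) A] :
    ∃ (S : Type u) (_ : CommRing S) (_ : Algebra R S), Module.Finite R S ∧ Algebra.Etale R S ∧
      Nonempty (ResidueField R ⊗[R] S ≃ₐ[ResidueField R] A) := by
  classical
  obtain ⟨I, hI, Ai, _, _, e, hAi⟩ :=
    (Algebra.Etale.iff_exists_algEquiv_prod (ResidueField R) A).mp inferInstance
  have : Fintype I := Fintype.ofFinite I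
  have hex : ∀ i, ∃ P : R[X], P.Monic ∧ Algebra.Etale R (AdjoinRoot P) ∧
      Nonempty (ResidueField R ⊗[R] AdjoinRoot P ≃ₐ[ResidueField R] Ai i) := by
    intro i
    have := (hAi i).1
    have := (hAi i).2
    exact exists_monic_etale_lift_of_field R (Ai i)
  choose P hPm hPe hPiso using hex
  have hfin : ∀ i, Module.Finite R (AdjoinRoot (P i)) := fun i => (hPm i).finite_adjoinRoot
  refine ⟨Π i, AdjoinRoot (P i), inferInstance, inferInstance, inferInstance, inferInstance, ?_⟩
  exact ⟨(Algebra.TensorProduct.piRight R (ResidueField R) (ResidueField R)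
    (fun i => AdjoinRoot (P i))).trans
    ((AlgEquiv.piCongrRight fun i => (hPiso i).some).trans e.symm)⟩

end Groth.Agent.Lib.Helper37
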