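import Mathlib.RingTheory.Henselian
import Mathlib.RingTheory.Jacobson.Ideal
import Mathlib.RingTheory.Polynomial.Basic
import Mathlib.Algebra.Polynomial.Lifts
import Mathlib.Algebra.Polynomial.Identities
import Mathlib.Tactic.LinearCombination
import Mathlib.Tactic.Ring

/-!
Helper lemmas on Henselian pairs (Mathlib's `HenselianRing`), by helper37.
-/

namespace Groth.Agent.Lib.Helper37

open Polynomial

variable {A : Type*} [CommRing A]

/-- `x` is a unit modulo `I` iff it has an inverse modulo `I`. -/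
theorem isUnit_mk_iff {I : Ideal A} {x : A} :
    IsUnit (Ideal.Quotient.mk I x) ↔ ∃ y, x * y - 1 ∈ I := by
  constructor
  · rintro ⟨u, hu⟩
    obtain ⟨y, hy⟩ := Ideal.Quotient.mk_surjective (u⁻¹ : (A ⧸ I)ˣ).val
    refine ⟨y, ?_⟩
    rw [← Ideal.Quotient.eq_zero_iff_mem, map_sub, map_mul, map_one, hy, ← hu, Units.mul_inv,
      sub_self]
  · rintro ⟨y, hy⟩
    refine IsUnit.of_mul_eq_one (Ideal.Quotient.mk I y) ?_
    rw [← map_mul, ← sub_eq_zero, ← map_one (Ideal.Quotient.mk I), ← map_sub]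
    exact Ideal.Quotient.eq_zero_iff_mem.mpr hy

/-- An element which is a unit modulo an ideal contained in the Jacobson radical is a unit. -/
theorem isUnit_of_isUnit_mk {I : Ideal A}
    (hI : I ≤ Ideal.jacobson ⊥) {x : A} (hx : IsUnit (Ideal.Quotient.mk I x)) : IsUnit x := by
  have : IsLocalHom (Ideal.Quotient.mk I) := isLocalHom_of_le_jacobson_bot I hI
  exact isUnit_of_map_unit (Ideal.Quotient.mk I) x hx

/-- If `a` is a root of `f`, `f(a₀) ∈ I` and `f'(a₀) + k (a - a₀)` is a unit for every `k`,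
then `a - a₀ ∈ I`. -/
theorem sub_mem_of_isRoot (I : Ideal A) (f : A[X]) (a a₀ : A)
    (hroot : f.IsRoot a) (h0 : f.eval a₀ ∈ I)
    (hu : ∀ k : A, IsUnit (f.derivative.eval a₀ + k * (a - a₀))) : a - a₀ ∈ I := by
  obtain ⟨k, hk⟩ := binomExpansion f a₀ (a - a₀)
  rw [add_sub_cancel, hroot.eq_zero] at hk
  obtain ⟨u, hu'⟩ := hu k
  have h1 : (a - a₀) * (u : A) = -f.eval a₀ := by
    rw [hu']
    linear_combination -hk
  have h2 : a - a₀ = -f.eval a₀ * ((u⁻¹ : Aˣ) : A) := by
    rw [← h1, mul_assoc, Units.mul_inv, mul_one]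
  rw [h2]
  exact I.mul_mem_right _ (I.neg_mem h0)

/-- Henselian at a larger ideal implies Henselian at a smaller one. -/
theorem henselianRing_of_le {I J : Ideal A} (hIJ : I ≤ J) [hJ : HenselianRing A J] :
    HenselianRing A I where
  jac := hIJ.trans hJ.jac
  is_henselian f hf a₀ h₁ h₂ := by
    have h₂' : IsUnit (Ideal.Quotient.mk J (f.derivative.eval a₀)) := by
      obtain ⟨y, hy⟩ := isUnit_mk_iff.mp h₂
      exact isUnit_mk_iff.mpr ⟨y, hIJ hy⟩
    obtain ⟨a, ha, haJ⟩ := hJ.is_henselian f hf a₀ (hIJ h₁) h₂'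
    refine ⟨a, ha, sub_mem_of_isRoot I f a a₀ ha h₁ fun k => ?_⟩
    apply isUnit_of_isUnit_mk hJ.jac
    have : Ideal.Quotient.mk J (f.derivative.eval a₀ + k * (a - a₀)) =
        Ideal.Quotient.mk J (f.derivative.eval a₀) := by
      rw [map_add, add_eq_left, Ideal.Quotient.eq_zero_iff_mem]
      exact J.mul_mem_left _ haJ
    rw [this]
    exact h₂'

/-- The image of an ideal in the Jacobson radical under a surjection lies in the Jacobson
radical. -/
theorem map_le_jacobson_of_surjective {B : Type*} [CommRing B] (φ : A →+* B)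
    (hφ : Function.Surjective φ) {J : Ideal A} (hJ : J ≤ Ideal.jacobson ⊥) :
    Ideal.map φ J ≤ Ideal.jacobson ⊥ := by
  intro x hx
  rw [Ideal.mem_map_iff_of_surjective φ hφ] at hx
  obtain ⟨x', hx', rfl⟩ := hx
  rw [Ideal.mem_jacobson_bot]
  intro y
  obtain ⟨y', rfl⟩ := hφ y
  have := (Ideal.mem_jacobson_bot.mp (hJ hx')) y'
  simpa using this.map φ

/-- The quotient of a Henselian pair `(A, J)` by a smaller ideal `I ≤ J` is Henselian. -/
theorem henselianRing_quotient_of_le {I J : Ideal A} (hIJ : I ≤ J) [hJ : HenselianRing A J] :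
    HenselianRing (A ⧸ I) (Ideal.map (Ideal.Quotient.mk I) J) where
  jac := map_le_jacobson_of_surjective _ Ideal.Quotient.mk_surjective hJ.jac
  is_henselian f hf a₀ h₁ h₂ := by
    have hsurj : Function.Surjective (Ideal.Quotient.mk I) := Ideal.Quotient.mk_surjective
    have hmem : ∀ x : A, Ideal.Quotient.mk I x ∈ Ideal.map (Ideal.Quotient.mk I) J → x ∈ J := by
      intro x hx
      rw [Ideal.mem_map_iff_of_surjective _ hsurj] at hx
      obtain ⟨x', hx', hxx'⟩ := hx
      have : x - x' ∈ I := by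
        rw [← Ideal.Quotient.eq_zero_iff_mem, map_sub, hxx', sub_self]
      have : x = x' + (x - x') := by ring
      rw [this]
      exact J.add_mem hx' (hIJ ‹_›)
    obtain ⟨g, hg, -, hgm⟩ := lifts_and_natDegree_eq_and_monic
      ((mem_lifts f).mpr (map_surjective _ hsurj f)) hf
    obtain ⟨b₀, rfl⟩ := hsurj a₀
    subst hg
    rw [eval_map_apply] at h₁
    rw [derivative_map, eval_map_apply] at h₂
    have h₁' : g.eval b₀ ∈ J := hmem _ h₁
    have h₂' : IsUnit (Ideal.Quotient.mk J (g.derivative.eval b₀)) := by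
      obtain ⟨y, hy⟩ := isUnit_mk_iff.mp h₂
      obtain ⟨y', rfl⟩ := hsurj y
      rw [← map_mul, ← map_one (Ideal.Quotient.mk I), ← map_sub] at hy
      exact isUnit_mk_iff.mpr ⟨y', hmem _ hy⟩
    obtain ⟨b, hb, hbJ⟩ := hJ.is_henselian g hgm b₀ h₁' h₂'
    refine ⟨Ideal.Quotient.mk I b, ?_, ?_⟩
    · rw [IsRoot.def, eval_map_apply, hb.eq_zero, map_zero]
    · rw [← map_sub]
      exact Ideal.mem_map_of_mem _ hbJ

/-- If `A` is Henselian at `I ≤ J` and `A ⧸ I` is Henselian at the image of `J`, then `A` is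
Henselian at `J`. -/
theorem henselianRing_of_quotient {I J : Ideal A} (hIJ : I ≤ J) [hI : HenselianRing A I]
    [hQ : HenselianRing (A ⧸ I) (Ideal.map (Ideal.Quotient.mk I) J)] : HenselianRing A J := by
  have hsurj : Function.Surjective (Ideal.Quotient.mk I) := Ideal.Quotient.mk_surjective
  have hmem : ∀ x : A, Ideal.Quotient.mk I x ∈ Ideal.map (Ideal.Quotient.mk I) J → x ∈ J := by
    intro x hx
    rw [Ideal.mem_map_iff_of_surjective _ hsurj] at hx
    obtain ⟨x', hx', hxx'⟩ := hx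
    have h1 : x - x' ∈ I := by
      rw [← Ideal.Quotient.eq_zero_iff_mem, map_sub, hxx', sub_self]
    have : x = x' + (x - x') := by ring
    rw [this]
    exact J.add_mem hx' (hIJ h1)
  have hjac : J ≤ Ideal.jacobson ⊥ := by
    intro x hx
    rw [Ideal.mem_jacobson_bot]
    intro y
    apply isUnit_of_isUnit_mk hI.jac
    have h1 : Ideal.Quotient.mk I x ∈ Ideal.jacobson (⊥ : Ideal (A ⧸ I)) :=
      hQ.jac (Ideal.mem_map_of_mem _ hx)
    simpa using (Ideal.mem_jacobson_bot.mp h1) (Ideal.Quotient.mk I y)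
  refine ⟨hjac, fun f hf a₀ h₁ h₂ => ?_⟩
  -- reduce modulo `I`
  have h₁' : (f.map (Ideal.Quotient.mk I)).eval (Ideal.Quotient.mk I a₀) ∈
      Ideal.map (Ideal.Quotient.mk I) J := by
    rw [eval_map_apply]
    exact Ideal.mem_map_of_mem _ h₁
  have h₂' : IsUnit (Ideal.Quotient.mk (Ideal.map (Ideal.Quotient.mk I) J)
      ((f.map (Ideal.Quotient.mk I)).derivative.eval (Ideal.Quotient.mk I a₀))) := by
    rw [derivative_map, eval_map_apply]
    obtain ⟨y, hy⟩ := isUnit_mk_iff.mp h₂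
    refine isUnit_mk_iff.mpr ⟨Ideal.Quotient.mk I y, ?_⟩
    rw [← map_mul, ← map_one (Ideal.Quotient.mk I), ← map_sub]
    exact Ideal.mem_map_of_mem _ hy
  obtain ⟨b, hb, hbJ⟩ := hQ.is_henselian (f.map (Ideal.Quotient.mk I)) (hf.map _) _ h₁' h₂'
  obtain ⟨a₁, rfl⟩ := hsurj b
  rw [← map_sub] at hbJ
  have ha₁J : a₁ - a₀ ∈ J := hmem _ hbJ
  have hfa₁ : f.eval a₁ ∈ I := by
    rw [← Ideal.Quotient.eq_zero_iff_mem, ← eval_map_apply]
    exact hb
  -- `f'(a₁)` is a unit
  have hunit₀ : IsUnit (f.derivative.eval a₀) := isUnit_of_isUnit_mk hjac h₂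
  have hder : f.derivative.eval a₁ - f.derivative.eval a₀ ∈ J := by
    obtain ⟨k, hk⟩ := evalSubFactor f.derivative a₁ a₀
    rw [hk]
    exact J.mul_mem_left _ ha₁J
  have hunit₁ : IsUnit (f.derivative.eval a₁) := by
    apply isUnit_of_isUnit_mk hjac
    have : Ideal.Quotient.mk J (f.derivative.eval a₁) = Ideal.Quotient.mk J (f.derivative.eval a₀) := by
      rw [← sub_eq_zero, ← map_sub, Ideal.Quotient.eq_zero_iff_mem]
      exact hder
    rw [this]
    exact h₂
  obtain ⟨a, ha, haI⟩ := hI.is_henselian f hf a₁ hfa₁ (hunit₁.map _)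
  refine ⟨a, ha, ?_⟩
  have : a - a₀ = (a - a₁) + (a₁ - a₀) := by ring
  rw [this]
  exact J.add_mem (hIJ haI) ha₁J

/-- The zero ideal is Henselian. -/
theorem henselianRing_bot : HenselianRing A (⊥ : Ideal A) where
  jac := bot_le
  is_henselian f _ a₀ h₁ _ := ⟨a₀, by simpa using h₁, by simp⟩

/-- The sum of two Henselian ideals is Henselian. -/
theorem henselianRing_sup {I J : Ideal A} [hI : HenselianRing A I] [hJ : HenselianRing A J] :
    HenselianRing A (I ⊔ J) := by
  have hjac : I ⊔ J ≤ Ideal.jacobson ⊥ := sup_le hI.jac hJ.jac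
  refine ⟨hjac, fun f hf a₀ h₁ h₂ => ?_⟩
  have hunit₀ : IsUnit (f.derivative.eval a₀) := isUnit_of_isUnit_mk hjac h₂
  obtain ⟨i, hi, j, hj, hij⟩ := Submodule.mem_sup.mp h₁
  -- first solve `f - i` modulo `J`
  have hgm : (f - C i).Monic := by
    nontriviality A
    by_cases hdeg : f.natDegree = 0
    · have hf1 : f = 1 := hf.natDegree_eq_zero.mp hdeg
      have h1 : (1 : A) ∈ I ⊔ J := by simpa [hf1] using h₁
      have : IsUnit ((1 : A) * (-1) + 1) := Ideal.mem_jacobson_bot.mp (hjac h1) (-1)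
      simp at this
    · apply hf.sub_of_left
      calc (C i).degree ≤ 0 := degree_C_le
        _ < f.degree := by
            rw [degree_eq_natDegree hf.ne_zero]
            exact_mod_cast Nat.pos_of_ne_zero hdeg
  have hg₁ : (f - C i).eval a₀ ∈ J := by
    rw [eval_sub, eval_C, ← hij, add_sub_cancel_left]
    exact hj
  have hg₂ : IsUnit (Ideal.Quotient.mk J ((f - C i).derivative.eval a₀)) := by
    rw [derivative_sub, derivative_C, sub_zero]
    exact hunit₀.map _
  obtain ⟨a₁, ha₁, ha₁J⟩ := hJ.is_henselian (f - C i) hgm a₀ hg₁ hg₂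
  have hfa₁ : f.eval a₁ ∈ I := by
    have := ha₁.eq_zero
    rw [eval_sub, eval_C, sub_eq_zero] at this
    rw [this]
    exact hi
  have hunit₁ : IsUnit (f.derivative.eval a₁) := by
    apply isUnit_of_isUnit_mk hJ.jac
    have : Ideal.Quotient.mk J (f.derivative.eval a₁) =
        Ideal.Quotient.mk J (f.derivative.eval a₀) := by
      rw [← sub_eq_zero, ← map_sub, Ideal.Quotient.eq_zero_iff_mem]
      obtain ⟨k, hk⟩ := evalSubFactor f.derivative a₁ a₀
      rw [hk]
      exact J.mul_mem_left _ ha₁J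
    rw [this]
    exact hunit₀.map _
  obtain ⟨a, ha, haI⟩ := hI.is_henselian f hf a₁ hfa₁ (hunit₁.map _)
  refine ⟨a, ha, ?_⟩
  have : a - a₀ = (a - a₁) + (a₁ - a₀) := by ring
  rw [this]
  exact Submodule.add_mem_sup haI ha₁J

/-- The supremum of all Henselian ideals is Henselian. -/
theorem henselianRing_sSup : HenselianRing A (sSup {J : Ideal A | HenselianRing A J}) := by
  have hne : ({J : Ideal A | HenselianRing A J}).Nonempty := ⟨⊥, henselianRing_bot⟩
  have hdir : DirectedOn (· ≤ ·) {J : Ideal A | HenselianRing A J} := by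
    intro I hI J hJ
    have hI' : HenselianRing A I := hI
    have hJ' : HenselianRing A J := hJ
    exact ⟨I ⊔ J, henselianRing_sup, le_sup_left, le_sup_right⟩
  have hjac : sSup {J : Ideal A | HenselianRing A J} ≤ Ideal.jacobson ⊥ :=
    sSup_le fun J hJ => (show HenselianRing A J from hJ).jac
  refine ⟨hjac, fun f hf a₀ h₁ h₂ => ?_⟩
  have hunit₀ : IsUnit (f.derivative.eval a₀) := isUnit_of_isUnit_mk hjac h₂
  obtain ⟨J, hJ, h₁J⟩ := (Submodule.mem_sSup_of_directed hne hdir).mp h₁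
  have hJ' : HenselianRing A J := hJ
  obtain ⟨a, ha, haJ⟩ := hJ'.is_henselian f hf a₀ h₁J (hunit₀.map _)
  exact ⟨a, ha, (le_sSup hJ) haJ⟩

end Groth.Agent.Lib.Helper37
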