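import Mathlib.RingTheory.Smooth.Locus
import Mathlib.RingTheory.Etale.Basic
import Mathlib.RingTheory.RingHom.QuasiFinite
import Mathlib.RingTheory.ZariskisMainTheorem
import Mathlib.RingTheory.Localization.Ideal

/-!
Zariski neighbourhoods of `V(J)` (by helper37): an open set containing `V(J)` contains a basic open
`D(g)` with `g ≡ 1` mod `J`, and `R/J → R_g/J R_g` is bijective.
-/

namespace Groth.Agent.Lib.Helper37

open PrimeSpectrum

/-- An open neighbourhood of `V(J)` contains `D(g)` for some `g ≡ 1` modulo `J`. -/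
theorem exists_basicOpen_subset_of_zeroLocus_subset {R : Type*} [CommRing R] (J : Ideal R)
    (U : Set (PrimeSpectrum R)) (hU : IsOpen U) (h : zeroLocus (J : Set R) ⊆ U) :
    ∃ g : R, g - 1 ∈ J ∧ (basicOpen g : Set (PrimeSpectrum R)) ⊆ U := by
  obtain ⟨K, hK⟩ := (isClosed_iff_zeroLocus_ideal _).mp hU.isClosed_compl
  have hdisj : zeroLocus ((K ⊔ J : Ideal R) : Set R) = ∅ := by
    rw [zeroLocus_sup, ← hK]
    ext x
    simp only [Set.mem_inter_iff, Set.mem_compl_iff, Set.mem_empty_iff_false, iff_false, not_and]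
    intro hx hxJ
    exact (hx (h hxJ)).elim
  rw [zeroLocus_empty_iff_eq_top, Ideal.eq_top_iff_one, Submodule.mem_sup] at hdisj
  obtain ⟨k, hk, j, hj, hkj⟩ := hdisj
  refine ⟨k, ?_, ?_⟩
  · have : k - 1 = -j := by rw [← hkj]; ring
    rw [this]
    exact J.neg_mem hj
  · intro x hx
    by_contra hxU
    have : x ∈ zeroLocus (K : Set R) := by rw [← hK]; exact hxU
    exact hx (this hk)

/-- If `g ≡ 1` modulo `J`, then `R/J → R_g / J R_g` is bijective. -/
theorem bijective_quotientMap_away {R : Type*} [CommRing R] (J : Ideal R) (g : R)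
    (hg : g - 1 ∈ J) (R' : Type*) [CommRing R'] [Algebra R R'] [IsLocalization.Away g R'] :
    Function.Bijective (Ideal.quotientMap (J.map (algebraMap R R')) (algebraMap R R')
      Ideal.le_comap_map) := by
  have hpow : ∀ n : ℕ, g ^ n - 1 ∈ J := by
    intro n
    induction n with
    | zero => simp
    | succ n ih =>
      have : g ^ (n + 1) - 1 = g ^ n * (g - 1) + (g ^ n - 1) := by ring
      rw [this]
      exact J.add_mem (J.mul_mem_left _ hg) ih
  constructor
  · rw [injective_iff_map_eq_zero]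
    intro x hx
    obtain ⟨r, rfl⟩ := Ideal.Quotient.mk_surjective x
    rw [Ideal.quotientMap_mk, Ideal.Quotient.eq_zero_iff_mem,
      IsLocalization.algebraMap_mem_map_algebraMap_iff (Submonoid.powers g)] at hx
    obtain ⟨m, hm, hmr⟩ := hx
    obtain ⟨n, rfl⟩ := hm
    rw [Ideal.Quotient.eq_zero_iff_mem]
    have : r = g ^ n * r - (g ^ n - 1) * r := by ring
    rw [this]
    exact J.sub_mem hmr (J.mul_mem_right _ (hpow n))
  · intro y
    obtain ⟨y, rfl⟩ := Ideal.Quotient.mk_surjective y
    obtain ⟨n, r, hrn⟩ := IsLocalization.Away.surj g y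
    refine ⟨Ideal.Quotient.mk J r, ?_⟩
    rw [Ideal.quotientMap_mk, Ideal.Quotient.eq]
    have : algebraMap R R' r - y = y * algebraMap R R' (g ^ n - 1) := by
      rw [map_sub, map_pow, map_one, ← hrn]; ring
    rw [this]
    exact Ideal.mul_mem_left _ _ (Ideal.mem_map_of_mem _ (hpow n))

end Groth.Agent.Lib.Helper37
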