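import Groth.Agent.Lib.Helper37.HenselSplit
import Mathlib.RingTheory.LocalRing.Module
import Mathlib.RingTheory.Nakayama
import Mathlib.RingTheory.Localization.Away.Lemmas

/-!
Converse directions of Stacks 04GG (by helper37).

* `exists_root_of_finite_flat`: a finite flat residually trivial algebra containing a root of `f`
  gives a root of `f` in the local ring `R`.
* `henselianLocalRing_of_split`: (11) ⇒ (1).
-/

namespace Groth.Agent.Lib.Helper37

open Polynomial

/-- Core of the converse directions of Stacks 04GG: a finite flat `R`-algebra `B` containing a root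
`b` of `f` which is "residually trivial" produces a root of `f` in `R`. -/
theorem exists_root_of_finite_flat {R : Type*} [CommRing R] [IsLocalRing R] (f : R[X]) (a₀ : R)
    (h₁ : f.eval a₀ ∈ IsLocalRing.maximalIdeal R)
    (B : Type*) [CommRing B] [Algebra R B] [Module.Finite R B] [Module.Flat R B] (b : B)
    (hb : aeval b f = 0)
    (hne : (IsLocalRing.maximalIdeal R).map (algebraMap R B) ≠ ⊤)
    (hunit : IsUnit (aeval b (f /ₘ (X - C a₀))))
    (hgen : ∀ x : B, ∃ p p' : R[X], IsUnit (aeval b p') ∧ x * aeval b p' = aeval b p) :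
    ∃ a : R, f.IsRoot a ∧ a - a₀ ∈ IsLocalRing.maximalIdeal R := by
  set m := IsLocalRing.maximalIdeal R with hm
  set mB := m.map (algebraMap R B) with hmB
  set q : R[X] := f /ₘ (X - C a₀) with hq
  have hfq : f = (X - C a₀) * q + C (f.eval a₀) := by
    have := modByMonic_add_div f (X - C a₀)
    rw [modByMonic_X_sub_C_eq_C_eval] at this
    rw [hq, add_comm]
    exact this.symm
  -- `b ≡ a₀`
  have hba : b - algebraMap R B a₀ ∈ mB := by
    have h : (b - algebraMap R B a₀) * aeval b q = - algebraMap R B (f.eval a₀) := by
      have := congr(aeval b $hfq)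
      rw [hb, map_add, map_mul, map_sub, aeval_X, aeval_C] at this
      rw [aeval_C] at this
      linear_combination -this
    obtain ⟨u, hu⟩ := hunit
    have : b - algebraMap R B a₀ = - algebraMap R B (f.eval a₀) * ↑u⁻¹ := by
      rw [← h, ← hu, mul_assoc, Units.mul_inv, mul_one]
    rw [this]
    exact Ideal.mul_mem_right _ _ (mB.neg_mem (Ideal.mem_map_of_mem _ h₁))
  have hp : ∀ p : R[X], aeval b p - algebraMap R B (p.eval a₀) ∈ mB := by
    intro p
    obtain ⟨p₂, hp₂⟩ : (X - C a₀) ∣ p - C (p.eval a₀) := X_sub_C_dvd_sub_C_eval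
    have := congr(aeval b $hp₂)
    rw [map_sub, aeval_C, map_mul, map_sub, aeval_X, aeval_C] at this
    rw [this]
    exact Ideal.mul_mem_right _ _ hba
  have hunit_of : ∀ p : R[X], IsUnit (aeval b p) → IsUnit (p.eval a₀) := by
    intro p hpu
    by_contra hnu
    have hmem : p.eval a₀ ∈ m := (IsLocalRing.mem_maximalIdeal _).mpr hnu
    apply hne
    apply Ideal.eq_top_of_isUnit_mem _ _ hpu
    have := hp p
    have h2 : aeval b p = (aeval b p - algebraMap R B (p.eval a₀)) + algebraMap R B (p.eval a₀) := by
      ring
    rw [h2]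
    exact mB.add_mem this (Ideal.mem_map_of_mem _ hmem)
  have hres : ∀ x : B, ∃ r : R, x - algebraMap R B r ∈ mB := by
    intro x
    obtain ⟨p, p', hp'u, hx⟩ := hgen x
    obtain ⟨u, hu⟩ := hunit_of p' hp'u
    refine ⟨p.eval a₀ * ↑u⁻¹, ?_⟩
    have h3 : x - algebraMap R B (p.eval a₀ * ↑u⁻¹) =
        algebraMap R B ↑u⁻¹ * ((aeval b p - algebraMap R B (p.eval a₀)) -
          x * (aeval b p' - algebraMap R B (p'.eval a₀))) := by
      have h4 : algebraMap R B ↑u⁻¹ * algebraMap R B (p'.eval a₀) = 1 := by
        rw [← map_mul, ← hu, Units.inv_mul, map_one]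
      rw [map_mul]
      linear_combination (algebraMap R B ↑u⁻¹) * hx + (-x) * h4
    rw [h3]
    exact Ideal.mul_mem_left _ _ (mB.sub_mem (hp p) (Ideal.mul_mem_left _ _ (hp p')))
  -- surjectivity
  have hsurj : Function.Surjective (algebraMap R B) := by
    have hN : (⊤ : Submodule R B) ≤ LinearMap.range (Algebra.linearMap R B) := by
      apply Submodule.le_of_le_smul_of_le_jacobson_bot (I := m) Module.Finite.fg_top
        (IsLocalRing.maximalIdeal_le_jacobson _)
      intro x _
      obtain ⟨r, hr⟩ := hres x
      have : x = algebraMap R B r + (x - algebraMap R B r) := by ring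
      rw [this]
      refine Submodule.add_mem_sup ⟨r, rfl⟩ ?_
      rw [Ideal.smul_top_eq_map]
      exact hr
    intro x
    obtain ⟨r, hr⟩ := hN (Submodule.mem_top (x := x))
    exact ⟨r, hr⟩
  have hfree : Module.Free R B := Module.free_of_flat_of_isLocalRing
  have hnontriv : Nontrivial B := by
    by_contra hnt
    rw [not_nontrivial_iff_subsingleton] at hnt
    exact hne (Subsingleton.elim _ _)
  have hinj : Function.Injective (algebraMap R B) := by
    rw [injective_iff_map_eq_zero]
    intro r hr
    let bas := Module.Free.chooseBasis R B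
    obtain ⟨i⟩ : Nonempty (Module.Free.ChooseBasisIndex R B) := bas.index_nonempty
    have h5 : r • bas i = 0 := by rw [Algebra.smul_def, hr, zero_mul]
    have := congr(bas.repr $h5 i)
    simpa using this
  obtain ⟨a, ha⟩ := hsurj b
  refine ⟨a, ?_, ?_⟩
  · apply hinj
    rw [map_zero, ← hb, ← ha, aeval_algebraMap_apply, coe_aeval_eq_eval]
  · by_contra hnu
    have hu : IsUnit (a - a₀) := by
      by_contra h
      exact hnu ((IsLocalRing.mem_maximalIdeal _).mpr h)
    apply hne
    apply Ideal.eq_top_of_isUnit_mem _ _ (hu.map (algebraMap R B))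
    rw [map_sub, ha]
    exact hba


universe u

/-- Stacks 04GG (11) ⇒ (1). -/
theorem henselianLocalRing_of_split (R : Type u) [CommRing R] [IsLocalRing R]
    (h : ∀ (S : Type u) [CommRing S] [Algebra R S] [Algebra.FiniteType R S],
      ∃ e : S, IsIdempotentElem e ∧ Module.Finite R (S ⧸ Ideal.span ({1 - e} : Set S)) ∧
        ∀ (q : Ideal (S ⧸ Ideal.span ({e} : Set S))) [q.IsPrime],
          q.LiesOver (IsLocalRing.maximalIdeal R) → ¬ Algebra.QuasiFiniteAt R q) :
    HenselianLocalRing R where
  is_henselian f hf a₀ h₁ h₂ := by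
    set m := IsLocalRing.maximalIdeal R with hm
    set S := AdjoinRoot f
    set t : S := AdjoinRoot.root f with ht
    have hfinS : Module.Finite R S := hf.finite_adjoinRoot
    have hfreeS : Module.Free R S := hf.free_adjoinRoot
    have hft : aeval t f = 0 := AdjoinRoot.aeval_eq f ▸ AdjoinRoot.mk_self
    set q₁ : R[X] := f /ₘ (X - C a₀) with hq₁
    have hfq : f = (X - C a₀) * q₁ + C (f.eval a₀) := by
      have := modByMonic_add_div f (X - C a₀)
      rw [modByMonic_X_sub_C_eq_C_eval] at this
      rw [hq₁, add_comm]
      exact this.symm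
    have hqeval : q₁.eval a₀ = f.derivative.eval a₀ := by
      have := congr(eval a₀ (derivative $hfq))
      simp only [derivative_add, derivative_mul, derivative_sub, derivative_X, derivative_C,
        sub_zero, one_mul, eval_add, eval_mul, eval_sub, eval_X, eval_C, sub_self, zero_mul,
        add_zero] at this
      exact this.symm
    set g : S := aeval t q₁ with hg
    set Sg := Localization.Away g
    have : Algebra.FinitePresentation S Sg := IsLocalization.Away.finitePresentation g
    have hftS : Algebra.FiniteType R S := inferInstance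
    have hftSg : Algebra.FiniteType S Sg := inferInstance
    have : Algebra.FiniteType R Sg := Algebra.FiniteType.trans hftS hftSg
    obtain ⟨e, he, hfin, hnq⟩ := h Sg
    set A := Sg ⧸ Ideal.span ({1 - e} : Set Sg)
    set b : A := algebraMap S A t with hbdef
    have hflat : Module.Flat R A := by
      have : IsLocalization.Away e A := IsLocalization.Away.quotient_of_isIdempotentElem he
      have h1 : Module.Flat Sg A := IsLocalization.flat A (Submonoid.powers e)
      have h2 : Module.Flat S Sg := IsLocalization.flat Sg (Submonoid.powers g)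
      have h3 : Module.Flat R Sg := Module.Flat.trans R S Sg
      exact Module.Flat.trans R Sg A
    have hb : aeval b f = 0 := by
      rw [hbdef, aeval_algebraMap_apply, hft, map_zero]
    have hgA : IsUnit (algebraMap S A g) := by
      rw [IsScalarTower.algebraMap_apply S Sg A]
      exact (IsLocalization.Away.algebraMap_isUnit g).map _
    have hunit : IsUnit (aeval b (f /ₘ (X - C a₀))) := by
      rw [hbdef, aeval_algebraMap_apply]
      exact hgA
    have hgen : ∀ x : A, ∃ p p' : R[X], IsUnit (aeval b p') ∧ x * aeval b p' = aeval b p := by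
      intro x
      obtain ⟨y, rfl⟩ := Ideal.Quotient.mk_surjective x
      obtain ⟨n, s, hy⟩ := IsLocalization.Away.surj g y
      obtain ⟨p, rfl⟩ := AdjoinRoot.mk_surjective s
      refine ⟨p, q₁ ^ n, ?_, ?_⟩
      · rw [map_pow, hbdef, aeval_algebraMap_apply]
        exact hgA.pow n
      · rw [map_pow, hbdef, aeval_algebraMap_apply, aeval_algebraMap_apply, ← hg,
          AdjoinRoot.aeval_eq, IsScalarTower.algebraMap_apply S Sg A,
          IsScalarTower.algebraMap_apply S Sg A, ← hy, map_mul, map_pow]
        rfl
    -- the closed fibre of `Sg` is nonempty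
    have hmSg : m.map (algebraMap R Sg) ≠ ⊤ := by
      have hev : f.eval₂ (IsLocalRing.residue R) (IsLocalRing.residue R a₀) = 0 := by
        rw [eval₂_hom]
        exact (IsLocalRing.residue_eq_zero_iff _).mpr h₁
      let ψ₀ : S →+* IsLocalRing.ResidueField R :=
        AdjoinRoot.lift (IsLocalRing.residue R) (IsLocalRing.residue R a₀) hev
      have hψ₀ : ∀ p : R[X], ψ₀ (aeval t p) = IsLocalRing.residue R (p.eval a₀) := by
        intro p
        rw [AdjoinRoot.aeval_eq, AdjoinRoot.lift_mk, eval₂_hom]
      have hψ₀g : IsUnit (ψ₀ g) := by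
        rw [hg, hψ₀, hqeval]
        exact h₂.map _
      let ψ : Sg →+* IsLocalRing.ResidueField R := IsLocalization.Away.lift g hψ₀g
      have hψ : ψ.comp (algebraMap R Sg) = IsLocalRing.residue R := by
        ext r
        rw [RingHom.comp_apply, IsScalarTower.algebraMap_apply R S Sg]
        rw [IsLocalization.Away.lift_eq]
        have : algebraMap R S r = aeval t (C r) := by rw [aeval_C]
        rw [this, hψ₀, eval_C]
      intro htop
      have h1 : (m.map (algebraMap R Sg)).map ψ = ⊥ := by
        rw [Ideal.map_map, hψ, Ideal.map_eq_bot_iff_le_ker, IsLocalRing.ker_residue]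
      have h2 : (1 : IsLocalRing.ResidueField R) ∈ (m.map (algebraMap R Sg)).map ψ := by
        rw [htop, ← map_one ψ]
        exact Ideal.mem_map_of_mem _ Submodule.mem_top
      rw [h1, Ideal.mem_bot] at h2
      exact one_ne_zero h2
    have hmC : m.map (algebraMap R (Sg ⧸ Ideal.span ({e} : Set Sg))) = ⊤ := by
      by_contra hne
      obtain ⟨M, hM, hle⟩ := Ideal.exists_le_maximal _ hne
      have hMp : M.IsPrime := hM.isPrime
      have hover : M.LiesOver m := by
        constructor
        rw [Ideal.map_le_iff_le_comap] at hle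
        exact ((IsLocalRing.maximalIdeal.isMaximal R).eq_of_le
          (Ideal.comap_ne_top _ hM.ne_top) hle)
      exact hnq M hover inferInstance
    have hne : m.map (algebraMap R A) ≠ ⊤ := by
      intro htop
      apply hmSg
      rw [Ideal.eq_top_iff_one]
      have e1 : (1 : A) ∈ (m.map (algebraMap R Sg)).map (Ideal.Quotient.mk _) := by
        rw [Ideal.map_map]
        have : (Ideal.Quotient.mk (Ideal.span ({1 - e} : Set Sg))).comp (algebraMap R Sg) =
            algebraMap R A := rfl
        rw [this, htop]
        exact Submodule.mem_top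
      have e2 : (1 : Sg ⧸ Ideal.span ({e} : Set Sg)) ∈
          (m.map (algebraMap R Sg)).map (Ideal.Quotient.mk _) := by
        rw [Ideal.map_map]
        have : (Ideal.Quotient.mk (Ideal.span ({e} : Set Sg))).comp (algebraMap R Sg) =
            algebraMap R _ := rfl
        rw [this, hmC]
        exact Submodule.mem_top
      rw [Ideal.mem_map_iff_of_surjective _ Ideal.Quotient.mk_surjective] at e1 e2
      obtain ⟨z, hz, hz1⟩ := e1
      obtain ⟨w, hw, hw1⟩ := e2
      rw [← map_one (Ideal.Quotient.mk _), Ideal.Quotient.eq, Ideal.mem_span_singleton'] at hz1 hw1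
      obtain ⟨c, hc⟩ := hz1
      obtain ⟨d, hd⟩ := hw1
      have : (1 : Sg) = z + w - z * w := by
        have h0 : (1 - e) * e = 0 := by
          have := he.eq
          linear_combination -this
        linear_combination (c * d) * h0 + (-(w - 1)) * hc + (-(c * (1 - e))) * hd
      rw [this]
      exact Ideal.sub_mem _ (Ideal.add_mem _ hz hw) (Ideal.mul_mem_left _ _ hw)
    exact exists_root_of_finite_flat f a₀ h₁ A b hb hne hunit hgen

end Groth.Agent.Lib.Helper37
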