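import Groth.Agent.Lib.Helper37.HenselConverse

/-!
EGA IV 18.5.11 a) ⇔ c') (by helper37): a local ring is Henselian iff local rings of finite type
algebras at quasi-finite points of the closed fibre are finite.
-/

namespace Groth.Agent.Lib.Helper37

open Polynomial

universe u

/-- Over a Henselian local ring, the local ring of a finite type algebra at a prime over the closed
point at which it is quasi-finite is a finite module. -/
theorem finite_localization_of_quasiFiniteAt (R : Type u) [CommRing R] [HenselianLocalRing R]
    (S : Type u) [CommRing S] [Algebra R S] [Algebra.FiniteType R S]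
    (q : Ideal S) [q.IsPrime] [q.LiesOver (IsLocalRing.maximalIdeal R)]
    [Algebra.QuasiFiniteAt R q] : Module.Finite R (Localization.AtPrime q) := by
  set m := IsLocalRing.maximalIdeal R with hm
  obtain ⟨e, he, heq, hfin, huniq⟩ := exists_idempotent_of_quasiFiniteAt R S q
  set J := Ideal.span ({1 - e} : Set S) with hJ
  set A := S ⧸ J
  have hint : Algebra.IsIntegral R A := Algebra.IsIntegral.of_finite R A
  have hmk1 : Ideal.Quotient.mk J (1 - e) = 0 :=
    Ideal.Quotient.eq_zero_iff_mem.mpr (Ideal.subset_span rfl)
  -- every maximal ideal of `A` pulls back to `q`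
  have hmax : ∀ M : Ideal A, M.IsMaximal → M.comap (Ideal.Quotient.mk J) = q := by
    intro M hM
    have hMp : M.IsPrime := hM.isPrime
    apply huniq _ (Ideal.comap_isPrime _ _)
    · constructor
      have h1 : (M.comap (algebraMap R A)).IsMaximal :=
        Ideal.isMaximal_comap_of_isIntegral_of_isMaximal (R := R) M
      have h2 : M.comap (algebraMap R A) = m := IsLocalRing.eq_maximalIdeal h1
      rw [← hm, ← h2]
      rfl
    · intro hmem
      rw [Ideal.mem_comap] at hmem
      apply hM.ne_top
      rw [Ideal.eq_top_iff_one]
      have : (1 : A) = Ideal.Quotient.mk J e + Ideal.Quotient.mk J (1 - e) := by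
        rw [← map_add]; simp
      rw [this, hmk1, add_zero]
      exact hmem
  have h1eq : 1 - e ∈ q := by
    have h0 : e * (1 - e) = 0 := by
      have := he.eq
      linear_combination -this
    have hmem : e * (1 - e) ∈ q := h0 ▸ q.zero_mem
    exact ((inferInstance : q.IsPrime).mem_or_mem hmem).resolve_left heq
  have hJq : J ≤ q := by
    rw [hJ, Ideal.span_le, Set.singleton_subset_iff]
    exact h1eq
  have hnontriv : Nontrivial A :=
    Ideal.Quotient.nontrivial_iff.mpr
      (fun h => (inferInstance : q.IsPrime).ne_top (top_le_iff.mp (h ▸ hJq)))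
  obtain ⟨M, hM⟩ := Ideal.exists_maximal A
  have hMq : ∀ M' : Ideal A, M'.IsMaximal → M' = q.map (Ideal.Quotient.mk J) := by
    intro M' hM'
    rw [← hmax M' hM', Ideal.map_comap_of_surjective _ Ideal.Quotient.mk_surjective]
  have hloc : IsLocalRing A :=
    IsLocalRing.of_unique_max_ideal ⟨M, hM, fun M' hM' => by rw [hMq M hM, hMq M' hM']⟩
  have hmaxA : IsLocalRing.maximalIdeal A = M := (IsLocalRing.eq_maximalIdeal hM).symm
  have hloc2 : IsLocalization.AtPrime A q :=
    { map_units := by
        rintro ⟨s, hs⟩
        change IsUnit (Ideal.Quotient.mk J s)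
        rw [← IsLocalRing.notMem_maximalIdeal, hmaxA]
        intro hmem
        apply hs
        rw [← hmax M hM]
        exact hmem
      surj := by
        intro z
        obtain ⟨s, rfl⟩ := Ideal.Quotient.mk_surjective z
        exact ⟨(s, 1), by rw [Submonoid.coe_one, map_one, mul_one]; rfl⟩
      exists_of_eq := by
        intro x y hxy
        refine ⟨⟨e, heq⟩, ?_⟩
        change Ideal.Quotient.mk J x = Ideal.Quotient.mk J y at hxy
        rw [Ideal.Quotient.eq, hJ, Ideal.mem_span_singleton'] at hxy
        obtain ⟨c, hc⟩ := hxy
        change e * x = e * y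
        have := he.eq
        linear_combination (-e) * hc + (-c) * this }
  let φ : Localization.AtPrime q ≃ₐ[S] A := IsLocalization.algEquiv q.primeCompl _ _
  exact Module.Finite.equiv (φ.restrictScalars R).symm.toLinearEquiv


/-- EGA IV 18.5.11 a) ⇐ c'): if local rings at quasi-finite points of the closed fibre are finite,
the local ring is Henselian. -/
theorem henselianLocalRing_of_finite_localization (R : Type u) [CommRing R] [IsLocalRing R]
    (h : ∀ (S : Type u) [CommRing S] [Algebra R S] [Algebra.FiniteType R S] (q : Ideal S)
      [q.IsPrime], q.LiesOver (IsLocalRing.maximalIdeal R) → Algebra.QuasiFiniteAt R q →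
        Module.Finite R (Localization.AtPrime q)) :
    HenselianLocalRing R where
  is_henselian f hf a₀ h₁ h₂ := by
    set m := IsLocalRing.maximalIdeal R with hm
    set S := AdjoinRoot f
    set t : S := AdjoinRoot.root f with ht
    have hfinS : Module.Finite R S := hf.finite_adjoinRoot
    have hfreeS : Module.Free R S := hf.free_adjoinRoot
    have hft : aeval t f = 0 := AdjoinRoot.aeval_eq f ▸ AdjoinRoot.mk_self
    set q₁ : R[X] := f /ₘ (X - C a₀) with hq₁
    have hfq : f = (X - C a₀) * q₁ + C (f.eval a₀) := by
      have := modByMonic_add_div f (X - C a₀)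
      rw [modByMonic_X_sub_C_eq_C_eval] at this
      rw [hq₁, add_comm]
      exact this.symm
    have hqeval : q₁.eval a₀ = f.derivative.eval a₀ := by
      have := congr(eval a₀ (derivative $hfq))
      simp only [derivative_add, derivative_mul, derivative_sub, derivative_X, derivative_C,
        sub_zero, one_mul, eval_add, eval_mul, eval_sub, eval_X, eval_C, sub_self, zero_mul,
        add_zero] at this
      exact this.symm
    set g : S := aeval t q₁ with hg
    have hev : f.eval₂ (IsLocalRing.residue R) (IsLocalRing.residue R a₀) = 0 := by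
      rw [eval₂_hom]
      exact (IsLocalRing.residue_eq_zero_iff _).mpr h₁
    let ψ₀ : S →+* IsLocalRing.ResidueField R :=
      AdjoinRoot.lift (IsLocalRing.residue R) (IsLocalRing.residue R a₀) hev
    have hψ₀ : ∀ p : R[X], ψ₀ (aeval t p) = IsLocalRing.residue R (p.eval a₀) := by
      intro p
      rw [AdjoinRoot.aeval_eq, AdjoinRoot.lift_mk, eval₂_hom]
    have hψ₀R : ψ₀.comp (algebraMap R S) = IsLocalRing.residue R := by
      ext r
      have : algebraMap R S r = aeval t (C r) := by rw [aeval_C]
      rw [RingHom.comp_apply, this, hψ₀, eval_C]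
    have hψ₀surj : Function.Surjective ψ₀ := by
      intro x
      obtain ⟨r, rfl⟩ := IsLocalRing.residue_surjective x
      exact ⟨algebraMap R S r, by rw [← RingHom.comp_apply, hψ₀R]⟩
    set q : Ideal S := RingHom.ker ψ₀ with hq
    have hqmax : q.IsMaximal := RingHom.ker_isMaximal_of_surjective ψ₀ hψ₀surj
    have hqprime : q.IsPrime := hqmax.isPrime
    have hqover : q.LiesOver m := by
      constructor
      rw [Ideal.under, hq, RingHom.comap_ker, hψ₀R, IsLocalRing.ker_residue]
    have hgq : g ∉ q := by
      rw [hq, RingHom.mem_ker, hg, hψ₀, hqeval]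
      exact (h₂.map (IsLocalRing.residue R)).ne_zero
    set B := Localization.AtPrime q
    have hfinB : Module.Finite R B := h S q hqover inferInstance
    have hflat : Module.Flat R B := by
      have h2 : Module.Flat S B := IsLocalization.flat B q.primeCompl
      exact Module.Flat.trans R S B
    set b : B := algebraMap S B t with hbdef
    have hb : aeval b f = 0 := by
      rw [hbdef, aeval_algebraMap_apply, hft, map_zero]
    have hunit : IsUnit (aeval b (f /ₘ (X - C a₀))) := by
      rw [hbdef, aeval_algebraMap_apply]
      exact IsLocalization.map_units (M := q.primeCompl) B ⟨g, hgq⟩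
    have hgen : ∀ x : B, ∃ p p' : R[X], IsUnit (aeval b p') ∧ x * aeval b p' = aeval b p := by
      intro x
      obtain ⟨s, ⟨s', hs'⟩, rfl⟩ := IsLocalization.exists_mk'_eq q.primeCompl x
      obtain ⟨p, rfl⟩ := AdjoinRoot.mk_surjective s
      obtain ⟨p', rfl⟩ := AdjoinRoot.mk_surjective s'
      refine ⟨p, p', ?_, ?_⟩
      · rw [hbdef, aeval_algebraMap_apply, AdjoinRoot.aeval_eq]
        exact IsLocalization.map_units (M := q.primeCompl) B ⟨_, hs'⟩
      · rw [hbdef, aeval_algebraMap_apply, aeval_algebraMap_apply, AdjoinRoot.aeval_eq,
          AdjoinRoot.aeval_eq]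
        exact IsLocalization.mk'_spec _ _ _
    have hne : m.map (algebraMap R B) ≠ ⊤ := by
      intro htop
      have hle : m.map (algebraMap R B) ≤ IsLocalRing.maximalIdeal B := by
        rw [IsScalarTower.algebraMap_eq R S B, ← Ideal.map_map,
          ← Localization.AtPrime.map_eq_maximalIdeal]
        apply Ideal.map_mono
        rw [Ideal.map_le_iff_le_comap]
        exact hqover.over.le
      rw [htop] at hle
      exact (IsLocalRing.maximalIdeal.isMaximal B).ne_top (top_le_iff.mp hle)
    exact exists_root_of_finite_flat f a₀ h₁ B b hb hne hunit hgen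

end Groth.Agent.Lib.Helper37
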