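import Groth.Agent.Lib.Helper37.HenselCore
import Mathlib.RingTheory.Unramified.Finite
import Mathlib.RingTheory.Etale.Basic
import Mathlib.RingTheory.Localization.Away.Basic
import Mathlib.RingTheory.Localization.Ideal
import Mathlib.RingTheory.Ideal.IdempotentFG

/-!
Henselian pairs: lifting sections of etale algebras which have a finite model, by helper37.

Main result: `exists_lift_of_etale_of_finite`.  If `(A, I)` is a Henselian pair (Mathlib's
`HenselianRing`), `B` is a module-finite `A`-algebra and `B' = B[1/Δ]` is etale over `A`, then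
every `A`-algebra map `B' → A/I` lifts to an `A`-algebra map `B' → A`.
-/

namespace Groth.Agent.Lib.Helper37

open Polynomial TensorProduct

/-- For an unramified algebra `B'` of finite type over `A` and an `A`-algebra map
`σ' : B' → A/I`, there is `θ' ∈ B'` with `σ' θ' = 1` and `θ' * ker σ' ⊆ IB'`
(`θ'` is an idempotent modulo `IB'` cutting out the section). -/
theorem exists_theta_of_unramified {A : Type*} [CommRing A] (I : Ideal A)
    {B' : Type*} [CommRing B'] [Algebra A B']
    [Algebra.FormallyUnramified A B'] [Algebra.EssFiniteType A B']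
    (σ' : B' →ₐ[A] A ⧸ I) :
    ∃ θ' : B', σ' θ' = 1 ∧ ∀ s : B', σ' s = 0 →
      θ' * s ∈ I.map (algebraMap A B') := by
  classical
  obtain ⟨t, ht1, ht2⟩ :=
    (Algebra.FormallyUnramified.iff_exists_tensorProduct (R := A) (S := B')).mp inferInstance
  set IB' := I.map (algebraMap A B') with hIB'
  let C := B' ⧸ IB'
  let ι : A ⧸ I →ₐ[A] C := Ideal.Quotient.liftₐ I (Algebra.ofId A C) (by
    intro a ha
    change algebraMap A C a = 0
    rw [IsScalarTower.algebraMap_apply A B' C, Ideal.Quotient.algebraMap_eq,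
      Ideal.Quotient.eq_zero_iff_mem]
    exact Ideal.mem_map_of_mem _ ha)
  let φ₁ : B' →ₐ[A] C := ι.comp σ'
  let φ₂ : B' →ₐ[A] C := Ideal.Quotient.mkₐ A IB'
  let Φ := Algebra.TensorProduct.productMap φ₁ φ₂
  have ha : ∀ s : B', (φ₂ s - φ₁ s) * Φ t = 0 := by
    intro s
    have := congr(Φ $(ht1 s))
    rw [map_mul, map_sub, map_zero] at this
    simpa [Φ, Algebra.TensorProduct.productMap_apply_tmul] using this
  have hker : ∀ x ∈ IB', σ' x = 0 := by
    intro x hx
    have : IB' ≤ RingHom.ker σ'.toRingHom := by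
      rw [hIB', Ideal.map_le_iff_le_comap]
      intro a ha
      rw [Ideal.mem_comap, RingHom.mem_ker]
      change σ' (algebraMap A B' a) = 0
      rw [AlgHom.commutes]
      exact Ideal.Quotient.eq_zero_iff_mem.mpr ha
    exact this hx
  let σbar : C →ₐ[A] A ⧸ I := Ideal.Quotient.liftₐ IB' σ' hker
  have hb : σbar (Φ t) = 1 := by
    have h1 : σbar.comp Φ = σ'.comp (Algebra.TensorProduct.lmul' A) := by
      apply Algebra.TensorProduct.ext'
      intro s₁ s₂
      have h2 : σbar (ι (σ' s₁)) = σ' s₁ := by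
        obtain ⟨a, ha⟩ := Ideal.Quotient.mk_surjective (σ' s₁)
        rw [← ha]
        change σbar (ι (algebraMap A (A ⧸ I) a)) = algebraMap A (A ⧸ I) a
        rw [AlgHom.commutes, AlgHom.commutes]
      simp only [AlgHom.comp_apply, Φ, Algebra.TensorProduct.productMap_apply_tmul, map_mul,
        Algebra.TensorProduct.lmul'_apply_tmul, φ₁, φ₂]
      rw [h2]
      rfl
    have := congr($h1 t)
    simpa [ht2] using this
  obtain ⟨θ', hθ'⟩ := Ideal.Quotient.mk_surjective (Φ t)
  refine ⟨θ', ?_, ?_⟩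
  · have : σbar (Ideal.Quotient.mk IB' θ') = σ' θ' := rfl
    rw [← this, hθ', hb]
  · intro s hs
    rw [← Ideal.Quotient.eq_zero_iff_mem, map_mul, hθ']
    have := ha s
    have h3 : φ₁ s = 0 := by simp [φ₁, hs]
    rw [h3, sub_zero, mul_comm] at this
    exact this


/-- Clearing denominators: an element of `B` whose image in `B[1/Δ]` lies in `IB[1/Δ]`
lies in `IB` after multiplication by a power of `Δ`. -/
theorem exists_pow_mul_mem_of_algebraMap_mem {A : Type*} [CommRing A] (I : Ideal A)
    {B B' : Type*} [CommRing B] [CommRing B'] [Algebra A B] [Algebra A B'] [Algebra B B']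
    [IsScalarTower A B B'] (Δ : B) [IsLocalization.Away Δ B'] (z : B)
    (hz : algebraMap B B' z ∈ I.map (algebraMap A B')) :
    ∃ k : ℕ, Δ ^ k * z ∈ I.map (algebraMap A B) := by
  have h1 : I.map (algebraMap A B') = (I.map (algebraMap A B)).map (algebraMap B B') := by
    rw [Ideal.map_map, ← IsScalarTower.algebraMap_eq]
  rw [h1, IsLocalization.mem_map_algebraMap_iff (Submonoid.powers Δ)] at hz
  obtain ⟨⟨⟨i₀, hi₀⟩, ⟨_, k, rfl⟩⟩, h⟩ := hz
  simp only at h
  rw [← map_mul, IsLocalization.eq_iff_exists (Submonoid.powers Δ)] at h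
  obtain ⟨⟨_, k', rfl⟩, h⟩ := h
  simp only at h
  refine ⟨k' + k, ?_⟩
  have : Δ ^ (k' + k) * z = Δ ^ k' * i₀ := by rw [← h, pow_add]; ring
  rw [this]
  exact Ideal.mul_mem_left _ _ hi₀

/-- Descent of the element `θ'` from `B[1/Δ]` to the finite algebra `B`. -/
theorem exists_theta_descent {A : Type*} [CommRing A] (I : Ideal A)
    {B B' : Type*} [CommRing B] [CommRing B'] [Algebra A B] [Algebra A B'] [Algebra B B']
    [IsScalarTower A B B'] [Module.Finite A B] (Δ : B) [IsLocalization.Away Δ B']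
    (σ' : B' →ₐ[A] A ⧸ I) (θ' : B') (hθ'1 : σ' θ' = 1)
    (hθ' : ∀ s : B', σ' s = 0 → θ' * s ∈ I.map (algebraMap A B')) :
    ∃ θ : B, σ' (algebraMap B B' θ) = 1 ∧ ∀ x : B, σ' (algebraMap B B' x) = 0 →
      θ * x ∈ I.map (algebraMap A B) := by
  classical
  set IB := I.map (algebraMap A B) with hIB
  -- σ'(Δ) is a unit
  have hΔunit : IsUnit (σ' (algebraMap B B' Δ)) :=
    (IsLocalization.Away.algebraMap_isUnit (S := B') Δ).map σ'
  obtain ⟨d, hd⟩ := Ideal.Quotient.mk_surjective (↑hΔunit.unit⁻¹ : A ⧸ I)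
  have hdΔ : Ideal.Quotient.mk I d * σ' (algebraMap B B' Δ) = 1 := by
    rw [hd]; exact hΔunit.val_inv_mul
  obtain ⟨n, x₀, hx₀⟩ := IsLocalization.Away.surj Δ θ'
  obtain ⟨N, s, hs⟩ := Module.Finite.exists_fin (R := A) (M := B)
  have hl : ∀ i, ∃ a : A, Ideal.Quotient.mk I a = σ' (algebraMap B B' (s i)) :=
    fun i => Ideal.Quotient.mk_surjective _
  choose l hl using hl
  have hz : ∀ i, ∃ k : ℕ, Δ ^ k * (x₀ * (s i - algebraMap A B (l i))) ∈ IB := by
    intro i
    apply exists_pow_mul_mem_of_algebraMap_mem (B' := B') I Δ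
    rw [map_mul, ← hx₀, map_sub, ← IsScalarTower.algebraMap_apply]
    have : θ' * algebraMap B B' Δ ^ n * (algebraMap B B' (s i) - algebraMap A B' (l i)) =
        algebraMap B B' Δ ^ n * (θ' * (algebraMap B B' (s i) - algebraMap A B' (l i))) := by ring
    rw [this]
    apply Ideal.mul_mem_left
    apply hθ'
    rw [map_sub, AlgHom.commutes, ← hl i]
    exact sub_self _
  choose K hK using hz
  set Mx : ℕ := ∑ i, K i with hMx
  have hKle : ∀ i, K i ≤ Mx := fun i => Finset.single_le_sum (fun _ _ => Nat.zero_le _) (Finset.mem_univ i)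
  set θ : B := (d ^ (Mx + n)) • (Δ ^ Mx * x₀) with hθdef
  have hgen : ∀ i, θ * (s i - algebraMap A B (l i)) ∈ IB := by
    intro i
    have : θ * (s i - algebraMap A B (l i)) =
        algebraMap A B (d ^ (Mx + n)) * Δ ^ (Mx - K i) *
          (Δ ^ K i * (x₀ * (s i - algebraMap A B (l i)))) := by
      rw [hθdef, Algebra.smul_def]
      have : Δ ^ Mx = Δ ^ (Mx - K i) * Δ ^ K i := by
        rw [← pow_add, Nat.sub_add_cancel (hKle i)]
      rw [this]; ring
    rw [this]
    exact Ideal.mul_mem_left _ _ (hK i)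
  refine ⟨θ, ?_, ?_⟩
  · have e1 : σ' (algebraMap B B' (algebraMap A B d)) = Ideal.Quotient.mk I d := by
      rw [← IsScalarTower.algebraMap_apply, AlgHom.commutes]; rfl
    rw [hθdef, Algebra.smul_def, map_mul, map_mul, map_mul, map_mul, ← hx₀, map_mul, hθ'1,
      map_pow, map_pow, map_pow, map_pow, map_pow, map_pow, e1, one_mul, ← pow_add, ← mul_pow,
      hdΔ, one_pow]
  · intro x hx
    have hxs : x ∈ Submodule.span A (Set.range s) := hs ▸ Submodule.mem_top
    obtain ⟨c, hc⟩ := (Submodule.mem_span_range_iff_exists_fun A).mp hxs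
    have hsum : ∑ i, c i * l i ∈ I := by
      rw [← Ideal.Quotient.eq_zero_iff_mem, ← hx, ← hc, map_sum, map_sum, map_sum]
      apply Finset.sum_congr rfl
      intro i _
      rw [map_mul, hl i, Algebra.smul_def, map_mul, map_mul, ← IsScalarTower.algebraMap_apply,
        AlgHom.commutes]
      rfl
    have : θ * x = ∑ i, algebraMap A B (c i) * (θ * (s i - algebraMap A B (l i))) +
        algebraMap A B (∑ i, c i * l i) * θ := by
      rw [← hc, map_sum, Finset.sum_mul, Finset.mul_sum, ← Finset.sum_add_distrib]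
      apply Finset.sum_congr rfl
      intro i _
      rw [Algebra.smul_def, map_mul]; ring
    rw [this]
    refine IB.add_mem (Submodule.sum_mem _ fun i _ => Ideal.mul_mem_left _ _ (hgen i)) ?_
    exact Ideal.mul_mem_right _ _ (Ideal.mem_map_of_mem _ hsum)


/-- **Sections of étale algebras with a finite model lift.**
Let `(A, I)` be a Henselian pair, `B` a module-finite `A`-algebra, `Δ ∈ B` such that
`B' = B[1/Δ]` is étale over `A`.  Then every `A`-algebra map `B' → A/I` lifts to `B' → A`. -/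
theorem exists_lift_of_etale_of_finite {A : Type*} [CommRing A] (I : Ideal A)
    [hI : HenselianRing A I]
    {B B' : Type*} [CommRing B] [CommRing B'] [Algebra A B] [Algebra A B'] [Algebra B B']
    [IsScalarTower A B B'] [Module.Finite A B] (Δ : B) [IsLocalization.Away Δ B']
    [Algebra.Etale A B'] (σ' : B' →ₐ[A] A ⧸ I) :
    ∃ τ : B' →ₐ[A] A, (Ideal.Quotient.mkₐ A I).comp τ = σ' := by
  classical
  obtain ⟨θ', hθ'1, hθ'⟩ := exists_theta_of_unramified I σ'
  obtain ⟨θ, hθ1, hθ⟩ := exists_theta_descent I Δ σ' θ' hθ'1 hθ'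
  set σ : B →ₐ[A] A ⧸ I := σ'.comp (IsScalarTower.toAlgHom A B B') with hσ
  have hσapp : ∀ x, σ x = σ' (algebraMap B B' x) := fun x => rfl
  obtain ⟨e, he, heθ, heB⟩ := exists_idempotent_of_section I σ θ hθ1 hθ
  set IB := I.map (algebraMap A B) with hIB
  have hσIB : ∀ x ∈ IB, σ x = 0 := by
    intro x hx
    have : IB ≤ RingHom.ker σ.toRingHom := by
      rw [hIB, Ideal.map_le_iff_le_comap]
      intro a ha
      rw [Ideal.mem_comap, RingHom.mem_ker]
      change σ (algebraMap A B a) = 0
      rw [AlgHom.commutes]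
      exact Ideal.Quotient.eq_zero_iff_mem.mpr ha
    exact this hx
  have hσe : σ e = 1 := by
    have : σ e = σ (e - θ) + σ θ := by rw [← map_add]; ring_nf
    rw [this, hσIB _ heθ, zero_add, hσapp, hθ1]
  set e' : B' := algebraMap B B' e with he'
  have he'idem : IsIdempotentElem e' := he.map (algebraMap B B')
  have hσ'e' : σ' e' = 1 := hσe
  set J : Ideal B' := Ideal.span {1 - e'} with hJ
  let C := B' ⧸ J
  have hmke' : Ideal.Quotient.mk J e' = 1 := by
    rw [← sub_eq_zero, ← map_one (Ideal.Quotient.mk J), ← map_sub, Ideal.Quotient.eq_zero_iff_mem,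
      ← neg_sub, hJ]
    exact Ideal.neg_mem_iff _ |>.mpr (Ideal.subset_span rfl)
  -- elements of `B` map into the image of `A` in `C`
  have hBC : ∀ y : B, ∃ a : A, e * y = a • e ∧
      Ideal.Quotient.mk J (algebraMap B B' y) = algebraMap A C a := by
    intro y
    obtain ⟨a, ha⟩ := heB y
    refine ⟨a, ha, ?_⟩
    have h1 : Ideal.Quotient.mk J (algebraMap B B' y) =
        Ideal.Quotient.mk J (algebraMap B B' (e * y)) := by
      rw [map_mul, map_mul, ← he', hmke', one_mul]
    rw [h1, ha, Algebra.smul_def, map_mul, map_mul, ← he', hmke', mul_one,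
      ← IsScalarTower.algebraMap_apply]
    rfl
  -- `Δ` acts on `e` through a unit of `A`
  obtain ⟨aΔ, haΔ, haΔ'⟩ := hBC Δ
  have haΔunit : IsUnit aΔ := by
    apply isUnit_of_isUnit_mk hI.jac
    have h1 : σ (e * Δ) = σ Δ := by rw [map_mul, hσe, one_mul]
    have h2 : σ (aΔ • e) = Ideal.Quotient.mk I aΔ := by
      rw [map_smul, hσe, Algebra.smul_def, mul_one]; rfl
    rw [← h2, ← haΔ, h1, hσapp]
    exact (IsLocalization.Away.algebraMap_isUnit (S := B') Δ).map σ'
  have hsurj : Function.Surjective (algebraMap A C) := by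
    intro c
    obtain ⟨s', rfl⟩ := Ideal.Quotient.mk_surjective c
    obtain ⟨n, y, hy⟩ := IsLocalization.Away.surj Δ s'
    obtain ⟨ay, -, hay⟩ := hBC y
    obtain ⟨u, hu⟩ := haΔunit
    refine ⟨ay * ↑(u⁻¹ ^ n), ?_⟩
    have h1 : Ideal.Quotient.mk J s' * algebraMap A C (aΔ ^ n) = algebraMap A C ay := by
      rw [map_pow, ← haΔ', ← map_pow, ← map_mul, hy, hay]
    rw [map_mul, ← h1, mul_assoc, ← map_mul, ← hu, ← Units.val_pow_eq_pow_val, ← Units.val_mul,
      ← mul_pow, mul_inv_cancel, one_pow, Units.val_one, map_one, mul_one]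
  -- `C` is étale over `A`
  have hJidem : IsIdempotentElem J := by
    change J * J = J
    rw [hJ, Ideal.span_singleton_mul_span_singleton, he'idem.one_sub.eq]
  have hsurjBC : Function.Surjective (algebraMap B' C) := Ideal.Quotient.mk_surjective
  have hkerBC : RingHom.ker (algebraMap B' C) = J := Ideal.mk_ker
  have : Algebra.FormallyEtale B' C :=
    (Algebra.FormallyEtale.iff_of_surjective hsurjBC).mpr (by rw [hkerBC]; exact hJidem)
  have : Algebra.FormallyEtale A C := Algebra.FormallyEtale.comp A B' C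
  have : Algebra.FinitePresentation A C :=
    Algebra.FinitePresentation.quotient (Submodule.fg_span_singleton _)
  set K : Ideal A := RingHom.ker (algebraMap A C) with hK
  have hKidem : IsIdempotentElem K := (Algebra.FormallyEtale.iff_of_surjective hsurj).mp inferInstance
  have hKfg : K.FG := Algebra.FinitePresentation.ker_fG_of_surjective (Algebra.ofId A C) hsurj
  obtain ⟨k, hk, hKk⟩ := (Ideal.isIdempotentElem_iff_of_fg K hKfg).mp hKidem
  have hkK : k ∈ K := by rw [hKk]; exact Ideal.mem_span_singleton_self k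
  have hkI : k ∈ I := by
    rw [hK, RingHom.mem_ker, IsScalarTower.algebraMap_apply A B' C, Ideal.Quotient.algebraMap_eq,
      Ideal.Quotient.eq_zero_iff_mem, hJ, Ideal.mem_span_singleton] at hkK
    obtain ⟨w, hw⟩ := hkK
    have := congr(σ' $hw)
    rw [AlgHom.commutes, map_mul, map_sub, map_one, hσ'e', sub_self, zero_mul] at this
    exact Ideal.Quotient.eq_zero_iff_mem.mp this
  have hk0 : k = 0 := by
    have h1 : IsUnit (1 - k) := by
      have := Ideal.mem_jacobson_bot.mp (hI.jac hkI) (-1)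
      simpa [sub_eq_add_neg, add_comm] using this
    have h2 : k * (1 - k) = 0 := by rw [mul_sub, mul_one, hk.eq, sub_self]
    exact (h1.mul_left_eq_zero).mp h2
  have hinj : Function.Injective (algebraMap A C) := by
    rw [injective_iff_map_eq_zero]
    intro a ha
    have : a ∈ K := ha
    rw [hKk, hk0, Ideal.mem_span_singleton, zero_dvd_iff] at this
    exact this
  let E : A ≃ₐ[A] C := AlgEquiv.ofBijective (Algebra.ofId A C) ⟨hinj, hsurj⟩
  refine ⟨(E.symm : C →ₐ[A] A).comp (Ideal.Quotient.mkₐ A J), ?_⟩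
  ext s'
  simp only [AlgHom.comp_apply, Ideal.Quotient.mkₐ_eq_mk]
  set a := E.symm (Ideal.Quotient.mk J s') with ha
  have h1 : algebraMap A C a = Ideal.Quotient.mk J s' := E.apply_symm_apply _
  rw [IsScalarTower.algebraMap_apply A B' C, Ideal.Quotient.algebraMap_eq, Ideal.Quotient.eq,
    hJ, Ideal.mem_span_singleton] at h1
  obtain ⟨w, hw⟩ := h1
  have := congr(σ' $hw)
  rw [map_sub, AlgHom.commutes, map_mul, map_sub, map_one, hσ'e', sub_self, zero_mul,
    sub_eq_zero] at this
  exact this


end Groth.Agent.Lib.Helper37
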