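import Groth.Agent.Lib.Helper37.HenselCore2
import Mathlib.RingTheory.ZariskisMainTheorem
import Mathlib.RingTheory.Unramified.LocalStructure
import Mathlib.RingTheory.Etale.StandardEtale

/-!
Henselian pairs and etale algebras (Stacks 09XI (1) <=> (2)), by helper37.

* `exists_lift_of_etale`: over a Henselian pair `(A, I)` every `A`-algebra map `A' → A/I` from an
  etale `A`-algebra lifts to `A' → A`.
* `henselianRing_of_etale_lift`: the converse.
-/

namespace Groth.Agent.Lib.Helper37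

open Polynomial

universe u

/-- Semi-local form of Zariski's main theorem: for a quasi-finite finite type `A`-algebra `A'` and
an `A`-algebra map `σ : A' → A/I`, there is an integral element `Δ ∈ A'` with `σ Δ = 1` such that
every element of `A'` becomes integral after multiplication by a power of `Δ`. -/
theorem exists_integral_section_element {A A' : Type*} [CommRing A] [CommRing A'] [Algebra A A']
    [Algebra.FiniteType A A'] [Algebra.QuasiFinite A A'] (I : Ideal A) (σ : A' →ₐ[A] A ⧸ I) :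
    ∃ Δ : A', IsIntegral A Δ ∧ (∀ x, ∃ m : ℕ, IsIntegral A (Δ ^ m * x)) ∧ σ Δ = 1 := by
  classical
  let C := integralClosure A A'
  let cond : A' → Ideal C := fun x =>
    { carrier := {y | IsIntegral A (y.1 * x)}
      add_mem' := by
        intro a b ha hb
        change IsIntegral A ((a + b).1 * x)
        rw [Subalgebra.coe_add, add_mul]
        exact IsIntegral.add ha hb
      zero_mem' := by
        change IsIntegral A ((0 : C).1 * x)
        rw [Subalgebra.coe_zero, zero_mul]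
        exact isIntegral_zero
      smul_mem' := by
        intro c y hy
        change IsIntegral A ((c * y).1 * x)
        rw [Subalgebra.coe_mul, mul_assoc]
        exact IsIntegral.mul c.2 hy }
  let 𝔖 : Ideal C := ⨅ x, (cond x).radical
  have hmem𝔖 : ∀ Δ : C, Δ ∈ 𝔖 ↔ ∀ x, ∃ m : ℕ, IsIntegral A (Δ.1 ^ m * x) := by
    intro Δ
    simp only [𝔖, Ideal.mem_iInf, Ideal.mem_radical_iff]
    apply forall_congr'
    intro x
    apply exists_congr
    intro m
    change IsIntegral A ((Δ ^ m).1 * x) ↔ _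
    rw [Subalgebra.coe_pow]
  set K : Ideal A' := Ideal.span (Subtype.val '' (𝔖 : Set C)) ⊔ RingHom.ker σ.toRingHom with hK
  have hKtop : K = ⊤ := by
    by_contra hne
    obtain ⟨M, hM, hKM⟩ := Ideal.exists_le_maximal K hne
    have hMprime : M.IsPrime := hM.isPrime
    obtain ⟨r, hrM, hr, hrx⟩ := Algebra.zariskisMainProperty_iff.mp
      (Algebra.ZariskisMainProperty.of_finiteType (R := A) M)
    have : (⟨r, hr⟩ : C) ∈ 𝔖 := (hmem𝔖 _).mpr hrx
    exact hrM (hKM (Ideal.mem_sup_left (Ideal.subset_span ⟨⟨r, hr⟩, this, rfl⟩)))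
  have h1 : (1 : A') ∈ K := by rw [hKtop]; exact Submodule.mem_top
  obtain ⟨y, hy, j, hj, hyj⟩ := Submodule.mem_sup.mp h1
  have hclaim : ∀ y ∈ Ideal.span (Subtype.val '' (𝔖 : Set C)), ∃ Δ : C, Δ ∈ 𝔖 ∧ σ Δ.1 = σ y := by
    intro y hy
    induction hy using Submodule.span_induction with
    | mem y h =>
      obtain ⟨Δ, hΔ, rfl⟩ := h
      exact ⟨Δ, hΔ, rfl⟩
    | zero => exact ⟨0, 𝔖.zero_mem, rfl⟩
    | add y z _ _ hy hz =>
      obtain ⟨Δ₁, h1, e1⟩ := hy
      obtain ⟨Δ₂, h2, e2⟩ := hz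
      exact ⟨Δ₁ + Δ₂, 𝔖.add_mem h1 h2, by rw [Subalgebra.coe_add, map_add, map_add, e1, e2]⟩
    | smul c y _ hy =>
      obtain ⟨Δ, hΔ, e⟩ := hy
      obtain ⟨a, ha⟩ := Ideal.Quotient.mk_surjective (σ c)
      refine ⟨algebraMap A C a * Δ, 𝔖.mul_mem_left _ hΔ, ?_⟩
      rw [Subalgebra.coe_mul, map_mul, smul_eq_mul, map_mul, e, ← ha]
      congr 1
      change σ (algebraMap A A' a) = _
      rw [AlgHom.commutes]
      rfl
  obtain ⟨Δ, hΔ, hσΔ⟩ := hclaim y hy
  refine ⟨Δ.1, Δ.2, (hmem𝔖 Δ).mp hΔ, ?_⟩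
  have hj0 : σ j = 0 := hj
  have : σ y = 1 := by
    have := congr(σ $hyj)
    rwa [map_add, hj0, add_zero, map_one] at this
  rw [hσΔ, this]


theorem exists_finite_subalgebra_of_integral_pow {A A' : Type*} [CommRing A] [CommRing A']
    [Algebra A A'] [Algebra.FiniteType A A'] (Δ : A') (hΔ : IsIntegral A Δ)
    (hΔx : ∀ x, ∃ m : ℕ, IsIntegral A (Δ ^ m * x)) :
    ∃ B : Subalgebra A A', B.toSubmodule.FG ∧ Δ ∈ B ∧ ∀ x : A', ∃ N : ℕ, Δ ^ N * x ∈ B := by
  classical
  obtain ⟨s, hs⟩ := Algebra.FiniteType.out (R := A) (A := A')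
  choose m hm using hΔx
  set t : Set A' := insert Δ ((fun x => Δ ^ m x * x) '' (s : Set A')) with ht
  set B := Algebra.adjoin A t with hB
  have hΔB : Δ ∈ B := Algebra.subset_adjoin (Set.mem_insert _ _)
  refine ⟨B, fg_adjoin_of_finite ?_ ?_, hΔB, ?_⟩
  · exact (s.finite_toSet.image _).insert _
  · rintro a (rfl | ⟨x, -, rfl⟩)
    · exact hΔ
    · exact hm x
  · intro x
    have hx : x ∈ Algebra.adjoin A (s : Set A') := by rw [hs]; exact Algebra.mem_top
    induction hx using Algebra.adjoin_induction with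
    | mem x hx =>
      exact ⟨m x, Algebra.subset_adjoin (Set.mem_insert_of_mem _ ⟨x, hx, rfl⟩)⟩
    | algebraMap a => exact ⟨0, by simp⟩
    | add x y _ _ hx hy =>
      obtain ⟨N₁, h1⟩ := hx
      obtain ⟨N₂, h2⟩ := hy
      refine ⟨N₁ + N₂, ?_⟩
      have : Δ ^ (N₁ + N₂) * (x + y) = Δ ^ N₂ * (Δ ^ N₁ * x) + Δ ^ N₁ * (Δ ^ N₂ * y) := by
        rw [pow_add]; ring
      rw [this]
      exact B.add_mem (B.mul_mem (B.pow_mem hΔB _) h1) (B.mul_mem (B.pow_mem hΔB _) h2)
    | mul x y _ _ hx hy =>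
      obtain ⟨N₁, h1⟩ := hx
      obtain ⟨N₂, h2⟩ := hy
      refine ⟨N₁ + N₂, ?_⟩
      have : Δ ^ (N₁ + N₂) * (x * y) = (Δ ^ N₁ * x) * (Δ ^ N₂ * y) := by
        rw [pow_add]; ring
      rw [this]
      exact B.mul_mem h1 h2

/-- **Sections of étale algebras lift over a Henselian pair** (Stacks 09XI (1) => (2)). -/
theorem exists_lift_of_etale {A : Type*} [CommRing A] (I : Ideal A) [hI : HenselianRing A I]
    {A' : Type*} [CommRing A'] [Algebra A A'] [Algebra.Etale A A'] (σ : A' →ₐ[A] A ⧸ I) :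
    ∃ τ : A' →ₐ[A] A, (Ideal.Quotient.mkₐ A I).comp τ = σ := by
  classical
  obtain ⟨Δ, hΔ, hΔx, hσΔ⟩ := exists_integral_section_element I σ
  obtain ⟨B, hBfg, hΔB, hBx⟩ := exists_finite_subalgebra_of_integral_pow Δ hΔ hΔx
  let B' := Localization.Away Δ
  have hBB' : ∀ b : B, algebraMap B B' b = algebraMap A' B' b.1 := fun _ => rfl
  have : Module.Finite A B := ⟨(Submodule.fg_top _).mpr hBfg⟩
  let ΔB : B := ⟨Δ, hΔB⟩
  have : IsLocalization.Away ΔB B' := by
    refine (isLocalization_iff _ _).mpr ⟨?_, ?_, ?_⟩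
    · rintro ⟨_, k, rfl⟩
      rw [map_pow, hBB']
      exact (IsLocalization.Away.algebraMap_isUnit (S := B') Δ).pow k
    · intro z
      obtain ⟨k, x, hx⟩ := IsLocalization.Away.surj Δ z
      obtain ⟨N, hN⟩ := hBx x
      refine ⟨(⟨Δ ^ N * x, hN⟩, ⟨ΔB ^ (k + N), k + N, rfl⟩), ?_⟩
      simp only [hBB']
      rw [Subalgebra.coe_pow, map_mul, ← hx, map_pow, map_pow, pow_add]
      ring
    · intro b₁ b₂ h
      rw [hBB', hBB', IsLocalization.eq_iff_exists (Submonoid.powers Δ)] at h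
      obtain ⟨⟨_, k, rfl⟩, hk⟩ := h
      refine ⟨⟨ΔB ^ k, k, rfl⟩, ?_⟩
      apply Subtype.ext
      simpa using hk
  have hunit : IsUnit (σ Δ) := by rw [hσΔ]; exact isUnit_one
  let σ' : B' →ₐ[A] A ⧸ I := IsLocalization.Away.liftAlgHom (S := B') (f := σ) Δ hunit
  obtain ⟨τ', hτ'⟩ := exists_lift_of_etale_of_finite I (B := B) (B' := B') ΔB σ'
  refine ⟨τ'.comp (IsScalarTower.toAlgHom A A' B'), ?_⟩
  rw [← AlgHom.comp_assoc, hτ']
  ext x
  simp [σ']



/-- If sections of étale algebras lift from `A/I` to `A`, then `(A, I)` is a Henselian pair. -/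
theorem henselianRing_of_etale_lift {A : Type u} [CommRing A] (I : Ideal A)
    (H : ∀ (A' : Type u) [CommRing A'] [Algebra A A'] [Algebra.Etale A A']
      (σ : A' →ₐ[A] A ⧸ I), ∃ τ : A' →ₐ[A] A, (Ideal.Quotient.mkₐ A I).comp τ = σ) :
    HenselianRing A I := by
  constructor
  · intro i hi
    rw [Ideal.mem_jacobson_bot]
    intro y
    set c := i * y + 1 with hc
    have hmk : (Ideal.Quotient.mkₐ A I) c = 1 := by
      change Ideal.Quotient.mk I c = 1
      rw [hc, map_add, map_one, Ideal.Quotient.eq_zero_iff_mem.mpr (I.mul_mem_right _ hi),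
        zero_add]
    have hunit : IsUnit ((Ideal.Quotient.mkₐ A I) c) := by rw [hmk]; exact isUnit_one
    let σ : Localization.Away c →ₐ[A] A ⧸ I :=
      IsLocalization.Away.liftAlgHom (S := Localization.Away c) (f := Ideal.Quotient.mkₐ A I) c hunit
    obtain ⟨τ, -⟩ := H (Localization.Away c) σ
    have := (IsLocalization.Away.algebraMap_isUnit (S := Localization.Away c) c).map τ
    rwa [AlgHom.commutes] at this
  · intro f hf a₀ h₁ h₂
    let P : StandardEtalePair A := ⟨f, hf, derivative f, ⟨1, 0, 1, by simp⟩⟩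
    have haeval : ∀ p : A[X], aeval (Ideal.Quotient.mk I a₀) p = Ideal.Quotient.mk I (p.eval a₀) := by
      intro p
      change aeval (algebraMap A (A ⧸ I) a₀) p = algebraMap A (A ⧸ I) (p.eval a₀)
      rw [aeval_algebraMap_apply, coe_aeval_eq_eval]
    have hmap : P.HasMap (Ideal.Quotient.mk I a₀) := by
      refine ⟨?_, ?_⟩
      · change aeval _ f = 0
        rw [haeval]
        exact Ideal.Quotient.eq_zero_iff_mem.mpr h₁
      · change IsUnit (aeval _ (derivative f))
        rw [haeval]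
        exact h₂
    obtain ⟨τ, hτ⟩ := H P.Ring (P.lift _ hmap)
    have hX := (P.hasMap_X.map τ).1
    refine ⟨τ P.X, ?_, ?_⟩
    · change aeval (τ P.X) f = 0 at hX
      rwa [coe_aeval_eq_eval] at hX
    · have := congr($hτ P.X)
      rw [P.lift_X] at this
      exact Ideal.Quotient.eq.mp this


end Groth.Agent.Lib.Helper37
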