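import Groth.Agent.Lib.Helper37.HenselCore2
import Mathlib.RingTheory.Polynomial.UniversalFactorizationRing

namespace Groth.Agent.Lib.Helper37

open Polynomial

/-- **Factorizations lift over a Henselian pair** (Mathlib's `HenselianRing`): a factorization of
the reduction of a monic polynomial into coprime monic factors lifts. -/
theorem exists_factor_lift {A : Type*} [CommRing A] (I : Ideal A) [hI : HenselianRing A I]
    (f : A[X]) (hf : f.Monic) (g₀ h₀ : (A ⧸ I)[X]) (hg : g₀.Monic) (hh : h₀.Monic)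
    (hc : IsCoprime g₀ h₀) (hfgh : f.map (Ideal.Quotient.mk I) = g₀ * h₀) :
    ∃ g h : A[X], g.Monic ∧ h.Monic ∧ f = g * h ∧ g.map (Ideal.Quotient.mk I) = g₀ ∧
      h.map (Ideal.Quotient.mk I) = h₀ := by
  cases subsingleton_or_nontrivial (A ⧸ I) with
  | inl hsub =>
    have hA : Subsingleton A := by
      have h1 : (1 : A) ∈ I := by
        rw [← Ideal.Quotient.eq_zero_iff_mem]; exact Subsingleton.elim _ _
      have : IsUnit ((1 : A) * (-1) + 1) := Ideal.mem_jacobson_bot.mp (hI.jac h1) (-1)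
      have h0 : (0 : A) = 1 := by simpa using this
      exact subsingleton_of_zero_eq_one h0
    refine ⟨1, 1, monic_one, monic_one, Subsingleton.elim _ _, Subsingleton.elim _ _,
      Subsingleton.elim _ _⟩
  | inr hnt =>
    set m := g₀.natDegree with hm
    set k := h₀.natDegree with hk
    set n := f.natDegree with hn'
    have hn : n = m + k := by
      have := congr(($hfgh).natDegree)
      rwa [hf.natDegree_map, hg.natDegree_mul hh] at this
    let p : MonicDegreeEq A n := .mk f hf rfl
    let q₀ : { q : MonicDegreeEq (A ⧸ I) m × MonicDegreeEq (A ⧸ I) k //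
        q.1.1 * q.2.1 = p.1.map (algebraMap A (A ⧸ I)) ∧ IsCoprime q.1.1 q.2.1 } :=
      ⟨(.mk g₀ hg rfl, .mk h₀ hh rfl), hfgh.symm, hc⟩
    let σ' := (UniversalCoprimeFactorizationRing.homEquiv (A ⧸ I) m k hn p).symm q₀
    obtain ⟨τ, hτ⟩ := exists_lift_of_etale_of_finite I
      (B := UniversalFactorizationRing m k hn p)
      (B' := UniversalCoprimeFactorizationRing m k hn p)
      (UniversalFactorizationRing.presentation m k hn p).jacobian σ'
    set q := UniversalCoprimeFactorizationRing.homEquiv A m k hn p τ with hq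
    have h1 := UniversalCoprimeFactorizationRing.homEquiv_comp_fst A m k hn p τ
      (Ideal.Quotient.mkₐ A I)
    have h2 := UniversalCoprimeFactorizationRing.homEquiv_comp_snd A m k hn p τ
      (Ideal.Quotient.mkₐ A I)
    rw [hτ, Equiv.apply_symm_apply] at h1 h2
    refine ⟨q.1.1.1, q.1.2.1, q.1.1.monic, q.1.2.monic, ?_, ?_, ?_⟩
    · have := q.2.1
      rw [this]
      simp [p]
    · have := congr(($h1).1)
      exact this.symm
    · have := congr(($h2).1)
      exact this.symm

end Groth.Agent.Lib.Helper37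

namespace Groth.Agent.Lib.Helper37

open Polynomial

/-- Conversely, the lifting property for factorizations implies Mathlib's `HenselianRing`. -/
theorem henselianRing_of_factor_lift {A : Type*} [CommRing A] (I : Ideal A)
    (hjac : I ≤ Ideal.jacobson ⊥)
    (H : ∀ f : A[X], f.Monic → ∀ g₀ h₀ : (A ⧸ I)[X], g₀.Monic → h₀.Monic → IsCoprime g₀ h₀ →
      f.map (Ideal.Quotient.mk I) = g₀ * h₀ →
      ∃ g h : A[X], g.Monic ∧ h.Monic ∧ f = g * h ∧ g.map (Ideal.Quotient.mk I) = g₀ ∧
        h.map (Ideal.Quotient.mk I) = h₀) :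
    HenselianRing A I := by
  refine ⟨hjac, fun f hf a₀ h₁ h₂ => ?_⟩
  cases subsingleton_or_nontrivial (A ⧸ I) with
  | inl hsub =>
    have hA : Subsingleton A := by
      have h1 : (1 : A) ∈ I := by
        rw [← Ideal.Quotient.eq_zero_iff_mem]; exact Subsingleton.elim _ _
      have : IsUnit ((1 : A) * (-1) + 1) := Ideal.mem_jacobson_bot.mp (hjac h1) (-1)
      have h0 : (0 : A) = 1 := by simpa using this
      exact subsingleton_of_zero_eq_one h0
    exact ⟨a₀, Subsingleton.elim _ _, by simp⟩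
  | inr hnt =>
    have mk_eval : ∀ (p : A[X]) (a : A), Ideal.Quotient.mk I (p.eval a) =
        (p.map (Ideal.Quotient.mk I)).eval (Ideal.Quotient.mk I a) := by
      intro p a
      rw [eval_map, eval₂_hom]
    set fbar := f.map (Ideal.Quotient.mk I) with hfbar
    set abar := Ideal.Quotient.mk I a₀ with habar
    have hroot : fbar.IsRoot abar := by
      rw [IsRoot, ← mk_eval]
      exact Ideal.Quotient.eq_zero_iff_mem.mpr h₁
    set h₀ := fbar /ₘ (X - C abar) with hh₀
    have hfac : (X - C abar) * h₀ = fbar := mul_divByMonic_eq_iff_isRoot.mpr hroot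
    have hh₀monic : h₀.Monic :=
      (monic_X_sub_C abar).of_mul_monic_left (by rw [hfac]; exact hf.map _)
    have hder : h₀.eval abar = Ideal.Quotient.mk I (f.derivative.eval a₀) := by
      rw [mk_eval, ← derivative_map, ← hfbar, ← hfac, derivative_mul, ← habar]
      simp
    obtain ⟨u, hu⟩ := h₂
    obtain ⟨q, hq⟩ : (X - C abar) ∣ h₀ - C (h₀.eval abar) := X_sub_C_dvd_sub_C_eval
    have hcop : IsCoprime (X - C abar) h₀ := by
      refine ⟨-(C (↑u⁻¹ : A ⧸ I) * q), C (↑u⁻¹ : A ⧸ I), ?_⟩
      have h3 : h₀ = (X - C abar) * q + C (↑u : A ⧸ I) := by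
        rw [← hq, hder, hu]; ring
      have h4 : C (↑u⁻¹ : A ⧸ I) * C (↑u : A ⧸ I) = 1 := by
        rw [← C_mul, Units.inv_mul, C_1]
      calc -(C (↑u⁻¹ : A ⧸ I) * q) * (X - C abar) + C (↑u⁻¹ : A ⧸ I) * h₀
          = -(C (↑u⁻¹ : A ⧸ I) * q) * (X - C abar) +
              C (↑u⁻¹ : A ⧸ I) * ((X - C abar) * q + C (↑u : A ⧸ I)) := by rw [← h3]
        _ = C (↑u⁻¹ : A ⧸ I) * C (↑u : A ⧸ I) := by ring
        _ = 1 := h4
    obtain ⟨g, h, hg, -, hfgh, hgmap, -⟩ :=
      H f hf (X - C abar) h₀ (monic_X_sub_C abar) hh₀monic hcop hfac.symm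
    have hgdeg : g.natDegree = 1 := by
      rw [← hg.natDegree_map (Ideal.Quotient.mk I), hgmap, natDegree_X_sub_C]
    have hgeq : g = X + C (g.coeff 0) := hg.eq_X_add_C hgdeg
    have hcoeff : Ideal.Quotient.mk I (g.coeff 0) = -abar := by
      have := congr(($hgmap).coeff 0)
      simpa [coeff_map] using this
    refine ⟨-g.coeff 0, ?_, ?_⟩
    · rw [IsRoot, hfgh, eval_mul]
      have : g.eval (-g.coeff 0) = 0 := by
        rw [hgeq]; simp
      rw [this, zero_mul]
    · rw [← Ideal.Quotient.eq_zero_iff_mem, map_sub, map_neg, hcoeff, neg_neg, habar, sub_self]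

end Groth.Agent.Lib.Helper37
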