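import Groth.Agent.Lib.Helper37.HenselQuot
import Mathlib.Algebra.Polynomial.Identities

/-!
Gabber's criterion for Henselian pairs (Stacks 09XI (1) <=> (5)), by helper37.
-/

namespace Groth.Agent.Lib.Helper37

open Polynomial

/-- Gabber's criterion: if `I` is in the Jacobson radical and every polynomial
`X^n (X - 1) + p` with `n ≥ 1`, `deg p ≤ n` and all coefficients of `p` in `I` has a root
congruent to `1` modulo `I`, then `(A, I)` is a Henselian pair. -/
theorem henselianRing_of_gabber {A : Type*} [CommRing A] (I : Ideal A)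
    (hjac : I ≤ Ideal.jacobson ⊥)
    (G : ∀ n : ℕ, 0 < n → ∀ p : A[X], p.natDegree ≤ n → (∀ i, p.coeff i ∈ I) →
      ∃ α : A, α - 1 ∈ I ∧ IsRoot (X ^ n * (X - 1) + p) α) :
    HenselianRing A I := by
  refine ⟨hjac, fun f hf b₀ h₁ h₂ => ?_⟩
  have hunit : IsUnit (f.derivative.eval b₀) := isUnit_of_isUnit_mk hjac h₂
  obtain ⟨u, hu⟩ := hunit
  by_cases hdeg : f.natDegree = 0
  · have hf1 : f = 1 := hf.natDegree_eq_zero.mp hdeg
    have h1 : (1 : A) ∈ I := by simpa [hf1] using h₁
    have : IsUnit ((1 : A) * (-1) + 1) := Ideal.mem_jacobson_bot.mp (hjac h1) (-1)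
    have h0 : (0 : A) = 1 := by simpa using this
    have hsub : Subsingleton A := subsingleton_of_zero_eq_one h0
    exact ⟨b₀, Subsingleton.elim _ _, by simp⟩
  obtain ⟨m, hm⟩ : ∃ m, f.natDegree = m + 1 := Nat.exists_eq_succ_of_ne_zero hdeg
  by_cases hm0 : m = 0
  · -- linear case
    subst hm0
    have hfeq : f = X + C (f.coeff 0) := hf.eq_X_add_C hm
    refine ⟨-f.coeff 0, ?_, ?_⟩
    · rw [IsRoot, hfeq]; simp
    · have : f.eval b₀ = b₀ + f.coeff 0 := by
        conv_lhs => rw [hfeq]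
        simp
      rw [this] at h₁
      have e : -f.coeff 0 - b₀ = -(b₀ + f.coeff 0) := by ring
      rw [e]; exact I.neg_mem h₁
  have hmpos : 0 < m := Nat.pos_of_ne_zero hm0
  set t := taylor b₀ f with ht
  set c : ℕ → A := fun j => t.coeff j with hc
  have hc0 : c 0 = f.eval b₀ := taylor_coeff_zero ..
  have hc1 : c 1 = (u : A) := by rw [hu]; exact taylor_coeff_one ..
  have htdeg : t.natDegree < m + 1 + 1 := by rw [ht, natDegree_taylor, hm]; omega
  have hc0I : c 0 ∈ I := by rw [hc0]; exact h₁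
  set d : ℕ → A := fun j => if j = 0 then 1 else c j * c 0 ^ (j - 1) * (-(↑u⁻¹ : A)) ^ j with hd
  have hd0 : d 0 = 1 := by simp [hd]
  have hd1 : d 1 = -1 := by
    simp only [hd, one_ne_zero, if_false, Nat.sub_self, pow_zero, mul_one, pow_one, hc1]
    rw [mul_neg, Units.mul_inv]
  have hdI : ∀ j, 2 ≤ j → d j ∈ I := by
    intro j hj
    have hj0 : j ≠ 0 := by omega
    simp only [hd, hj0, if_false]
    have : c 0 ^ (j - 1) ∈ I := by
      have : j - 1 = (j - 2) + 1 := by omega
      rw [this, pow_succ]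
      exact Ideal.mul_mem_left _ _ hc0I
    exact Ideal.mul_mem_right _ _ (Ideal.mul_mem_left _ _ this)
  -- the polynomial `p`
  set p : A[X] := ∑ j ∈ Finset.range m, C (d (j + 2)) * X ^ (m - 1 - j) with hp
  have hpdeg : p.natDegree ≤ m := by
    apply natDegree_sum_le_of_forall_le
    intro j _
    exact (natDegree_C_mul_X_pow_le _ _).trans (by omega)
  have hpI : ∀ i, p.coeff i ∈ I := by
    intro i
    rw [hp, finsetSum_coeff]
    refine I.sum_mem fun j _ => ?_
    rw [coeff_C_mul_X_pow]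
    split_ifs
    · exact hdI _ (by omega)
    · exact I.zero_mem
  obtain ⟨z, hzI, hz⟩ := G m hmpos p hpdeg hpI
  have hzunit : IsUnit z := by
    have := Ideal.mem_jacobson_bot.mp (hjac hzI) 1
    simpa using this
  obtain ⟨w, hw⟩ := hzunit
  have hroot : ∑ j ∈ Finset.range (m + 1 + 1), d j * (w : A) ^ (m + 1 - j) = 0 := by
    have h1 := hz.eq_zero
    rw [eval_add, eval_mul, eval_pow, eval_X, eval_sub, eval_X, eval_one, hp, eval_finsetSum] at h1
    simp only [eval_mul, eval_C, eval_pow, eval_X] at h1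
    rw [Finset.sum_range_succ', Finset.sum_range_succ', hd0, hd1, hw, ← h1]
    have h2 : ∑ j ∈ Finset.range m, d (j + 1 + 1) * z ^ (m + 1 - (j + 1 + 1)) =
        ∑ j ∈ Finset.range m, d (j + 2) * z ^ (m - 1 - j) := by
      apply Finset.sum_congr rfl
      intro j hj
      have : m + 1 - (j + 1 + 1) = m - 1 - j := by omega
      rw [this]
    rw [h2]
    have h3 : m + 1 - (0 + 1) = m := by omega
    rw [h3, Nat.sub_zero, pow_succ]
    ring
  have hT := gabber_root_aux (m + 1) c u w hroot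
  refine ⟨c 0 * (-(↑u⁻¹ : A)) * (↑w⁻¹ : A) + b₀, ?_, ?_⟩
  · rw [IsRoot.def, ← taylor_eval, eval_eq_sum_range' htdeg]
    exact hT
  · rw [add_sub_cancel_right]
    exact Ideal.mul_mem_right _ _ (Ideal.mul_mem_right _ _ hc0I)


/-- Over a Henselian pair, Gabber's polynomials `X^n (X - 1) + p` have exactly one root congruent
to `1` modulo `I`. -/
theorem gabber_of_henselianRing {A : Type*} [CommRing A] (I : Ideal A) [hI : HenselianRing A I]
    (n : ℕ) (p : A[X]) (hp : p.natDegree ≤ n) (hpI : ∀ i, p.coeff i ∈ I) :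
    ∃! α : A, α - 1 ∈ I ∧ IsRoot (X ^ n * (X - 1) + p) α := by
  cases subsingleton_or_nontrivial A with
  | inl hA =>
    refine ⟨0, ⟨?_, Subsingleton.elim _ _⟩, fun _ _ => Subsingleton.elim _ _⟩
    rw [Subsingleton.elim ((0 : A) - 1) 0]
    exact I.zero_mem
  | inr hA =>
  set F : A[X] := X ^ n * (X - 1) + p with hF
  have hX1 : (X - 1 : A[X]).Monic := by
    have := monic_X_sub_C (1 : A)
    rwa [C_1] at this
  have hG : (X ^ n * (X - 1) : A[X]).Monic := (monic_X_pow n).mul hX1
  have hGdeg : (X ^ n * (X - 1) : A[X]).natDegree = n + 1 := by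
    rw [(monic_X_pow n).natDegree_mul hX1, natDegree_X_pow]
    have : (X - 1 : A[X]).natDegree = 1 := by
      have := natDegree_X_sub_C (1 : A)
      rwa [C_1] at this
    rw [this]
  have hFmonic : F.Monic := by
    apply hG.add_of_left
    rw [degree_eq_natDegree hG.ne_zero, hGdeg]
    exact lt_of_le_of_lt degree_le_natDegree (by exact_mod_cast Nat.lt_succ_of_le hp)
  have hpmap : p.map (Ideal.Quotient.mk I) = 0 := by
    ext i
    rw [coeff_map, coeff_zero]
    exact Ideal.Quotient.eq_zero_iff_mem.mpr (hpI i)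
  have hFmap : F.map (Ideal.Quotient.mk I) = X ^ n * (X - 1) := by
    rw [hF, Polynomial.map_add, hpmap, add_zero, Polynomial.map_mul, Polynomial.map_pow,
      Polynomial.map_sub, map_X, Polynomial.map_one]
  have mk_eval : ∀ (q : A[X]) (a : A), Ideal.Quotient.mk I (q.eval a) =
      (q.map (Ideal.Quotient.mk I)).eval (Ideal.Quotient.mk I a) := by
    intro q a
    rw [eval_map, eval₂_hom]
  have hder : ∀ β : A, β - 1 ∈ I → Ideal.Quotient.mk I (F.derivative.eval β) = 1 := by
    intro β hβ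
    have hβ1 : Ideal.Quotient.mk I β = 1 := by
      rw [← sub_eq_zero, ← map_one (Ideal.Quotient.mk I), ← map_sub]
      exact Ideal.Quotient.eq_zero_iff_mem.mpr hβ
    rw [mk_eval, ← derivative_map, hFmap, hβ1]
    simp
  have hF1 : F.eval 1 ∈ I := by
    rw [← Ideal.Quotient.eq_zero_iff_mem, mk_eval, hFmap]
    simp
  have hF1' : IsUnit (Ideal.Quotient.mk I (F.derivative.eval 1)) := by
    rw [hder 1 (by simp)]; exact isUnit_one
  obtain ⟨α, hα, hα1⟩ := hI.is_henselian F hFmonic 1 hF1 hF1'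
  refine ⟨α, ⟨hα1, hα⟩, ?_⟩
  rintro β ⟨hβ1, hβ⟩
  obtain ⟨k, hk⟩ := binomExpansion F α (β - α)
  rw [add_sub_cancel, hβ.eq_zero, hα.eq_zero, zero_add] at hk
  have hunit : IsUnit (F.derivative.eval α + k * (β - α)) := by
    apply isUnit_of_isUnit_mk hI.jac
    have hβα : β - α ∈ I := by
      have : β - α = (β - 1) - (α - 1) := by ring
      rw [this]; exact I.sub_mem hβ1 hα1
    rw [map_add, hder α hα1, map_mul, Ideal.Quotient.eq_zero_iff_mem.mpr hβα, mul_zero, add_zero]
    exact isUnit_one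
  have h0 : (β - α) * (F.derivative.eval α + k * (β - α)) = 0 := by
    linear_combination -hk
  have := (hunit.mul_left_eq_zero).mp h0
  exact sub_eq_zero.mp this



/-- Simple roots of arbitrary (not necessarily monic) polynomials lift over a Henselian pair. -/
theorem exists_root_of_simple_root {A : Type*} [CommRing A] (I : Ideal A) [hI : HenselianRing A I]
    (f : A[X]) (b₀ : A) (h₁ : f.eval b₀ ∈ I)
    (h₂ : IsUnit (Ideal.Quotient.mk I (f.derivative.eval b₀))) :
    ∃ b : A, f.IsRoot b ∧ b - b₀ ∈ I := by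
  have hjac := hI.jac
  have hunit : IsUnit (f.derivative.eval b₀) := isUnit_of_isUnit_mk hjac h₂
  obtain ⟨u, hu⟩ := hunit
  set m : ℕ := max f.natDegree 1 with hm
  have hmpos : 0 < m := lt_of_lt_of_le Nat.zero_lt_one (le_max_right _ _)
  have hfm : f.natDegree ≤ m := le_max_left _ _
  set t := taylor b₀ f with ht
  set c : ℕ → A := fun j => t.coeff j with hc
  have hc0 : c 0 = f.eval b₀ := taylor_coeff_zero ..
  have hc1 : c 1 = (u : A) := by rw [hu]; exact taylor_coeff_one ..
  have htdeg : t.natDegree < m + 1 + 1 := by rw [ht, natDegree_taylor]; omega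
  have hc0I : c 0 ∈ I := by rw [hc0]; exact h₁
  set d : ℕ → A := fun j => if j = 0 then 1 else c j * c 0 ^ (j - 1) * (-(↑u⁻¹ : A)) ^ j with hd
  have hd0 : d 0 = 1 := by simp [hd]
  have hd1 : d 1 = -1 := by
    simp only [hd, one_ne_zero, if_false, Nat.sub_self, pow_zero, mul_one, pow_one, hc1]
    rw [mul_neg, Units.mul_inv]
  have hdI : ∀ j, 2 ≤ j → d j ∈ I := by
    intro j hj
    have hj0 : j ≠ 0 := by omega
    simp only [hd, hj0, if_false]
    have : c 0 ^ (j - 1) ∈ I := by
      have : j - 1 = (j - 2) + 1 := by omega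
      rw [this, pow_succ]
      exact Ideal.mul_mem_left _ _ hc0I
    exact Ideal.mul_mem_right _ _ (Ideal.mul_mem_left _ _ this)
  set p : A[X] := ∑ j ∈ Finset.range m, C (d (j + 2)) * X ^ (m - 1 - j) with hp
  have hpdeg : p.natDegree ≤ m := by
    apply natDegree_sum_le_of_forall_le
    intro j _
    exact (natDegree_C_mul_X_pow_le _ _).trans (by omega)
  have hpI : ∀ i, p.coeff i ∈ I := by
    intro i
    rw [hp, finsetSum_coeff]
    refine I.sum_mem fun j _ => ?_
    rw [coeff_C_mul_X_pow]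
    split_ifs
    · exact hdI _ (by omega)
    · exact I.zero_mem
  obtain ⟨z, ⟨hzI, hz⟩, -⟩ := gabber_of_henselianRing I m p hpdeg hpI
  have hzunit : IsUnit z := by
    have := Ideal.mem_jacobson_bot.mp (hjac hzI) 1
    simpa using this
  obtain ⟨w, hw⟩ := hzunit
  have hroot : ∑ j ∈ Finset.range (m + 1 + 1), d j * (w : A) ^ (m + 1 - j) = 0 := by
    have h1 := hz.eq_zero
    rw [eval_add, eval_mul, eval_pow, eval_X, eval_sub, eval_X, eval_one, hp, eval_finsetSum] at h1
    simp only [eval_mul, eval_C, eval_pow, eval_X] at h1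
    rw [Finset.sum_range_succ', Finset.sum_range_succ', hd0, hd1, hw, ← h1]
    have h2 : ∑ j ∈ Finset.range m, d (j + 1 + 1) * z ^ (m + 1 - (j + 1 + 1)) =
        ∑ j ∈ Finset.range m, d (j + 2) * z ^ (m - 1 - j) := by
      apply Finset.sum_congr rfl
      intro j hj
      have : m + 1 - (j + 1 + 1) = m - 1 - j := by omega
      rw [this]
    rw [h2]
    have h3 : m + 1 - (0 + 1) = m := by omega
    rw [h3, Nat.sub_zero, pow_succ]
    ring
  have hT := gabber_root_aux (m + 1) c u w hroot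
  refine ⟨c 0 * (-(↑u⁻¹ : A)) * (↑w⁻¹ : A) + b₀, ?_, ?_⟩
  · rw [IsRoot.def, ← taylor_eval, eval_eq_sum_range' htdeg]
    exact hT
  · rw [add_sub_cancel_right]
    exact Ideal.mul_mem_right _ _ (Ideal.mul_mem_right _ _ hc0I)


end Groth.Agent.Lib.Helper37
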