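import Groth.Agent.Lib.Helper37.HenselIdem

/-!
Refined Gabber/Raynaud criterion (by helper37): it suffices to lift idempotents in the algebras
`A[T]/(p)` with `p` monic congruent to `(T^2 - T)^m` modulo `I`.
-/

namespace Groth.Agent.Lib.Helper37

open Polynomial

universe u

/-- If idempotents lift in `A[T]/(p)` for all monic `p ≡ (T^2-T)^m` mod `I`, then idempotents lift
in all integral `A`-algebras. -/
theorem exists_idempotent_lift_of_adjoinRoot_lift {A B : Type*} [CommRing A] [CommRing B]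
    [Algebra A B] [Algebra.IsIntegral A B] (I : Ideal A)
    (H : ∀ (m : ℕ) (p : A[X]), p.Monic →
      p.map (Ideal.Quotient.mk I) = ((X ^ 2 - X) ^ m : A[X]).map (Ideal.Quotient.mk I) →
      ∀ ε : AdjoinRoot p, ε * ε - ε ∈ I.map (algebraMap A (AdjoinRoot p)) →
      ∃ e : AdjoinRoot p, IsIdempotentElem e ∧ e - ε ∈ I.map (algebraMap A (AdjoinRoot p)))
    (b : B) (hb : b * b - b ∈ I.map (algebraMap A B)) :
    ∃ e : B, IsIdempotentElem e ∧ e - b ∈ I.map (algebraMap A B) := by
  obtain ⟨d, f, hf, hfb, hfmap⟩ := exists_monic_aeval_eq_zero_of_sq_sub_mem I b hb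
  have hcop : IsCoprime ((X : (A ⧸ I)[X]) ^ (d + 1)) ((X - 1) ^ (d + 1)) := by
    apply IsCoprime.pow
    exact ⟨1, -1, by ring⟩
  obtain ⟨ubar, vbar, huv⟩ := hcop
  obtain ⟨u, rfl⟩ := Polynomial.map_surjective _ Ideal.Quotient.mk_surjective ubar
  obtain ⟨v, rfl⟩ := Polynomial.map_surjective _ Ideal.Quotient.mk_surjective vbar
  set IB := I.map (algebraMap A B) with hIB
  set C := AdjoinRoot f
  set IC := I.map (algebraMap A C) with hIC
  set t : C := AdjoinRoot.root f with ht
  have hft : aeval t f = 0 := AdjoinRoot.aeval_eq f ▸ AdjoinRoot.mk_self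
  let φ : C →ₐ[A] B := AdjoinRoot.liftAlgHom f (Algebra.ofId A B) b (by
    rw [← hfb]; simp [aeval_def, Algebra.ofId])
  have hφt : φ t = b := AdjoinRoot.liftAlgHom_root _ _ _ _
  have hφ : ∀ p : A[X], φ (aeval t p) = aeval b p := by
    intro p
    rw [← Polynomial.aeval_algHom_apply, hφt]
  have hφI : ∀ x ∈ IC, φ x ∈ IB := by
    intro x hx
    have : IC.map φ.toRingHom = IB := by
      rw [hIC, Ideal.map_map, hIB]
      congr 1
      exact φ.comp_algebraMap
    rw [← this]
    exact Ideal.mem_map_of_mem _ hx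
  set ε : C := aeval t (u * X ^ (d + 1)) with hε
  have hεε : ε * ε - ε ∈ IC := by
    have h1 : ε * ε - ε = aeval t (u * X ^ (d + 1) * (u * X ^ (d + 1)) - u * X ^ (d + 1)) -
        aeval t (- (u * v) * f) := by
      rw [map_mul (aeval t) (-(u * v)) f, hft, mul_zero, sub_zero, map_sub, map_mul]
    rw [h1]
    apply aeval_sub_aeval_mem_map I t
    simp only [Polynomial.map_sub, Polynomial.map_mul, Polynomial.map_pow, Polynomial.map_neg,
      map_X, hfmap]
    linear_combination (Polynomial.map (Ideal.Quotient.mk I) u * X ^ (d + 1)) * huv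
  have hm : f.map (Ideal.Quotient.mk I) =
      ((X ^ 2 - X) ^ (d + 1) : A[X]).map (Ideal.Quotient.mk I) := by
    rw [hfmap, Polynomial.map_pow, Polynomial.map_sub, Polynomial.map_pow, map_X]
    rw [← mul_pow]
    congr 1
    ring
  obtain ⟨e', he', hcong⟩ := H (d + 1) f hf hm ε hεε
  refine ⟨φ e', he'.map φ, ?_⟩
  have h2 : φ e' - b = φ (e' - ε) + (aeval b (u * X ^ (d + 1)) - b) := by
    rw [map_sub, hε, hφ]; ring
  rw [h2]
  refine IB.add_mem (hφI _ hcong) ?_
  -- congruence modulo `IB`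
  let π := Ideal.Quotient.mk IB
  set β := π b with hβ
  have hββ : β * β = β := by
    rw [← sub_eq_zero, hβ, ← map_mul, ← map_sub]
    exact Ideal.Quotient.eq_zero_iff_mem.mpr hb
  have hπ : ∀ p q : A[X], p.map (Ideal.Quotient.mk I) = q.map (Ideal.Quotient.mk I) →
      π (aeval b p) = π (aeval b q) := by
    intro p q hpq
    rw [← sub_eq_zero, ← map_sub]
    exact Ideal.Quotient.eq_zero_iff_mem.mpr (aeval_sub_aeval_mem_map I b p q hpq)
  have hβpow : β ^ (d + 1) = β := by
    have : IsIdempotentElem β := hββ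
    exact this.pow_succ_eq d
  have hβ0 : β * (β - 1) ^ (d + 1) = 0 := by
    rw [pow_succ', ← mul_assoc]
    have : β * (β - 1) = 0 := by rw [mul_sub, hββ, mul_one, sub_self]
    rw [this, zero_mul]
  have hsum : π (aeval b u) * β ^ (d + 1) + π (aeval b v) * (β - 1) ^ (d + 1) = 1 := by
    have := hπ (u * X ^ (d + 1) + v * (X - 1) ^ (d + 1)) 1 (by
      simp only [Polynomial.map_add, Polynomial.map_mul, Polynomial.map_pow, Polynomial.map_sub,
        map_X, Polynomial.map_one]
      exact huv)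
    simpa [hβ] using this
  have hUβ : π (aeval b u) * β = β := by
    have := congr($hsum * β)
    rw [add_mul, mul_assoc, mul_assoc, mul_comm ((β - 1) ^ (d + 1)) β, hβ0, mul_zero, add_zero,
      hβpow, hββ, one_mul] at this
    exact this
  rw [← Ideal.Quotient.eq_zero_iff_mem, map_sub, sub_eq_zero]
  change π (aeval b (u * X ^ (d + 1))) = β
  have : π (aeval b (u * X ^ (d + 1))) = π (aeval b u) * β ^ (d + 1) := by simp [hβ]
  rw [this, hβpow, hUβ]

/-- Raynaud's refinement of Gabber's criterion: `I ⊆ rad A` and idempotents lift in `A[T]/(p)` for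
monic `p ≡ (T^2-T)^m` modulo `I` imply that `(A, I)` is Henselian. -/
theorem henselianRing_of_adjoinRoot_idempotent_lift {A : Type*} [CommRing A] (I : Ideal A)
    (hjac : I ≤ Ideal.jacobson ⊥)
    (H : ∀ (m : ℕ) (p : A[X]), p.Monic →
      p.map (Ideal.Quotient.mk I) = ((X ^ 2 - X) ^ m : A[X]).map (Ideal.Quotient.mk I) →
      ∀ ε : AdjoinRoot p, ε * ε - ε ∈ I.map (algebraMap A (AdjoinRoot p)) →
      ∃ e : AdjoinRoot p, IsIdempotentElem e ∧ e - ε ∈ I.map (algebraMap A (AdjoinRoot p))) :
    HenselianRing A I := by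
  refine henselianRing_of_idempotent_lift I hjac fun f hf ε hε => ?_
  have : Module.Finite A (AdjoinRoot f) := hf.finite_adjoinRoot
  exact exists_idempotent_lift_of_adjoinRoot_lift I H ε hε

end Groth.Agent.Lib.Helper37
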