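import Groth.Agent.Lib.Helper37.HenselAway

/-!
Quasi-finite Zariski neighbourhoods of `V(J)` (by helper37).
-/

namespace Groth.Agent.Lib.Helper37

open PrimeSpectrum

theorem quasiFinite_away_map {A R : Type*} [CommRing A] [CommRing R] [Algebra A R] (g r : R)
    [Algebra.QuasiFinite A (Localization.Away r)] :
    Algebra.QuasiFinite A (Localization.Away (algebraMap R (Localization.Away g) r)) := by
  set T := Localization.Away (algebraMap R (Localization.Away g) r)
  have hru : IsUnit (algebraMap R T r) := by
    rw [IsScalarTower.algebraMap_apply R (Localization.Away g) T]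
    exact IsLocalization.Away.algebraMap_isUnit _
  have hgu : IsUnit (algebraMap R T g) := by
    rw [IsScalarTower.algebraMap_apply R (Localization.Away g) T]
    exact (IsLocalization.Away.algebraMap_isUnit g).map _
  let f : Localization.Away r →ₐ[A] T :=
    IsLocalization.liftAlgHom (M := Submonoid.powers r) (f := IsScalarTower.toAlgHom A R T) (by
      rintro ⟨_, n, rfl⟩
      simpa using hru.pow n)
  have hf : ∀ x : R, f (algebraMap R _ x) = algebraMap R T x := by
    intro x
    simp [f]
  refine Algebra.QuasiFinite.of_forall_exists_mul_mem_range f fun x => ?_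
  obtain ⟨n, y, hy⟩ := IsLocalization.Away.surj (algebraMap R (Localization.Away g) r) x
  obtain ⟨m, z, hz⟩ := IsLocalization.Away.surj g y
  refine ⟨algebraMap R _ (r ^ n * g ^ m), ?_, algebraMap R _ z, ?_⟩
  · rw [hf, map_mul, map_pow, map_pow]
    exact (hru.pow n).mul (hgu.pow m)
  · change f (algebraMap R _ z) = x * f (algebraMap R _ (r ^ n * g ^ m))
    rw [hf, hf, map_mul, ← mul_assoc, map_pow, map_pow,
      IsScalarTower.algebraMap_apply R (Localization.Away g) T r, hy, ← map_pow,
      IsScalarTower.algebraMap_apply R (Localization.Away g) T (g ^ m), ← map_mul, map_pow, hz,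
      ← IsScalarTower.algebraMap_apply]

end Groth.Agent.Lib.Helper37

namespace Groth.Agent.Lib.Helper37

universe u

theorem exists_away_quasiFinite_of_quasiFiniteAt {A R : Type u} [CommRing A] [CommRing R]
    [Algebra A R] [Algebra.FiniteType A R] (p : Ideal R) [p.IsPrime] [Algebra.QuasiFiniteAt A p] :
    ∃ r : R, r ∉ p ∧ Algebra.QuasiFinite A (Localization.Away r) := by
  obtain ⟨S', hS', r, hrp, H⟩ :=
    Algebra.QuasiFiniteAt.exists_fg_and_exists_notMem_and_awayMap_bijective (R := A) p
  have : Module.Finite A S' := ⟨(Submodule.fg_top _).mpr hS'⟩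
  have : Algebra.QuasiFinite A (Localization.Away r) := .trans _ S' _
  exact ⟨r.1, hrp, .of_surjective_algHom (Localization.awayMapₐ S'.val r) H.2⟩

theorem exists_away_quasiFinite {A R : Type u} [CommRing A] [CommRing R]
    [Algebra A R] [Algebra.FiniteType A R] (J : Ideal R)
    (h : ∀ (p : Ideal R) [p.IsPrime], J ≤ p → Algebra.QuasiFiniteAt A p) :
    ∃ g : R, g - 1 ∈ J ∧ Algebra.QuasiFinite A (Localization.Away g) := by
  set s₀ : Set R := {r | Algebra.QuasiFinite A (Localization.Away r)} with hs₀
  have htop : Ideal.span s₀ ⊔ J = ⊤ := by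
    by_contra hne
    obtain ⟨M, hM, hle⟩ := Ideal.exists_le_maximal _ hne
    have hJM : J ≤ M := le_sup_right.trans hle
    have := h M hJM
    obtain ⟨r, hrM, hr⟩ := exists_away_quasiFinite_of_quasiFiniteAt (A := A) M
    exact hrM (hle (Ideal.mem_sup_left (Ideal.subset_span hr)))
  rw [Ideal.eq_top_iff_one, Submodule.mem_sup] at htop
  obtain ⟨g, hg, j, hj, hgj⟩ := htop
  refine ⟨g, ?_, ?_⟩
  · have : g - 1 = -j := by rw [← hgj]; ring
    rw [this]; exact J.neg_mem hj
  · set R' := Localization.Away g
    rw [← RingHom.quasiFinite_algebraMap]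
    refine RingHom.QuasiFinite.ofLocalizationSpanTarget (algebraMap A R')
      {x : R' | Algebra.QuasiFinite A (Localization.Away x)} ?_ ?_
    · by_contra hne
      obtain ⟨M, hM, hle⟩ := Ideal.exists_le_maximal _ hne
      have hgM : algebraMap R R' g ∉ M := fun hmem =>
        hM.ne_top (Ideal.eq_top_of_isUnit_mem _ hmem (IsLocalization.Away.algebraMap_isUnit g))
      apply hgM
      have : Ideal.span s₀ ≤ M.comap (algebraMap R R') := by
        rw [Ideal.span_le]
        intro r hr
        have hr' : Algebra.QuasiFinite A (Localization.Away r) := hr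
        have := quasiFinite_away_map (A := A) g r
        exact hle (Ideal.subset_span this)
      exact this hg
    · rintro ⟨x, hx⟩
      have hx' : Algebra.QuasiFinite A (Localization.Away x) := hx
      rw [← IsScalarTower.algebraMap_eq, RingHom.quasiFinite_algebraMap]
      exact hx'

end Groth.Agent.Lib.Helper37
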