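import Groth.Prelude.Def_EssEt
import Groth.Agent.Lib.Helper14.EssEtale
import Mathlib

/-!
# Henselization project, part 1: pointed étale algebras and their local rings

`R` is a local ring and `Ω` a field which is an `R`-algebra with local structure map.
A *pointed étale algebra* is an étale `R`-algebra `C` with an `R`-algebra map `θ : C → Ω`.
Its local ring is `Localization.AtPrime (RingHom.ker θ)`.
-/

set_option autoImplicit false
universe u

namespace Groth.Agent.Lib.Helper37.Hz

open IsLocalRing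

variable {R : Type u} [CommRing R] {Ω : Type u} [Field Ω] [Algebra R Ω]
variable {C : Type u} [CommRing C] [Algebra R C] (θ : C →ₐ[R] Ω)

/-- The prime of the point. -/
abbrev ptKer : Ideal C := RingHom.ker θ

instance ptKer_isPrime : (ptKer θ).IsPrime := RingHom.ker_isPrime θ

/-- The local ring of a pointed algebra. -/
def LocPt : Type u := Localization.AtPrime (ptKer θ)

noncomputable instance instCommRingLocPt : CommRing (LocPt θ) :=
  inferInstanceAs (CommRing (Localization.AtPrime (ptKer θ)))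

noncomputable instance instAlgebraLocPt : Algebra C (LocPt θ) :=
  inferInstanceAs (Algebra C (Localization.AtPrime (ptKer θ)))

noncomputable instance instAlgebraLocPt' : Algebra R (LocPt θ) :=
  inferInstanceAs (Algebra R (Localization.AtPrime (ptKer θ)))

instance instIsScalarTowerLocPt : IsScalarTower R C (LocPt θ) :=
  inferInstanceAs (IsScalarTower R C (Localization.AtPrime (ptKer θ)))

instance instIsLocalizationLocPt : IsLocalization.AtPrime (LocPt θ) (ptKer θ) :=
  inferInstanceAs (IsLocalization.AtPrime (Localization.AtPrime (ptKer θ)) (ptKer θ))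

instance instIsLocalRingLocPt : IsLocalRing (LocPt θ) :=
  inferInstanceAs (IsLocalRing (Localization.AtPrime (ptKer θ)))

lemma isUnit_of_mem_primeCompl (y : (ptKer θ).primeCompl) : IsUnit (θ y) := by
  have : θ y ≠ 0 := fun h => y.2 (by simpa [ptKer, RingHom.mem_ker] using h)
  exact this.isUnit

/-- The point of the local ring. -/
noncomputable def locPt : LocPt θ →ₐ[R] Ω :=
  IsLocalization.liftAlgHom (M := (ptKer θ).primeCompl) (f := θ) (isUnit_of_mem_primeCompl θ)

@[simp] lemma locPt_algebraMap (c : C) : locPt θ (algebraMap C (LocPt θ) c) = θ c := by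
  simp [locPt]

lemma locPt_comp : (locPt θ).comp (IsScalarTower.toAlgHom R C (LocPt θ)) = θ := by
  ext c
  simp

lemma locPt_eq_zero_iff (x : LocPt θ) : locPt θ x = 0 ↔ x ∈ maximalIdeal (LocPt θ) := by
  obtain ⟨c, s, rfl⟩ := IsLocalization.exists_mk'_eq (ptKer θ).primeCompl x
  rw [IsLocalization.AtPrime.mk'_mem_maximal_iff (LocPt θ) (ptKer θ)]
  have h1 : locPt θ (IsLocalization.mk' (LocPt θ) c s) * θ s = θ c := by
    rw [← locPt_algebraMap θ (s : C), ← map_mul, IsLocalization.mk'_spec, locPt_algebraMap]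
  have hs : θ s ≠ 0 := (isUnit_of_mem_primeCompl θ s).ne_zero
  constructor
  · intro h
    rw [h, zero_mul] at h1
    exact h1.symm
  · intro h
    have h2 : θ c = 0 := h
    rw [h2] at h1
    exact (mul_eq_zero.mp h1).resolve_right hs

lemma ker_locPt : RingHom.ker (locPt θ) = maximalIdeal (LocPt θ) := by
  ext x
  rw [RingHom.mem_ker, locPt_eq_zero_iff]

lemma isUnit_iff_locPt_ne_zero (x : LocPt θ) : IsUnit x ↔ locPt θ x ≠ 0 := by
  rw [Ne, locPt_eq_zero_iff, mem_maximalIdeal, mem_nonunits_iff, not_not]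

section Local

variable [IsLocalRing R] [IsLocalHom (algebraMap R Ω)]

lemma comap_ptKer : (ptKer θ).comap (algebraMap R C) = maximalIdeal R := by
  ext r
  rw [Ideal.mem_comap, RingHom.mem_ker, AlgHom.commutes, mem_maximalIdeal, mem_nonunits_iff]
  constructor
  · intro h hu
    have := hu.map (algebraMap R Ω)
    rw [h] at this
    exact not_isUnit_zero this
  · intro h
    by_contra h0
    exact h (isUnit_of_map_unit (algebraMap R Ω) r (Ne.isUnit h0))

instance isLocalHom_algebraMap_locPt : IsLocalHom (algebraMap R (LocPt θ)) := by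
  constructor
  intro r hr
  rw [isUnit_iff_locPt_ne_zero, AlgHom.commutes] at hr
  exact isUnit_of_map_unit (algebraMap R Ω) r (Ne.isUnit hr)

variable [Algebra.Etale R C]

lemma isEssentiallyEtale_locPt : EGA4loc.IsEssentiallyEtale R (LocPt θ) :=
  ⟨C, inferInstance, inferInstance, ptKer θ, inferInstance, inferInstance, comap_ptKer θ,
    ⟨(AlgEquiv.refl : Localization.AtPrime (ptKer θ) ≃ₐ[R] Localization.AtPrime (ptKer θ))⟩⟩

instance formallyUnramified_locPt : Algebra.FormallyUnramified R (LocPt θ) :=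
  Groth.Agent.Lib.Helper14.formallyUnramified_localization_of_etale C (ptKer θ)

instance essFiniteType_locPt : Algebra.EssFiniteType R (LocPt θ) :=
  Groth.Agent.Lib.Helper14.essFiniteType_localization_of_etale C (ptKer θ)

lemma map_maximalIdeal_locPt :
    (maximalIdeal R).map (algebraMap R (LocPt θ)) = maximalIdeal (LocPt θ) :=
  Algebra.FormallyUnramified.map_maximalIdeal

instance flat_locPt : Module.Flat R (LocPt θ) :=
  haveI : Module.Flat C (LocPt θ) := IsLocalization.flat _ (ptKer θ).primeCompl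
  Module.Flat.trans R C (LocPt θ)

end Local

section Hom

variable {C₁ C₂ C₃ : Type u} [CommRing C₁] [Algebra R C₁] [CommRing C₂] [Algebra R C₂]
  [CommRing C₃] [Algebra R C₃]
  (θ₁ : C₁ →ₐ[R] Ω) (θ₂ : C₂ →ₐ[R] Ω) (θ₃ : C₃ →ₐ[R] Ω)

/-- Morphisms of local rings of pointed algebras, compatible with the points. -/
def PtHom : Type u := {φ : LocPt θ₁ →ₐ[R] LocPt θ₂ // (locPt θ₂).comp φ = locPt θ₁}

variable {θ₁ θ₂ θ₃}

lemma PtHom.locPt_apply (φ : PtHom θ₁ θ₂) (x : LocPt θ₁) : locPt θ₂ (φ.1 x) = locPt θ₁ x :=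
  DFunLike.congr_fun φ.2 x

lemma PtHom.isLocalHom (φ : PtHom θ₁ θ₂) : IsLocalHom (φ.1 : LocPt θ₁ →+* LocPt θ₂) := by
  constructor
  intro x hx
  have hx' : IsUnit (φ.1 x) := hx
  rw [isUnit_iff_locPt_ne_zero, φ.locPt_apply] at hx'
  exact (isUnit_iff_locPt_ne_zero θ₁ x).mpr hx'

lemma PtHom.map_mem_maximalIdeal (φ : PtHom θ₁ θ₂) {x : LocPt θ₁}
    (hx : x ∈ maximalIdeal (LocPt θ₁)) : φ.1 x ∈ maximalIdeal (LocPt θ₂) := by
  rw [← locPt_eq_zero_iff] at hx ⊢
  rw [φ.locPt_apply, hx]

/-- Identity. -/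
noncomputable def PtHom.id (θ : C →ₐ[R] Ω) : PtHom θ θ := ⟨AlgHom.id R _, by ext; simp⟩

/-- Composition. -/
noncomputable def PtHom.comp (ψ : PtHom θ₂ θ₃) (φ : PtHom θ₁ θ₂) : PtHom θ₁ θ₃ :=
  ⟨ψ.1.comp φ.1, by rw [← AlgHom.comp_assoc, ψ.2, φ.2]⟩

instance PtHom.subsingleton [Algebra.Etale R C₁] : Subsingleton (PtHom θ₁ θ₂) := by
  constructor
  intro φ φ'
  apply Subtype.ext
  apply Groth.Agent.Lib.Helper14.algHom_eq_of_residue_eq
  intro x
  rw [← sub_eq_zero, ← map_sub, residue_eq_zero_iff, ← locPt_eq_zero_iff, map_sub,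
    φ.locPt_apply, φ'.locPt_apply, sub_self]

/-- A map of pointed algebras induces a map of their local rings. -/
noncomputable def PtHom.ofAlgHom (ψ : C₁ →ₐ[R] C₂) (h : θ₂.comp ψ = θ₁) : PtHom θ₁ θ₂ := by
  have hu : ∀ y : (ptKer θ₁).primeCompl,
      IsUnit (((IsScalarTower.toAlgHom R C₂ (LocPt θ₂)).comp ψ) y) := by
    intro y
    rw [isUnit_iff_locPt_ne_zero]
    have : θ₂ (ψ (y : C₁)) = θ₁ (y : C₁) := DFunLike.congr_fun h (y : C₁)
    simp only [AlgHom.coe_comp, Function.comp_apply, IsScalarTower.coe_toAlgHom',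
      locPt_algebraMap, this]
    exact (isUnit_of_mem_primeCompl θ₁ y).ne_zero
  refine ⟨IsLocalization.liftAlgHom (M := (ptKer θ₁).primeCompl)
    (f := (IsScalarTower.toAlgHom R C₂ (LocPt θ₂)).comp ψ) hu, ?_⟩
  apply IsLocalization.algHom_ext (ptKer θ₁).primeCompl
  ext c
  have : θ₂ (ψ c) = θ₁ c := DFunLike.congr_fun h c
  change locPt θ₂ (IsLocalization.lift _ (algebraMap C₁ _ c)) = locPt θ₁ (algebraMap C₁ _ c)
  rw [IsLocalization.lift_eq]
  simp [this]

lemma PtHom.ofAlgHom_algebraMap (ψ : C₁ →ₐ[R] C₂) (h : θ₂.comp ψ = θ₁) (c : C₁) :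
    (PtHom.ofAlgHom ψ h).1 (algebraMap C₁ (LocPt θ₁) c) = algebraMap C₂ (LocPt θ₂) (ψ c) := by
  change IsLocalization.lift _ (algebraMap C₁ _ c) = _
  rw [IsLocalization.lift_eq]
  rfl

end Hom

end Groth.Agent.Lib.Helper37.Hz
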