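import Groth.Agent.Lib.Helper37.Hz99

/-!
# Henselization project, part 100: kernels of surjections onto flat algebras.

If `μ : T → E` is a surjective `R`-algebra map with `E` flat over `R`, then
`ker μ ∩ I T = I · ker μ` for every ideal `I` of `R`.  Consequently, if `T` is a Noetherian local
ring whose maximal ideal is `I T`, then `μ` is injective.
-/

set_option autoImplicit false
set_option linter.style.haveILetI false
set_option linter.unusedSectionVars false
universe u

open IsLocalRing TensorProduct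

namespace Groth.Agent.Lib.Helper37.Hz

namespace Gal

section FlatQuot

variable {R T E : Type u} [CommRing R] [CommRing T] [CommRing E] [Algebra R T] [Algebra R E]

/-- Elements of `I T` are finite sums `∑ aᵢ • tᵢ` with `aᵢ ∈ I`. -/
theorem exists_sum_of_mem_map (I : Ideal R) (x : T) (hx : x ∈ I.map (algebraMap R T)) :
    ∃ (ι : Type) (_ : Fintype ι) (a : ι → R) (t : ι → T), (∀ i, a i ∈ I) ∧ x = ∑ i, a i • t i := by
  induction hx using Submodule.span_induction with
  | mem x hx =>
    obtain ⟨a, ha, rfl⟩ := hx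
    refine ⟨Unit, inferInstance, fun _ => a, fun _ => 1, fun _ => ha, ?_⟩
    simp [Algebra.smul_def]
  | zero => exact ⟨Empty, inferInstance, fun i => i.elim, fun i => i.elim, fun i => i.elim, by simp⟩
  | add x y _ _ hx hy =>
    obtain ⟨ι₁, _, a₁, t₁, ha₁, rfl⟩ := hx
    obtain ⟨ι₂, _, a₂, t₂, ha₂, rfl⟩ := hy
    refine ⟨ι₁ ⊕ ι₂, inferInstance, Sum.elim a₁ a₂, Sum.elim t₁ t₂, ?_, ?_⟩
    · rintro (i | i)
      · exact ha₁ i
      · exact ha₂ i
    · rw [Fintype.sum_sum_type]
      rfl
  | smul c x _ hx =>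
    obtain ⟨ι₁, _, a₁, t₁, ha₁, rfl⟩ := hx
    refine ⟨ι₁, inferInstance, a₁, fun i => c * t₁ i, ha₁, ?_⟩
    rw [smul_eq_mul, Finset.mul_sum]
    refine Finset.sum_congr rfl (fun i _ => ?_)
    rw [mul_smul_comm]

theorem mem_mul_ker_of_flat [Module.Flat R E] (μ : T →ₐ[R] E) (hμ : Function.Surjective μ)
    (I : Ideal R) (x : T) (hx : μ x = 0) (hxI : x ∈ I.map (algebraMap R T)) :
    x ∈ I.map (algebraMap R T) * RingHom.ker μ.toRingHom := by
  classical
  obtain ⟨ι, _, a, t, ha, rfl⟩ := exists_sum_of_mem_map I x hxI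
  have h0 : ∑ i, a i • μ (t i) = 0 := by
    rw [← hx, map_sum]
    exact Finset.sum_congr rfl (fun i _ => (map_smul μ _ _).symm)
  obtain ⟨k, α, y, hy, hα⟩ := Module.Flat.isTrivialRelation_of_sum_smul_eq_zero (R := R) (M := E) (f := a)
    (x := fun i => μ (t i)) h0
  have hy : ∀ i, μ (t i) = ∑ j, α i j • y j := hy
  choose y' hy' using fun j => hμ (y j)
  have hn : ∀ i, t i - ∑ j, α i j • y' j ∈ RingHom.ker μ.toRingHom := by
    intro i
    rw [RingHom.mem_ker]
    change μ (t i - ∑ j, α i j • y' j) = 0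
    rw [map_sub, map_sum, hy i, sub_eq_zero]
    exact Finset.sum_congr rfl (fun j _ => by rw [map_smul, hy'])
  have hsum : ∑ i, a i • t i = ∑ i, a i • (t i - ∑ j, α i j • y' j) := by
    have h1 : ∑ i, a i • ∑ j, α i j • y' j = 0 := by
      simp_rw [Finset.smul_sum, smul_smul]
      rw [Finset.sum_comm]
      refine Finset.sum_eq_zero (fun j _ => ?_)
      rw [← Finset.sum_smul, hα j, zero_smul]
    simp_rw [smul_sub]
    rw [Finset.sum_sub_distrib, h1, sub_zero]
  rw [hsum]
  refine Ideal.sum_mem _ (fun i _ => ?_)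
  rw [Algebra.smul_def]
  exact Ideal.mul_mem_mul (Ideal.mem_map_of_mem _ (ha i)) (hn i)

/-- A surjection from a Noetherian local ring `T`, whose maximal ideal is generated by an ideal
`I` of `R`, onto a nonzero flat `R`-algebra is injective. -/
theorem injective_of_flat_of_map_eq_maximalIdeal [Module.Flat R E] [IsLocalRing T]
    [IsNoetherianRing T] [Nontrivial E] (μ : T →ₐ[R] E) (hμ : Function.Surjective μ) (I : Ideal R)
    (hI : I.map (algebraMap R T) = maximalIdeal T) : Function.Injective μ := by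
  have hker : RingHom.ker μ.toRingHom ≤ maximalIdeal T := by
    apply IsLocalRing.le_maximalIdeal
    intro htop
    have h1 : (1 : T) ∈ RingHom.ker μ.toRingHom := by rw [htop]; exact Submodule.mem_top
    rw [RingHom.mem_ker] at h1
    have h2 : μ 1 = 0 := h1
    rw [map_one] at h2
    exact one_ne_zero h2
  have hle : RingHom.ker μ.toRingHom ≤ maximalIdeal T • RingHom.ker μ.toRingHom := by
    intro x hx
    have h1 : x ∈ I.map (algebraMap R T) := by rw [hI]; exact hker hx
    have h2 := mem_mul_ker_of_flat μ hμ I x ((RingHom.mem_ker).mp hx) h1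
    rw [hI] at h2
    exact h2
  have hbot : RingHom.ker μ.toRingHom = ⊥ :=
    Submodule.eq_bot_of_le_smul_of_le_jacobson_bot (maximalIdeal T) (RingHom.ker μ.toRingHom)
      (IsNoetherian.noetherian _) hle (by
        rw [IsLocalRing.jacobson_eq_maximalIdeal ⊥ bot_ne_top])
  exact (RingHom.injective_iff_ker_eq_bot μ.toRingHom).mpr hbot

end FlatQuot

end Gal

end Groth.Agent.Lib.Helper37.Hz
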