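import Groth.Agent.Lib.Helper37.Hz100

/-!
# Henselization project, part 101: the tensor lemma for Noetherian local `D` with `m_A D = m_D`.

Let `E` be the localization of an étale `A`-algebra `E₀` at a prime, flat over `A`, and `D → E` a
local homomorphism of local `A`-algebras with `D` Noetherian and `m_A D = m_D`.  Then `E` is the
localization of `D ⊗[A] E₀` at a prime: every element of the kernel of `D ⊗[A] E₀ → E` is killed
by an element mapping to a unit.
-/

set_option autoImplicit false
set_option linter.style.haveILetI false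
set_option linter.unusedSectionVars false
set_option maxHeartbeats 1000000
universe u

open IsLocalRing TensorProduct

namespace Groth.Agent.Lib.Helper37.Hz

namespace Gal

/-- The canonical map `D ⊗[A] E₀ → E`. -/
noncomputable def tensorMap (A D E₀ E : Type u) [CommRing A] [CommRing D] [CommRing E₀] [CommRing E]
    [Algebra A D] [Algebra A E₀] [Algebra A E] [Algebra D E] [Algebra E₀ E] [IsScalarTower A D E]
    [IsScalarTower A E₀ E] : D ⊗[A] E₀ →ₐ[D] E :=
  Algebra.TensorProduct.lift (Algebra.ofId D E) (IsScalarTower.toAlgHom A E₀ E)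
    (fun _ _ => Commute.all _ _)

theorem tensorMap_tmul (A D E₀ E : Type u) [CommRing A] [CommRing D] [CommRing E₀] [CommRing E]
    [Algebra A D] [Algebra A E₀] [Algebra A E] [Algebra D E] [Algebra E₀ E] [IsScalarTower A D E]
    [IsScalarTower A E₀ E] (d : D) (x : E₀) :
    tensorMap A D E₀ E (d ⊗ₜ x) = algebraMap D E d * algebraMap E₀ E x := by
  simp [tensorMap, Algebra.ofId_apply]

theorem exists_mul_eq_zero_of_tensorMap_eq_zero (A D E₀ E : Type u) [CommRing A] [IsLocalRing A]
    [CommRing D] [IsLocalRing D] [IsNoetherianRing D] [CommRing E₀] [CommRing E] [IsLocalRing E]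
    [Algebra A D] [Algebra A E₀] [Algebra A E] [Algebra D E] [Algebra E₀ E] [IsScalarTower A D E]
    [IsScalarTower A E₀ E] [Algebra.Etale A E₀] [Module.Flat A E] [IsLocalHom (algebraMap D E)]
    (hm : (maximalIdeal A).map (algebraMap A D) = maximalIdeal D)
    (q : Ideal E₀) [q.IsPrime] [IsLocalization.AtPrime E q]
    (c : D ⊗[A] E₀) (hc : tensorMap A D E₀ E c = 0) :
    ∃ w : D ⊗[A] E₀, IsUnit (tensorMap A D E₀ E w) ∧ w * c = 0 := by
  classical
  obtain ⟨μ, hμdef⟩ : ∃ μ : D ⊗[A] E₀ →ₐ[D] E, μ = tensorMap A D E₀ E := ⟨_, rfl⟩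
  rw [← hμdef] at hc ⊢
  have hμ : ∀ (b : D) (x : E₀), μ (b ⊗ₜ x) = algebraMap D E b * algebraMap E₀ E x := by
    intro b x
    rw [hμdef, tensorMap_tmul]
  letI algCE : Algebra (D ⊗[A] E₀) E := μ.toRingHom.toAlgebra
  haveI : IsScalarTower D (D ⊗[A] E₀) E := IsScalarTower.of_algebraMap_eq (fun b => by
    change algebraMap D E b = μ (algebraMap D (D ⊗[A] E₀) b)
    rw [μ.commutes])
  have halg : ∀ c : D ⊗[A] E₀, algebraMap (D ⊗[A] E₀) E c = μ c := fun c => rfl
  obtain ⟨P', hP'def⟩ : ∃ P' : Ideal (D ⊗[A] E₀),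
      P' = (maximalIdeal E).comap (algebraMap (D ⊗[A] E₀) E) := ⟨_, rfl⟩
  haveI hP'prime : P'.IsPrime := by rw [hP'def]; exact Ideal.comap_isPrime _ _
  have hmemP' : ∀ c : D ⊗[A] E₀, c ∈ P' ↔ μ c ∈ maximalIdeal E := by
    intro c
    rw [hP'def]
    rfl
  have hunits : ∀ y : P'.primeCompl, IsUnit (algebraMap (D ⊗[A] E₀) E y) := by
    intro y
    have h1 : (y : D ⊗[A] E₀) ∉ P' := y.2
    rw [hmemP'] at h1
    by_contra h2
    exact h1 ((mem_maximalIdeal _).mpr h2)
  let μ' : Localization.AtPrime P' →+* E := IsLocalization.lift hunits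
  have hμ' : ∀ c : D ⊗[A] E₀, μ' (algebraMap _ (Localization.AtPrime P') c) =
      algebraMap (D ⊗[A] E₀) E c := fun c => IsLocalization.lift_eq hunits c
  -- surjectivity
  have hsurj : Function.Surjective μ' := by
    intro e
    obtain ⟨x, s, rfl⟩ := IsLocalization.exists_mk'_eq q.primeCompl e
    have hs : IsUnit (algebraMap E₀ E s) := IsLocalization.map_units E s
    have hsP : ((1 : D) ⊗ₜ[A] (s : E₀)) ∈ P'.primeCompl := by
      intro h
      rw [SetLike.mem_coe, hmemP', hμ, map_one, one_mul] at h
      exact (mem_maximalIdeal _).mp h hs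
    refine ⟨IsLocalization.mk' (Localization.AtPrime P') ((1 : D) ⊗ₜ[A] x) ⟨_, hsP⟩, ?_⟩
    rw [IsLocalization.lift_mk'_spec, halg, halg, hμ, hμ, map_one, one_mul, one_mul]
    exact (IsLocalization.mk'_spec' E x s).symm
  -- Noetherianity and the maximal ideal
  haveI : IsNoetherianRing (D ⊗[A] E₀) := Algebra.FiniteType.isNoetherianRing D (D ⊗[A] E₀)
  haveI : IsNoetherianRing (Localization.AtPrime P') :=
    IsLocalization.isNoetherianRing P'.primeCompl _ inferInstance
  have hμ'D : ∀ d : D, μ' (algebraMap D (Localization.AtPrime P') d) = algebraMap D E d := by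
    intro d
    rw [IsScalarTower.algebraMap_apply D (D ⊗[A] E₀) (Localization.AtPrime P'), hμ',
      ← IsScalarTower.algebraMap_apply]
  haveI : IsLocalHom (algebraMap D (Localization.AtPrime P')) := by
    constructor
    intro d hd
    have h1 : IsUnit (μ' (algebraMap D (Localization.AtPrime P') d)) := hd.map μ'
    rw [hμ'D] at h1
    exact isUnit_of_map_unit (algebraMap D E) d h1
  haveI : Algebra.FormallyUnramified (D ⊗[A] E₀) (Localization.AtPrime P') :=
    Algebra.FormallyUnramified.of_isLocalization P'.primeCompl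
  haveI : Algebra.FormallyUnramified D (Localization.AtPrime P') :=
    Algebra.FormallyUnramified.comp D (D ⊗[A] E₀) (Localization.AtPrime P')
  haveI : Algebra.EssFiniteType D (Localization.AtPrime P') :=
    Algebra.EssFiniteType.comp D (D ⊗[A] E₀) (Localization.AtPrime P')
  have hmT' : (maximalIdeal D).map (algebraMap D (Localization.AtPrime P')) =
      maximalIdeal (Localization.AtPrime P') := Algebra.FormallyUnramified.map_maximalIdeal
  haveI : IsScalarTower A D (Localization.AtPrime P') := IsScalarTower.of_algebraMap_eq (fun a => by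
    rw [IsScalarTower.algebraMap_apply A (D ⊗[A] E₀) (Localization.AtPrime P'),
      IsScalarTower.algebraMap_apply D (D ⊗[A] E₀) (Localization.AtPrime P'),
      ← IsScalarTower.algebraMap_apply A D (D ⊗[A] E₀)])
  have hmAT' : (maximalIdeal A).map (algebraMap A (Localization.AtPrime P')) =
      maximalIdeal (Localization.AtPrime P') := by
    rw [← hmT', ← hm, Ideal.map_map, ← IsScalarTower.algebraMap_eq]
  let μ'A : Localization.AtPrime P' →ₐ[A] E :=
    { μ' with
      commutes' := fun a => by
        change μ' (algebraMap A (Localization.AtPrime P') a) = algebraMap A E a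
        rw [IsScalarTower.algebraMap_apply A D (Localization.AtPrime P'), hμ'D,
          ← IsScalarTower.algebraMap_apply] }
  have hinj : Function.Injective μ'A :=
    injective_of_flat_of_map_eq_maximalIdeal μ'A hsurj (maximalIdeal A) hmAT'
  have h0 : algebraMap (D ⊗[A] E₀) (Localization.AtPrime P') c = 0 := by
    apply hinj
    change μ' _ = μ' 0
    rw [hμ', map_zero, halg, hc]
  obtain ⟨w, hw⟩ := (IsLocalization.map_eq_zero_iff P'.primeCompl (Localization.AtPrime P') c).mp h0
  exact ⟨w, hunits w, hw⟩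

end Gal

end Groth.Agent.Lib.Helper37.Hz
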