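import Groth.Agent.Lib.Helper37.Hz101

/-!
# Henselization project, part 102: flatness from the tensor lemma.

If every element of the kernel of `B ⊗[A] E₀ → E` is killed by an element mapping to a unit, then
`E` is a localization of `B ⊗[A] E₀`, hence flat over `B` when `E₀` is flat over `A`.
-/

set_option autoImplicit false
set_option linter.style.haveILetI false
set_option linter.unusedSectionVars false
set_option maxHeartbeats 1000000
universe u

open IsLocalRing TensorProduct

namespace Groth.Agent.Lib.Helper37.Hz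

namespace Gal

theorem flat_of_tensorMap_ker (A B E₀ E : Type u) [CommRing A] [CommRing B] [CommRing E₀]
    [CommRing E] [Algebra A B] [Algebra A E₀] [Algebra A E] [Algebra B E] [Algebra E₀ E]
    [IsScalarTower A B E] [IsScalarTower A E₀ E] [Module.Flat A E₀] [IsLocalRing E]
    (q : Ideal E₀) [q.IsPrime] [IsLocalization.AtPrime E q]
    (hker : ∀ c : B ⊗[A] E₀, tensorMap A B E₀ E c = 0 →
      ∃ w : B ⊗[A] E₀, IsUnit (tensorMap A B E₀ E w) ∧ w * c = 0) : Module.Flat B E := by
  classical
  obtain ⟨μ, hμdef⟩ : ∃ μ : B ⊗[A] E₀ →ₐ[B] E, μ = tensorMap A B E₀ E := ⟨_, rfl⟩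
  rw [← hμdef] at hker
  have hμ : ∀ (b : B) (x : E₀), μ (b ⊗ₜ x) = algebraMap B E b * algebraMap E₀ E x := by
    intro b x
    rw [hμdef, tensorMap_tmul]
  letI algCE : Algebra (B ⊗[A] E₀) E := μ.toRingHom.toAlgebra
  haveI : IsScalarTower B (B ⊗[A] E₀) E := IsScalarTower.of_algebraMap_eq (fun b => by
    change algebraMap B E b = μ (algebraMap B (B ⊗[A] E₀) b)
    rw [μ.commutes])
  have halg : ∀ c : B ⊗[A] E₀, algebraMap (B ⊗[A] E₀) E c = μ c := fun c => rfl
  obtain ⟨P', hP'def⟩ : ∃ P' : Ideal (B ⊗[A] E₀),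
      P' = (maximalIdeal E).comap (algebraMap (B ⊗[A] E₀) E) := ⟨_, rfl⟩
  haveI hP'prime : P'.IsPrime := by rw [hP'def]; exact Ideal.comap_isPrime _ _
  have hmemP' : ∀ c : B ⊗[A] E₀, c ∈ P' ↔ μ c ∈ maximalIdeal E := by
    intro c
    rw [hP'def]
    rfl
  have hunits : ∀ y : P'.primeCompl, IsUnit (algebraMap (B ⊗[A] E₀) E y) := by
    intro y
    have h1 : (y : B ⊗[A] E₀) ∉ P' := y.2
    rw [hmemP'] at h1
    by_contra h2
    exact h1 ((mem_maximalIdeal _).mpr h2)
  let μ' : Localization.AtPrime P' →+* E := IsLocalization.lift hunits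
  have hμ' : ∀ c : B ⊗[A] E₀, μ' (algebraMap _ (Localization.AtPrime P') c) =
      algebraMap (B ⊗[A] E₀) E c := fun c => IsLocalization.lift_eq hunits c
  have hsurj : Function.Surjective μ' := by
    intro e
    obtain ⟨x, s, rfl⟩ := IsLocalization.exists_mk'_eq q.primeCompl e
    have hs : IsUnit (algebraMap E₀ E s) := IsLocalization.map_units E s
    have hsP : ((1 : B) ⊗ₜ[A] (s : E₀)) ∈ P'.primeCompl := by
      intro h
      rw [SetLike.mem_coe, hmemP', hμ, map_one, one_mul] at h
      exact (mem_maximalIdeal _).mp h hs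
    refine ⟨IsLocalization.mk' (Localization.AtPrime P') ((1 : B) ⊗ₜ[A] x) ⟨_, hsP⟩, ?_⟩
    rw [IsLocalization.lift_mk'_spec, halg, halg, hμ, hμ, map_one, one_mul, one_mul]
    exact (IsLocalization.mk'_spec' E x s).symm
  have hinj : Function.Injective μ' := by
    rw [injective_iff_map_eq_zero]
    intro z hz
    obtain ⟨c, t, rfl⟩ := IsLocalization.exists_mk'_eq P'.primeCompl z
    have h1 : μ' (IsLocalization.mk' (Localization.AtPrime P') c t) *
        μ' (algebraMap _ (Localization.AtPrime P') (t : B ⊗[A] E₀)) =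
        μ' (algebraMap _ (Localization.AtPrime P') c) := by
      rw [← map_mul, IsLocalization.mk'_spec]
    rw [hz, zero_mul, hμ', halg] at h1
    obtain ⟨w, hwu, hwc⟩ := hker c h1.symm
    have hwP : w ∈ P'.primeCompl := by
      intro h
      rw [SetLike.mem_coe, hmemP'] at h
      exact (mem_maximalIdeal _).mp h hwu
    rw [IsLocalization.mk'_eq_zero_iff]
    exact ⟨⟨w, hwP⟩, hwc⟩
  haveI : Module.Flat B (B ⊗[A] E₀) := inferInstance
  haveI : Module.Flat B (Localization.AtPrime P') :=
    Module.Flat.trans B (B ⊗[A] E₀) (Localization.AtPrime P')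
  let eL : Localization.AtPrime P' ≃ₗ[B] E :=
    { (RingEquiv.ofBijective μ' ⟨hinj, hsurj⟩).toAddEquiv with
      map_smul' := fun b z => by
        change μ' (b • z) = b • μ' z
        rw [Algebra.smul_def, Algebra.smul_def, map_mul,
          IsScalarTower.algebraMap_apply B (B ⊗[A] E₀) (Localization.AtPrime P'), hμ',
          ← IsScalarTower.algebraMap_apply] }
  exact Module.Flat.of_linearEquiv eL.symm

end Gal

end Groth.Agent.Lib.Helper37.Hz
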