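import Groth.Agent.Lib.Helper37.Hz102

/-!
# Henselization project, part 103: a Noetherian local ring `D` with `m_A D = m_D`, dominated by an
essentially étale local `A`-algebra `E ⊇ D` and whose elements are fractions over finitely
generated subalgebras, is essentially of finite type over `A`.
-/

set_option autoImplicit false
set_option linter.style.haveILetI false
set_option linter.unusedSectionVars false
set_option maxHeartbeats 1000000
universe u

open IsLocalRing TensorProduct

namespace Groth.Agent.Lib.Helper37.Hz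

namespace Gal

theorem essFiniteType_of_noetherian_of_map_maximalIdeal (A D E₀ E : Type u) [CommRing A]
    [IsLocalRing A] [CommRing D] [IsLocalRing D] [IsNoetherianRing D] [CommRing E₀] [CommRing E]
    [IsLocalRing E] [Algebra A D] [Algebra A E₀] [Algebra A E] [Algebra D E] [Algebra E₀ E]
    [IsScalarTower A D E] [IsScalarTower A E₀ E] [Algebra.Etale A E₀] [Module.Flat A E]
    [IsLocalHom (algebraMap D E)] (hinj : Function.Injective (algebraMap D E))
    (hm : (maximalIdeal A).map (algebraMap A D) = maximalIdeal D)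
    (q : Ideal E₀) [q.IsPrime] [IsLocalization.AtPrime E q] (τ : Finset D)
    (hfrac : ∀ D₀ : Subalgebra A D, (τ : Set D) ⊆ D₀ → ∀ d : D, ∃ v ∈ D₀, ∃ y ∈ D₀,
      algebraMap D E v ∈ nonZeroDivisors E ∧ v * d = y) :
    Algebra.EssFiniteType A D := by
  classical
  -- Step 1: an element `w` mapping to a unit and killing the kernel
  haveI : IsNoetherianRing (D ⊗[A] E₀) := Algebra.FiniteType.isNoetherianRing D (D ⊗[A] E₀)
  obtain ⟨G, hG⟩ : ∃ G : Finset (D ⊗[A] E₀),
      Ideal.span (G : Set (D ⊗[A] E₀)) = RingHom.ker (tensorMap A D E₀ E).toRingHom :=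
    (IsNoetherian.noetherian (RingHom.ker (tensorMap A D E₀ E).toRingHom))
  have hGw : ∀ g ∈ G, ∃ w, IsUnit (tensorMap A D E₀ E w) ∧ w * g = 0 := by
    intro g hg
    have h1 : g ∈ RingHom.ker (tensorMap A D E₀ E).toRingHom := by
      rw [← hG]
      exact Ideal.subset_span hg
    exact exists_mul_eq_zero_of_tensorMap_eq_zero A D E₀ E hm q g h1
  choose! wf hwf using hGw
  obtain ⟨w, hw⟩ : ∃ w, w = ∏ g ∈ G, wf g := ⟨_, rfl⟩
  have hwu : IsUnit (tensorMap A D E₀ E w) := by
    rw [hw, map_prod]
    exact Finset.prod_induction _ IsUnit (fun a b => IsUnit.mul) isUnit_one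
      (fun g hg => (hwf g hg).1)
  have hwspan : ∀ c ∈ Ideal.span (G : Set (D ⊗[A] E₀)), w * c = 0 := by
    intro c h1
    induction h1 using Submodule.span_induction with
    | mem g hg =>
      rw [hw, ← Finset.prod_erase_mul G wf hg, mul_assoc, (hwf g hg).2, mul_zero]
    | zero => rw [mul_zero]
    | add x y _ _ hx hy => rw [mul_add, hx, hy, add_zero]
    | smul a x _ hx => rw [smul_eq_mul, mul_left_comm, hx, mul_zero]
  have hwker : ∀ c : D ⊗[A] E₀, tensorMap A D E₀ E c = 0 → w * c = 0 := by
    intro c hc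
    apply hwspan
    rw [hG]
    exact hc
  -- Step 2: the finitely generated subalgebra
  obtain ⟨k, dd, yy, hwsum⟩ := TensorProduct.exists_sum_tmul_eq w
  obtain ⟨D₀, hD₀⟩ : ∃ D₀ : Subalgebra A D,
      D₀ = Algebra.adjoin A ((Finset.univ.image dd ∪ τ : Finset D) : Set D) := ⟨_, rfl⟩
  have hddD₀ : ∀ j, dd j ∈ D₀ := by
    intro j
    rw [hD₀]
    apply Algebra.subset_adjoin
    rw [Finset.coe_union]
    exact Or.inl (by simp)
  have hτD₀ : (τ : Set D) ⊆ D₀ := by
    intro x hx
    rw [hD₀]
    apply Algebra.subset_adjoin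
    rw [Finset.coe_union]
    exact Or.inr hx
  haveI : Algebra.FiniteType A D₀ := by
    rw [hD₀]
    exact (Subalgebra.fg_iff_finiteType _).mp (Subalgebra.fg_adjoin_finset _)
  haveI : IsScalarTower A D₀ E := IsScalarTower.of_algebraMap_eq (fun a => by
    rw [IsScalarTower.algebraMap_apply A D E]
    rfl)
  have halgD₀ : ∀ x : D₀, algebraMap D₀ E x = algebraMap D E (x : D) := fun x => rfl
  -- Step 3: flatness of `E` over `D₀`
  let ι₀ : D₀ ⊗[A] E₀ →ₐ[A] D ⊗[A] E₀ := Algebra.TensorProduct.map D₀.val (AlgHom.id A E₀)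
  have hι₀ : ∀ z, ι₀ z = LinearMap.rTensor E₀ D₀.val.toLinearMap z := by
    intro z
    induction z with
    | zero => simp
    | tmul x y => rfl
    | add x y hx hy => rw [map_add, map_add, hx, hy]
  have hι₀inj : Function.Injective ι₀ := by
    intro z₁ z₂ h
    rw [hι₀, hι₀] at h
    exact Module.Flat.rTensor_preserves_injective_linearMap (M := E₀) D₀.val.toLinearMap
      Subtype.val_injective h
  have hμι : ∀ z, tensorMap A D E₀ E (ι₀ z) = tensorMap A D₀ E₀ E z := by
    intro z
    induction z with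
    | zero => simp
    | tmul x y =>
      change tensorMap A D E₀ E ((x : D) ⊗ₜ y) = _
      rw [tensorMap_tmul, tensorMap_tmul, halgD₀]
    | add x y hx hy => rw [map_add, map_add, map_add, hx, hy]
  obtain ⟨w₀, hw₀⟩ : ∃ w₀ : D₀ ⊗[A] E₀, w₀ = ∑ j, (⟨dd j, hddD₀ j⟩ : D₀) ⊗ₜ[A] yy j := ⟨_, rfl⟩
  have hιw₀ : ι₀ w₀ = w := by
    rw [hw₀, map_sum, hwsum]
    rfl
  have hker₀ : ∀ c : D₀ ⊗[A] E₀, tensorMap A D₀ E₀ E c = 0 →
      ∃ w' : D₀ ⊗[A] E₀, IsUnit (tensorMap A D₀ E₀ E w') ∧ w' * c = 0 := by
    intro c hc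
    refine ⟨w₀, ?_, ?_⟩
    · rw [← hμι, hιw₀]
      exact hwu
    · apply hι₀inj
      rw [map_mul, map_zero, hιw₀]
      apply hwker
      rw [hμι]
      exact hc
  haveI : Module.Flat D₀ E := flat_of_tensorMap_ker A D₀ E₀ E q hker₀
  -- Step 4: the localization of `D₀`
  obtain ⟨n, hn⟩ : ∃ n : Ideal D₀, n = (maximalIdeal E).comap (algebraMap D₀ E) := ⟨_, rfl⟩
  haveI hnprime : n.IsPrime := by rw [hn]; exact Ideal.comap_isPrime _ _
  have hmemn : ∀ b : D₀, b ∈ n ↔ ¬ IsUnit (algebraMap D₀ E b) := by
    intro b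
    rw [hn, Ideal.mem_comap, mem_maximalIdeal, mem_nonunits_iff]
  have hunitsn : ∀ y : n.primeCompl, IsUnit (algebraMap D₀ E y) := by
    intro y
    have h1 : (y : D₀) ∉ n := y.2
    rw [hmemn, not_not] at h1
    exact h1
  letI algBnE : Algebra (Localization.AtPrime n) E := (IsLocalization.lift hunitsn).toAlgebra
  haveI : IsScalarTower D₀ (Localization.AtPrime n) E :=
    IsScalarTower.of_algebraMap_eq (fun b => (IsLocalization.lift_eq hunitsn b).symm)
  haveI : Module.Flat (Localization.AtPrime n) E :=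
    (Module.flat_iff_of_isLocalization (Localization.AtPrime n) n.primeCompl E).mpr inferInstance
  haveI : IsLocalHom (algebraMap (Localization.AtPrime n) E) := by
    constructor
    intro z hz
    obtain ⟨b, t, rfl⟩ := IsLocalization.exists_mk'_eq n.primeCompl z
    have h1 := IsLocalization.mk'_spec (Localization.AtPrime n) b t
    have h2 := congrArg (algebraMap (Localization.AtPrime n) E) h1
    rw [map_mul, ← IsScalarTower.algebraMap_apply, ← IsScalarTower.algebraMap_apply] at h2
    have h3 : IsUnit (algebraMap D₀ E b) := by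
      rw [← h2]
      exact hz.mul (hunitsn t)
    have h4 : b ∈ n.primeCompl := fun h => (hmemn b).mp h h3
    exact (IsLocalization.AtPrime.isUnit_mk'_iff (Localization.AtPrime n) n b t).mpr h4
  haveI : Module.FaithfullyFlat (Localization.AtPrime n) E :=
    Module.FaithfullyFlat.of_flat_of_isLocalHom
  have hunitsD : ∀ y : n.primeCompl, IsUnit (algebraMap D₀ D y) := by
    intro y
    have h1 : IsUnit (algebraMap D E (algebraMap D₀ D y)) := hunitsn y
    exact isUnit_of_map_unit (algebraMap D E) _ h1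
  let ψ : Localization.AtPrime n →+* D := IsLocalization.lift hunitsD
  have hψ : ∀ b : D₀, ψ (algebraMap D₀ (Localization.AtPrime n) b) = (b : D) :=
    fun b => IsLocalization.lift_eq hunitsD b
  have hψφ : ∀ z : Localization.AtPrime n,
      algebraMap D E (ψ z) = algebraMap (Localization.AtPrime n) E z := by
    intro z
    have h1 : (algebraMap D E).comp ψ = algebraMap (Localization.AtPrime n) E := by
      apply IsLocalization.ringHom_ext n.primeCompl
      ext b
      rw [RingHom.comp_apply, RingHom.comp_apply, RingHom.comp_apply, hψ,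
        ← IsScalarTower.algebraMap_apply D₀ (Localization.AtPrime n) E]
      rfl
    exact congrArg (fun f => f z) h1
  let ψA : Localization.AtPrime n →ₐ[A] D :=
    { ψ with
      commutes' := fun a => by
        change ψ (algebraMap A (Localization.AtPrime n) a) = algebraMap A D a
        rw [IsScalarTower.algebraMap_apply A D₀ (Localization.AtPrime n), hψ]
        rfl }
  have hψsurj : Function.Surjective ψA := by
    intro d
    obtain ⟨v, hv, y, hy, hvnzd, hvd⟩ := hfrac D₀ hτD₀ d
    have hmem : algebraMap D₀ (Localization.AtPrime n) ⟨y, hy⟩ ∈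
        (Ideal.span {algebraMap D₀ (Localization.AtPrime n) ⟨v, hv⟩} :
          Ideal (Localization.AtPrime n)) := by
      rw [← Ideal.comap_map_eq_self_of_faithfullyFlat (B := E)
        (Ideal.span {algebraMap D₀ (Localization.AtPrime n) ⟨v, hv⟩}), Ideal.mem_comap,
        ← IsScalarTower.algebraMap_apply]
      have h1 : algebraMap D₀ E ⟨v, hv⟩ ∈ (Ideal.span {algebraMap D₀ (Localization.AtPrime n)
          ⟨v, hv⟩} : Ideal (Localization.AtPrime n)).map
            (algebraMap (Localization.AtPrime n) E) := by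
        rw [IsScalarTower.algebraMap_apply D₀ (Localization.AtPrime n) E]
        exact Ideal.mem_map_of_mem _ (Ideal.mem_span_singleton_self _)
      have h2 : algebraMap D₀ E ⟨y, hy⟩ = algebraMap D E d * algebraMap D₀ E ⟨v, hv⟩ := by
        rw [halgD₀, halgD₀, ← map_mul, mul_comm, hvd]
      rw [h2]
      exact Ideal.mul_mem_left _ _ h1
    obtain ⟨z, hz⟩ := Ideal.mem_span_singleton'.mp hmem
    refine ⟨z, ?_⟩
    have h3 := congrArg ψ hz
    rw [map_mul, hψ, hψ] at h3
    have h4 : algebraMap D E v * (algebraMap D E (ψ z) - algebraMap D E d) = 0 := by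
      rw [mul_sub, ← map_mul, ← map_mul, hvd, mul_comm, h3, sub_self]
    have h5 : algebraMap D E (ψ z) - algebraMap D E d = 0 := by
      have := (mem_nonZeroDivisors_iff.mp hvnzd).2 _ (by rw [mul_comm]; exact h4)
      exact this
    exact hinj (sub_eq_zero.mp h5)
  haveI : Algebra.EssFiniteType D₀ (Localization.AtPrime n) :=
    Algebra.EssFiniteType.of_isLocalization (Localization.AtPrime n) n.primeCompl
  haveI : Algebra.EssFiniteType A (Localization.AtPrime n) :=
    Algebra.EssFiniteType.comp A D₀ (Localization.AtPrime n)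
  exact Algebra.EssFiniteType.of_surjective ψA hψsurj

end Gal

end Groth.Agent.Lib.Helper37.Hz
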