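import Groth.Agent.Lib.Helper37.Hz103
import Groth.Agent.Lib.Helper90.SHensFrac

/-!
# Henselization project, part 104: a Noetherian local intermediate ring `A ⊆ D ⊆ A^sh` dominated by
`A^sh`, with `m_A D = m_D` and total ring of fractions finitely generated over that of `A`, is an
essentially étale local `A`-algebra (`A` a reduced Noetherian local ring).
-/

set_option autoImplicit false
set_option linter.style.haveILetI false
set_option linter.unusedSectionVars false
set_option maxHeartbeats 1000000
universe u

open IsLocalRing TensorProduct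

namespace Groth.Agent.Lib.Helper37.Hz

namespace Gal

theorem isEssentiallyEtale_of_noetherian_sub
    (A S : Type u) [CommRing A] [IsLocalRing A] [IsReduced A] [IsNoetherianRing A]
    [CommRing S] [IsLocalRing S] [Algebra A S] [IsLocalHom (algebraMap A S)]
    [Hensel.IsStrictHenselization A S] (D : Subalgebra A S) [IsLocalRing D]
    [IsLocalHom (algebraMap D S)] [IsNoetherianRing D]
    (hfg : ∃ t : Finset (FractionRing D), ∀ x : FractionRing D, ∃ a ∈ nonZeroDivisors A,
      algebraMap A (FractionRing D) a * x ∈ Algebra.adjoin A (t : Set (FractionRing D)))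
    (hm : Ideal.map (algebraMap A D) (maximalIdeal A) = maximalIdeal D) :
    EGA4loc.IsEssentiallyEtale A D := by
  classical
  have hmin : (minimalPrimes A).Finite := minimalPrimes.finite_of_isNoetherianRing A
  haveI : Module.FaithfullyFlat A S := faithfullyFlat_of_isStrictHenselization A S
  obtain ⟨E, hDE, hlocE, hessE⟩ :=
    Groth.Agent.Lib.Helper90.SHensFrac.exists_essEtale_of_fg A S hmin D hfg
  haveI := hlocE
  haveI : Module.Flat A E := Groth.Agent.Lib.Helper90.FracEssEt.flat_of_isEssentiallyEtale hessE
  suffices hft : Algebra.EssFiniteType A D by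
    exact Groth.Agent.Lib.Helper90.EssEtSub.isEssentiallyEtale_of_sub A S D hm
  -- `D` as an algebra over ... `E`
  letI algDE : Algebra D E := (Subalgebra.inclusion hDE).toRingHom.toAlgebra
  haveI : IsScalarTower A D E := IsScalarTower.of_algebraMap_eq (fun a => rfl)
  have halgDE : ∀ d : D, ((algebraMap D E d : E) : S) = (d : S) := fun d => rfl
  have hinj : Function.Injective (algebraMap D E) := Subalgebra.inclusion_injective hDE
  haveI : IsLocalHom (algebraMap D E) := by
    constructor
    intro d hd
    have h1 : IsUnit ((algebraMap D E d : E) : S) := hd.map (algebraMap E S)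
    rw [halgDE] at h1
    exact isUnit_of_map_unit (algebraMap D S) d h1
  -- the fraction data
  obtain ⟨t, ht⟩ := hfg
  obtain ⟨s₀, hs₀⟩ := IsLocalization.exist_integer_multiples_of_finset (nonZeroDivisors D) t
  have hxex : ∀ τ ∈ t, ∃ x : D,
      algebraMap D (FractionRing D) x = algebraMap D (FractionRing D) s₀ * τ := by
    intro τ hτ
    obtain ⟨x, hx⟩ := hs₀ τ hτ
    exact ⟨x, by rw [hx, Algebra.smul_def]⟩
  choose x hx using hxex
  obtain ⟨τs, hτs⟩ : ∃ τs : Finset D, τs = insert (s₀ : D)
      (t.attach.image (fun τ : {y // y ∈ t} => x τ.1 τ.2)) := ⟨_, rfl⟩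
  have hinjK : Function.Injective (algebraMap D (FractionRing D)) :=
    IsFractionRing.injective D (FractionRing D)
  have hfrac : ∀ D₀ : Subalgebra A D, (τs : Set D) ⊆ D₀ → ∀ d : D, ∃ v ∈ D₀, ∃ y ∈ D₀,
      algebraMap D E v ∈ nonZeroDivisors E ∧ v * d = y := by
    intro D₀ hτD₀ d
    have hs₀D₀ : (s₀ : D) ∈ D₀ := hτD₀ (by
      rw [hτs, Finset.coe_insert]
      exact Set.mem_insert _ _)
    have hxD₀ : ∀ τ ∈ t, ∃ x' ∈ D₀,
        algebraMap D (FractionRing D) x' = algebraMap D (FractionRing D) s₀ * τ := by
      intro τ hτ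
      refine ⟨x τ hτ, hτD₀ ?_, hx τ hτ⟩
      rw [hτs, Finset.coe_insert]
      refine Set.mem_insert_of_mem _ ?_
      rw [Finset.mem_coe, Finset.mem_image]
      exact ⟨⟨τ, hτ⟩, Finset.mem_attach _ _, rfl⟩
    obtain ⟨a, ha, hmem⟩ := ht (algebraMap D (FractionRing D) d)
    obtain ⟨n, e, heD₀, he⟩ := Groth.Agent.Lib.Helper90.SHensFrac.exists_pow_mul_mem t D₀
      (s₀ : D) hs₀D₀ hxD₀ hmem
    have hvd : (s₀ : D) ^ n * algebraMap A D a * d = e := by
      apply hinjK
      rw [← he, map_mul, map_mul, IsScalarTower.algebraMap_apply A D (FractionRing D), mul_assoc]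
    have haS : ∀ z : S, algebraMap A S a * z = 0 → z = 0 := by
      intro z hz
      have hreg : IsSMulRegular S a := Module.Flat.isSMulRegular_of_nonZeroDivisors ha
      apply hreg
      change a • z = a • 0
      rw [smul_zero, Algebra.smul_def]
      exact hz
    have hvnzdD : (s₀ : D) ^ n * algebraMap A D a ∈ nonZeroDivisors D := by
      refine mul_mem (pow_mem s₀.2 n) ?_
      rw [mem_nonZeroDivisors_iff]
      have key : ∀ z : D, algebraMap A D a * z = 0 → z = 0 := by
        intro z hz
        apply Subtype.ext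
        apply haS
        have := congrArg Subtype.val hz
        exact this
      exact ⟨fun z hz => key z hz, fun z hz => key z (by rw [mul_comm]; exact hz)⟩
    have hvS : (((s₀ : D) ^ n * algebraMap A D a : D) : S) ∈ nonZeroDivisors S :=
      Groth.Agent.Lib.Helper90.SHensFrac.nzd_sub A S hmin D _ hvnzdD
    refine ⟨(s₀ : D) ^ n * algebraMap A D a,
      D₀.mul_mem (D₀.pow_mem hs₀D₀ n) (D₀.algebraMap_mem a), e, heD₀, ?_, hvd⟩
    rw [mem_nonZeroDivisors_iff]
    have key : ∀ z : E, algebraMap D E ((s₀ : D) ^ n * algebraMap A D a) * z = 0 → z = 0 := by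
      intro z hz
      apply Subtype.ext
      have h1 := congrArg Subtype.val hz
      have h2 : (((s₀ : D) ^ n * algebraMap A D a : D) : S) * (z : S) = 0 := h1
      exact (mem_nonZeroDivisors_iff.mp hvS).1 _ h2
    exact ⟨key, fun z hz => key z (by rw [mul_comm]; exact hz)⟩
  -- unpack the essentially étale structure of `E`
  obtain ⟨E₀, _, _, q, _, hEt, hq, ⟨e⟩⟩ := hessE
  haveI := hEt
  letI algE₀E : Algebra E₀ E :=
    ((e.symm : Localization.AtPrime q →ₐ[A] E).toRingHom.comp
      (algebraMap E₀ (Localization.AtPrime q))).toAlgebra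
  haveI : IsScalarTower A E₀ E := IsScalarTower.of_algebraMap_eq (fun a => by
    change algebraMap A E a = e.symm (algebraMap E₀ _ (algebraMap A E₀ a))
    rw [← IsScalarTower.algebraMap_apply A E₀ (Localization.AtPrime q), e.symm.commutes])
  let e' : Localization.AtPrime q ≃ₐ[E₀] E :=
    { e.symm.toRingEquiv with commutes' := fun x => rfl }
  haveI : IsLocalization.AtPrime E q := IsLocalization.isLocalization_of_algEquiv q.primeCompl e'
  exact essFiniteType_of_noetherian_of_map_maximalIdeal A D E₀ E hinj hm q τs hfrac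

end Gal

end Groth.Agent.Lib.Helper37.Hz
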