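import Groth.Agent.Lib.Helper37.Hz104

/-!
# Henselization project, part 105: generic lemmas for semilocal intersections
(residue-field integrality, inverse polynomials modulo a maximal ideal, finiteness of the maximal
spectrum of the normalization of a reduced Noetherian local ring).
-/

set_option autoImplicit false
set_option linter.style.haveILetI false
set_option linter.unusedSectionVars false
set_option maxHeartbeats 1000000
universe u

open IsLocalRing TensorProduct Polynomial

namespace Groth.Agent.Lib.Helper37.Hz

namespace Gal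

/-- In a field `F` which is an algebra over a local ring `R` whose maximal ideal is killed, a
nonzero root of a polynomial with a unit coefficient has an inverse which is a polynomial in it. -/
theorem exists_mul_aeval_eq_one_aux {R F : Type*} [CommRing R] [IsLocalRing R] [Field F]
    [Algebra R F] (h0 : ∀ a ∈ maximalIdeal R, algebraMap R F a = 0) (x : F) (hx : x ≠ 0) :
    ∀ (n : ℕ) (p : R[X]), p.natDegree ≤ n → (∃ i, IsUnit (p.coeff i)) → aeval x p = 0 →
      ∃ q : R[X], x * aeval x q = 1 := by
  intro n
  induction n with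
  | zero =>
    rintro p hn ⟨i, hi⟩ hp
    have hpC : p = C (p.coeff 0) := eq_C_of_natDegree_le_zero hn
    have hi0 : i = 0 := by
      by_contra h
      rw [hpC, coeff_C, if_neg h] at hi
      exact not_isUnit_zero hi
    subst hi0
    rw [hpC, aeval_C] at hp
    exact absurd hp (hi.map (algebraMap R F)).ne_zero
  | succ n ih =>
    rintro p hn ⟨i, hi⟩ hp
    have h1 : x * aeval x (divX p) + algebraMap R F (p.coeff 0) = 0 := by
      rw [← hp]
      conv_rhs => rw [← X_mul_divX_add p]
      rw [map_add, map_mul, aeval_X, aeval_C]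
    by_cases hu : IsUnit (p.coeff 0)
    · obtain ⟨u, hu'⟩ := hu
      refine ⟨C (-(↑u⁻¹ : R)) * divX p, ?_⟩
      rw [map_mul, aeval_C, mul_left_comm, eq_neg_of_add_eq_zero_left h1, ← hu', map_neg,
        neg_mul_neg, ← map_mul, Units.inv_mul, map_one]
    · have hm : p.coeff 0 ∈ maximalIdeal R := (mem_maximalIdeal _).mpr hu
      rw [h0 _ hm, add_zero] at h1
      have h2 : aeval x (divX p) = 0 := (mul_eq_zero.mp h1).resolve_left hx
      refine ih (divX p) ?_ ?_ h2
      · rw [natDegree_divX_eq_natDegree_tsub_one]; omega
      · have hi0 : i ≠ 0 := fun h => hu (h ▸ hi)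
        obtain ⟨j, rfl⟩ := Nat.exists_eq_succ_of_ne_zero hi0
        exact ⟨j, by rw [coeff_divX]; exact hi⟩

theorem exists_mul_aeval_eq_one {R F : Type*} [CommRing R] [IsLocalRing R] [Field F]
    [Algebra R F] (h0 : ∀ a ∈ maximalIdeal R, algebraMap R F a = 0) (x : F) (hx : x ≠ 0)
    (hint : IsIntegral R x) : ∃ q : R[X], x * aeval x q = 1 := by
  obtain ⟨p, hp, hpx⟩ := hint
  refine exists_mul_aeval_eq_one_aux h0 x hx p.natDegree p le_rfl ⟨p.natDegree, ?_⟩ ?_
  · rw [coeff_natDegree, hp.leadingCoeff]; exact isUnit_one
  · rw [aeval_def]; exact hpx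

end Gal

end Groth.Agent.Lib.Helper37.Hz
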