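import Groth.Agent.Lib.Helper37.Hz105

/-!
# Henselization project, part 106: quotients of an integral extension of a local ring `E`
(quasi-finite residue field over a local ring `A`) by maximal ideals are integral over `A`.
-/

set_option autoImplicit false
set_option linter.style.haveILetI false
set_option linter.unusedSectionVars false
set_option maxHeartbeats 1000000
universe u

open IsLocalRing TensorProduct Polynomial

namespace Groth.Agent.Lib.Helper37.Hz

namespace Gal

theorem isIntegral_quotient_of_finite_residueField {A E B : Type*} [CommRing A] [IsLocalRing A]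
    [CommRing E] [IsLocalRing E] [Algebra A E] [IsLocalHom (algebraMap A E)]
    [Module.Finite (ResidueField A) (ResidueField E)] [CommRing B] [Algebra E B] [Algebra A B]
    [IsScalarTower A E B] [Algebra.IsIntegral E B] (M : Ideal B) [hM : M.IsMaximal] :
    (∀ y : B ⧸ M, IsIntegral A y) ∧ ∀ a ∈ maximalIdeal A, algebraMap A (B ⧸ M) a = 0 := by
  have hcomap : M.comap (algebraMap E B) = maximalIdeal E :=
    eq_maximalIdeal (Ideal.isMaximal_comap_of_isIntegral_of_isMaximal M)
  have hE0 : ∀ e ∈ maximalIdeal E, algebraMap E (B ⧸ M) e = 0 := by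
    intro e he
    rw [IsScalarTower.algebraMap_apply E B (B ⧸ M), Ideal.Quotient.algebraMap_eq,
      Ideal.Quotient.eq_zero_iff_mem]
    rw [← hcomap] at he
    exact he
  have hA0 : ∀ a ∈ maximalIdeal A, algebraMap A (B ⧸ M) a = 0 := by
    intro a ha
    rw [IsScalarTower.algebraMap_apply A E (B ⧸ M)]
    apply hE0
    exact ((isLocalHom_iff_comap_closedPoint (algebraMap A E)).mp inferInstance) |> fun _ => by
      by_contra h
      have hu : IsUnit (algebraMap A E a) := by
        by_contra h'
        exact h ((mem_maximalIdeal _).mpr h')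
      exact ((mem_maximalIdeal _).mp ha) (isUnit_of_map_unit (algebraMap A E) a hu)
  refine ⟨?_, hA0⟩
  letI : Algebra (ResidueField E) (B ⧸ M) :=
    (Ideal.Quotient.lift (maximalIdeal E) (algebraMap E (B ⧸ M)) hE0).toAlgebra
  haveI : IsScalarTower E (ResidueField E) (B ⧸ M) := IsScalarTower.of_algebraMap_eq (fun e => rfl)
  haveI : IsScalarTower A (ResidueField E) (B ⧸ M) := IsScalarTower.of_algebraMap_eq (fun a => by
    rw [IsScalarTower.algebraMap_apply A E (ResidueField E),
      ← IsScalarTower.algebraMap_apply E (ResidueField E) (B ⧸ M),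
      ← IsScalarTower.algebraMap_apply A E (B ⧸ M)])
  haveI : Algebra.IsIntegral A (ResidueField A) :=
    Algebra.IsIntegral.of_surjective (Algebra.ofId A (ResidueField A)) Ideal.Quotient.mk_surjective
  haveI : Algebra.IsIntegral A (ResidueField E) :=
    Algebra.IsIntegral.trans (R := A) (ResidueField A) (B := ResidueField E)
  intro y
  obtain ⟨b, rfl⟩ := Ideal.Quotient.mk_surjective y
  have h1 : IsIntegral E (Ideal.Quotient.mk M b) :=
    (Algebra.IsIntegral.isIntegral (R := E) b).map (Ideal.Quotient.mkₐ E M)
  have h2 : IsIntegral (ResidueField E) (Ideal.Quotient.mk M b) := h1.tower_top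
  exact isIntegral_trans (R := A) (A := ResidueField E) _ h2

/-- Inverses modulo a maximal ideal are polynomial. -/
theorem exists_poly_inv_mod {A E B : Type*} [CommRing A] [IsLocalRing A]
    [CommRing E] [IsLocalRing E] [Algebra A E] [IsLocalHom (algebraMap A E)]
    [Module.Finite (ResidueField A) (ResidueField E)] [CommRing B] [Algebra E B] [Algebra A B]
    [IsScalarTower A E B] [Algebra.IsIntegral E B] (M : Ideal B) [hM : M.IsMaximal]
    (b : B) (hb : b ∉ M) : ∃ q : A[X], b * aeval b q - 1 ∈ M := by
  obtain ⟨h1, h2⟩ := isIntegral_quotient_of_finite_residueField (A := A) (E := E) M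
  letI : Field (B ⧸ M) := Ideal.Quotient.field M
  have hx : Ideal.Quotient.mk M b ≠ 0 := fun h => hb (Ideal.Quotient.eq_zero_iff_mem.mp h)
  obtain ⟨q, hq⟩ := exists_mul_aeval_eq_one h2 _ hx (h1 _)
  refine ⟨q, ?_⟩
  rw [← Ideal.Quotient.eq_zero_iff_mem, map_sub, map_mul, map_one, sub_eq_zero]
  have : Ideal.Quotient.mk M (aeval b q) = aeval (Ideal.Quotient.mk M b) q :=
    (Polynomial.aeval_algHom_apply (Ideal.Quotient.mkₐ A M) b q).symm
  rw [this]
  exact hq

end Gal

end Groth.Agent.Lib.Helper37.Hz
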