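import Groth.Agent.Lib.Helper37.Hz17
import Groth.Agent.Lib.Helper37.Hz9
import Groth.Agent.Lib.Helper37.Hz11
import Groth.Agent.S9407
import Groth.Agent.S0733

/-!
# Henselization project, part 25: reducedness along ind-étale maps; geometric reducedness of
(strict) henselizations
-/

set_option autoImplicit false
universe u

namespace Groth.Agent.Lib.Helper37.Hz

open IsLocalRing Groth.Agent.Lib.Helper4 TensorProduct Polynomial

/-- An algebra with the étale factorization property over a reduced ring is reduced. -/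
theorem isReduced_of_hasFactorization {A C : Type u} [CommRing A] [CommRing C] [Algebra A C]
    [IsReduced A] (h : HasFactorization (etaleClass A) C) : IsReduced C := by
  constructor
  rintro c ⟨n, hn⟩
  let I : Ideal A[X] := Ideal.span {(X : A[X]) ^ n}
  have hI : I.FG := ⟨{(X : A[X]) ^ n}, by simp [I]⟩
  have : Algebra.FinitePresentation A (A[X] ⧸ I) := Algebra.FinitePresentation.quotient hI
  let φ : (A[X] ⧸ I) →ₐ[A] C := Ideal.Quotient.liftₐ I (aeval c) (by
    intro p hp
    obtain ⟨q, rfl⟩ := Ideal.mem_span_singleton'.mp hp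
    rw [map_mul, map_pow, aeval_X, hn, mul_zero])
  obtain ⟨E, _, _, hE, α, β, hαβ⟩ := h (A[X] ⧸ I) φ
  have hE' : Algebra.Etale A E := hE
  have : IsReduced E := Groth.Agent.S9407.result A E
  have h1 : α (Ideal.Quotient.mk I X) = 0 := by
    apply IsNilpotent.eq_zero
    refine ⟨n, ?_⟩
    have h0 : Ideal.Quotient.mk I ((X : A[X]) ^ n) = 0 :=
      Ideal.Quotient.eq_zero_iff_mem.mpr (Ideal.subset_span rfl)
    rw [← map_pow, ← map_pow, h0, map_zero]
  have h2 : φ (Ideal.Quotient.mk I X) = c := by
    change aeval c X = c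
    exact aeval_X c
  rw [← h2, ← hαβ, AlgHom.comp_apply, h1, map_zero]

/-- Ind-étale algebras over reduced rings are reduced. -/
theorem isReduced_of_isIndEtale {A C : Type u} [CommRing A] [CommRing C] [Algebra A C]
    [IsReduced A] (h : EtPBC.IsIndEtale A C) : IsReduced C :=
  isReduced_of_hasFactorization ((isIndEtale_iff_hasFactorization C).mp h)

/-- Geometric reducedness ascends along ind-étale maps. -/
theorem isReduced_tensor_of_isIndEtale (k : Type u) [Field k] (A R K : Type u) [CommRing A]
    [CommRing R] [Field K] [Algebra k A] [Algebra A R] [Algebra k R] [IsScalarTower k A R]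
    [Algebra k K] (hR : EtPBC.IsIndEtale A R) (hA : IsReduced (K ⊗[k] A)) :
    IsReduced (K ⊗[k] R) := by
  have h1 : IsReduced (A ⊗[k] K) :=
    isReduced_of_injective (Algebra.TensorProduct.comm k A K).toAlgHom
      (Algebra.TensorProduct.comm k A K).injective
  have h2 : EtPBC.IsIndEtale (A ⊗[k] K) ((A ⊗[k] K) ⊗[A] R) :=
    Groth.Agent.S0733.result A R (A ⊗[k] K) hR
  have h3 : IsReduced ((A ⊗[k] K) ⊗[A] R) := isReduced_of_isIndEtale h2
  let e1 : K ⊗[k] R ≃ₐ[k] R ⊗[k] K := Algebra.TensorProduct.comm k K R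
  let e2 : R ⊗[A] (A ⊗[k] K) ≃ₐ[A] R ⊗[k] K := Algebra.TensorProduct.cancelBaseChange k A A R K
  let e3 : R ⊗[A] (A ⊗[k] K) ≃ₐ[A] (A ⊗[k] K) ⊗[A] R := Algebra.TensorProduct.comm A R (A ⊗[k] K)
  let f : K ⊗[k] R →+* (A ⊗[k] K) ⊗[A] R :=
    (e3 : R ⊗[A] (A ⊗[k] K) →+* (A ⊗[k] K) ⊗[A] R).comp
      ((e2.symm : R ⊗[k] K →+* R ⊗[A] (A ⊗[k] K)).comp (e1 : K ⊗[k] R →+* R ⊗[k] K))
  have hf : Function.Injective f :=
    e3.injective.comp (e2.symm.injective.comp e1.injective)
  exact isReduced_of_injective f hf

/-- Geometric reducedness descends along injective maps (over a field). -/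
theorem isReduced_tensor_of_injective (k : Type u) [Field k] (A R K : Type u) [CommRing A]
    [CommRing R] [Field K] [Algebra k A] [Algebra A R] [Algebra k R] [IsScalarTower k A R]
    [Algebra k K] (hinj : Function.Injective (algebraMap A R)) (hR : IsReduced (K ⊗[k] R)) :
    IsReduced (K ⊗[k] A) := by
  let g : A →ₐ[k] R := IsScalarTower.toAlgHom k A R
  let f : K ⊗[k] A →ₐ[k] K ⊗[k] R := Algebra.TensorProduct.map (AlgHom.id k K) g
  have hf : Function.Injective f := by
    have h1 : Function.Injective (LinearMap.lTensor K g.toLinearMap) :=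
      Module.Flat.lTensor_preserves_injective_linearMap g.toLinearMap hinj
    have h2 : (f : K ⊗[k] A → K ⊗[k] R) = LinearMap.lTensor K g.toLinearMap := by
      ext x
      induction x with
      | zero => simp
      | add a b ha hb => rw [map_add, map_add, ha, hb]
      | tmul a b => rfl
    rw [h2]
    exact h1
  exact isReduced_of_injective f hf

end Groth.Agent.Lib.Helper37.Hz
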