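import Groth.Agent.Lib.Helper37.Hz75

/-!
# Henselization project, part 76: purely inseparable residue fields of the normalization iff
`A^h` and `A^sh` have the same number of minimal primes (Noetherian reduced local ring).
-/

set_option autoImplicit false
universe u

open TensorProduct IsLocalRing Groth.Agent.Lib.Helper4

namespace Groth.Agent.Lib.Helper37.Hz

namespace Tower

variable (A Ah Ash : Type u) [CommRing A] [IsLocalRing A] [IsReduced A] [IsNoetherianRing A]
  [CommRing Ah] [IsLocalRing Ah] [Algebra A Ah] [IsLocalHom (algebraMap A Ah)]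
  [hh : Hensel.IsHenselization A Ah]
  [CommRing Ash] [IsLocalRing Ash] [Algebra A Ash] [IsLocalHom (algebraMap A Ash)]
  [hsh : Hensel.IsStrictHenselization A Ash]

include hh hsh in
/-- The residue fields of the normalization of `A` are purely inseparable over that of `A` iff
`A^h` and `A^sh` have the same number of minimal primes. -/
theorem pi_iff_card_eq :
    (∀ (M : Ideal (integralClosure A (FractionRing A))) [M.IsMaximal],
      ∀ x : (integralClosure A (FractionRing A)) ⧸ M, ∃ n : ℕ,
        x ^ (ringExpChar ((integralClosure A (FractionRing A)) ⧸ M)) ^ n ∈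
          ((Ideal.Quotient.mk M).comp
            (algebraMap A (integralClosure A (FractionRing A)))).range) ↔
      ENat.card (minimalPrimes Ah) = ENat.card (minimalPrimes Ash) := by
  classical
  haveI : IsNoetherianRing Ah :=
    (isNoetherianRing_iff_of_isHenselization A Ah).mp inferInstance
  have hfin : (minimalPrimes A).Finite := minimalPrimes.finite_of_isNoetherianRing A
  have hfinh : (minimalPrimes Ah).Finite := minimalPrimes.finite_of_isNoetherianRing Ah
  have hb := Branches.card_minimalPrimes_eq_numBranches A Ah
  have hg := Branches.card_minimalPrimes_eq_numGeomBranches A Ash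
  unfold Brnch.numBranches at hb
  unfold Brnch.numGeomBranches at hg
  rw [if_pos hfin] at hb hg
  rw [hb, hg]
  haveI : Finite (MaximalSpectrum (CAlg2.normRed A)) := by
    rw [← ENat.card_lt_top, ← hb]
    haveI := hfinh.to_subtype
    exact ENat.card_lt_top_of_finite
  have key : ∀ m' : MaximalSpectrum (CAlg2.normRed A),
      ((∀ x : CAlg2.normRed A ⧸ m'.asIdeal, ∃ n : ℕ,
        x ^ (ringExpChar (CAlg2.normRed A ⧸ m'.asIdeal)) ^ n ∈ (Brnch.toResidue A m').range) ↔
        Subsingleton (Brnch.Emb A m')) ∧ Nonempty (Brnch.Emb A m') := fun m' =>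
    haveI := m'.isMaximal
    PIEmb.subsingleton_emb_iff_and_nonempty A (CAlg2.normRed A)
      m'.asIdeal (AlgebraicClosure (IsLocalRing.ResidueField A)) (Brnch.toResidue A m') rfl
      (Brnch.toClosure A) rfl
  rw [PIEmb.card_sigma_eq_iff (fun m' => Brnch.Emb A m') (fun m' => (key m').2)]
  obtain ⟨ψ, hψ⟩ := NormBridge.exists_equiv_normRed A
  constructor
  · intro h m'
    rw [← (key m').1]
    haveI := m'.isMaximal
    exact PIEmb.pow_mem_range_transfer
      (algebraMap A (integralClosure A (FractionRing A)))
      ((algebraMap (CAlg2.red A) (CAlg2.normRed A)).comp (Ideal.Quotient.mk (nilradical A)))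
      ψ hψ (fun M _ x => h M x) m'.asIdeal
  · intro h M _ x
    refine PIEmb.pow_mem_range_transfer
      ((algebraMap (CAlg2.red A) (CAlg2.normRed A)).comp (Ideal.Quotient.mk (nilradical A)))
      (algebraMap A (integralClosure A (FractionRing A))) ψ.symm ?_ ?_ M x
    · intro a
      rw [RingEquiv.symm_apply_eq, hψ]
      rfl
    · intro M' hM' y
      exact ((key ⟨M', hM'⟩).1).mpr (h ⟨M', hM'⟩) y

end Tower

end Groth.Agent.Lib.Helper37.Hz
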