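import Groth.Agent.Lib.Helper37.Hz106
import Groth.Agent.Lib.Helper37.Hz76
import Groth.Agent.Lib.Helper37.Hz25
import Groth.Agent.S9407

/-!
# Henselization project, part 107: the normalization of a reduced Noetherian local ring has
finitely many maximal ideals; essentially étale local algebras over a reduced Noetherian local ring
are reduced and Noetherian with finite residue field extension.
-/

set_option autoImplicit false
set_option linter.style.haveILetI false
set_option linter.unusedSectionVars false
set_option maxHeartbeats 1000000
universe u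

open IsLocalRing TensorProduct Polynomial

namespace Groth.Agent.Lib.Helper37.Hz

namespace Gal

theorem finite_maximalSpectrum_integralClosure (A : Type u) [CommRing A] [IsLocalRing A]
    [IsReduced A] [IsNoetherianRing A] :
    Finite (MaximalSpectrum (integralClosure A (FractionRing A))) := by
  classical
  obtain ⟨Ah, _, _, _, _, hh⟩ := exists_isHenselization (R := A)
  haveI : IsNoetherianRing Ah :=
    (isNoetherianRing_iff_of_isHenselization A Ah).mp inferInstance
  have hfin : (minimalPrimes A).Finite := minimalPrimes.finite_of_isNoetherianRing A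
  have hfinh : (minimalPrimes Ah).Finite := minimalPrimes.finite_of_isNoetherianRing Ah
  obtain ⟨e⟩ := Branches.nonempty_equiv A Ah hfin
  haveI := hfinh.to_subtype
  haveI : Finite (MaximalSpectrum (CAlg2.normRed A)) := Finite.of_equiv _ e
  obtain ⟨ψ, -⟩ := NormBridge.exists_equiv_normRed A
  let f : MaximalSpectrum (integralClosure A (FractionRing A)) → MaximalSpectrum (CAlg2.normRed A) :=
    fun M => ⟨M.asIdeal.comap (ψ.symm : CAlg2.normRed A →+* _),
      haveI := M.isMaximal
      Ideal.comap_isMaximal_of_surjective _ ψ.symm.surjective⟩
  refine Finite.of_injective f ?_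
  intro M N h
  have h1 : M.asIdeal.comap (ψ.symm : CAlg2.normRed A →+* _) =
      N.asIdeal.comap (ψ.symm : CAlg2.normRed A →+* _) := congrArg MaximalSpectrum.asIdeal h
  exact MaximalSpectrum.ext (Ideal.comap_injective_of_surjective _ ψ.symm.surjective h1)

theorem isNoetherianRing_of_isEssentiallyEtale {A E : Type u} [CommRing A] [IsLocalRing A]
    [IsNoetherianRing A] [CommRing E] [Algebra A E] (hE : EGA4loc.IsEssentiallyEtale A E) :
    IsNoetherianRing E := by
  obtain ⟨C, _, _, q, _, hC, -, ⟨e⟩⟩ := hE
  haveI := hC
  haveI : IsNoetherianRing C := Algebra.FiniteType.isNoetherianRing A C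
  haveI : IsNoetherianRing (Localization.AtPrime q) :=
    IsLocalization.isNoetherianRing q.primeCompl _ inferInstance
  exact isNoetherianRing_of_ringEquiv _ e.symm.toRingEquiv

theorem isReduced_of_isEssentiallyEtale {A E : Type u} [CommRing A] [IsLocalRing A]
    [IsReduced A] [CommRing E] [Algebra A E] (hE : EGA4loc.IsEssentiallyEtale A E) :
    IsReduced E := by
  obtain ⟨C, _, _, q, _, hC, -, ⟨e⟩⟩ := hE
  haveI := hC
  haveI : IsReduced C := Groth.Agent.S9407.result A C
  haveI : IsReduced (Localization.AtPrime q) :=
    inferInstanceAs (IsReduced (Localization q.primeCompl))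
  exact isReduced_of_injective e.toRingHom e.injective

theorem finite_residueField_of_isEssentiallyEtale {A E : Type u} [CommRing A] [IsLocalRing A]
    [CommRing E] [IsLocalRing E] [Algebra A E] [IsLocalHom (algebraMap A E)]
    (hE : EGA4loc.IsEssentiallyEtale A E) :
    Module.Finite (ResidueField A) (ResidueField E) := by
  haveI : Algebra.QuasiFinite A E :=
    Groth.Agent.Lib.Helper90.FracEssEt.quasiFinite_of_isEssentiallyEtale hE
  haveI : Algebra.QuasiFinite A (ResidueField E) :=
    inferInstanceAs (Algebra.QuasiFinite A (E ⧸ maximalIdeal E))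
  haveI : Algebra.QuasiFinite (ResidueField A) (ResidueField E) :=
    Algebra.QuasiFinite.of_restrictScalars A _ _
  exact Module.Finite.of_quasiFinite

end Gal

end Groth.Agent.Lib.Helper37.Hz
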