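import Groth.Agent.Lib.Helper37.Hz107
import Groth.Agent.Lib.Helper90.FracEssEt2

/-!
# Henselization project, part 108: the intersection `C = L ⊓ E'` of an intermediate ring `L` of
total rings of fractions with the normalization `E'` of an essentially étale local algebra `E` over
a reduced Noetherian local ring is semilocal, with maximal ideals the contractions from `E'`.
-/

set_option autoImplicit false
set_option linter.style.haveILetI false
set_option linter.unusedSectionVars false
set_option maxHeartbeats 1000000
universe u

open IsLocalRing TensorProduct Polynomial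

namespace Groth.Agent.Lib.Helper37.Hz

namespace Gal

open Groth.Agent.Lib.Helper90.FracEssEt in
/-- A subalgebra of the total ring of fractions of `E` containing the inverses of the
non-zero-divisors of `A` is closed under inverses. -/
theorem inv_mem_of_mul_eq_one {A : Type*} [CommRing A] [IsReduced A] {E : Type*} [CommRing E]
    [Algebra A E] [Module.Flat A E] [Algebra.QuasiFinite A E] (hmin : (minimalPrimes A).Finite)
    (L : Subalgebra A (FractionRing E))
    (hL : ∀ s ∈ nonZeroDivisors A, ∃ y ∈ L, algebraMap A (FractionRing E) s * y = 1)
    (c u : FractionRing E) (hc : c ∈ L) (hcu : c * u = 1) : u ∈ L := by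
  haveI := isLocalization_fractionRing (E := E) hmin
  obtain ⟨⟨e, s⟩, hes⟩ := IsLocalization.surj (Algebra.algebraMapSubmonoid E (nonZeroDivisors A)) c
  obtain ⟨a₀, ha₀, has⟩ := s.2
  have hes' : c * algebraMap A (FractionRing E) a₀ = algebraMap E (FractionRing E) e := by
    rw [← hes, IsScalarTower.algebraMap_apply A E (FractionRing E), has]
  have hsu : IsUnit (algebraMap A (FractionRing E) a₀) := by
    rw [IsScalarTower.algebraMap_apply A E (FractionRing E), has]
    exact IsLocalization.map_units (FractionRing E) s
  have hcunit : IsUnit c := IsUnit.of_mul_eq_one u hcu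
  have heu : IsUnit (algebraMap E (FractionRing E) e) := by
    rw [← hes']; exact hcunit.mul hsu
  have he : e ∈ nonZeroDivisors E := by
    rw [mem_nonZeroDivisors_iff_right]
    intro z hz
    have h2 : algebraMap E (FractionRing E) z * algebraMap E (FractionRing E) e = 0 := by
      rw [← map_mul, hz, map_zero]
    have h3 := heu.mul_left_eq_zero.mp h2
    exact IsFractionRing.injective E (FractionRing E) (h3.trans (map_zero _).symm)
  obtain ⟨a, ha, p, hp⟩ := (exists_poly hmin e).1 he
  obtain ⟨y, hy, hay⟩ := hL a ha
  have hceL : algebraMap E (FractionRing E) e ∈ L := by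
    rw [← hes']; exact L.mul_mem hc (L.algebraMap_mem a₀)
  have hpL : aeval (algebraMap E (FractionRing E) e) p ∈ L :=
    Algebra.adjoin_le (Set.singleton_subset_iff.mpr hceL)
      (Polynomial.aeval_mem_adjoin_singleton A _)
  have h1 : algebraMap E (FractionRing E) e * aeval (algebraMap E (FractionRing E) e) p =
      algebraMap A (FractionRing E) a := by
    have := congrArg (algebraMap E (FractionRing E)) hp
    rw [map_mul, ← IsScalarTower.algebraMap_apply A E (FractionRing E)] at this
    rw [← this]
    congr 1
    exact Polynomial.aeval_algHom_apply (IsScalarTower.toAlgHom A E (FractionRing E)) e p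
  have hu : u = algebraMap A (FractionRing E) a₀ *
      aeval (algebraMap E (FractionRing E) e) p * y := by
    calc u = u * (algebraMap A (FractionRing E) a * y) := by rw [hay, mul_one]
      _ = u * (c * algebraMap A (FractionRing E) a₀ *
            aeval (algebraMap E (FractionRing E) e) p * y) := by rw [← h1, hes']
      _ = (c * u) * (algebraMap A (FractionRing E) a₀ *
            aeval (algebraMap E (FractionRing E) e) p * y) := by ring
      _ = _ := by rw [hcu, one_mul]
  rw [hu]
  exact L.mul_mem (L.mul_mem (L.algebraMap_mem a₀) hpL) hy

end Gal

end Groth.Agent.Lib.Helper37.Hz
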