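import Groth.Agent.Lib.Helper37.Hz108

/-!
# Henselization project, part 109: main theorem on `C = L ⊓ E'`.
-/

set_option autoImplicit false
set_option linter.style.haveILetI false
set_option linter.unusedSectionVars false
set_option maxHeartbeats 1000000
universe u

open IsLocalRing TensorProduct Polynomial

namespace Groth.Agent.Lib.Helper37.Hz

namespace Gal

open Groth.Agent.Lib.Helper90.FracEssEt in
theorem inter_semilocal
    (A E : Type u) [CommRing A] [IsLocalRing A] [IsReduced A] [IsNoetherianRing A]
    [CommRing E] [IsLocalRing E] [Algebra A E] [IsLocalHom (algebraMap A E)]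
    (hE : EGA4loc.IsEssentiallyEtale A E) (L : Subalgebra A (FractionRing E))
    (hL : ∀ s ∈ nonZeroDivisors A, ∃ y ∈ L, algebraMap A (FractionRing E) s * y = 1)
    (C : Subalgebra A (FractionRing E))
    (hC : C = L ⊓ (integralClosure E (FractionRing E)).restrictScalars A) :
    (∀ x ∈ L, IsIntegral C x → x ∈ C) ∧
      {N : Ideal C | N.IsMaximal}.Finite ∧
      (∀ N : Ideal C, N.IsMaximal ↔ ∃ M : Ideal ((integralClosure E (FractionRing E)).restrictScalars A),
          M.IsMaximal ∧ N = M.comap (Subalgebra.inclusion (hC.trans_le inf_le_right))) ∧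
      ∀ l ∈ L, ∃ c ∈ C, ∃ s ∈ nonZeroDivisors A, ∃ y ∈ L,
        algebraMap A (FractionRing E) s * y = 1 ∧ l = c * y := by
  classical
  have hmin : (minimalPrimes A).Finite := minimalPrimes.finite_of_isNoetherianRing A
  haveI : Module.Flat A E := flat_of_isEssentiallyEtale hE
  haveI : Algebra.QuasiFinite A E := quasiFinite_of_isEssentiallyEtale hE
  haveI : IsNoetherianRing E := isNoetherianRing_of_isEssentiallyEtale hE
  haveI : IsReduced E := isReduced_of_isEssentiallyEtale hE
  haveI : Module.Finite (ResidueField A) (ResidueField E) :=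
    finite_residueField_of_isEssentiallyEtale hE
  haveI hloc := isLocalization_fractionRing (E := E) hmin
  obtain ⟨K, hK⟩ : ∃ K : Type u, K = FractionRing E := ⟨_, rfl⟩
  obtain ⟨E', hE'⟩ : ∃ E' : Subalgebra A (FractionRing E),
    E' = (integralClosure E (FractionRing E)).restrictScalars A := ⟨_, rfl⟩
  have hmemE' : ∀ x : FractionRing E, x ∈ E' ↔ IsIntegral E x := by
    intro x; rw [hE']; exact Iff.rfl
  have hCL : C ≤ L := hC.trans_le inf_le_left
  have hCE' : C ≤ E' := hE' ▸ hC.trans_le inf_le_right
  have hmemC : ∀ x : FractionRing E, x ∈ C ↔ x ∈ L ∧ IsIntegral E x := by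
    intro x; rw [hC]; exact Iff.rfl
  -- (1)
  have h1 : ∀ x ∈ L, IsIntegral C x → x ∈ C := by
    intro x hxL hx
    rw [hmemC]
    refine ⟨hxL, ?_⟩
    let φ : C →+* integralClosure E (FractionRing E) :=
      { toFun := fun c => ⟨c.1, ((hmemC c.1).mp c.2).2⟩
        map_one' := rfl
        map_mul' := fun _ _ => rfl
        map_zero' := rfl
        map_add' := fun _ _ => rfl }
    have h2 : IsIntegral (integralClosure E (FractionRing E)) x :=
      IsIntegral.map_of_comp_eq φ (RingHom.id (FractionRing E)) (by ext c; rfl) hx
    exact isIntegral_trans (R := E) (A := integralClosure E (FractionRing E)) x h2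
  -- (4)
  have h4 : ∀ l ∈ L, ∃ c ∈ C, ∃ s ∈ nonZeroDivisors A, ∃ y ∈ L,
      algebraMap A (FractionRing E) s * y = 1 ∧ l = c * y := by
    intro l hl
    obtain ⟨⟨e, s⟩, hes⟩ :=
      IsLocalization.surj (Algebra.algebraMapSubmonoid E (nonZeroDivisors A)) l
    obtain ⟨a₀, ha₀, has⟩ := s.2
    have hes' : l * algebraMap A (FractionRing E) a₀ = algebraMap E (FractionRing E) e := by
      rw [← hes, IsScalarTower.algebraMap_apply A E (FractionRing E), has]
    obtain ⟨y, hy, hay⟩ := hL a₀ ha₀
    refine ⟨algebraMap E (FractionRing E) e, ?_, a₀, ha₀, y, hy, hay, ?_⟩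
    · rw [hmemC]
      exact ⟨hes' ▸ L.mul_mem hl (L.algebraMap_mem a₀), isIntegral_algebraMap⟩
    · rw [← hes', mul_assoc, hay, mul_one]
  -- the normalization `B` of `E` as an `E`-algebra
  let ι : E →+* ((integralClosure E (FractionRing E)).restrictScalars A) :=
    { toFun := fun e => ⟨algebraMap E (FractionRing E) e, isIntegral_algebraMap⟩
      map_one' := Subtype.ext (map_one _)
      map_mul' := fun _ _ => Subtype.ext (map_mul _ _ _)
      map_zero' := Subtype.ext (map_zero _)
      map_add' := fun _ _ => Subtype.ext (map_add _ _ _) }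
  letI : Algebra E ((integralClosure E (FractionRing E)).restrictScalars A) := ι.toAlgebra
  haveI : IsScalarTower A E ((integralClosure E (FractionRing E)).restrictScalars A) :=
    IsScalarTower.of_algebraMap_eq
      (fun a => Subtype.ext (IsScalarTower.algebraMap_apply A E (FractionRing E) a))
  let valE : ((integralClosure E (FractionRing E)).restrictScalars A) →ₐ[E] FractionRing E :=
    { toFun := fun x => x.1
      map_one' := rfl
      map_mul' := fun _ _ => rfl
      map_zero' := rfl
      map_add' := fun _ _ => rfl
      commutes' := fun _ => rfl }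
  haveI : Algebra.IsIntegral E ((integralClosure E (FractionRing E)).restrictScalars A) :=
    ⟨fun x => (isIntegral_algHom_iff valE Subtype.val_injective).mp x.2⟩
  let eqv : ((integralClosure E (FractionRing E)).restrictScalars A) ≃+*
      integralClosure E (FractionRing E) :=
    { toFun := fun x => ⟨x.1, x.2⟩
      invFun := fun x => ⟨x.1, x.2⟩
      left_inv := fun _ => rfl
      right_inv := fun _ => rfl
      map_mul' := fun _ _ => rfl
      map_add' := fun _ _ => rfl }
  have hfinMax : {M : Ideal ((integralClosure E (FractionRing E)).restrictScalars A) |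
      M.IsMaximal}.Finite := by
    haveI := finite_maximalSpectrum_integralClosure E
    let g : {M : Ideal ((integralClosure E (FractionRing E)).restrictScalars A) | M.IsMaximal} →
        MaximalSpectrum (integralClosure E (FractionRing E)) :=
      fun M => ⟨M.1.comap (eqv.symm : integralClosure E (FractionRing E) →+* _),
        haveI : M.1.IsMaximal := M.2
        Ideal.comap_isMaximal_of_surjective _ eqv.symm.surjective⟩
    have hg : Function.Injective g := by
      intro M N h
      have h1 : M.1.comap (eqv.symm : integralClosure E (FractionRing E) →+* _) =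
          N.1.comap (eqv.symm : integralClosure E (FractionRing E) →+* _) :=
        congrArg MaximalSpectrum.asIdeal h
      exact Subtype.ext (Ideal.comap_injective_of_surjective _ eqv.symm.surjective h1)
    haveI := Finite.of_injective g hg
    exact Set.toFinite _
  obtain ⟨incl, hincl⟩ : ∃ incl : C →ₐ[A] ((integralClosure E (FractionRing E)).restrictScalars A),
      incl = Subalgebra.inclusion (hC.trans_le inf_le_right) := ⟨_, rfl⟩
  have hinclv : ∀ c : C, ((incl c : (integralClosure E (FractionRing E)).restrictScalars A) :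
      FractionRing E) = c := by
    intro c; rw [hincl]; rfl
  -- contractions of maximal ideals are maximal
  have hback : ∀ M : Ideal ((integralClosure E (FractionRing E)).restrictScalars A),
      M.IsMaximal → (M.comap incl).IsMaximal := by
    intro M hM
    rw [Ideal.isMaximal_iff]
    refine ⟨fun h => hM.ne_top ((Ideal.eq_top_iff_one M).mpr (by simpa using h)), ?_⟩
    intro J x hJ hx hxJ
    have hx' : incl x ∉ M := hx
    obtain ⟨q, hq⟩ := exists_poly_inv_mod (A := A) (E := E) M (incl x) hx'
    have h5 : aeval (incl x) q = incl (aeval x q) := Polynomial.aeval_algHom_apply incl x q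
    have h6 : x * aeval x q - 1 ∈ M.comap incl := by
      rw [Ideal.mem_comap, map_sub, map_mul, map_one, ← h5]
      exact hq
    have h7 : (1 : C) = x * aeval x q - (x * aeval x q - 1) := by ring
    rw [h7]
    exact J.sub_mem (J.mul_mem_right _ hxJ) (hJ h6)
  -- every maximal ideal is a contraction
  have hforth : ∀ N : Ideal C, N.IsMaximal →
      ∃ M : Ideal ((integralClosure E (FractionRing E)).restrictScalars A),
        M.IsMaximal ∧ N = M.comap incl := by
    intro N hN
    by_contra hne
    push_neg at hne
    have hnot : ¬ ((N : Set C) ⊆ ⋃ M ∈ ((hfinMax.toFinset : Finset _) : Set (Ideal _)),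
        ((M.comap incl : Ideal C) : Set C)) := by
      intro hsub
      obtain ⟨M, hMs, hNM⟩ := (Ideal.subset_union_prime (f := fun M => Ideal.comap incl M) ⊥ ⊥
        (fun M hM _ _ => (hback M (by simpa using hM)).isPrime)).mp hsub
      have hMmax : M.IsMaximal := by simpa using hMs
      exact hne M hMmax (hN.eq_of_le (hback M hMmax).ne_top hNM)
    rw [Set.not_subset] at hnot
    obtain ⟨c, hcN, hc⟩ := hnot
    have hcM : ∀ M : Ideal ((integralClosure E (FractionRing E)).restrictScalars A),
        M.IsMaximal → incl c ∉ M := by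
      intro M hM hcM
      apply hc
      simp only [Set.mem_iUnion]
      exact ⟨M, by simpa using hM, hcM⟩
    have hunit : IsUnit (incl c) := by
      by_contra hnu
      obtain ⟨M, hM, hcM'⟩ := exists_max_ideal_of_mem_nonunits hnu
      exact hcM M hM hcM'
    obtain ⟨u, hu⟩ := hunit.exists_right_inv
    have hcu : (c : FractionRing E) * (u : FractionRing E) = 1 := by
      have := congrArg Subtype.val hu
      rw [← hinclv c]
      exact this
    have huL : (u : FractionRing E) ∈ L :=
      inv_mem_of_mul_eq_one hmin L hL _ _ (hCL c.2) hcu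
    have huC : (u : FractionRing E) ∈ C := by
      rw [hmemC]; exact ⟨huL, u.2⟩
    have h8 : c * (⟨u, huC⟩ : C) = 1 := Subtype.ext hcu
    exact hN.ne_top ((Ideal.eq_top_iff_one N).mpr (h8 ▸ N.mul_mem_right _ hcN))
  refine ⟨h1, ?_, ?_, h4⟩
  · refine (hfinMax.image (fun M => M.comap incl)).subset ?_
    intro N hN
    obtain ⟨M, hM, hNM⟩ := hforth N hN
    exact ⟨M, hM, hNM.symm⟩
  · intro N
    constructor
    · intro hN
      obtain ⟨M, hM, hNM⟩ := hforth N hN
      exact ⟨M, hM, by rw [hNM, hincl]⟩
    · rintro ⟨M, hM, hNM⟩
      rw [hNM, ← hincl]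
      exact hback M hM

end Gal

end Groth.Agent.Lib.Helper37.Hz
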