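import Groth.Agent.Lib.Helper37.Hz109

/-!
# Henselization project, part 110: ideals of reduced artinian rings are generated by idempotents;
the tensor lemma with idempotent kernel.
-/

set_option autoImplicit false
set_option linter.style.haveILetI false
set_option linter.unusedSectionVars false
set_option maxHeartbeats 1000000
universe u

open IsLocalRing TensorProduct Polynomial

namespace Groth.Agent.Lib.Helper37.Hz

namespace Gal

theorem exists_sq_mul_of_artinian_reduced {R : Type*} [CommRing R] [IsArtinianRing R] [IsReduced R]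
    (x : R) : ∃ r : R, x = x * x * r := by
  let f : ℕ →o (Ideal R)ᵒᵈ :=
    { toFun := fun n => OrderDual.toDual (Ideal.span {x ^ n})
      monotone' := fun m n hmn => by
        change Ideal.span {x ^ n} ≤ Ideal.span {x ^ m}
        rw [Ideal.span_singleton_le_span_singleton]
        exact pow_dvd_pow x hmn }
  obtain ⟨n, hn⟩ := IsArtinian.monotone_stabilizes (R := R) (M := R) f
  have h1 : Ideal.span {x ^ n} = Ideal.span {x ^ (n + 1)} := by
    have := hn (n + 1) (Nat.le_succ n)
    exact congrArg OrderDual.ofDual this
  have h2 : x ^ n ∈ Ideal.span {x ^ (n + 1)} := h1 ▸ Ideal.mem_span_singleton_self _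
  obtain ⟨r, hr⟩ := Ideal.mem_span_singleton'.mp h2
  refine ⟨r, ?_⟩
  have h3 : (x - x * x * r) ^ (n + 1) = 0 := by
    have h4 : x - x * x * r = x * (1 - x * r) := by ring
    have h5 : x ^ n * (1 - x * r) = 0 := by
      have : x ^ n * (1 - x * r) = x ^ n - r * x ^ (n + 1) := by ring
      rw [this, hr, sub_self]
    rw [h4, mul_pow, pow_succ (1 - x * r) n, ← mul_assoc, pow_succ x n]
    calc x ^ n * x * (1 - x * r) ^ n * (1 - x * r)
        = (x ^ n * (1 - x * r)) * (x * (1 - x * r) ^ n) := by ring
      _ = 0 := by rw [h5, zero_mul]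
  have := IsReduced.eq_zero _ ⟨n + 1, h3⟩
  exact sub_eq_zero.mp this

theorem exists_idempotent_span_eq {R : Type*} [CommRing R] [IsArtinianRing R] [IsReduced R]
    (I : Ideal R) : ∃ e : R, IsIdempotentElem e ∧ I = Ideal.span {e} := by
  have hfg : I.FG := (inferInstance : IsNoetherianRing R).noetherian I
  have hid : IsIdempotentElem I := by
    apply le_antisymm Ideal.mul_le_right
    intro x hx
    obtain ⟨r, hr⟩ := exists_sq_mul_of_artinian_reduced x
    rw [hr, mul_assoc]
    exact Ideal.mul_mem_mul hx (I.mul_mem_right _ hx)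
  exact (Ideal.isIdempotentElem_iff_of_fg I hfg).mp hid

end Gal

end Groth.Agent.Lib.Helper37.Hz
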