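import Groth.Agent.Lib.Helper37.Hz110

/-!
# Henselization project, part 111: the tensor lemma with idempotent kernel.

`E₀` étale over `A`, `Lt` an `A`-algebra mapping to `K` such that `E₀ ⊗[A] Lt` is reduced artinian,
`B` the integral closure of `A` in `Lt`.  Then the kernel of `B ⊗[A] E₀ → K` is generated by an
idempotent and elements `e * l` of `K` integral over `E₀` are in the image.
-/

set_option autoImplicit false
set_option linter.style.haveILetI false
set_option linter.unusedSectionVars false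
set_option maxHeartbeats 1000000
universe u

open IsLocalRing TensorProduct Polynomial

namespace Groth.Agent.Lib.Helper37.Hz

namespace Gal

section Tensor

variable (A E₀ Lt K : Type u) [CommRing A] [CommRing E₀] [CommRing Lt] [CommRing K]
  [Algebra A E₀] [Algebra A Lt] [Algebra A K] [Algebra E₀ K] [Algebra Lt K]
  [IsScalarTower A E₀ K] [IsScalarTower A Lt K] [Algebra.Etale A E₀]

/-- the map `E₀ ⊗ Lt → K` -/
noncomputable def phiL : E₀ ⊗[A] Lt →ₐ[E₀] K :=
  Algebra.TensorProduct.lift (Algebra.ofId E₀ K) (IsScalarTower.toAlgHom A Lt K)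
    (fun _ _ => Commute.all _ _)

theorem phiL_tmul (e : E₀) (l : Lt) :
    phiL A E₀ Lt K (e ⊗ₜ l) = algebraMap E₀ K e * algebraMap Lt K l := by
  simp [phiL, Algebra.ofId_apply]

/-- the map `E₀ ⊗ B → E₀ ⊗ Lt` -/
noncomputable def iotaB : E₀ ⊗[A] integralClosure A Lt →ₐ[E₀] E₀ ⊗[A] Lt :=
  Algebra.TensorProduct.map (AlgHom.id E₀ E₀) (integralClosure A Lt).val

theorem iotaB_tmul (e : E₀) (b : integralClosure A Lt) :
    iotaB A E₀ Lt (e ⊗ₜ b) = e ⊗ₜ (b : Lt) := by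
  simp [iotaB]

theorem tensor_idempotent [IsArtinianRing (E₀ ⊗[A] Lt)] [IsReduced (E₀ ⊗[A] Lt)] :
    ∃ ε₀ : E₀ ⊗[A] integralClosure A Lt, IsIdempotentElem ε₀ ∧
      (∀ z : E₀ ⊗[A] integralClosure A Lt,
        phiL A E₀ Lt K (iotaB A E₀ Lt z) = 0 ↔ z = ε₀ * z) ∧
      (∀ y : E₀ ⊗[A] Lt, IsIntegral E₀ (phiL A E₀ Lt K y) →
        ∃ z, phiL A E₀ Lt K (iotaB A E₀ Lt z) = phiL A E₀ Lt K y) := by
  classical
  obtain ⟨ε, hε, hker⟩ := exists_idempotent_span_eq (RingHom.ker (phiL A E₀ Lt K).toRingHom)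
  have hbij := TensorProduct.toIntegralClosure_bijective_of_smooth (R := A) (S := E₀) (B := Lt)
  have hval : ∀ z, ((TensorProduct.toIntegralClosure A E₀ Lt z :
      integralClosure E₀ (E₀ ⊗[A] Lt)) : E₀ ⊗[A] Lt) = iotaB A E₀ Lt z := fun z => rfl
  have hιinj : Function.Injective (iotaB A E₀ Lt) := by
    intro z z' h
    apply hbij.1
    apply Subtype.ext
    rw [hval, hval, h]
  have hmemker : ∀ w : E₀ ⊗[A] Lt, phiL A E₀ Lt K w = 0 ↔ w = ε * w := by
    intro w
    have h1 : phiL A E₀ Lt K w = 0 ↔ w ∈ RingHom.ker (phiL A E₀ Lt K).toRingHom := Iff.rfl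
    rw [h1, hker, Ideal.mem_span_singleton']
    constructor
    · rintro ⟨a, rfl⟩
      rw [← mul_assoc, mul_comm ε a, mul_assoc, hε.eq]
    · intro h
      exact ⟨w, by rw [mul_comm]; exact h.symm⟩
  have hεker : phiL A E₀ Lt K ε = 0 := by
    rw [hmemker, hε.eq]
  -- ε is integral
  have hεint : IsIntegral E₀ ε := by
    refine ⟨X ^ 2 - X, monic_X_pow_sub (lt_of_le_of_lt degree_X_le (by norm_num)), ?_⟩
    simp [pow_two, hε.eq]
  obtain ⟨ε₀, hε₀⟩ := hbij.2 ⟨ε, hεint⟩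
  have hε₀' : iotaB A E₀ Lt ε₀ = ε := by rw [← hval, hε₀]
  have hε₀id : IsIdempotentElem ε₀ := by
    apply hιinj
    rw [map_mul, hε₀', hε.eq]
  refine ⟨ε₀, hε₀id, ?_, ?_⟩
  · intro z
    rw [hmemker, ← hε₀', ← map_mul]
    exact hιinj.eq_iff
  · intro y hy
    obtain ⟨y', hy'⟩ : ∃ y', y' = (1 - ε) * y := ⟨_, rfl⟩
    have hφy' : phiL A E₀ Lt K y' = phiL A E₀ Lt K y := by
      rw [hy', map_mul, map_sub, map_one, hεker, sub_zero, one_mul]
    have hεy' : ε * y' = 0 := by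
      rw [hy', ← mul_assoc, mul_sub, mul_one, hε.eq, sub_self, zero_mul]
    obtain ⟨p, hp, hpy⟩ := hy
    have h2 : phiL A E₀ Lt K (aeval y' p) = 0 := by
      rw [← Polynomial.aeval_algHom_apply, hφy', aeval_def]
      exact hpy
    rw [hmemker] at h2
    have hy'int : IsIntegral E₀ y' := by
      refine ⟨X * p, monic_X.mul hp, ?_⟩
      rw [← aeval_def, map_mul, aeval_X, h2, ← mul_assoc, mul_comm y' ε, hεy', zero_mul]
    obtain ⟨z, hz⟩ := hbij.2 ⟨y', hy'int⟩
    refine ⟨z, ?_⟩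
    rw [← hval, hz, hφy']

end Tensor

end Gal

end Groth.Agent.Lib.Helper37.Hz
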