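import Groth.Agent.Lib.Helper37.Hz111

/-!
# Henselization project, part 112: the denominator lemma (flatness of `B[E₀]` over the integral
closure `B` of `A` in `Lt`, in equational form).
-/

set_option autoImplicit false
set_option linter.style.haveILetI false
set_option linter.unusedSectionVars false
set_option maxHeartbeats 1000000
universe u

open IsLocalRing TensorProduct Polynomial

namespace Groth.Agent.Lib.Helper37.Hz

namespace Gal

section Tensor

variable (A E₀ Lt K : Type u) [CommRing A] [CommRing E₀] [CommRing Lt] [CommRing K]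
  [Algebra A E₀] [Algebra A Lt] [Algebra A K] [Algebra E₀ K] [Algebra Lt K]
  [IsScalarTower A E₀ K] [IsScalarTower A Lt K] [Algebra.Etale A E₀]

/-- the map `B ⊗ E₀ → K` -/
noncomputable def phiB : integralClosure A Lt ⊗[A] E₀ →ₐ[A] K :=
  Algebra.TensorProduct.lift ((IsScalarTower.toAlgHom A Lt K).comp (integralClosure A Lt).val)
    (IsScalarTower.toAlgHom A E₀ K) (fun _ _ => Commute.all _ _)

theorem phiB_tmul (b : integralClosure A Lt) (e : E₀) :
    phiB A E₀ Lt K (b ⊗ₜ e) = algebraMap Lt K (b : Lt) * algebraMap E₀ K e := by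
  simp [phiB]

theorem phiB_eq (g : integralClosure A Lt ⊗[A] E₀) :
    phiB A E₀ Lt K g = phiL A E₀ Lt K (iotaB A E₀ Lt
      (Algebra.TensorProduct.comm A (integralClosure A Lt) E₀ g)) := by
  induction g with
  | zero => simp
  | add x y hx hy => simp only [map_add, hx, hy]
  | tmul b e =>
    rw [phiB_tmul, Algebra.TensorProduct.comm_tmul, iotaB_tmul, phiL_tmul, mul_comm]

theorem phiB_smul (b : integralClosure A Lt) (g : integralClosure A Lt ⊗[A] E₀) :
    phiB A E₀ Lt K (b • g) = algebraMap Lt K (b : Lt) * phiB A E₀ Lt K g := by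
  have h1 : b • g = (b ⊗ₜ[A] (1 : E₀)) * g := by
    induction g with
    | zero => simp
    | add x y hx hy => rw [smul_add, hx, hy, mul_add]
    | tmul b' e =>
      rw [TensorProduct.smul_tmul', Algebra.TensorProduct.tmul_mul_tmul, one_mul, smul_eq_mul]
  rw [h1, map_mul, phiB_tmul, map_one, mul_one]

theorem isIntegral_phiB (g : integralClosure A Lt ⊗[A] E₀) :
    IsIntegral E₀ (phiB A E₀ Lt K g) := by
  induction g with
  | zero => rw [map_zero]; exact isIntegral_zero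
  | add x y hx hy => rw [map_add]; exact hx.add hy
  | tmul b e =>
    rw [phiB_tmul]
    refine IsIntegral.mul ?_ isIntegral_algebraMap
    have h1 : IsIntegral A (algebraMap Lt K (b : Lt)) := b.2.map (IsScalarTower.toAlgHom A Lt K)
    exact h1.tower_top

theorem exists_denominators [IsArtinianRing (E₀ ⊗[A] Lt)] [IsReduced (E₀ ⊗[A] Lt)]
    (s : E₀) (l : Lt) (hint : IsIntegral E₀ (algebraMap E₀ K s * algebraMap Lt K l))
    (b₁ a : integralClosure A Lt)
    (hba : algebraMap Lt K (b₁ : Lt) = algebraMap Lt K (a : Lt) * algebraMap Lt K l)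
    (ha : ∀ x : K, algebraMap Lt K (a : Lt) * x = 0 → x = 0) :
    ∃ (k : ℕ) (t : Fin k → integralClosure A Lt) (y : Fin k → K),
      (∀ j, ∃ b' : integralClosure A Lt,
        algebraMap Lt K (t j : Lt) * algebraMap Lt K l = algebraMap Lt K (b' : Lt)) ∧
      (∀ j, IsIntegral E₀ (y j)) ∧
      algebraMap E₀ K s = ∑ j, algebraMap Lt K (t j : Lt) * y j := by
  classical
  obtain ⟨ε₀, hε₀, hker, hsurj⟩ := tensor_idempotent A E₀ Lt K
  obtain ⟨z₀, hz₀⟩ := hsurj (s ⊗ₜ l) (by rw [phiL_tmul]; exact hint)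
  rw [phiL_tmul] at hz₀
  let cm := Algebra.TensorProduct.comm A (integralClosure A Lt) E₀
  obtain ⟨ε₁, hε₁⟩ : ∃ ε₁, ε₁ = cm.symm ε₀ := ⟨_, rfl⟩
  have hcmε : cm ε₁ = ε₀ := by rw [hε₁, AlgEquiv.apply_symm_apply]
  have hε₁id : IsIdempotentElem ε₁ := by
    apply cm.injective
    rw [map_mul, hcmε, hε₀.eq]
  have hkerB : ∀ g, phiB A E₀ Lt K g = 0 ↔ g = ε₁ * g := by
    intro g
    rw [phiB_eq, hker, ← hcmε, ← map_mul]
    exact cm.injective.eq_iff
  have hφε : phiB A E₀ Lt K ε₁ = 0 := by rw [hkerB, hε₁id.eq]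
  obtain ⟨g₁, hg₁⟩ : ∃ g₁, g₁ = cm.symm z₀ := ⟨_, rfl⟩
  have hφg₁ : phiB A E₀ Lt K g₁ = algebraMap E₀ K s * algebraMap Lt K l := by
    rw [phiB_eq, hg₁, AlgEquiv.apply_symm_apply, hz₀]
  obtain ⟨n₀, hn₀⟩ : ∃ n₀ : integralClosure A Lt ⊗[A] E₀,
      n₀ = (1 - ε₁) * ((1 : integralClosure A Lt) ⊗ₜ[A] s) := ⟨_, rfl⟩
  obtain ⟨n₁, hn₁⟩ : ∃ n₁ : integralClosure A Lt ⊗[A] E₀, n₁ = (1 - ε₁) * g₁ := ⟨_, rfl⟩
  have hφn₀ : phiB A E₀ Lt K n₀ = algebraMap E₀ K s := by
    rw [hn₀, map_mul, map_sub, map_one, hφε, sub_zero, one_mul, phiB_tmul]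
    simp
  have hφn₁ : phiB A E₀ Lt K n₁ = algebraMap E₀ K s * algebraMap Lt K l := by
    rw [hn₁, map_mul, map_sub, map_one, hφε, sub_zero, one_mul, hφg₁]
  have hεn₀ : ε₁ * n₀ = 0 := by
    rw [hn₀, ← mul_assoc, mul_sub, mul_one, hε₁id.eq, sub_self, zero_mul]
  have hεn₁ : ε₁ * n₁ = 0 := by
    rw [hn₁, ← mul_assoc, mul_sub, mul_one, hε₁id.eq, sub_self, zero_mul]
  have hrel : b₁ • n₀ + (-a) • n₁ = 0 := by
    have h1 : phiB A E₀ Lt K (b₁ • n₀ + (-a) • n₁) = 0 := by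
      rw [map_add, phiB_smul, phiB_smul, hφn₀, hφn₁, hba]
      simp only [NegMemClass.coe_neg, map_neg]
      ring
    rw [hkerB] at h1
    rw [h1, mul_add, mul_smul_comm, mul_smul_comm, hεn₀, hεn₁, smul_zero, smul_zero, add_zero]
  have h0 : ∑ i : Fin 2, (![b₁, -a] i) • (![n₀, n₁] i) = 0 := by
    rw [Fin.sum_univ_two]
    exact hrel
  obtain ⟨k, α, y, hy, hα⟩ := Module.Flat.isTrivialRelation_of_sum_smul_eq_zero
    (R := integralClosure A Lt) (M := integralClosure A Lt ⊗[A] E₀) (f := ![b₁, -a])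
    (x := ![n₀, n₁]) h0
  have hy0 : n₀ = ∑ j, α 0 j • y j := hy 0
  have hα' : ∀ j, b₁ * α 0 j + (-a) * α 1 j = 0 := by
    intro j
    have := hα j
    rw [Fin.sum_univ_two] at this
    exact this
  refine ⟨k, fun j => α 0 j, fun j => phiB A E₀ Lt K (y j), ?_, fun j => isIntegral_phiB A E₀ Lt K _,
    ?_⟩
  · intro j
    refine ⟨α 1 j, ?_⟩
    apply sub_eq_zero.mp
    apply ha
    have h2 := congrArg (fun w : integralClosure A Lt => algebraMap Lt K (w : Lt)) (hα' j)
    simp only [Subalgebra.coe_add, Subalgebra.coe_mul, NegMemClass.coe_neg, map_add, map_mul,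
      map_neg, Subalgebra.coe_zero, map_zero] at h2
    rw [hba] at h2
    linear_combination h2
  · rw [← hφn₀, hy0, map_sum]
    exact Finset.sum_congr rfl (fun j _ => phiB_smul A E₀ Lt K _ _)

end Tensor

end Gal

end Groth.Agent.Lib.Helper37.Hz
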