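import Mathlib

/-!
# Henselization project, part 113: a local Artin–Tate lemma for essentially finite type algebras.

`R` Noetherian, `S ⊆ T` with `S` local, `T` integral over `S` and essentially of finite type over
`R`.  Then `S` is essentially of finite type over `R`.
-/

set_option autoImplicit false
set_option linter.style.haveILetI false
set_option linter.unusedSectionVars false
set_option maxHeartbeats 1000000
universe u

open IsLocalRing Polynomial

namespace Groth.Agent.Lib.Helper37.Hz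

namespace AT

theorem mem_minimalPrimes_map_of_comap_eq {P M : Type*} [CommRing P] [CommRing M] [Algebra P M]
    [Algebra.IsIntegral P M] (𝔭 : Ideal P) (Q : Ideal M) [hQ : Q.IsPrime]
    (h : Q.comap (algebraMap P M) = 𝔭) : Q ∈ (𝔭.map (algebraMap P M)).minimalPrimes := by
  refine ⟨⟨hQ, Ideal.map_le_iff_le_comap.mpr h.ge⟩, ?_⟩
  rintro Q' ⟨hQ'p, hQ'le⟩ hQ'Q
  by_contra hne
  have hlt : Q' < Q := lt_of_le_of_ne hQ'Q (fun h' => hne (h' ▸ le_rfl))
  haveI := hQ'p
  have h1 := Ideal.IsIntegral.comap_lt_comap (R := P) hlt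
  rw [h] at h1
  exact absurd (Ideal.map_le_iff_le_comap.mp hQ'le) (not_le_of_gt h1)

theorem eq_of_le_of_comap_eq {P M : Type*} [CommRing P] [CommRing M] [Algebra P M]
    [Algebra.IsIntegral P M] (Q Q' : Ideal M) [Q.IsPrime] [Q'.IsPrime] (hle : Q ≤ Q')
    (h : Q.comap (algebraMap P M) = Q'.comap (algebraMap P M)) : Q = Q' := by
  by_contra hne
  have hlt : Q < Q' := lt_of_le_of_ne hle hne
  have := Ideal.IsIntegral.comap_lt_comap (R := P) hlt
  rw [h] at this
  exact lt_irrefl _ this

section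
variable {R S T : Type u} [CommRing R] [CommRing S] [CommRing T] [Algebra R S] [Algebra R T]
  [Algebra S T] [IsScalarTower R S T]

theorem isIntegral_of_coeffs_mem (S₀ : Subalgebra R S) (t : T) (p : S[X]) (hp : p.Monic)
    (hpt : eval₂ (algebraMap S T) t p = 0) (hc : ∀ c ∈ p.coeffs, c ∈ S₀) : IsIntegral S₀ t := by
  have hl : p ∈ Polynomial.lifts (algebraMap S₀ S) := by
    rw [Polynomial.lifts_iff_coeff_lifts]
    intro n
    by_cases h0 : p.coeff n = 0
    · exact ⟨0, by rw [map_zero, h0]⟩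
    · exact ⟨⟨p.coeff n, hc _ (Polynomial.coeff_mem_coeffs h0)⟩, rfl⟩
  obtain ⟨q, hq, -, hqm⟩ := Polynomial.lifts_and_natDegree_eq_and_monic hl hp
  refine ⟨q, hqm, ?_⟩
  have h1 : eval₂ (algebraMap S₀ T) t q = eval₂ (algebraMap S T) t (q.map (algebraMap S₀ S)) := by
    rw [Polynomial.eval₂_map]
    rfl
  rw [h1, hq, hpt]

theorem inv_mem_of_isIntegral {P : Type*} [CommRing P] [Algebra P T] (M : Subalgebra P T)
    (u w : T) (hu : u ∈ M) (huw : u * w = 1) (hw : IsIntegral P w) : w ∈ M := by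
  obtain ⟨p, hp, hpw⟩ := hw
  letI : Invertible w := ⟨u, huw, by rw [mul_comm]; exact huw⟩
  have hinv : ⅟w = u := rfl
  have h1 := Polynomial.eval₂_reverse_mul_pow (algebraMap P T) w p
  rw [hpw, hinv] at h1
  have h2 : eval₂ (algebraMap P T) u p.reverse = 0 := by
    have h3 : eval₂ (algebraMap P T) u p.reverse * w ^ p.natDegree * u ^ p.natDegree = 0 := by
      rw [h1, zero_mul]
    rwa [mul_assoc, ← mul_pow, mul_comm w u, huw, one_pow, mul_one] at h3
  have h4 : (p.reverse).coeff 0 = 1 := by rw [Polynomial.coeff_zero_reverse, hp.leadingCoeff]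
  have h5 := Polynomial.X_mul_divX_add p.reverse
  rw [h4] at h5
  rw [← h5, eval₂_add, eval₂_mul, eval₂_X, eval₂_C, map_one] at h2
  have h6 : w = -eval₂ (algebraMap P T) u (divX p.reverse) := by
    have h7 : u * (w + eval₂ (algebraMap P T) u (divX p.reverse)) = 0 := by
      rw [mul_add, huw, add_comm]; exact h2
    have h8 : w * (u * (w + eval₂ (algebraMap P T) u (divX p.reverse))) = 0 := by
      rw [h7, mul_zero]
    rw [← mul_assoc, mul_comm w u, huw, one_mul] at h8
    exact eq_neg_of_add_eq_zero_left h8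
  rw [h6]
  refine M.neg_mem ?_
  rw [← aeval_def]
  exact Algebra.adjoin_le (Set.singleton_subset_iff.mpr hu)
    (Polynomial.aeval_mem_adjoin_singleton P u)

theorem exists_incl {P₁ P₂ : Type*} [CommRing P₁] [CommRing P₂] [Algebra P₁ T] [Algebra P₂ T]
    (M₁ : Subalgebra P₁ T) (M₂ : Subalgebra P₂ T) (h : (M₁ : Set T) ⊆ M₂) :
    ∃ f : M₁ →+* M₂, ∀ x, ((f x : M₂) : T) = (x : T) :=
  ⟨{ toFun := fun x => ⟨x.1, h x.2⟩
     map_one' := Subtype.ext rfl
     map_mul' := fun _ _ => Subtype.ext rfl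
     map_zero' := Subtype.ext rfl
     map_add' := fun _ _ => Subtype.ext rfl }, fun _ => rfl⟩

theorem coe_algebraMap_sub (S₀ : Subalgebra R S) (M : Subalgebra S₀ T) (r : S₀) :
    ((algebraMap S₀ M r : M) : T) = algebraMap S T (r : S) := rfl

/-- the subalgebra generated by a finite subset of `S` -/
abbrev Ssub (R : Type u) {S : Type u} [CommRing R] [CommRing S] [Algebra R S] (σ : Finset S) :
    Subalgebra R S := Algebra.adjoin R (σ : Set S)

/-- the `Ssub σ`-subalgebra of `T` generated by `s₀` -/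
abbrev Msub (R : Type u) {S T : Type u} [CommRing R] [CommRing S] [CommRing T] [Algebra R S]
    [Algebra R T] [Algebra S T] [IsScalarTower R S T] (σ : Finset S) (s₀ : Finset T) :
    Subalgebra (Ssub R σ) T := Algebra.adjoin (Ssub R σ) (s₀ : Set T)

theorem Msub_mono {σ σ' : Finset S} (h : σ ⊆ σ') (s₀ : Finset T) :
    (Msub R σ s₀ : Set T) ⊆ Msub R σ' s₀ := by
  intro x hx
  have hx' : x ∈ Algebra.adjoin (Ssub R σ) (s₀ : Set T) := hx
  clear hx
  induction hx' using Algebra.adjoin_induction with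
  | mem z hz => exact Algebra.subset_adjoin hz
  | algebraMap r =>
    have hr : (r : S) ∈ Ssub R σ' := Algebra.adjoin_mono (by exact_mod_cast h) r.2
    exact (Msub R σ' s₀).algebraMap_mem ⟨(r : S), hr⟩
  | add z y _ _ hz hy => exact (Msub R σ' s₀).add_mem hz hy
  | mul z y _ _ hz hy => exact (Msub R σ' s₀).mul_mem hz hy

theorem adjoin_subset_Msub (σ : Finset S) (s₀ : Finset T) :
    (Algebra.adjoin R (s₀ : Set T) : Set T) ⊆ Msub R σ s₀ := by
  intro x hx
  have hx' : x ∈ Algebra.adjoin R (s₀ : Set T) := hx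
  clear hx
  induction hx' using Algebra.adjoin_induction with
  | mem z hz => exact Algebra.subset_adjoin hz
  | algebraMap r =>
    have : algebraMap R T r = algebraMap (Ssub R σ) T (algebraMap R (Ssub R σ) r) := by
      rw [IsScalarTower.algebraMap_apply R S T]
      rfl
    rw [this]
    exact (Msub R σ s₀).algebraMap_mem _
  | add z y _ _ hz hy => exact (Msub R σ s₀).add_mem hz hy
  | mul z y _ _ hz hy => exact (Msub R σ s₀).mul_mem hz hy

end

end AT

end Groth.Agent.Lib.Helper37.Hz
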