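import Groth.Agent.Lib.Helper37.Hz113

/-!
# Henselization project, part 114: the local Artin–Tate lemma (main statement).
-/

set_option autoImplicit false
set_option linter.style.haveILetI false
set_option linter.unusedSectionVars false
set_option maxHeartbeats 2000000
universe u

open IsLocalRing Polynomial

namespace Groth.Agent.Lib.Helper37.Hz

namespace AT

theorem essFiniteType_of_integral_local (R S T : Type u) [CommRing R] [IsNoetherianRing R]
    [CommRing S] [IsLocalRing S] [CommRing T] [Algebra R S] [Algebra R T] [Algebra S T]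
    [IsScalarTower R S T] (hinj : Function.Injective (algebraMap S T)) [Algebra.IsIntegral S T]
    [Algebra.EssFiniteType R T] : Algebra.EssFiniteType R S := by
  classical
  obtain ⟨s₀, hs₀⟩ := (Algebra.essFiniteType_iff R T).mp (inferInstance : Algebra.EssFiniteType R T)
  haveI : IsNoetherianRing T := Algebra.EssFiniteType.isNoetherianRing R T
  have hNS : ∀ N : Ideal T, N.IsMaximal → N.comap (algebraMap S T) = maximalIdeal S :=
    fun N hN => eq_maximalIdeal (Ideal.isMaximal_comap_of_isIntegral_of_isMaximal N)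
  have hTfin : {N : Ideal T | N.IsMaximal}.Finite := by
    refine (Ideal.finite_minimalPrimes_of_isNoetherianRing T
      ((maximalIdeal S).map (algebraMap S T))).subset ?_
    intro N hN
    have hN' : N.IsMaximal := hN
    haveI := hN'.isPrime
    exact mem_minimalPrimes_map_of_comap_eq _ N (hNS N hN')
  have hunitT : ∀ x : T, (∀ N : Ideal T, N.IsMaximal → x ∉ N) → IsUnit x := by
    intro x hx
    by_contra hnu
    obtain ⟨N, hN, hxN⟩ := exists_max_ideal_of_mem_nonunits hnu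
    exact hx N hN hxN
  have hint : ∀ b : T, ∃ p : S[X], p.Monic ∧ eval₂ (algebraMap S T) b p = 0 :=
    fun b => Algebra.IsIntegral.isIntegral b
  choose pb hpbm hpb0 using hint
  obtain ⟨σ₁, hσ₁⟩ : ∃ σ₁ : Finset S, σ₁ = s₀.biUnion (fun b => (pb b).coeffs) := ⟨_, rfl⟩
  have hgen : ∀ σ : Finset S, σ₁ ⊆ σ → Module.Finite (Ssub R σ) (Msub R σ s₀) := by
    intro σ hσ
    have hfg : (Msub R σ s₀).toSubmodule.FG := by
      apply fg_adjoin_of_finite s₀.finite_toSet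
      intro b hb
      apply isIntegral_of_coeffs_mem (Ssub R σ) b (pb b) (hpbm b) (hpb0 b)
      intro c hc
      apply Algebra.subset_adjoin
      apply hσ
      rw [hσ₁, Finset.mem_biUnion]
      exact ⟨b, hb, hc⟩
    exact ⟨(Submodule.fg_top _).mpr hfg⟩
  have hnoeth : ∀ σ : Finset S, IsNoetherianRing (Ssub R σ) := by
    intro σ
    haveI : Algebra.FiniteType R (Ssub R σ) := (Subalgebra.fg_iff_finiteType _).mp ⟨σ, rfl⟩
    exact Algebra.FiniteType.isNoetherianRing R _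
  -- Stage 1
  haveI := hnoeth σ₁
  haveI hfin₁ := hgen σ₁ (Finset.Subset.refl _)
  haveI : IsNoetherianRing (Msub R σ₁ s₀) := IsNoetherianRing.of_finite (Ssub R σ₁) _
  haveI : Algebra.IsIntegral (Ssub R σ₁) (Msub R σ₁ s₀) := Algebra.IsIntegral.of_finite _ _
  obtain ⟨𝔭₁, h𝔭₁⟩ : ∃ 𝔭₁ : Ideal (Ssub R σ₁),
      𝔭₁ = (maximalIdeal S).comap (algebraMap (Ssub R σ₁) S) := ⟨_, rfl⟩
  have hmem𝔭₁ : ∀ r : Ssub R σ₁, r ∈ 𝔭₁ ↔ (r : S) ∈ maximalIdeal S := by
    intro r; rw [h𝔭₁]; exact Iff.rfl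
  obtain ⟨QN, hQN⟩ : ∃ QN : Ideal T → Ideal (Msub R σ₁ s₀),
      QN = fun N => N.comap (Msub R σ₁ s₀).val := ⟨_, rfl⟩
  have hmemQN : ∀ (N : Ideal T) (x : Msub R σ₁ s₀), x ∈ QN N ↔ (x : T) ∈ N := by
    intro N x; rw [hQN]; exact Iff.rfl
  have hQNprime : ∀ N : Ideal T, N.IsMaximal → (QN N).IsPrime := by
    intro N hN
    rw [hQN]
    haveI := hN.isPrime
    exact Ideal.comap_isPrime _ _
  have hQNover : ∀ N : Ideal T, N.IsMaximal →
      (QN N).comap (algebraMap (Ssub R σ₁) (Msub R σ₁ s₀)) = 𝔭₁ := by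
    intro N hN
    ext r
    rw [Ideal.mem_comap, hmemQN, hmem𝔭₁, ← hNS N hN, Ideal.mem_comap]
    exact Iff.rfl
  obtain ⟨Bad, hBad⟩ : ∃ Bad : Set (Ideal (Msub R σ₁ s₀)), Bad = {Q | Q.IsPrime ∧
      Q.comap (algebraMap (Ssub R σ₁) (Msub R σ₁ s₀)) = 𝔭₁ ∧
      ∀ N : Ideal T, N.IsMaximal → Q ≠ QN N} := ⟨_, rfl⟩
  have hBadfin : Bad.Finite := by
    refine (Ideal.finite_minimalPrimes_of_isNoetherianRing (Msub R σ₁ s₀)
      (𝔭₁.map (algebraMap (Ssub R σ₁) (Msub R σ₁ s₀)))).subset ?_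
    intro Q hQ
    rw [hBad] at hQ
    haveI := hQ.1
    exact mem_minimalPrimes_map_of_comap_eq 𝔭₁ Q hQ.2.1
  have hu : ∀ Q ∈ Bad, ∃ u : Msub R σ₁ s₀, u ∈ Q ∧ IsUnit (u : T) := by
    intro Q hQ
    rw [hBad] at hQ
    obtain ⟨hQp, hQover, hQne⟩ := hQ
    by_contra hcon
    push_neg at hcon
    have hsub : (Q : Set (Msub R σ₁ s₀)) ⊆
        ⋃ N ∈ ((hTfin.toFinset : Finset (Ideal T)) : Set (Ideal T)), ((QN N : Ideal _) : Set _) := by
      intro u hu
      have h1 : ¬ IsUnit (u : T) := hcon u hu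
      obtain ⟨N, hN, huN⟩ := exists_max_ideal_of_mem_nonunits h1
      simp only [Set.mem_iUnion]
      exact ⟨N, by simpa using hN, (hmemQN N u).mpr huN⟩
    obtain ⟨N, hNs, hQN'⟩ := (Ideal.subset_union_prime (f := QN) ⊥ ⊥
      (fun N hN _ _ => hQNprime N (by simpa using hN))).mp hsub
    have hNmax : N.IsMaximal := by simpa using hNs
    haveI := hQNprime N hNmax
    exact hQne N hNmax (eq_of_le_of_comap_eq (P := Ssub R σ₁) Q (QN N) hQN'
      (hQover.trans (hQNover N hNmax).symm))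
  choose! uf huf using hu
  obtain ⟨u₀, hu₀⟩ : ∃ u₀ : Msub R σ₁ s₀, u₀ = ∏ Q ∈ hBadfin.toFinset, uf Q := ⟨_, rfl⟩
  have hu₀unit : IsUnit (u₀ : T) := by
    have : (u₀ : T) = ∏ Q ∈ hBadfin.toFinset, ((uf Q : Msub R σ₁ s₀) : T) := by
      rw [hu₀]; exact map_prod (Msub R σ₁ s₀).val _ _
    rw [this]
    exact Finset.prod_induction _ IsUnit (fun a b => IsUnit.mul) isUnit_one
      (fun Q hQ => (huf Q (by simpa using hQ)).2)
  have hu₀mem : ∀ Q ∈ Bad, u₀ ∈ Q := by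
    intro Q hQ
    have hQ' : Q ∈ hBadfin.toFinset := by simpa using hQ
    rw [hu₀, ← Finset.mul_prod_erase _ _ hQ']
    exact Q.mul_mem_right _ (huf Q hQ).1
  obtain ⟨w, hw⟩ : ∃ w : T, (u₀ : T) * w = 1 := hu₀unit.exists_right_inv
  -- Stage 2
  obtain ⟨σ₂, hσ₂⟩ : ∃ σ₂ : Finset S, σ₂ = σ₁ ∪ (pb w).coeffs := ⟨_, rfl⟩
  have hσ₁₂ : σ₁ ⊆ σ₂ := hσ₂ ▸ Finset.subset_union_left
  haveI := hnoeth σ₂
  haveI hfin₂ := hgen σ₂ hσ₁₂
  haveI : IsNoetherianRing (Msub R σ₂ s₀) := IsNoetherianRing.of_finite (Ssub R σ₂) _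
  haveI : Algebra.IsIntegral (Ssub R σ₂) (Msub R σ₂ s₀) := Algebra.IsIntegral.of_finite _ _
  have hwM₂ : w ∈ Msub R σ₂ s₀ := by
    refine inv_mem_of_isIntegral (Msub R σ₂ s₀) (u₀ : T) w (Msub_mono hσ₁₂ s₀ u₀.2) hw ?_
    refine isIntegral_of_coeffs_mem (Ssub R σ₂) w (pb w) (hpbm w) (hpb0 w) ?_
    intro c hc
    apply Algebra.subset_adjoin
    rw [hσ₂]
    exact_mod_cast Finset.mem_union_right _ hc
  -- the key claim
  have hT2 : ∀ t : T, ∃ v : Ssub R σ₂, IsUnit (v : S) ∧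
      algebraMap S T (v : S) * t ∈ Msub R σ₂ s₀ := by
    intro t
    obtain ⟨u, huA, huu, htu⟩ := hs₀ t
    by_contra hcon
    push_neg at hcon
    let J : Ideal (Msub R σ₂ s₀) :=
      { carrier := {x | (x : T) * t ∈ Msub R σ₂ s₀}
        add_mem' := fun {a b} ha hb => by
          change ((a + b : Msub R σ₂ s₀) : T) * t ∈ Msub R σ₂ s₀
          rw [Subalgebra.coe_add, add_mul]
          exact (Msub R σ₂ s₀).add_mem ha hb
        zero_mem' := by
          change ((0 : Msub R σ₂ s₀) : T) * t ∈ Msub R σ₂ s₀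
          rw [Subalgebra.coe_zero, zero_mul]
          exact (Msub R σ₂ s₀).zero_mem
        smul_mem' := fun c x hx => by
          change ((c • x : Msub R σ₂ s₀) : T) * t ∈ Msub R σ₂ s₀
          rw [smul_eq_mul, Subalgebra.coe_mul, mul_assoc]
          exact (Msub R σ₂ s₀).mul_mem c.2 hx }
    have hmemJ : ∀ x : Msub R σ₂ s₀, x ∈ J ↔ (x : T) * t ∈ Msub R σ₂ s₀ := fun x => Iff.rfl
    obtain ⟨𝔭₂, h𝔭₂⟩ : ∃ 𝔭₂ : Ideal (Ssub R σ₂),
        𝔭₂ = (maximalIdeal S).comap (algebraMap (Ssub R σ₂) S) := ⟨_, rfl⟩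
    have hmem𝔭₂ : ∀ r : Ssub R σ₂, r ∈ 𝔭₂ ↔ (r : S) ∈ maximalIdeal S := by
      intro r; rw [h𝔭₂]; exact Iff.rfl
    haveI : 𝔭₂.IsPrime := by rw [h𝔭₂]; exact Ideal.comap_isPrime _ _
    have hJ : J.comap (algebraMap (Ssub R σ₂) (Msub R σ₂ s₀)) ≤ 𝔭₂ := by
      intro v hv
      rw [Ideal.mem_comap, hmemJ] at hv
      rw [hmem𝔭₂, mem_maximalIdeal, mem_nonunits_iff]
      intro hvu
      exact hcon v hvu hv
    obtain ⟨Q', hJQ', hQ'p, hQ'over⟩ := Ideal.exists_ideal_over_prime_of_isIntegral 𝔭₂ J hJ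
    haveI := hQ'p
    obtain ⟨incl, hinclv⟩ := exists_incl (Msub R σ₁ s₀) (Msub R σ₂ s₀) (Msub_mono hσ₁₂ s₀)
    obtain ⟨Q, hQdef⟩ : ∃ Q : Ideal (Msub R σ₁ s₀), Q = Q'.comap incl := ⟨_, rfl⟩
    haveI hQprime : Q.IsPrime := by rw [hQdef]; exact Ideal.comap_isPrime _ _
    have hQover : Q.comap (algebraMap (Ssub R σ₁) (Msub R σ₁ s₀)) = 𝔭₁ := by
      ext r
      have hr : (r : S) ∈ Ssub R σ₂ := Algebra.adjoin_mono (by exact_mod_cast hσ₁₂) r.2
      have h1 : incl (algebraMap (Ssub R σ₁) (Msub R σ₁ s₀) r) =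
          algebraMap (Ssub R σ₂) (Msub R σ₂ s₀) ⟨(r : S), hr⟩ := by
        apply Subtype.ext
        rw [hinclv, coe_algebraMap_sub, coe_algebraMap_sub]
      rw [Ideal.mem_comap, hQdef, Ideal.mem_comap, h1, ← Ideal.mem_comap, hQ'over, hmem𝔭₂,
        hmem𝔭₁]
    have hu₀Q : u₀ ∉ Q := by
      intro h
      rw [hQdef, Ideal.mem_comap] at h
      have h1 : incl u₀ * ⟨w, hwM₂⟩ = 1 := by
        apply Subtype.ext
        rw [Subalgebra.coe_mul, hinclv]
        exact hw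
      exact hQ'p.ne_top ((Ideal.eq_top_iff_one Q').mpr (h1 ▸ Q'.mul_mem_right _ h))
    have hQnotBad : Q ∉ Bad := fun h => hu₀Q (hu₀mem Q h)
    rw [hBad] at hQnotBad
    simp only [Set.mem_setOf_eq, not_and, not_forall] at hQnotBad
    obtain ⟨N, hN, hQN'⟩ := hQnotBad hQprime hQover
    have hQN'' : Q = QN N := not_not.mp hQN'
    have hu1 : (⟨u, adjoin_subset_Msub σ₁ s₀ huA⟩ : Msub R σ₁ s₀) ∈ Q := by
      rw [hQdef, Ideal.mem_comap]
      apply hJQ'
      rw [hmemJ, hinclv]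
      change u * t ∈ Msub R σ₂ s₀
      rw [mul_comm]
      exact adjoin_subset_Msub σ₂ s₀ htu
    rw [hQN'', hmemQN] at hu1
    exact hN.ne_top (Ideal.eq_top_of_isUnit_mem _ hu1 huu)
  -- conclusion
  haveI : IsNoetherian (Ssub R σ₂) (Msub R σ₂ s₀) := isNoetherian_of_isNoetherianRing_of_finite _ _
  obtain ⟨S', hS'⟩ : ∃ S' : Submodule (Ssub R σ₂) S,
      S' = (Msub R σ₂ s₀).toSubmodule.comap
        ((IsScalarTower.toAlgHom (Ssub R σ₂) S T).toLinearMap) := ⟨_, rfl⟩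
  have hmemS' : ∀ x : S, x ∈ S' ↔ algebraMap S T x ∈ Msub R σ₂ s₀ := by
    intro x; rw [hS']; exact Iff.rfl
  let g : S' →ₗ[Ssub R σ₂] Msub R σ₂ s₀ :=
    { toFun := fun x => ⟨algebraMap S T x.1, (hmemS' x.1).mp x.2⟩
      map_add' := fun x y => Subtype.ext (map_add _ _ _)
      map_smul' := fun c x => Subtype.ext (by
        change algebraMap S T (c • (x : S)) = c • algebraMap S T (x : S)
        rw [Algebra.smul_def, map_mul, Algebra.smul_def]
        rfl) }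
  have hg : Function.Injective g := by
    intro x y h
    apply Subtype.ext
    apply hinj
    exact congrArg Subtype.val h
  haveI : IsNoetherian (Ssub R σ₂) S' := isNoetherian_of_injective g hg
  have hfgS' : S'.FG := by
    have h1 : (⊤ : Submodule (Ssub R σ₂) S').FG := IsNoetherian.noetherian ⊤
    exact (Submodule.fg_top S').mp h1
  obtain ⟨ws, hws⟩ := hfgS'
  have hle₂ : Ssub R σ₂ ≤ Algebra.adjoin R ((σ₂ ∪ ws : Finset S) : Set S) := by
    apply Algebra.adjoin_mono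
    intro z hz
    have hz' : z ∈ σ₂ := hz
    exact Finset.mem_coe.mpr (Finset.mem_union_left _ hz')
  have hspan : ∀ y : S, y ∈ Submodule.span (Ssub R σ₂) (ws : Set S) →
      y ∈ Algebra.adjoin R ((σ₂ ∪ ws : Finset S) : Set S) := by
    intro y hy
    induction hy using Submodule.span_induction with
    | mem z hz =>
      apply Algebra.subset_adjoin
      have hz' : z ∈ ws := hz
      exact Finset.mem_coe.mpr (Finset.mem_union_right _ hz')
    | zero => exact Subalgebra.zero_mem _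
    | add a b _ _ ha hb => exact Subalgebra.add_mem _ ha hb
    | smul c a _ ha =>
      have h2 : c • a = (c : S) * a := rfl
      rw [h2]
      exact Subalgebra.mul_mem _ (hle₂ c.2) ha
  refine (Algebra.essFiniteType_iff R S).mpr ⟨σ₂ ∪ ws, fun x => ?_⟩
  obtain ⟨v, hvu, hvt⟩ := hT2 (algebraMap S T x)
  refine ⟨(v : S), hle₂ v.2, hvu, ?_⟩
  have h1 : (v : S) * x ∈ S' := by
    rw [hmemS', map_mul]
    exact hvt
  rw [mul_comm]
  rw [← hws] at h1
  exact hspan _ h1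

end AT

end Groth.Agent.Lib.Helper37.Hz
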