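import Groth.Agent.Lib.Helper37.Hz112
import Groth.Agent.Lib.Helper39.NormFin

/-!
# Henselization project, part 115: over a Nagata ring `A`, the integral closure of `A` in a reduced
ring `K` finite over an artinian localization `K_A` of `A` is a finite `A`-module.
-/

set_option autoImplicit false
set_option linter.style.haveILetI false
set_option linter.unusedSectionVars false
set_option maxHeartbeats 1000000
universe u

open IsLocalRing TensorProduct Polynomial

namespace Groth.Agent.Lib.Helper37.Hz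

namespace Gal

theorem finite_integralClosure_of_artinian_localization (A KA K : Type u) [CommRing A]
    [CommRing KA] [CommRing K] [Algebra A KA] [Algebra KA K] [Algebra A K] [IsScalarTower A KA K]
    (M : Submonoid A) [IsLocalization M KA] [IsArtinianRing KA] [Module.Finite KA K] [IsReduced K]
    (hN : CAlg.IsNagata A) : Module.Finite A (integralClosure A K) := by
  classical
  haveI : IsNoetherianRing A := hN.1
  haveI : IsArtinianRing K := IsArtinianRing.of_finite KA K
  have key : ∀ 𝔪 : MaximalSpectrum K, Module.Finite A (integralClosure A (K ⧸ 𝔪.asIdeal)) := by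
    intro 𝔪
    haveI := 𝔪.isMaximal
    obtain ⟨𝔫, h𝔫⟩ : ∃ 𝔫 : Ideal KA, 𝔫 = 𝔪.asIdeal.comap (algebraMap KA K) := ⟨_, rfl⟩
    subst h𝔫
    haveI : (𝔪.asIdeal.comap (algebraMap KA K)).IsPrime := Ideal.comap_isPrime _ _
    haveI : (𝔪.asIdeal.comap (algebraMap KA K)).IsMaximal := IsArtinianRing.isMaximal_of_isPrime _
    letI : Field (KA ⧸ 𝔪.asIdeal.comap (algebraMap KA K)) := Ideal.Quotient.field _
    letI : Field (K ⧸ 𝔪.asIdeal) := Ideal.Quotient.field _
    haveI : Module.Finite KA (K ⧸ 𝔪.asIdeal) :=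
      Module.Finite.of_surjective (Ideal.Quotient.mkₐ KA 𝔪.asIdeal).toLinearMap
        (Ideal.Quotient.mkₐ_surjective KA 𝔪.asIdeal)
    haveI : Module.Finite (KA ⧸ 𝔪.asIdeal.comap (algebraMap KA K)) (K ⧸ 𝔪.asIdeal) :=
      Module.Finite.of_restrictScalars_finite KA _ _
    refine Groth.Agent.Lib.Helper39.NormFin.finite_integralClosure_of_essFiniteType
      (R := A) (K := KA ⧸ 𝔪.asIdeal.comap (algebraMap KA K)) (L := K ⧸ 𝔪.asIdeal) hN ?_
    intro x
    obtain ⟨k, rfl⟩ := Ideal.Quotient.mk_surjective x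
    obtain ⟨⟨a, s⟩, hks⟩ := IsLocalization.surj M k
    refine ⟨a, s, ?_, ?_⟩
    · have hu : IsUnit (algebraMap A KA s) := IsLocalization.map_units KA s
      have h1 : algebraMap A (KA ⧸ 𝔪.asIdeal.comap (algebraMap KA K)) s =
          Ideal.Quotient.mk _ (algebraMap A KA s) := rfl
      rw [h1]
      exact (hu.map (Ideal.Quotient.mk _)).ne_zero
    · have h1 : ∀ r : A, algebraMap A (KA ⧸ 𝔪.asIdeal.comap (algebraMap KA K)) r =
          Ideal.Quotient.mk _ (algebraMap A KA r) := fun r => rfl
      rw [h1, h1, ← map_mul, hks]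
  haveI := key
  let Φ : integralClosure A K →ₗ[A] (∀ 𝔪 : MaximalSpectrum K, integralClosure A (K ⧸ 𝔪.asIdeal)) :=
    { toFun := fun x 𝔪 => ⟨Ideal.Quotient.mk 𝔪.asIdeal x.1,
        x.2.map (Ideal.Quotient.mkₐ A 𝔪.asIdeal)⟩
      map_add' := fun x y => by
        funext 𝔪
        exact Subtype.ext (map_add _ _ _)
      map_smul' := fun a x => by
        funext 𝔪
        apply Subtype.ext
        change Ideal.Quotient.mk 𝔪.asIdeal ((a • x : integralClosure A K) : K) = _
        rw [Subalgebra.coe_smul]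
        exact map_smul (Ideal.Quotient.mkₐ A 𝔪.asIdeal) a (x : K) }
  have hΦ : Function.Injective Φ := by
    rw [← LinearMap.ker_eq_bot, LinearMap.ker_eq_bot']
    intro x hx
    have h1 : ∀ 𝔪 : MaximalSpectrum K, (x : K) ∈ 𝔪.asIdeal := by
      intro 𝔪
      have := congrArg (fun f => ((f 𝔪 : integralClosure A (K ⧸ 𝔪.asIdeal)) : K ⧸ 𝔪.asIdeal))
        hx
      exact Ideal.Quotient.eq_zero_iff_mem.mp this
    have h2 : IsNilpotent (x : K) := by
      rw [nilpotent_iff_mem_prime]
      intro P hP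
      haveI := hP
      haveI : P.IsMaximal := IsArtinianRing.isMaximal_of_isPrime P
      exact h1 ⟨P, inferInstance⟩
    exact Subtype.ext (IsReduced.eq_zero _ h2)
  haveI : Finite (MaximalSpectrum K) := inferInstance
  haveI : Module.Finite A (∀ 𝔪 : MaximalSpectrum K, integralClosure A (K ⧸ 𝔪.asIdeal)) :=
    Module.Finite.pi
  haveI : IsNoetherian A (∀ 𝔪 : MaximalSpectrum K, integralClosure A (K ⧸ 𝔪.asIdeal)) :=
    isNoetherian_of_isNoetherianRing_of_finite _ _
  exact Module.Finite.of_injective Φ hΦ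

end Gal

end Groth.Agent.Lib.Helper37.Hz
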