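import Groth.Agent.Lib.Helper37.Hz115
import Groth.Agent.Lib.Helper37.Hz114
import Groth.Agent.S2654

/-!
# Henselization project, part 116: set-up for S16449: the `K_A`-algebra structure on `K_E`,
finiteness, and the intermediate ring `L = K_A[D]`.
-/

set_option autoImplicit false
set_option linter.style.haveILetI false
set_option linter.unusedSectionVars false
set_option maxHeartbeats 1000000
universe u

open IsLocalRing TensorProduct Polynomial

namespace Groth.Agent.Lib.Helper37.Hz

namespace Gal

open Groth.Agent.Lib.Helper90.FracEssEt in
/-- `K_E` is a finite algebra over the artinian ring `K_A`. -/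
theorem exists_algebra_fractionRing (A E : Type u) [CommRing A] [IsReduced A] [CommRing E]
    [Algebra A E] [Module.Flat A E] [Algebra.QuasiFinite A E] (hmin : (minimalPrimes A).Finite) :
    ∃ (_ : Algebra (FractionRing A) (FractionRing E)),
      IsScalarTower A (FractionRing A) (FractionRing E) ∧
      Module.Finite (FractionRing A) (FractionRing E) ∧ IsArtinianRing (FractionRing A) := by
  classical
  obtain ⟨ψ, hψ1, hψa⟩ := exists_tensor_equiv (E := E) hmin
  haveI : IsArtinianRing (FractionRing A) := isArtinianRing_fractionRing hmin
  haveI : Module.Finite (FractionRing A) (FractionRing A ⊗[A] E) := Module.Finite.of_quasiFinite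
  letI alg : Algebra (FractionRing A) (FractionRing E) :=
    (ψ.toRingHom.comp (Algebra.TensorProduct.includeLeftRingHom)).toAlgebra
  have halg : ∀ k : FractionRing A, algebraMap (FractionRing A) (FractionRing E) k =
      ψ (k ⊗ₜ (1 : E)) := fun k => rfl
  refine ⟨alg, ?_, ?_, inferInstance⟩
  · refine IsScalarTower.of_algebraMap_eq (fun a => ?_)
    rw [halg]
    have h1 : (algebraMap A (FractionRing A) a) ⊗ₜ[A] (1 : E) =
        a • ((1 : FractionRing A) ⊗ₜ[A] (1 : E)) := by
      rw [TensorProduct.smul_tmul', Algebra.smul_def, mul_one]
    rw [h1, hψa, ← Algebra.TensorProduct.one_def, map_one, mul_one]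
  · let ψl : FractionRing A ⊗[A] E →ₗ[FractionRing A] FractionRing E :=
      { toFun := ψ
        map_add' := map_add ψ
        map_smul' := fun k y => by
          rw [RingHom.id_apply, Algebra.smul_def, halg, ← map_mul]
          congr 1
          induction y with
          | zero => simp
          | add x y hx hy => rw [smul_add, hx, hy, mul_add]
          | tmul k' e =>
            rw [TensorProduct.smul_tmul', Algebra.TensorProduct.tmul_mul_tmul, one_mul,
              smul_eq_mul] }
    exact Module.Finite.of_surjective ψl ψ.surjective

end Gal

end Groth.Agent.Lib.Helper37.Hz
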