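import Groth.Agent.Lib.Helper37.Hz116

/-!
# Henselization project, part 117: S16449 main theorem.
-/

set_option autoImplicit false
set_option linter.style.haveILetI false
set_option linter.unusedSectionVars false
set_option maxHeartbeats 2000000
set_option synthInstance.maxHeartbeats 400000
universe u

open IsLocalRing TensorProduct Polynomial

namespace Groth.Agent.Lib.Helper37.Hz

namespace Gal

open Groth.Agent.Lib.Helper90.FracEssEt in
theorem essFiniteType_of_semilocal
    (A E : Type u) [CommRing A] [IsLocalRing A] [IsReduced A] (hA : EGA4.IsExcellent A)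
    [CommRing E] [IsLocalRing E] [Algebra A E] [IsLocalHom (algebraMap A E)]
    (hE : EGA4loc.IsEssentiallyEtale A E)
    (D : Subalgebra A E) [IsLocalRing D] [IsLocalHom (algebraMap D E)]
    (D' : Subalgebra A (FractionRing E))
    (hD' : ∀ x : (FractionRing E), x ∈ D' ↔ (IsIntegral D x ∧
      ∃ a ∈ nonZeroDivisors A, ∃ d ∈ D, algebraMap A (FractionRing E) a * x = algebraMap E (FractionRing E) d))
    (hle : D' ≤ ((integralClosure E (FractionRing E)).restrictScalars A))
    (hfin : {N : Ideal D' | N.IsMaximal}.Finite)
    (hmax : ∀ M : Ideal ((integralClosure E (FractionRing E)).restrictScalars A), M.IsMaximal → (M.comap (Subalgebra.inclusion hle)).IsMaximal)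
    (hsurj : ∀ N : Ideal D', N.IsMaximal →
      ∃ M : Ideal ((integralClosure E (FractionRing E)).restrictScalars A), M.IsMaximal ∧ M.comap (Subalgebra.inclusion hle) = N) :
    Algebra.EssFiniteType A D := by
  classical
  have hN : CAlg.IsNagata A := Groth.Agent.S2654.result A ⟨hA.1, hA.2.2.1, hA.2.2.2⟩
  haveI : IsNoetherianRing A := hA.1
  have hmin : (minimalPrimes A).Finite := minimalPrimes.finite_of_isNoetherianRing A
  haveI : Module.Flat A E := flat_of_isEssentiallyEtale hE
  haveI : Algebra.QuasiFinite A E := quasiFinite_of_isEssentiallyEtale hE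
  haveI : IsNoetherianRing E := isNoetherianRing_of_isEssentiallyEtale hE
  haveI : IsReduced E := isReduced_of_isEssentiallyEtale hE
  obtain ⟨algK, htower, hfinK, hartKA⟩ := exists_algebra_fractionRing A E hmin
  letI := algK
  haveI := htower
  haveI := hfinK
  haveI := hartKA
  haveI : IsNoetherianRing (FractionRing A) := inferInstance
  haveI : IsNoetherian (FractionRing A) (FractionRing E) :=
    isNoetherian_of_isNoetherianRing_of_finite _ _
  -- the intermediate ring `L = K_A[D]`
  obtain ⟨L, hL⟩ : ∃ L : Subalgebra (FractionRing A) (FractionRing E),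
      L = Algebra.adjoin (FractionRing A) ((algebraMap E (FractionRing E)) '' (D : Set E)) :=
    ⟨_, rfl⟩
  have hunitA : ∀ a ∈ nonZeroDivisors A, IsUnit (algebraMap A (FractionRing E) a) := by
    intro a ha
    rw [IsScalarTower.algebraMap_apply A (FractionRing A) (FractionRing E)]
    exact (IsLocalization.map_units (FractionRing A) ⟨a, ha⟩).map _
  have hLfrac : ∀ x ∈ L, ∃ a ∈ nonZeroDivisors A, ∃ d ∈ D,
      algebraMap A (FractionRing E) a * x = algebraMap E (FractionRing E) d := by
    intro x hx
    rw [hL] at hx
    induction hx using Algebra.adjoin_induction with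
    | mem z hz =>
      obtain ⟨d, hd, rfl⟩ := hz
      exact ⟨1, one_mem _, d, hd, by rw [map_one, one_mul]⟩
    | algebraMap k =>
      obtain ⟨⟨a, s⟩, hks⟩ := IsLocalization.surj (nonZeroDivisors A) k
      refine ⟨s, s.2, algebraMap A E a, D.algebraMap_mem a, ?_⟩
      rw [IsScalarTower.algebraMap_apply A (FractionRing A) (FractionRing E), ← map_mul,
        mul_comm, hks, ← IsScalarTower.algebraMap_apply, ← IsScalarTower.algebraMap_apply]
    | add z y _ _ hz hy =>
      obtain ⟨a, ha, d, hd, h1⟩ := hz
      obtain ⟨a', ha', d', hd', h2⟩ := hy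
      refine ⟨a * a', mul_mem ha ha', a' • d + a • d', D.add_mem (D.smul_mem hd a')
        (D.smul_mem hd' a), ?_⟩
      have e1 : algebraMap E (FractionRing E) (a' • d) =
          algebraMap A (FractionRing E) a' * algebraMap E (FractionRing E) d := by
        rw [Algebra.smul_def, map_mul, ← IsScalarTower.algebraMap_apply]
      have e2 : algebraMap E (FractionRing E) (a • d') =
          algebraMap A (FractionRing E) a * algebraMap E (FractionRing E) d' := by
        rw [Algebra.smul_def, map_mul, ← IsScalarTower.algebraMap_apply]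
      rw [map_add, e1, e2, ← h1, ← h2, map_mul]
      ring
    | mul z y _ _ hz hy =>
      obtain ⟨a, ha, d, hd, h1⟩ := hz
      obtain ⟨a', ha', d', hd', h2⟩ := hy
      refine ⟨a * a', mul_mem ha ha', d * d', D.mul_mem hd hd', ?_⟩
      rw [map_mul, map_mul, ← h1, ← h2]
      ring
  have hD'L : ∀ x ∈ D', x ∈ L := by
    intro x hx
    obtain ⟨-, a, ha, d, hd, had⟩ := (hD' x).mp hx
    obtain ⟨v, hv⟩ := (hunitA a ha).exists_left_inv
    have h1 : x = v * algebraMap E (FractionRing E) d := by
      rw [← had, ← mul_assoc, hv, one_mul]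
    have hvL : v ∈ L := by
      have h2 : v = algebraMap (FractionRing A) (FractionRing E)
          (IsLocalization.mk' (FractionRing A) (1 : A) (⟨a, ha⟩ : nonZeroDivisors A)) := by
        have h3 : algebraMap A (FractionRing E) a * algebraMap (FractionRing A) (FractionRing E)
            (IsLocalization.mk' (FractionRing A) (1 : A) (⟨a, ha⟩ : nonZeroDivisors A)) = 1 := by
          rw [IsScalarTower.algebraMap_apply A (FractionRing A) (FractionRing E), ← map_mul,
            mul_comm, IsLocalization.mk'_spec, map_one, map_one]
        calc v = v * (algebraMap A (FractionRing E) a * _) := by rw [h3, mul_one]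
          _ = _ := by rw [← mul_assoc, hv, one_mul]
      rw [h2]
      exact L.algebraMap_mem _
    rw [h1]
    refine L.mul_mem hvL ?_
    rw [hL]
    exact Algebra.subset_adjoin ⟨d, hd, rfl⟩
  -- instances on `L`
  haveI : Module.Finite (FractionRing A) L :=
    Module.Finite.of_injective L.val.toLinearMap Subtype.val_injective
  haveI : IsArtinianRing L := IsArtinianRing.of_finite (FractionRing A) L
  haveI : IsReduced L := isReduced_of_injective L.val.toRingHom Subtype.val_injective
  haveI : Algebra.IsIntegral (FractionRing A) L := Algebra.IsIntegral.of_finite _ _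
  have hLK : ∀ l : L, algebraMap L (FractionRing E) l = (l : FractionRing E) := fun l => rfl
  have hALK : ∀ a : A, ((algebraMap A L a : L) : FractionRing E) = algebraMap A (FractionRing E) a := by
    intro a
    rw [← hLK, ← IsScalarTower.algebraMap_apply A L (FractionRing E)]
  -- the étale model of `E`
  obtain ⟨E₀, _, _, q, _, hEt, hq, ⟨e⟩⟩ := hE
  haveI := hEt
  letI algE₀E : Algebra E₀ E :=
    ((e.symm : Localization.AtPrime q →ₐ[A] E).toRingHom.comp
      (algebraMap E₀ (Localization.AtPrime q))).toAlgebra
  haveI : IsScalarTower A E₀ E := IsScalarTower.of_algebraMap_eq (fun a => by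
    change algebraMap A E a = e.symm (algebraMap E₀ _ (algebraMap A E₀ a))
    rw [← IsScalarTower.algebraMap_apply A E₀ (Localization.AtPrime q), e.symm.commutes])
  let e' : Localization.AtPrime q ≃ₐ[E₀] E :=
    { e.symm.toRingEquiv with commutes' := fun x => rfl }
  haveI : IsLocalization.AtPrime E q := IsLocalization.isLocalization_of_algEquiv q.primeCompl e'
  haveI : IsScalarTower E₀ E (FractionRing E) := inferInstance
  haveI : IsScalarTower A E₀ (FractionRing E) := IsScalarTower.of_algebraMap_eq (fun a => by
    rw [IsScalarTower.algebraMap_apply E₀ E (FractionRing E),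
      ← IsScalarTower.algebraMap_apply A E₀ E,
      ← IsScalarTower.algebraMap_apply A E (FractionRing E)])
  haveI : Algebra.QuasiFinite A E₀ := inferInstance
  haveI : Module.Finite L (L ⊗[A] E₀) := by
    have h := Module.Finite.of_quasiFinite (R := L) (S := L ⊗[A] E₀)
    exact h
  haveI : IsArtinianRing (L ⊗[A] E₀) := IsArtinianRing.of_finite L (L ⊗[A] E₀)
  haveI : IsReduced (L ⊗[A] E₀) := Groth.Agent.S9407.result L (L ⊗[A] E₀)
  haveI : IsArtinianRing (E₀ ⊗[A] L) :=
    (Algebra.TensorProduct.comm A L E₀).toRingEquiv.isArtinianRing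
  haveI : IsReduced (E₀ ⊗[A] L) :=
    isReduced_of_injective (Algebra.TensorProduct.comm A E₀ L).toRingHom
      (Algebra.TensorProduct.comm A E₀ L).injective
  -- `B`, the integral closure of `A` in `L`
  let ιK : integralClosure A L →ₐ[A] FractionRing E :=
    (IsScalarTower.toAlgHom A L (FractionRing E)).comp (integralClosure A L).val
  have hιK : ∀ b : integralClosure A L, ιK b = ((b : L) : FractionRing E) := fun b => rfl
  have hBint : ∀ b : integralClosure A L, IsIntegral A (ιK b) := by
    intro b
    have hb : IsIntegral A (b : L) := b.2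
    exact hb.map (IsScalarTower.toAlgHom A L (FractionRing E))
  haveI : IsScalarTower A D (FractionRing E) := IsScalarTower.of_algebraMap_eq (fun a => by
    change algebraMap A (FractionRing E) a = algebraMap E (FractionRing E) (algebraMap A E a)
    rw [← IsScalarTower.algebraMap_apply A E (FractionRing E)])
  have hBD' : ∀ b : integralClosure A L, ιK b ∈ D' := by
    intro b
    rw [hD']
    exact ⟨(hBint b).tower_top, hLfrac _ (b : L).2⟩
  let ιB : integralClosure A L →ₐ[A] D' := ιK.codRestrict D' hBD'
  have hιB : ∀ b : integralClosure A L, ((ιB b : D') : FractionRing E) = ιK b := fun b => rfl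
  -- finiteness of `B`
  haveI : Module.Finite A (integralClosure A L) := by
    haveI : Module.Finite A (integralClosure A (FractionRing E)) :=
      finite_integralClosure_of_artinian_localization A (FractionRing A) (FractionRing E)
        (nonZeroDivisors A) hN
    haveI : IsNoetherian A (integralClosure A (FractionRing E)) :=
      isNoetherian_of_isNoetherianRing_of_finite _ _
    let j : integralClosure A L →ₐ[A] integralClosure A (FractionRing E) :=
      ιK.codRestrict (integralClosure A (FractionRing E)) hBint
    refine Module.Finite.of_injective j.toLinearMap ?_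
    intro b b' hbb
    have h1 : ιK b = ιK b' :=
      congrArg (fun z : integralClosure A (FractionRing E) => (z : FractionRing E)) hbb
    exact Subtype.ext (Subtype.ext h1)
  -- the key claim: every element of `D'` has a denominator in `B` which is a unit of `D'`
  have star : ∀ x : D', ∃ t b' : integralClosure A L, IsUnit (ιB t) ∧ x * ιB t = ιB b' := by
    rintro ⟨c, hc⟩
    have hcE : IsIntegral E c := hle hc
    obtain ⟨⟨s, hs⟩, hsc⟩ :=
      IsIntegral.exists_multiple_integral_of_isLocalization q.primeCompl c hcE
    obtain ⟨l, hl⟩ : ∃ l : L, l = ⟨c, hD'L c hc⟩ := ⟨_, rfl⟩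
    have hlc : algebraMap L (FractionRing E) l = c := by rw [hl]; rfl
    obtain ⟨⟨a, ha⟩, hal⟩ :=
      IsIntegral.exists_multiple_integral_of_isLocalization (nonZeroDivisors A) l
        (Algebra.IsIntegral.isIntegral (R := FractionRing A) l)
    have hal' : IsIntegral A (algebraMap A L a * l) := by
      have h := hal
      rw [Submonoid.smul_def, Algebra.smul_def] at h
      exact h
    obtain ⟨aB, haB⟩ : ∃ aB : integralClosure A L, (aB : L) = algebraMap A L a :=
      ⟨⟨algebraMap A L a, isIntegral_algebraMap⟩, rfl⟩
    obtain ⟨b₁, hb₁⟩ : ∃ b₁ : integralClosure A L, (b₁ : L) = algebraMap A L a * l :=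
      ⟨⟨algebraMap A L a * l, hal'⟩, rfl⟩
    have hint : IsIntegral E₀ (algebraMap E₀ (FractionRing E) s *
        algebraMap L (FractionRing E) l) := by
      have h := hsc
      rw [Submonoid.smul_def, Algebra.smul_def] at h
      rw [hlc]
      exact h
    have hba : algebraMap L (FractionRing E) (b₁ : L) =
        algebraMap L (FractionRing E) (aB : L) * algebraMap L (FractionRing E) l := by
      rw [hb₁, haB, map_mul]
    have haK : ∀ x : FractionRing E, algebraMap L (FractionRing E) (aB : L) * x = 0 → x = 0 := by
      intro x hx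
      rw [haB, ← IsScalarTower.algebraMap_apply A L (FractionRing E)] at hx
      exact (hunitA a ha).mul_right_eq_zero.mp hx
    obtain ⟨k, t, y, htl, hy, hts⟩ :=
      exists_denominators A E₀ L (FractionRing E) s l hint b₁ aB hba haK
    -- the ideal of denominators
    let I : Ideal (integralClosure A L) :=
      { carrier := {t | ∃ b' : integralClosure A L, ιK t * c = ιK b'}
        zero_mem' := ⟨0, by rw [map_zero, zero_mul]⟩
        add_mem' := by
          rintro t₁ t₂ ⟨b1, h1⟩ ⟨b2, h2⟩
          exact ⟨b1 + b2, by rw [map_add, map_add, add_mul, h1, h2]⟩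
        smul_mem' := by
          rintro r t₁ ⟨b1, h1⟩
          exact ⟨r * b1, by rw [smul_eq_mul, map_mul, map_mul, mul_assoc, h1]⟩ }
    have htI : ∀ j, t j ∈ I := by
      intro j
      obtain ⟨b', hb'⟩ := htl j
      refine ⟨b', ?_⟩
      rw [← hlc]
      exact hb'
    suffices hex : ∃ t₀ ∈ I, IsUnit (ιB t₀) by
      obtain ⟨t₀, ⟨b', hb'⟩, hu⟩ := hex
      refine ⟨t₀, b', hu, ?_⟩
      apply Subtype.ext
      change c * ιK t₀ = ιK b'
      rw [mul_comm, hb']
    by_contra hno
    push_neg at hno
    have hsub : (I : Set (integralClosure A L)) ⊆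
        ⋃ N ∈ (↑hfin.toFinset : Set (Ideal D')),
          (N.comap ιB.toRingHom : Set (integralClosure A L)) := by
      intro t₀ ht₀
      obtain ⟨N, hN, hmem⟩ := exists_max_ideal_of_mem_nonunits (hno t₀ ht₀)
      exact Set.mem_iUnion₂.mpr ⟨N, Finset.mem_coe.mpr (hfin.mem_toFinset.mpr hN), hmem⟩
    have hprime : ∀ N ∈ hfin.toFinset, N ≠ (⊥ : Ideal D') → N ≠ (⊥ : Ideal D') →
        (N.comap ιB.toRingHom).IsPrime := by
      intro N hN _ _
      haveI : N.IsMaximal := hfin.mem_toFinset.mp hN
      exact Ideal.comap_isPrime ιB.toRingHom N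
    obtain ⟨N, hN, hIN⟩ := (@Ideal.subset_union_prime (Ideal D') (integralClosure A L)
      inferInstance hfin.toFinset (fun N : Ideal D' => N.comap ιB.toRingHom)
      (⊥ : Ideal D') ⊥ hprime I).mp hsub
    have hNmax : N.IsMaximal := hfin.mem_toFinset.mp hN
    obtain ⟨M, hM, hMN⟩ := hsurj N hNmax
    have hyE : ∀ j, y j ∈ (integralClosure E (FractionRing E)).restrictScalars A := fun j =>
      (hy j).tower_top
    have hsE : algebraMap E₀ (FractionRing E) s ∈
        (integralClosure E (FractionRing E)).restrictScalars A := by
      rw [IsScalarTower.algebraMap_apply E₀ E (FractionRing E)]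
      exact isIntegral_algebraMap
    have hmemM : (⟨algebraMap E₀ (FractionRing E) s, hsE⟩ :
        ((integralClosure E (FractionRing E)).restrictScalars A)) ∈ M := by
      have h1 : (∑ j, Subalgebra.inclusion hle (ιB (t j)) * ⟨y j, hyE j⟩ :
          ((integralClosure E (FractionRing E)).restrictScalars A)) ∈ M := by
        refine Ideal.sum_mem _ (fun j _ => M.mul_mem_right _ ?_)
        have h2 : ιB (t j) ∈ N := hIN (htI j)
        rw [← hMN] at h2
        exact h2
      have h3 : (∑ j, Subalgebra.inclusion hle (ιB (t j)) * ⟨y j, hyE j⟩ :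
          ((integralClosure E (FractionRing E)).restrictScalars A)) =
          ⟨algebraMap E₀ (FractionRing E) s, hsE⟩ := by
        apply Subtype.ext
        rw [AddSubmonoidClass.coe_finset_sum]
        change ∑ j, algebraMap L (FractionRing E) (t j : L) * y j = _
        rw [← hts]
      rw [← h3]
      exact h1
    have hunit : IsUnit (⟨algebraMap E₀ (FractionRing E) s, hsE⟩ :
        ((integralClosure E (FractionRing E)).restrictScalars A)) := by
      have hu : IsUnit (algebraMap E₀ E s) := IsLocalization.map_units E (⟨s, hs⟩ : q.primeCompl)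
      obtain ⟨u, hu'⟩ := hu.exists_right_inv
      refine IsUnit.of_mul_eq_one (⟨algebraMap E (FractionRing E) u, isIntegral_algebraMap⟩ :
        ((integralClosure E (FractionRing E)).restrictScalars A)) ?_
      apply Subtype.ext
      change algebraMap E₀ (FractionRing E) s * algebraMap E (FractionRing E) u = 1
      rw [IsScalarTower.algebraMap_apply E₀ E (FractionRing E), ← map_mul, hu', map_one]
    exact hM.ne_top (Ideal.eq_top_of_isUnit_mem _ hmemM hunit)
  -- `D'` is essentially of finite type over `A`
  haveI : Algebra.EssFiniteType A D' := by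
    rw [Algebra.essFiniteType_iff]
    obtain ⟨σB, hσB⟩ := (inferInstance : Algebra.FiniteType A (integralClosure A L)).out
    refine ⟨σB.image ιB, fun x => ?_⟩
    have himg : ∀ b : integralClosure A L, ιB b ∈ Algebra.adjoin A ((σB.image ιB : Finset D') : Set D') := by
      intro b
      rw [Finset.coe_image, ← AlgHom.map_adjoin, hσB]
      exact ⟨b, trivial, rfl⟩
    obtain ⟨t, b', hu, hxt⟩ := star x
    exact ⟨ιB t, himg t, hu, hxt ▸ himg b'⟩
  -- `D'` is integral over the local ring `D`
  have hDmem : ∀ d : D, (IsScalarTower.toAlgHom A E (FractionRing E)).comp D.val d ∈ D' := by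
    intro d
    rw [hD']
    refine ⟨?_, 1, one_mem _, d, d.2, by rw [map_one, one_mul]; rfl⟩
    exact isIntegral_algebraMap (R := D) (x := d)
  let ιD : D →ₐ[A] D' :=
    ((IsScalarTower.toAlgHom A E (FractionRing E)).comp D.val).codRestrict D' hDmem
  letI algDD' : Algebra D D' := ιD.toRingHom.toAlgebra
  haveI : IsScalarTower A D D' := IsScalarTower.of_algebraMap_eq (fun a => (ιD.commutes a).symm)
  have hinj : Function.Injective (algebraMap D D') := by
    intro d d' hdd
    have h1 : algebraMap E (FractionRing E) (d : E) = algebraMap E (FractionRing E) (d' : E) :=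
      congrArg Subtype.val hdd
    exact Subtype.ext (IsFractionRing.injective E (FractionRing E) h1)
  haveI : Algebra.IsIntegral D D' := by
    refine ⟨fun x => ?_⟩
    have hx : IsIntegral D (x : FractionRing E) := ((hD' x).mp x.2).1
    let f : D' →ₐ[D] FractionRing E :=
      { D'.val.toRingHom with commutes' := fun d => rfl }
    exact (isIntegral_algHom_iff f Subtype.val_injective).mp hx
  exact AT.essFiniteType_of_integral_local A D D' hinj

end Gal

end Groth.Agent.Lib.Helper37.Hz
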