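import Groth.Agent.Lib.Helper37.Hz9
import Groth.Agent.Lib.Helper37.Hz11

/-!
# Henselization project, part 14: the limit ring is formally étale
-/

set_option autoImplicit false
universe u

namespace Groth.Agent.Lib.Helper37.Hz

open IsLocalRing

variable {R : Type u} [CommRing R] {Ω : Type u} [Field Ω] [Algebra R Ω]

section LiftAlg

variable (P : Type*) [CommRing P] [Algebra R P]

/-- Algebra homomorphisms out of the limit. -/
noncomputable def liftAlgHom (g : ∀ i : Idx R Ω, G i →ₐ[R] P)
    (Hg : ∀ i j hij x, g j (trans i j hij x) = g i x) : H R Ω →ₐ[R] P :=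
  DirectLimit.Algebra.lift (R := R) (G (R := R) (Ω := Ω)) (fun i j h => trans i j h) P g Hg

variable {P}

@[simp] lemma liftAlgHom_of (g : ∀ i : Idx R Ω, G i →ₐ[R] P)
    (Hg : ∀ i j hij x, g j (trans i j hij x) = g i x) (i : Idx R Ω) (x : G i) :
    liftAlgHom P g Hg (of i x) = g i x := rfl

lemma algHom_ext {g₁ g₂ : H R Ω →ₐ[R] P} (h : ∀ i, g₁.comp (of i) = g₂.comp (of i)) :
    g₁ = g₂ := by
  ext x
  obtain ⟨i, y, rfl⟩ := exists_of x
  exact DFunLike.congr_fun (h i) y

end LiftAlg

instance formallyEtale_locPt {C : Type u} [CommRing C] [Algebra R C] [Algebra.Etale R C]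
    (θ : C →ₐ[R] Ω) : Algebra.FormallyEtale R (LocPt θ) :=
  haveI : Algebra.FormallyEtale C (LocPt θ) :=
    Algebra.FormallyEtale.of_isLocalization (ptKer θ).primeCompl
  Algebra.FormallyEtale.comp R C (LocPt θ)

instance formallyEtale_H : Algebra.FormallyEtale R (H R Ω) := by
  rw [Algebra.FormallyEtale.iff_comp_bijective]
  intro B _ _ I hI
  constructor
  · intro g₁ g₂ h
    apply algHom_ext
    intro i
    apply (Algebra.FormallyEtale.comp_bijective R (G i) I hI).1
    change (Ideal.Quotient.mkₐ R I).comp (g₁.comp (of i)) = (Ideal.Quotient.mkₐ R I).comp (g₂.comp (of i))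
    rw [← AlgHom.comp_assoc, ← AlgHom.comp_assoc]
    exact congrArg (fun k => AlgHom.comp k (of i)) h
  · intro f
    choose h hh using fun i : Idx R Ω =>
      (Algebra.FormallyEtale.comp_bijective R (G i) I hI).2 (f.comp (of i))
    have hcompat : ∀ i j hij x, h j (trans i j hij x) = h i x := by
      intro i j hij x
      have : (h j).comp (trans i j hij) = h i := by
        apply (Algebra.FormallyEtale.comp_bijective R (G i) I hI).1
        change (Ideal.Quotient.mkₐ R I).comp ((h j).comp (trans i j hij)) =
          (Ideal.Quotient.mkₐ R I).comp (h i)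
        rw [← AlgHom.comp_assoc, hh j, hh i]
        ext y
        exact congrArg f (of_trans i j hij y)
      exact DFunLike.congr_fun this x
    refine ⟨liftAlgHom B h hcompat, ?_⟩
    apply algHom_ext
    intro i
    ext y
    change (Ideal.Quotient.mkₐ R I) (h i y) = f (of i y)
    exact DFunLike.congr_fun (hh i) y

variable (R) [IsLocalRing R]
variable (S : Type u) [CommRing S] [IsLocalRing S] [Algebra R S] [IsLocalHom (algebraMap R S)]

theorem formallyEtale_of_isHenselization [Hensel.IsHenselization R S] :
    Algebra.FormallyEtale R S := by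
  obtain ⟨e⟩ := nonempty_algEquiv_Hens R S
  exact Algebra.FormallyEtale.of_equiv e.symm

theorem formallyEtale_of_isStrictHenselization [Hensel.IsStrictHenselization R S] :
    Algebra.FormallyEtale R S := by
  obtain ⟨e⟩ := nonempty_algEquiv_SHens R S
  exact Algebra.FormallyEtale.of_equiv e.symm

end Groth.Agent.Lib.Helper37.Hz
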