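import Groth.Agent.Lib.Helper37.Hz9
import Groth.Agent.Lib.Helper37.Hz11
import Groth.Agent.S9407

/-!
# Henselization project, part 15: the nilradical of the limit ring
-/

set_option autoImplicit false
universe u

namespace Groth.Agent.Lib.Helper37.Hz

open IsLocalRing TensorProduct

/-- The nilradical of an étale algebra is the extension of the nilradical of the base. -/
theorem nilradical_le_map_of_etale (R C : Type u) [CommRing R] [CommRing C] [Algebra R C]
    [Algebra.Etale R C] : nilradical C ≤ (nilradical R).map (algebraMap R C) := by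
  intro c hc
  set N := nilradical R with hN
  haveI : IsReduced (R ⧸ N) :=
    (Ideal.isRadical_iff_quotient_reduced N).mp (Ideal.radical_isRadical ⊥)
  haveI : IsReduced ((R ⧸ N) ⊗[R] C) := Groth.Agent.S9407.result (R ⧸ N) ((R ⧸ N) ⊗[R] C)
  have h1 : IsNilpotent ((1 : R ⧸ N) ⊗ₜ[R] c) := by
    have : (1 : R ⧸ N) ⊗ₜ[R] c =
        (Algebra.TensorProduct.includeRight : C →ₐ[R] (R ⧸ N) ⊗[R] C) c := rfl
    rw [this]
    exact (mem_nilradical.mp hc).map _
  have h2 : (1 : R ⧸ N) ⊗ₜ[R] c = 0 := h1.eq_zero
  have h3 : c ∈ LinearMap.ker (TensorProduct.mk R (R ⧸ N) C 1) := h2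
  rw [LinearMap.ker_tensorProductMk, Ideal.smul_top_eq_map] at h3
  exact h3

variable {R : Type u} [CommRing R] {Ω : Type u} [Field Ω] [Algebra R Ω]

theorem nilradical_le_map_locPt {C : Type u} [CommRing C] [Algebra R C] [Algebra.Etale R C]
    (θ : C →ₐ[R] Ω) : nilradical (LocPt θ) ≤ (nilradical R).map (algebraMap R (LocPt θ)) := by
  intro y hy
  obtain ⟨n, hn⟩ := mem_nilradical.mp hy
  obtain ⟨c, s, rfl⟩ := IsLocalization.exists_mk'_eq (ptKer θ).primeCompl y
  have h1 : IsLocalization.mk' (LocPt θ) (c ^ n) (s ^ n) = 0 := by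
    rw [IsLocalization.mk'_pow]
    exact hn
  rw [IsLocalization.mk'_eq_zero_iff] at h1
  obtain ⟨t, ht⟩ := h1
  have h2 : (t : C) * c ∈ nilradical C := by
    rw [mem_nilradical]
    refine ⟨n + 1, ?_⟩
    rw [mul_pow, pow_succ c, pow_succ (t : C)]
    linear_combination ((t : C) ^ n * c) * ht
  have h3 := nilradical_le_map_of_etale R C h2
  have h4 : algebraMap C (LocPt θ) ((t : C) * c) ∈
      ((nilradical R).map (algebraMap R C)).map (algebraMap C (LocPt θ)) :=
    Ideal.mem_map_of_mem _ h3
  rw [Ideal.map_map, ← IsScalarTower.algebraMap_eq] at h4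
  have h5 : IsLocalization.mk' (LocPt θ) c s =
      IsLocalization.mk' (LocPt θ) 1 (t * s) * algebraMap C (LocPt θ) ((t : C) * c) := by
    rw [IsLocalization.mk'_eq_iff_eq_mul]
    have := IsLocalization.mk'_spec (LocPt θ) (1 : C) (t * s)
    simp only [Submonoid.coe_mul, map_mul, map_one] at this ⊢
    linear_combination (-(algebraMap C (LocPt θ) c)) * this
  rw [h5]
  exact Ideal.mul_mem_left _ _ h4

theorem nilradical_H : (nilradical R).map (algebraMap R (H R Ω)) = nilradical (H R Ω) := by
  apply le_antisymm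
  · rw [Ideal.map_le_iff_le_comap]
    intro r hr
    exact mem_nilradical.mpr ((mem_nilradical.mp hr).map _)
  · intro x hx
    obtain ⟨n, hn⟩ := mem_nilradical.mp hx
    obtain ⟨i, y, rfl⟩ := exists_of x
    rw [← map_pow, of_eq_zero_iff] at hn
    obtain ⟨j, hij, hj⟩ := hn
    rw [map_pow] at hj
    have h1 : trans i j hij y ∈ nilradical (G j) := mem_nilradical.mpr ⟨n, hj⟩
    have h2 := nilradical_le_map_locPt j.θ h1
    have h3 : of j (trans i j hij y) ∈
        ((nilradical R).map (algebraMap R (G j))).map (of j : G j →+* H R Ω) :=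
      Ideal.mem_map_of_mem _ h2
    rw [Ideal.map_map, (of j).comp_algebraMap, of_trans] at h3
    exact h3

theorem nilradical_of_algEquiv {S : Type u} [CommRing S] [Algebra R S] (e : S ≃ₐ[R] H R Ω) :
    (nilradical R).map (algebraMap R S) = nilradical S := by
  have h1 : (nilradical R).map (algebraMap R S) =
      ((nilradical R).map (algebraMap R (H R Ω))).map (e.symm.toRingEquiv : H R Ω →+* S) := by
    rw [Ideal.map_map]
    congr 1
    ext r
    exact (e.symm.commutes r).symm
  rw [h1, nilradical_H]
  ext x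
  rw [Ideal.map_comap_of_equiv, Ideal.mem_comap, mem_nilradical, mem_nilradical]
  change IsNilpotent (e x) ↔ IsNilpotent x
  exact IsNilpotent.map_iff e.injective

theorem nilradical_map_of_isHenselization (R : Type u) [CommRing R] [IsLocalRing R]
    (S : Type u) [CommRing S] [IsLocalRing S] [Algebra R S] [IsLocalHom (algebraMap R S)]
    (h : Hensel.IsHenselization R S ∨ Hensel.IsStrictHenselization R S) :
    (nilradical R).map (algebraMap R S) = nilradical S := by
  rcases h with h | h
  · obtain ⟨e⟩ := nonempty_algEquiv_Hens R S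
    exact nilradical_of_algEquiv e
  · obtain ⟨e⟩ := nonempty_algEquiv_SHens R S
    exact nilradical_of_algEquiv e

end Groth.Agent.Lib.Helper37.Hz
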