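import Groth.Agent.Lib.Helper37.Hz10

/-!
# Henselization project, part 16: separable points, surjectivity of the point, and the abstract
uniqueness of the limit ring
-/

set_option autoImplicit false
universe u

namespace Groth.Agent.Lib.Helper37.Hz

open IsLocalRing Polynomial

/-- Every element of `Ω` is a simple root of a monic polynomial over `R`. -/
class SepOver (R : Type u) [CommRing R] (Ω : Type u) [Field Ω] [Algebra R Ω] : Prop where
  sep : ∀ ω : Ω, ∃ F : R[X], F.Monic ∧ aeval ω F = 0 ∧ aeval ω (derivative F) ≠ 0

instance sepOver_residueField (R : Type u) [CommRing R] [IsLocalRing R] :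
    SepOver R (ResidueField R) where
  sep ω := by
    obtain ⟨r, rfl⟩ := residue_surjective ω
    refine ⟨X - C r, monic_X_sub_C r, ?_, ?_⟩
    · simp only [map_sub, aeval_X, aeval_C]
      exact sub_self _
    · simp only [derivative_sub, derivative_X, derivative_C, sub_zero, map_one]
      exact one_ne_zero

instance sepOver_sepCl (R : Type u) [CommRing R] [IsLocalRing R] : SepOver R (SepCl R) where
  sep ω := by
    have hsep : IsSeparable (ResidueField R) ω := Algebra.IsSeparable.isSeparable _ ω
    set p := minpoly (ResidueField R) ω with hp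
    have hpmonic : p.Monic := minpoly.monic hsep.isIntegral
    obtain ⟨F, hFmap, -, hFmonic⟩ := lifts_and_degree_eq_and_monic
      ((mem_lifts p).mpr (map_surjective _ residue_surjective p)) hpmonic
    have hF : F.map (algebraMap R (ResidueField R)) = p := hFmap
    refine ⟨F, hFmonic, ?_, ?_⟩
    · rw [← aeval_map_algebraMap (ResidueField R), hF]
      exact minpoly.aeval _ _
    · rw [← aeval_map_algebraMap (ResidueField R), ← derivative_map, hF]
      exact Separable.aeval_derivative_ne_zero hsep (minpoly.aeval _ _)

variable {R : Type u} [CommRing R] {Ω : Type u} [Field Ω] [Algebra R Ω]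

/-- If every element of `Ω` is a simple root of a monic polynomial over `R`, the point of the limit
ring is surjective. -/
lemma ptInf_surjective_of_sepOver [SepOver R Ω] : Function.Surjective (ptInf : H R Ω →ₐ[R] Ω) := by
  intro ω
  obtain ⟨F, hFmonic, h0, h1⟩ := SepOver.sep (R := R) ω
  let P : StandardEtalePair R := ⟨F, hFmonic, derivative F, ⟨1, 0, 1, by ring⟩⟩
  have hmap : P.HasMap ω := ⟨h0, h1.isUnit⟩
  obtain ⟨i, e, he⟩ := exists_idx P.Ring (P.lift ω hmap)
  refine ⟨of i (algebraMap i.Ring (G i) (e P.X)), ?_⟩
  rw [ptInf_of, locPt_algebraMap]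
  have := DFunLike.congr_fun he P.X
  rw [P.lift_X] at this
  exact this

variable (R Ω) in
/-- The residue field of the limit ring is `Ω`. -/
noncomputable def residueEquivΩ [SepOver R Ω] : ResidueField (H R Ω) ≃+* Ω :=
  RingEquiv.ofBijective (ResidueField.lift (ptInfRingHom R : H R Ω →+* Ω))
    ⟨(ResidueField.lift (ptInfRingHom R : H R Ω →+* Ω)).injective, by
      intro ω
      obtain ⟨x, hx⟩ := ptInf_surjective_of_sepOver (R := R) ω
      exact ⟨residue _ x, by rw [ResidueField.lift_residue_apply]; exact hx⟩⟩

lemma residueEquivΩ_residue [SepOver R Ω] (x : H R Ω) :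
    residueEquivΩ R Ω (residue _ x) = ptInf x :=
  ResidueField.lift_residue_apply (ptInfRingHom R : H R Ω →+* Ω) x

end Groth.Agent.Lib.Helper37.Hz
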