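import Groth.Agent.Lib.Helper37.Hz1

/-!
# Henselization project, part 2: the small directed system of pointed étale algebras
-/

set_option autoImplicit false
universe u

namespace Groth.Agent.Lib.Helper37.Hz

open IsLocalRing TensorProduct

variable (R : Type u) [CommRing R] (Ω : Type u) [Field Ω] [Algebra R Ω]

/-- A small set of presented pointed étale algebras. -/
structure Idx : Type u where
  n : ℕ
  I : Ideal (MvPolynomial (Fin n) R)
  θ' : (MvPolynomial (Fin n) R ⧸ I) →ₐ[R] Ω
  etale' : Algebra.Etale R (MvPolynomial (Fin n) R ⧸ I)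

variable {R Ω}

/-- The étale algebra of an index. -/
def Idx.Ring (i : Idx R Ω) : Type u := MvPolynomial (Fin i.n) R ⧸ i.I

noncomputable instance (i : Idx R Ω) : CommRing i.Ring :=
  inferInstanceAs (CommRing (MvPolynomial (Fin i.n) R ⧸ i.I))

noncomputable instance (i : Idx R Ω) : Algebra R i.Ring :=
  inferInstanceAs (Algebra R (MvPolynomial (Fin i.n) R ⧸ i.I))

instance Idx.etale (i : Idx R Ω) : Algebra.Etale R i.Ring := i.etale'

/-- The point of an index. -/
def Idx.θ (i : Idx R Ω) : i.Ring →ₐ[R] Ω := i.θ'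

/-- The local ring of an index. -/
abbrev G (i : Idx R Ω) : Type u := LocPt i.θ

/-- Every pointed étale algebra is isomorphic to a presented one. -/
lemma exists_idx (C : Type u) [CommRing C] [Algebra R C] [Algebra.Etale R C] (θ : C →ₐ[R] Ω) :
    ∃ (i : Idx R Ω) (e : C ≃ₐ[R] i.Ring), i.θ.comp e.toAlgHom = θ := by
  obtain ⟨n, f, hf⟩ := Algebra.FiniteType.iff_quotient_mvPolynomial''.mp
    (inferInstance : Algebra.FiniteType R C)
  let e : C ≃ₐ[R] (MvPolynomial (Fin n) R ⧸ RingHom.ker f) :=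
    (Ideal.quotientKerAlgEquivOfSurjective hf).symm
  refine ⟨⟨n, RingHom.ker f, θ.comp e.symm.toAlgHom, Algebra.Etale.of_equiv e⟩, e, ?_⟩
  ext c
  change θ (e.symm (e c)) = θ c
  rw [AlgEquiv.symm_apply_apply]

instance : Preorder (Idx R Ω) where
  le i j := Nonempty (PtHom i.θ j.θ)
  le_refl i := ⟨PtHom.id _⟩
  le_trans _ _ _ := fun ⟨a⟩ ⟨b⟩ => ⟨b.comp a⟩

lemma Idx.le_def (i j : Idx R Ω) : i ≤ j ↔ Nonempty (PtHom i.θ j.θ) := Iff.rfl

/-- The transition maps. -/
noncomputable def trans (i j : Idx R Ω) (h : i ≤ j) : G i →ₐ[R] G j := (Classical.choice h).1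

lemma locPt_trans (i j : Idx R Ω) (h : i ≤ j) (x : G i) :
    locPt j.θ (trans i j h x) = locPt i.θ x :=
  (Classical.choice h).locPt_apply x

lemma trans_eq (i j : Idx R Ω) (h : i ≤ j) (φ : PtHom i.θ j.θ) : trans i j h = φ.1 :=
  congrArg Subtype.val (Subsingleton.elim (Classical.choice h) φ)

instance : DirectedSystem (G (R := R) (Ω := Ω)) (fun i j h => trans i j h) where
  map_self i x := by
    rw [trans_eq i i le_rfl (PtHom.id _)]
    rfl
  map_map k j i hij hjk x := by
    rw [trans_eq i k (hij.trans hjk) ((Classical.choice hjk).comp (Classical.choice hij))]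
    rfl

/-- From a pointed étale algebra to an index dominating a given one. -/
lemma exists_idx_ge {C : Type u} [CommRing C] [Algebra R C] [Algebra.Etale R C] (θ : C →ₐ[R] Ω)
    (i : Idx R Ω) (φ : PtHom i.θ θ) :
    ∃ (j : Idx R Ω) (hij : i ≤ j) (ψ : PtHom θ j.θ), ∀ x, trans i j hij x = ψ.1 (φ.1 x) := by
  obtain ⟨j, e, he⟩ := exists_idx C θ
  let ψ : PtHom θ j.θ := PtHom.ofAlgHom e.toAlgHom he
  have hij : i ≤ j := ⟨ψ.comp φ⟩
  refine ⟨j, hij, ψ, fun x => ?_⟩
  rw [trans_eq i j hij (ψ.comp φ)]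
  rfl

instance : IsDirectedOrder (Idx R Ω) where
  directed i j := by
    let C := i.Ring ⊗[R] j.Ring
    have : Algebra.Etale R C := by
      have : Algebra.Etale i.Ring C := inferInstance
      exact Algebra.Etale.comp R i.Ring C
    let θ : C →ₐ[R] Ω := Algebra.TensorProduct.productMap i.θ j.θ
    obtain ⟨k, e, he⟩ := exists_idx C θ
    refine ⟨k, ⟨PtHom.ofAlgHom (e.toAlgHom.comp Algebra.TensorProduct.includeLeft) ?_⟩,
      ⟨PtHom.ofAlgHom (e.toAlgHom.comp Algebra.TensorProduct.includeRight) ?_⟩⟩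
    · rw [← AlgHom.comp_assoc, he]
      exact Algebra.TensorProduct.productMap_left _ _
    · rw [← AlgHom.comp_assoc, he]
      exact Algebra.TensorProduct.productMap_right _ _

instance : Nonempty (Idx R Ω) := by
  obtain ⟨i, -, -⟩ := exists_idx R (Algebra.ofId R Ω)
  exact ⟨i⟩

end Groth.Agent.Lib.Helper37.Hz
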