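import Groth.Agent.Lib.Helper37.Hz18
import Groth.Agent.Lib.Helper89.NormalAlg
import Groth.Agent.Lib.Helper37.Hz6

/-!
# Henselization project, part 26: the limit ring of an integrally closed local domain is an
integrally closed domain

Uses Mathlib's `TensorProduct.toIntegralClosure_bijective_of_smooth` through helper89's wrappers
(`Lib/Helper89/NormalAlg`): a pointed étale algebra over an integrally closed domain can be refined
(inverting an idempotent) to an integrally closed domain; such stages are cofinal.
-/

set_option autoImplicit false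
universe u

namespace Groth.Agent.Lib.Helper37.Hz

open IsLocalRing TensorProduct Polynomial

section EtaleNormal

variable (R : Type u) [CommRing R] [IsDomain R] [IsIntegrallyClosed R]
variable (C : Type u) [CommRing C] [Algebra R C] [Algebra.Etale R C]

omit [IsDomain R] [IsIntegrallyClosed R] in
/-- an idempotent is integral -/
lemma isIntegral_of_isIdempotentElem {A B : Type*} [CommRing A] [CommRing B] [Algebra A B]
    {x : B} (hx : IsIdempotentElem x) : IsIntegral A x := by
  nontriviality A
  refine ⟨X ^ 2 - X, monic_X_pow_sub (by rw [degree_X]; norm_num), ?_⟩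
  simp only [eval₂_sub, eval₂_pow, eval₂_X]
  rw [pow_two, hx.eq, sub_self]

/-- Refinement of a pointed étale algebra over an integrally closed domain to one which is an
integrally closed domain. -/
theorem exists_away_isIntegrallyClosed {Ω : Type u} [Field Ω] [Algebra R Ω] (θ : C →ₐ[R] Ω) :
    ∃ c : C, θ c ≠ 0 ∧ ∃ _ : IsDomain (Localization.Away c),
      IsIntegrallyClosed (Localization.Away c) := by
  classical
  let K := FractionRing R
  let T := K ⊗[R] C
  have hT : Algebra.Etale K T := inferInstance
  obtain ⟨I, hI, F, hF, hFalg, e, hfin⟩ := (Algebra.Etale.iff_exists_algEquiv_prod K T).mp hT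
  cases nonempty_fintype I
  let ι : C →ₐ[R] T := Algebra.TensorProduct.includeRight
  have hι : Function.Injective ι :=
    Algebra.TensorProduct.includeRight_injective (IsFractionRing.injective R K)
  have hK : integralClosure R K = ⊥ := IsIntegrallyClosed.integralClosure_eq_bot R K
  have hlift : ∀ t : I, ∃ c : C, ι c = e.symm (Pi.single t 1) := by
    intro t
    set ε := e.symm (Pi.single t 1) with hε
    have hεid : IsIdempotentElem ε := by
      have h0 : IsIdempotentElem (Pi.single t (1 : F t) : Π i, F i) := by
        unfold IsIdempotentElem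
        rw [← Pi.single_mul, one_mul]
      exact h0.map e.symm
    let x : C ⊗[R] K := Algebra.TensorProduct.comm R K C ε
    have hx : IsIntegral C x :=
      isIntegral_of_isIdempotentElem (hεid.map (Algebra.TensorProduct.comm R K C))
    obtain ⟨c, hc⟩ := Groth.Agent.Lib.Helper89.NormalAlg.exists_of_isIntegral_tensor hK x hx
    refine ⟨c, ?_⟩
    have h1 : ι c = (Algebra.TensorProduct.comm R K C).symm (c ⊗ₜ[R] (1 : K)) := by
      simp only [ι, Algebra.TensorProduct.comm_symm_tmul]
      rfl
    rw [h1, hc]
    exact (Algebra.TensorProduct.comm R K C).symm_apply_apply ε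
  choose c hc using hlift
  have hsum : ∑ t, c t = 1 := by
    apply hι
    rw [map_sum, map_one]
    simp_rw [hc]
    rw [← map_sum]
    have h1 : (∑ t : I, (Pi.single t (1 : F t) : Π i, F i)) = 1 := Finset.univ_sum_single 1
    rw [h1, map_one]
  have hex : ∃ t, θ (c t) ≠ 0 := by
    by_contra h
    push Not at h
    have h0 : θ (∑ t, c t) = 0 := by
      rw [map_sum]
      exact Finset.sum_eq_zero (fun t _ => h t)
    rw [hsum, map_one] at h0
    exact one_ne_zero h0
  obtain ⟨t₀, ht₀⟩ := hex
  refine ⟨c t₀, ht₀, ?_⟩
  let π : C →+* F t₀ :=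
    (Pi.evalRingHom F t₀).comp ((e : T →+* Π i, F i).comp (ι : C →+* T))
  have hπ : ∀ x, π x = e (ι x) t₀ := fun x => rfl
  have hπc : π (c t₀) = 1 := by
    rw [hπ, hc, e.apply_symm_apply, Pi.single_eq_same]
  let π' : Localization.Away (c t₀) →+* F t₀ :=
    IsLocalization.Away.lift (c t₀) (g := π) (by rw [hπc]; exact isUnit_one)
  have hπ'alg : ∀ x : C, π' (algebraMap C _ x) = π x := fun x => IsLocalization.Away.lift_eq _ _ x
  have hπ' : Function.Injective π' := by
    rw [injective_iff_map_eq_zero]
    intro d hd
    obtain ⟨x, s, rfl⟩ := IsLocalization.exists_mk'_eq (Submonoid.powers (c t₀)) d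
    have h1 : π x = 0 := by
      have h2 := IsLocalization.mk'_spec (Localization.Away (c t₀)) x s
      have h3 := congrArg π' h2
      rw [map_mul, hd, zero_mul, hπ'alg] at h3
      exact h3.symm
    have h2 : x * c t₀ = 0 := by
      apply hι
      rw [map_mul, map_zero, hc]
      apply e.injective
      rw [map_mul, e.apply_symm_apply, map_zero]
      ext i
      by_cases hi : i = t₀
      · subst hi
        rw [Pi.mul_apply, Pi.single_eq_same, mul_one]
        exact h1
      · rw [Pi.mul_apply, Pi.single_eq_of_ne hi, mul_zero]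
        rfl
    rw [IsLocalization.mk'_eq_zero_iff]
    exact ⟨⟨c t₀, Submonoid.mem_powers _⟩, by rw [mul_comm]; exact h2⟩
  have hdom : IsDomain (Localization.Away (c t₀)) := Function.Injective.isDomain π' hπ'
  refine ⟨hdom, ?_⟩
  let _ : Algebra R (F t₀) := ((algebraMap K (F t₀)).comp (algebraMap R K)).toAlgebra
  have : IsScalarTower R K (F t₀) := IsScalarTower.of_algebraMap_eq (fun _ => rfl)
  let π'a : Localization.Away (c t₀) →ₐ[R] F t₀ :=
    { π' with
      commutes' := fun r => by
        change π' (algebraMap R (Localization.Away (c t₀)) r) = _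
        rw [IsScalarTower.algebraMap_apply R C (Localization.Away (c t₀)), hπ'alg, hπ]
        have h1 : ι (algebraMap R C r) = algebraMap K T (algebraMap R K r) := by
          rw [AlgHom.commutes, IsScalarTower.algebraMap_apply R K T]
        rw [h1, e.commutes]
        rfl }
  have hfinF : Module.Finite K (F t₀) := (hfin t₀).1
  have halg : Algebra.IsAlgebraic R (Localization.Away (c t₀)) := by
    constructor
    intro d
    rw [← isAlgebraic_algHom_iff π'a hπ', IsFractionRing.isAlgebraic_iff R K (F t₀)]
    exact Algebra.IsAlgebraic.isAlgebraic _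
  have hfaith : FaithfulSMul R (Localization.Away (c t₀)) := by
    rw [faithfulSMul_iff_algebraMap_injective]
    have h1 : Function.Injective (π'a ∘ algebraMap R (Localization.Away (c t₀))) := by
      have : (π'a ∘ algebraMap R (Localization.Away (c t₀))) = algebraMap R (F t₀) := by
        ext r
        exact π'a.commutes r
      rw [this]
      exact (algebraMap K (F t₀)).injective.comp (IsFractionRing.injective R K)
    exact Function.Injective.of_comp h1
  exact Groth.Agent.Lib.Helper89.NormalAlg.isIntegrallyClosed_of_smooth_of_isAlgebraic R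
    (Localization.Away (c t₀))

end EtaleNormal

section Union

variable {R : Type u} [CommRing R] [IsLocalRing R] [IsDomain R] [IsIntegrallyClosed R]
  {Ω : Type u} [Field Ω] [Algebra R Ω] [IsLocalHom (algebraMap R Ω)]

/-- Indices whose ring is an integrally closed domain. -/
def Good (j : Idx R Ω) : Prop := ∃ _ : IsDomain j.Ring, IsIntegrallyClosed j.Ring

omit [IsLocalRing R] [IsLocalHom (algebraMap R Ω)] in
lemma exists_good_ge (i : Idx R Ω) : ∃ j, i ≤ j ∧ Good j := by
  obtain ⟨c, hc, hdom, hic⟩ := exists_away_isIntegrallyClosed R i.Ring i.θ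
  let θD : Localization.Away c →ₐ[R] Ω :=
    IsLocalization.Away.liftAlgHom (S := Localization.Away c) (f := i.θ) c hc.isUnit
  have hθD : θD.comp (IsScalarTower.toAlgHom R i.Ring (Localization.Away c)) = i.θ := by
    ext x
    simp [θD]
  obtain ⟨j, e, he⟩ := exists_idx (Localization.Away c) θD
  refine ⟨j, ⟨(PtHom.ofAlgHom e.toAlgHom he).comp
    (PtHom.ofAlgHom (IsScalarTower.toAlgHom R i.Ring (Localization.Away c)) hθD)⟩, ?_⟩
  have hd : IsDomain j.Ring := e.symm.toMulEquiv.isDomain
  exact ⟨hd, IsIntegrallyClosed.of_equiv e.toRingEquiv⟩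

omit [IsLocalRing R] [IsDomain R] [IsIntegrallyClosed R] [IsLocalHom (algebraMap R Ω)] in
lemma Good.isDomain_G {j : Idx R Ω} (h : Good j) : IsDomain (G j) := by
  obtain ⟨hd, -⟩ := h
  exact IsLocalization.isDomain_of_le_nonZeroDivisors (M := (ptKer j.θ).primeCompl) _
    (Ideal.primeCompl_le_nonZeroDivisors _)

omit [IsLocalRing R] [IsDomain R] [IsIntegrallyClosed R] [IsLocalHom (algebraMap R Ω)] in
lemma Good.isIntegrallyClosed_G {j : Idx R Ω} (h : Good j) : IsIntegrallyClosed (G j) := by
  obtain ⟨hd, hic⟩ := h
  exact isIntegrallyClosed_of_isLocalization (G j) (ptKer j.θ).primeCompl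
    (Ideal.primeCompl_le_nonZeroDivisors _)

variable [SepOver R Ω]

omit [IsDomain R] [IsIntegrallyClosed R] in
lemma of_injective (j : Idx R Ω) : Function.Injective (of j : G j →ₐ[R] H R Ω) := by
  let _ : Algebra (G j) (H R Ω) := (of j : G j →+* H R Ω).toAlgebra
  have : Module.FaithfullyFlat (G j) (H R Ω) := faithfullyFlat_of j
  exact FaithfulSMul.algebraMap_injective (G j) (H R Ω)

/-- The limit ring of an integrally closed local domain is a domain. -/
theorem isDomain_H : IsDomain (H R Ω) := by
  have : NoZeroDivisors (H R Ω) := by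
    constructor
    intro x y hxy
    obtain ⟨i, z, hz⟩ := exists_of_finite (R := R) (Ω := Ω) (fun b : Bool => if b then x else y)
    obtain ⟨j, hij, hj⟩ := exists_good_ge i
    have := hj.isDomain_G
    have hx' : of j (trans i j hij (z true)) = x := by rw [of_trans]; exact hz true
    have hy' : of j (trans i j hij (z false)) = y := by rw [of_trans]; exact hz false
    have h0 : of j (trans i j hij (z true) * trans i j hij (z false)) = of j 0 := by
      rw [map_mul, hx', hy', hxy, map_zero]
    rcases mul_eq_zero.mp (of_injective j h0) with h | h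
    · left; rw [← hx', h, map_zero]
    · right; rw [← hy', h, map_zero]
  exact NoZeroDivisors.to_isDomain _

/-- The limit ring of an integrally closed local domain is integrally closed. -/
theorem isIntegrallyClosed_H : ∃ _ : IsDomain (H R Ω), IsIntegrallyClosed (H R Ω) := by
  have hdom : IsDomain (H R Ω) := isDomain_H
  refine ⟨hdom, ?_⟩
  rw [isIntegrallyClosed_iff (FractionRing (H R Ω))]
  intro x hx
  obtain ⟨p, hp, hpx⟩ := hx
  obtain ⟨a, b, hb, rfl⟩ := IsFractionRing.div_surjective (A := H R Ω) x
  obtain ⟨i₁, hi₁⟩ := exists_mem_lifts p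
  obtain ⟨i₂, z, hz⟩ := exists_of_finite (R := R) (Ω := Ω) (fun t : Bool => if t then a else b)
  obtain ⟨i, h1i, h2i⟩ := exists_ge_ge i₁ i₂
  obtain ⟨j, hij, hj⟩ := exists_good_ge i
  have hdj := hj.isDomain_G
  have hicj := hj.isIntegrallyClosed_G
  have hpj := lifts_of_mono (h1i.trans hij) hi₁
  obtain ⟨q, hqmap, -, hqmonic⟩ := lifts_and_degree_eq_and_monic hpj hp
  set aj : G j := trans i₂ j (h2i.trans hij) (z true) with haj
  set bj : G j := trans i₂ j (h2i.trans hij) (z false) with hbj
  have ha' : of j aj = a := by rw [haj, of_trans]; exact hz true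
  have hb' : of j bj = b := by rw [hbj, of_trans]; exact hz false
  let g : G j →+* FractionRing (H R Ω) :=
    (algebraMap (H R Ω) (FractionRing (H R Ω))).comp (of j : G j →+* H R Ω)
  have hg : Function.Injective g :=
    (IsFractionRing.injective (H R Ω) (FractionRing (H R Ω))).comp (of_injective j)
  let φ : FractionRing (G j) →+* FractionRing (H R Ω) := IsFractionRing.lift hg
  have hφ : ∀ y : G j, φ (algebraMap (G j) (FractionRing (G j)) y) =
      algebraMap (H R Ω) (FractionRing (H R Ω)) (of j y) := fun y => IsFractionRing.lift_algebraMap hg y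
  set xj : FractionRing (G j) :=
    algebraMap (G j) (FractionRing (G j)) aj / algebraMap (G j) (FractionRing (G j)) bj with hxj
  have hφx : φ xj = algebraMap (H R Ω) (FractionRing (H R Ω)) a /
      algebraMap (H R Ω) (FractionRing (H R Ω)) b := by
    rw [hxj, map_div₀, hφ, hφ, ha', hb']
  have hint : IsIntegral (G j) xj := by
    refine ⟨q, hqmonic, ?_⟩
    apply φ.injective
    rw [map_zero, Polynomial.hom_eval₂, hφx]
    have h1 : φ.comp (algebraMap (G j) (FractionRing (G j))) =
        (algebraMap (H R Ω) (FractionRing (H R Ω))).comp (of j : G j →+* H R Ω) := by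
      ext y
      exact hφ y
    rw [h1, ← Polynomial.eval₂_map, hqmap]
    exact hpx
  obtain ⟨y, hy⟩ := (isIntegrallyClosed_iff (FractionRing (G j))).mp hicj hint
  refine ⟨of j y, ?_⟩
  rw [← hφx, ← hy, hφ]

end Union

end Groth.Agent.Lib.Helper37.Hz
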