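import Groth.Agent.Lib.Helper37.Hz26
import Groth.Agent.Lib.Helper37.Hz13

/-!
# Henselization project, part 27: normality of (strict) henselizations
-/

set_option autoImplicit false
universe u

namespace Groth.Agent.Lib.Helper37.Hz

open IsLocalRing Polynomial

/-- Normality descends along faithfully flat maps. -/
theorem isIntegrallyClosed_of_faithfullyFlat (A B : Type*) [CommRing A] [CommRing B] [Algebra A B]
    [Module.FaithfullyFlat A B] [IsDomain B] [IsIntegrallyClosed B] :
    ∃ _ : IsDomain A, IsIntegrallyClosed A := by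
  have hinj : Function.Injective (algebraMap A B) := FaithfulSMul.algebraMap_injective A B
  have hdom : IsDomain A := Function.Injective.isDomain (algebraMap A B) hinj
  refine ⟨hdom, ?_⟩
  rw [isIntegrallyClosed_iff (FractionRing A)]
  intro x hx
  obtain ⟨p, hp, hpx⟩ := hx
  obtain ⟨a, b, hb, rfl⟩ := IsFractionRing.div_surjective (A := A) x
  let g : A →+* FractionRing B := (algebraMap B (FractionRing B)).comp (algebraMap A B)
  have hg : Function.Injective g := (IsFractionRing.injective B (FractionRing B)).comp hinj
  let φ : FractionRing A →+* FractionRing B := IsFractionRing.lift hg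
  have hφ : ∀ y : A, φ (algebraMap A (FractionRing A) y) =
      algebraMap B (FractionRing B) (algebraMap A B y) := fun y => IsFractionRing.lift_algebraMap hg y
  have hint : IsIntegral B (algebraMap B (FractionRing B) (algebraMap A B a) /
      algebraMap B (FractionRing B) (algebraMap A B b)) := by
    refine ⟨p.map (algebraMap A B), hp.map _, ?_⟩
    rw [Polynomial.eval₂_map, ← hφ, ← hφ, ← map_div₀]
    have h1 : (algebraMap B (FractionRing B)).comp (algebraMap A B) =
        φ.comp (algebraMap A (FractionRing A)) := by
      ext y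
      exact (hφ y).symm
    rw [h1, ← Polynomial.hom_eval₂, hpx, map_zero]
  obtain ⟨z, hz⟩ := (isIntegrallyClosed_iff (FractionRing B)).mp inferInstance hint
  have hb0 : algebraMap B (FractionRing B) (algebraMap A B b) ≠ 0 := by
    intro h0
    have : g b = g 0 := by rw [map_zero]; exact h0
    exact nonZeroDivisors.ne_zero hb (hg this)
  have h2 : algebraMap A B a = algebraMap A B b * z := by
    apply IsFractionRing.injective B (FractionRing B)
    rw [map_mul, hz, mul_div_cancel₀ _ hb0]
  have h3 : a ∈ ((Ideal.span {b}).map (algebraMap A B)).comap (algebraMap A B) := by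
    rw [Ideal.mem_comap, Ideal.map_span, Set.image_singleton, h2]
    exact Ideal.mul_mem_right _ _ (Ideal.subset_span rfl)
  rw [Ideal.comap_map_eq_self_of_faithfullyFlat, Ideal.mem_span_singleton'] at h3
  obtain ⟨y, hy⟩ := h3
  refine ⟨y, ?_⟩
  have hb1 : algebraMap A (FractionRing A) b ≠ 0 := by
    intro h0
    exact nonZeroDivisors.ne_zero hb
      (IsFractionRing.injective A (FractionRing A) (h0.trans (map_zero _).symm))
  rw [eq_div_iff hb1, ← map_mul, hy]

section Transfer

variable (R : Type u) [CommRing R] [IsLocalRing R]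
variable (S : Type u) [CommRing S] [IsLocalRing S] [Algebra R S] [IsLocalHom (algebraMap R S)]

omit [IsLocalRing S] [IsLocalHom (algebraMap R S)] in
theorem normal_of_algEquiv {Ω : Type u} [Field Ω] [Algebra R Ω] [IsLocalHom (algebraMap R Ω)]
    [SepOver R Ω] [Module.FaithfullyFlat R S] (e : S ≃ₐ[R] H R Ω) :
    (IsDomain R ∧ IsIntegrallyClosed R) ↔ (IsDomain S ∧ IsIntegrallyClosed S) := by
  constructor
  · rintro ⟨hd, hic⟩
    obtain ⟨hdH, hicH⟩ := isIntegrallyClosed_H (R := R) (Ω := Ω)
    have hdS : IsDomain S := e.toMulEquiv.isDomain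
    exact ⟨hdS, IsIntegrallyClosed.of_equiv e.symm.toRingEquiv⟩
  · rintro ⟨hd, hic⟩
    obtain ⟨h1, h2⟩ := isIntegrallyClosed_of_faithfullyFlat R S
    exact ⟨h1, h2⟩

theorem normal_iff_of_isHenselization [Hensel.IsHenselization R S] :
    (IsDomain R ∧ IsIntegrallyClosed R) ↔ (IsDomain S ∧ IsIntegrallyClosed S) := by
  have := faithfullyFlat_of_isHenselization R S
  obtain ⟨e⟩ := nonempty_algEquiv_Hens R S
  exact normal_of_algEquiv R S e

theorem normal_iff_of_isStrictHenselization [Hensel.IsStrictHenselization R S] :
    (IsDomain R ∧ IsIntegrallyClosed R) ↔ (IsDomain S ∧ IsIntegrallyClosed S) := by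
  have := faithfullyFlat_of_isStrictHenselization R S
  obtain ⟨e⟩ := nonempty_algEquiv_SHens R S
  exact normal_of_algEquiv R S e

end Transfer

end Groth.Agent.Lib.Helper37.Hz
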