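import Groth.Agent.Lib.Helper37.Hz27

/-!
# Henselization project, part 28: recognising (strict) henselizations of an intermediate local ring

Abstract lemmas: if `P → D → Sh` are local homomorphisms of local rings, `Sh` is a (strict)
henselization of `P`, and ring maps out of `Sh` that are compatible over `P` are automatically
compatible over `D`, then `Sh` is a (strict) henselization of `D`.
-/

set_option autoImplicit false
universe u

namespace Groth.Agent.Lib.Helper37.Hz

open IsLocalRing

/-- A ring map out of a local ring `B` with `𝔪_A B = 𝔪_B` is local as soon as its restriction to `A`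
is local. -/
theorem isLocalHom_of_map_maximalIdeal_eq {A B C : Type*} [CommRing A] [IsLocalRing A]
    [CommRing B] [IsLocalRing B] [CommRing C] [IsLocalRing C] (i : A →+* B)
    (hi : (maximalIdeal A).map i = maximalIdeal B) (g : B →+* C) (h : IsLocalHom (g.comp i)) :
    IsLocalHom g := by
  refine ((local_hom_TFAE g).out 2 0).mp ?_
  rw [← hi, Ideal.map_map]
  exact ((local_hom_TFAE (g.comp i)).out 0 2).mp h

/-- A ring map out of `R_p` into a local ring is local as soon as it sends `p` into the maximal
ideal. -/
theorem isLocalHom_of_atPrime {R C : Type*} [CommRing R] (p : Ideal R) [p.IsPrime]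
    [CommRing C] [IsLocalRing C] (h : Localization.AtPrime p →+* C)
    (hp : ∀ r ∈ p, h (algebraMap R (Localization.AtPrime p) r) ∈ maximalIdeal C) :
    IsLocalHom h := by
  refine ((local_hom_TFAE h).out 2 0).mp ?_
  rw [← Localization.AtPrime.map_eq_maximalIdeal, Ideal.map_map, Ideal.map_le_iff_le_comap]
  intro r hr
  exact hp r hr

section Hens

variable (P D Sh : Type u) [CommRing P] [IsLocalRing P] [CommRing D] [IsLocalRing D]
  [CommRing Sh] [IsLocalRing Sh] [Algebra P D] [Algebra D Sh] [Algebra P Sh] [IsScalarTower P D Sh]
  [IsLocalHom (algebraMap P D)] [IsLocalHom (algebraMap D Sh)] [IsLocalHom (algebraMap P Sh)]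

/-- Recognition of a henselization of an intermediate local ring. -/
theorem isHenselization_of_tower [hS : Hensel.IsHenselization P Sh]
    (H : ∀ (T : Type u) [CommRing T] [HenselianLocalRing T] (f : D →+* T), IsLocalHom f →
      ∀ g : Sh →+* T, g.comp (algebraMap P Sh) = f.comp (algebraMap P D) →
        g.comp (algebraMap D Sh) = f) :
    Hensel.IsHenselization D Sh where
  henselian := hS.henselian
  universal T _ _ f hf := by
    have hloc : IsLocalHom (f.comp (algebraMap P D)) := RingHom.isLocalHom_comp _ _
    obtain ⟨g, hg, huniq⟩ := hS.universal T (f.comp (algebraMap P D)) hloc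
    refine ⟨g, H T f hf g hg, ?_⟩
    intro g' hg'
    refine huniq g' ?_
    change g'.comp (algebraMap P Sh) = _
    rw [IsScalarTower.algebraMap_eq P D Sh, ← RingHom.comp_assoc, hg']

/-- Recognition of a strict henselization of an intermediate local ring. -/
theorem isStrictHenselization_of_tower [hS : Hensel.IsStrictHenselization P Sh]
    (H : ∀ (T : Type u) [CommRing T] [HenselianLocalRing T] (f : D →+* T) [IsLocalHom f]
      (τ : ResidueField Sh →+* ResidueField T),
      τ.comp (ResidueField.map (algebraMap D Sh)) = ResidueField.map f →
      ∀ g : Sh →+* T, g.comp (algebraMap P Sh) = f.comp (algebraMap P D) →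
        (∀ x : Sh, residue T (g x) = τ (residue Sh x)) →
        g.comp (algebraMap D Sh) = f) :
    Hensel.IsStrictHenselization D Sh where
  henselian := hS.henselian
  isSepClosure := by
    have := hS.isSepClosure
    have : IsScalarTower (ResidueField P) (ResidueField D) (ResidueField Sh) := by
      refine IsScalarTower.of_algebraMap_eq' ?_
      change ResidueField.map (algebraMap P Sh) =
        (ResidueField.map (algebraMap D Sh)).comp (ResidueField.map (algebraMap P D))
      rw [← ResidueField.map_comp]
      congr 1
      exact IsScalarTower.algebraMap_eq P D Sh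
    have : Algebra.IsSeparable (ResidueField P) (ResidueField Sh) := IsSepClosure.separable
    exact ⟨IsSepClosure.sep_closed (ResidueField P), 
      Algebra.isSeparable_tower_top_of_isSeparable (ResidueField P) (ResidueField D)
        (ResidueField Sh)⟩
  universal T _ _ f _ τ hτ := by
    have hloc : IsLocalHom (f.comp (algebraMap P D)) := RingHom.isLocalHom_comp _ _
    have hτ' : τ.comp (ResidueField.map (algebraMap P Sh)) =
        ResidueField.map (f.comp (algebraMap P D)) := by
      have h1 : ResidueField.map (algebraMap P Sh) =
          (ResidueField.map (algebraMap D Sh)).comp (ResidueField.map (algebraMap P D)) := by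
        rw [← ResidueField.map_comp]
        congr 1
        exact IsScalarTower.algebraMap_eq P D Sh
      rw [h1, ← RingHom.comp_assoc, hτ, ← ResidueField.map_comp]
    obtain ⟨g, ⟨hg1, hg2⟩, huniq⟩ := hS.universal T (f.comp (algebraMap P D)) τ hτ'
    refine ⟨g, ⟨H T f τ hτ g hg1 hg2, hg2⟩, ?_⟩
    rintro g' ⟨hg1', hg2'⟩
    refine huniq g' ⟨?_, hg2'⟩
    change g'.comp (algebraMap P Sh) = _
    rw [IsScalarTower.algebraMap_eq P D Sh, ← RingHom.comp_assoc, hg1']

end Hens

end Groth.Agent.Lib.Helper37.Hz
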