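import Groth.Agent.Lib.Helper37.Hz28

/-!
# Henselization project, part 29: `S^h` as a (strict) henselization of `(R^h ⊗_R S)_Q`

Setup: `R → S` a ring map, `q` over `p`, `Rh` a local `R_p`-algebra with `𝔪_{R_p} Rh = 𝔪_{Rh}`,
`Sh` a local `S_q`-algebra, and compatible maps.  We make `Sh` an algebra over `D = (Rh ⊗_R S)_Q`
and record the diagram chases common to the henselization and strict henselization statements.
-/

set_option autoImplicit false
universe u

namespace Groth.Agent.Lib.Helper37.Hz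

open IsLocalRing TensorProduct

namespace TensLoc

variable (R : Type u) [CommRing R] (S : Type u) [CommRing S] [Algebra R S]
  (p : Ideal R) [p.IsPrime] (q : Ideal S) [q.IsPrime] [q.LiesOver p]
  (Rh : Type u) [CommRing Rh] [IsLocalRing Rh] [Algebra (Localization.AtPrime p) Rh]
  [IsLocalHom (algebraMap (Localization.AtPrime p) Rh)]
  [Algebra R Rh] [IsScalarTower R (Localization.AtPrime p) Rh]
  (Sh : Type u) [CommRing Sh] [IsLocalRing Sh] [Algebra (Localization.AtPrime q) Sh]
  [IsLocalHom (algebraMap (Localization.AtPrime q) Sh)]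
  [Algebra S Sh] [IsScalarTower S (Localization.AtPrime q) Sh] [Algebra R Sh] [IsScalarTower R S Sh]
  [Algebra Rh Sh] [IsScalarTower R Rh Sh]

/-- The canonical map `Rh ⊗_R S → Sh`. -/
noncomputable abbrev φ : Rh ⊗[R] S →ₐ[R] Sh :=
  Algebra.TensorProduct.lift (IsScalarTower.toAlgHom R Rh Sh) (IsScalarTower.toAlgHom R S Sh)
    (fun _ _ => Commute.all _ _)

/-- The prime `Q`. -/
noncomputable abbrev Q : Ideal (Rh ⊗[R] S) := Ideal.comap (φ R S Rh Sh) (maximalIdeal Sh)

/-- The local ring `D = (Rh ⊗_R S)_Q`. -/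
abbrev D : Type u := Localization.AtPrime (Q R S Rh Sh)

lemma φ_tmul (a : Rh) (b : S) : φ R S Rh Sh (a ⊗ₜ b) = algebraMap Rh Sh a * algebraMap S Sh b := by
  simp [φ]

lemma isUnit_φ (y : (Q R S Rh Sh).primeCompl) : IsUnit (φ R S Rh Sh y) := by
  have h : (y : Rh ⊗[R] S) ∉ Q R S Rh Sh := y.2
  rw [Ideal.mem_comap, mem_maximalIdeal, mem_nonunits_iff, not_not] at h
  exact h

/-- The map `D → Sh`. -/
noncomputable def toSh : D R S Rh Sh →+* Sh :=
  IsLocalization.lift (M := (Q R S Rh Sh).primeCompl) (g := (φ R S Rh Sh : Rh ⊗[R] S →+* Sh))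
    (isUnit_φ R S Rh Sh)

lemma toSh_algebraMap (d : Rh ⊗[R] S) :
    toSh R S Rh Sh (algebraMap (Rh ⊗[R] S) (D R S Rh Sh) d) = φ R S Rh Sh d :=
  IsLocalization.lift_eq _ d

lemma isLocalHom_toSh : IsLocalHom (toSh R S Rh Sh) := by
  refine isLocalHom_of_atPrime (Q R S Rh Sh) (toSh R S Rh Sh) ?_
  intro r hr
  rw [toSh_algebraMap]
  exact hr

/-- The inclusion `S → Rh ⊗_R S` as a ring map. -/
noncomputable abbrev incR : S →+* Rh ⊗[R] S :=
  (Algebra.TensorProduct.includeRight : S →ₐ[R] Rh ⊗[R] S).toRingHom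

/-- The inclusion `Rh → Rh ⊗_R S` as a ring map. -/
noncomputable abbrev incL : Rh →+* Rh ⊗[R] S :=
  (Algebra.TensorProduct.includeLeft : Rh →ₐ[R] Rh ⊗[R] S).toRingHom

lemma incR_apply (b : S) : incR R S Rh b = (1 : Rh) ⊗ₜ[R] b := rfl

lemma incL_apply (a : Rh) : incL R S Rh a = a ⊗ₜ[R] (1 : S) := rfl

include q in
omit [q.LiesOver p] in
lemma comap_Q : q = (Q R S Rh Sh).comap (incR R S Rh) := by
  ext b
  rw [Ideal.mem_comap, Ideal.mem_comap, incR_apply, φ_tmul, map_one, one_mul,
    IsScalarTower.algebraMap_apply S (Localization.AtPrime q) Sh,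
    ← Ideal.mem_comap (f := algebraMap (Localization.AtPrime q) Sh),
    IsLocalRing.maximalIdeal_comap, IsLocalization.AtPrime.to_map_mem_maximal_iff _ q]

/-- The map `S_q → D`. -/
noncomputable def fromSq : Localization.AtPrime q →+* D R S Rh Sh :=
  Localization.localRingHom q (Q R S Rh Sh) (incR R S Rh) (comap_Q R S q Rh Sh)

lemma fromSq_algebraMap (b : S) :
    fromSq R S q Rh Sh (algebraMap S (Localization.AtPrime q) b) =
      algebraMap (Rh ⊗[R] S) (D R S Rh Sh) ((1 : Rh) ⊗ₜ[R] b) :=
  Localization.localRingHom_to_map _ _ _ _ b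

lemma isLocalHom_fromSq : IsLocalHom (fromSq R S q Rh Sh) :=
  Localization.isLocalHom_localRingHom _ _ _ _

lemma toSh_comp_fromSq :
    (toSh R S Rh Sh).comp (fromSq R S q Rh Sh) = algebraMap (Localization.AtPrime q) Sh := by
  refine IsLocalization.ringHom_ext q.primeCompl ?_
  ext b
  simp only [RingHom.coe_comp, Function.comp_apply]
  rw [fromSq_algebraMap, toSh_algebraMap, φ_tmul, map_one, one_mul,
    ← IsScalarTower.algebraMap_apply S (Localization.AtPrime q) Sh]

/-- The map `Rh → D`. -/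
noncomputable def fromRh : Rh →+* D R S Rh Sh :=
  (algebraMap (Rh ⊗[R] S) (D R S Rh Sh)).comp (incL R S Rh)

lemma fromRh_apply (a : Rh) :
    fromRh R S Rh Sh a = algebraMap (Rh ⊗[R] S) (D R S Rh Sh) (a ⊗ₜ[R] (1 : S)) := rfl

lemma fromRh_algebraMap (r : R) :
    fromRh R S Rh Sh (algebraMap R Rh r) =
      fromSq R S q Rh Sh (algebraMap S (Localization.AtPrime q) (algebraMap R S r)) := by
  rw [fromRh_apply, fromSq_algebraMap]
  congr 1
  rw [Algebra.algebraMap_eq_smul_one, Algebra.algebraMap_eq_smul_one, TensorProduct.smul_tmul]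

lemma toSh_comp_fromRh : (toSh R S Rh Sh).comp (fromRh R S Rh Sh) = algebraMap Rh Sh := by
  ext a
  simp only [RingHom.coe_comp, Function.comp_apply]
  rw [fromRh_apply, toSh_algebraMap, φ_tmul, map_one, mul_one]

variable (hRh : (maximalIdeal (Localization.AtPrime p)).map (algebraMap (Localization.AtPrime p) Rh)
  = maximalIdeal Rh)

include hRh q in
lemma isLocalHom_fromRh : IsLocalHom (fromRh R S Rh Sh) := by
  refine isLocalHom_of_map_maximalIdeal_eq (algebraMap (Localization.AtPrime p) Rh) hRh _ ?_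
  refine isLocalHom_of_atPrime p _ ?_
  intro r hr
  rw [RingHom.comp_apply, ← IsScalarTower.algebraMap_apply R (Localization.AtPrime p) Rh,
    fromRh_algebraMap R S q]
  have := isLocalHom_fromSq R S q Rh Sh
  refine map_nonunit (fromSq R S q Rh Sh) _ ?_
  change _ ∈ maximalIdeal _
  rw [IsLocalization.AtPrime.to_map_mem_maximal_iff _ q]
  have : q.comap (algebraMap R S) = p := (Ideal.over_def q p).symm
  rw [← this] at hr
  exact hr

/-- The key reduction: a ring map `g` out of `Sh` and a ring map `f` out of `D` agree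
(`g ∘ toSh = f`) as soon as they agree on `S_q` and on `Rh`. -/
lemma comp_toSh_eq {T : Type*} [CommRing T] (f : D R S Rh Sh →+* T) (g : Sh →+* T)
    (h1 : g.comp (algebraMap (Localization.AtPrime q) Sh) = f.comp (fromSq R S q Rh Sh))
    (h2 : g.comp (algebraMap Rh Sh) = f.comp (fromRh R S Rh Sh)) :
    g.comp (toSh R S Rh Sh) = f := by
  refine IsLocalization.ringHom_ext (Q R S Rh Sh).primeCompl (RingHom.ext fun d => ?_)
  simp only [RingHom.coe_comp, Function.comp_apply]
  rw [toSh_algebraMap]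
  induction d using TensorProduct.induction_on with
  | zero => simp
  | add x y hx hy => rw [map_add, map_add, map_add, map_add, hx, hy]
  | tmul a b =>
    have e : a ⊗ₜ[R] b = (a ⊗ₜ[R] (1 : S)) * ((1 : Rh) ⊗ₜ[R] b) := by
      rw [Algebra.TensorProduct.tmul_mul_tmul, mul_one, one_mul]
    rw [φ_tmul, map_mul, e, map_mul, map_mul]
    congr 1
    · exact RingHom.congr_fun h2 a
    · have := RingHom.congr_fun h1 (algebraMap S (Localization.AtPrime q) b)
      simp only [RingHom.coe_comp, Function.comp_apply] at this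
      rw [fromSq_algebraMap, ← IsScalarTower.algebraMap_apply S (Localization.AtPrime q) Sh] at this
      exact this

omit [q.LiesOver p] [IsLocalHom (algebraMap (Localization.AtPrime p) Rh)] in
/-- Compatibility over `R_p` follows from compatibility over `S_q`. -/
lemma comp_algebraMap_eq {T : Type*} [CommRing T] (f : D R S Rh Sh →+* T) (g : Sh →+* T)
    (h1 : g.comp (algebraMap (Localization.AtPrime q) Sh) = f.comp (fromSq R S q Rh Sh)) :
    (g.comp (algebraMap Rh Sh)).comp (algebraMap (Localization.AtPrime p) Rh) =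
      (f.comp (fromRh R S Rh Sh)).comp (algebraMap (Localization.AtPrime p) Rh) := by
  refine IsLocalization.ringHom_ext p.primeCompl ?_
  ext r
  simp only [RingHom.coe_comp, Function.comp_apply]
  rw [← IsScalarTower.algebraMap_apply R (Localization.AtPrime p) Rh, fromRh_algebraMap R S q,
    ← IsScalarTower.algebraMap_apply R Rh Sh, IsScalarTower.algebraMap_apply R S Sh,
    IsScalarTower.algebraMap_apply S (Localization.AtPrime q) Sh]
  exact RingHom.congr_fun h1 _

end TensLoc

end Groth.Agent.Lib.Helper37.Hz
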