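import Groth.Agent.Lib.Helper37.Hz2

/-!
# Henselization project, part 3: the direct limit
-/

set_option autoImplicit false
universe u

namespace Groth.Agent.Lib.Helper37.Hz

open IsLocalRing TensorProduct

variable (R : Type u) [CommRing R] (Ω : Type u) [Field Ω] [Algebra R Ω]

/-- The limit ring: the direct limit of the local rings of all pointed étale algebras. -/
def H : Type u := DirectLimit (G (R := R) (Ω := Ω)) (fun i j h => trans i j h)

noncomputable instance instCommRingH : CommRing (H R Ω) :=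
  inferInstanceAs (CommRing (DirectLimit (G (R := R) (Ω := Ω)) (fun i j h => trans i j h)))

noncomputable instance instAlgebraH : Algebra R (H R Ω) :=
  inferInstanceAs (Algebra R (DirectLimit (G (R := R) (Ω := Ω)) (fun i j h => trans i j h)))

instance instNontrivialH : Nontrivial (H R Ω) :=
  inferInstanceAs (Nontrivial (DirectLimit (G (R := R) (Ω := Ω)) (fun i j h => trans i j h)))

variable {R Ω}

/-- The canonical maps. -/
noncomputable def of (i : Idx R Ω) : G i →ₐ[R] H R Ω :=
  DirectLimit.Algebra.of (R := R) (G (R := R) (Ω := Ω)) (fun i j h => trans i j h) i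

lemma of_trans (i j : Idx R Ω) (h : i ≤ j) (x : G i) : of j (trans i j h x) = of i x :=
  DirectLimit.Algebra.of_f (R := R) (G := G (R := R) (Ω := Ω)) (f := fun i j h => trans i j h) h x

lemma exists_of (x : H R Ω) : ∃ (i : Idx R Ω) (y : G i), of i y = x := by
  obtain ⟨i, y, rfl⟩ := DirectLimit.exists_eq_mk (f := fun i j h => trans (R := R) (Ω := Ω) i j h) x
  exact ⟨i, y, rfl⟩

lemma of_eq_of_iff {i j : Idx R Ω} (x : G i) (y : G j) :
    of i x = of j y ↔ ∃ (k : Idx R Ω) (hik : i ≤ k) (hjk : j ≤ k), trans i k hik x = trans j k hjk y :=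
  Quotient.eq

lemma of_eq_zero_iff {i : Idx R Ω} (x : G i) :
    of i x = 0 ↔ ∃ (k : Idx R Ω) (hik : i ≤ k), trans i k hik x = 0 := by
  rw [← map_zero (of i), of_eq_of_iff]
  constructor
  · rintro ⟨k, hik, hik', h⟩
    exact ⟨k, hik, by rw [h, map_zero]⟩
  · rintro ⟨k, hik, h⟩
    exact ⟨k, hik, hik, by rw [h, map_zero]⟩

/-- A finite family of elements comes from a common stage. -/
lemma exists_of_finite {ι' : Type*} [Finite ι'] (x : ι' → H R Ω) :
    ∃ (i : Idx R Ω) (y : ι' → G i), ∀ k, of i (y k) = x k := by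
  classical
  cases nonempty_fintype ι'
  choose i₀ y₀ hy₀ using fun k => exists_of (x k)
  obtain ⟨M, hM⟩ := Finset.exists_le (Finset.univ.image i₀)
  have hM' : ∀ k, i₀ k ≤ M := fun k => hM _ (Finset.mem_image_of_mem _ (Finset.mem_univ k))
  exact ⟨M, fun k => trans (i₀ k) M (hM' k) (y₀ k), fun k => by rw [of_trans, hy₀]⟩

/-- The point of the limit ring. -/
noncomputable def ptInf : H R Ω →ₐ[R] Ω :=
  DirectLimit.Algebra.lift (R := R) (G (R := R) (Ω := Ω)) (fun i j h => trans i j h) Ω
    (fun i => locPt i.θ) (fun i j hij x => locPt_trans i j hij x)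

@[simp] lemma ptInf_of (i : Idx R Ω) (x : G i) : ptInf (of i x) = locPt i.θ x := rfl

lemma isUnit_iff_ptInf_ne_zero (x : H R Ω) : IsUnit x ↔ ptInf x ≠ 0 := by
  constructor
  · intro h
    exact (h.map ptInf).ne_zero
  · intro h
    obtain ⟨i, y, rfl⟩ := exists_of x
    rw [ptInf_of, ← isUnit_iff_locPt_ne_zero] at h
    exact h.map (of i)

instance : IsLocalRing (H R Ω) := by
  apply IsLocalRing.of_isUnit_or_isUnit_one_sub_self
  intro a
  obtain ⟨i, y, rfl⟩ := exists_of a
  rcases IsLocalRing.isUnit_or_isUnit_one_sub_self y with h | h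
  · exact Or.inl (h.map (of i))
  · right
    have := h.map (of i)
    rwa [map_sub, map_one] at this

lemma ptInf_eq_zero_iff (x : H R Ω) : ptInf x = 0 ↔ x ∈ maximalIdeal (H R Ω) := by
  rw [mem_maximalIdeal, mem_nonunits_iff, isUnit_iff_ptInf_ne_zero, not_not]

lemma ker_ptInf : RingHom.ker (ptInf : H R Ω →ₐ[R] Ω) = maximalIdeal (H R Ω) := by
  ext x
  rw [RingHom.mem_ker, ptInf_eq_zero_iff]

instance isLocalHom_of (i : Idx R Ω) : IsLocalHom (of i : G i →+* H R Ω) := by
  constructor
  intro x hx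
  have hx' : IsUnit (of i x) := hx
  rw [isUnit_iff_ptInf_ne_zero, ptInf_of] at hx'
  exact (isUnit_iff_locPt_ne_zero _ x).mpr hx'

lemma of_mem_maximalIdeal_iff (i : Idx R Ω) (x : G i) :
    of i x ∈ maximalIdeal (H R Ω) ↔ x ∈ maximalIdeal (G i) := by
  rw [← ptInf_eq_zero_iff, ptInf_of, locPt_eq_zero_iff]

section Local

variable [IsLocalRing R] [IsLocalHom (algebraMap R Ω)]

instance isLocalHom_algebraMap_H : IsLocalHom (algebraMap R (H R Ω)) := by
  constructor
  intro r hr
  rw [isUnit_iff_ptInf_ne_zero, AlgHom.commutes] at hr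
  exact isUnit_of_map_unit (algebraMap R Ω) r (Ne.isUnit hr)

lemma map_maximalIdeal_H :
    (maximalIdeal R).map (algebraMap R (H R Ω)) = maximalIdeal (H R Ω) := by
  apply le_antisymm
  · exact IsLocalRing.map_maximalIdeal_le (algebraMap R (H R Ω))  -- placeholder name
  · intro x hx
    obtain ⟨i, y, rfl⟩ := exists_of x
    rw [of_mem_maximalIdeal_iff, ← map_maximalIdeal_locPt] at hx
    have h1 : of i y ∈ ((maximalIdeal R).map (algebraMap R (G i))).map (of i : G i →+* H R Ω) :=
      Ideal.mem_map_of_mem _ hx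
    rw [Ideal.map_map] at h1
    have h2 : (of i : G i →+* H R Ω).comp (algebraMap R (G i)) = algebraMap R (H R Ω) :=
      (of i).comp_algebraMap
    rwa [h2] at h1

end Local

end Groth.Agent.Lib.Helper37.Hz
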