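import Groth.Agent.Lib.Helper37.Hz31

/-!
# Henselization project, part 32: minimal primes along (faithfully) flat maps, and the map from the
henselization to the completion

* `comap_mem_minimalPrimes_of_hasGoingDown`
* `exists_minimalPrimes_comap_eq_of_faithfullyFlat`
* `flat_completion_of_isHenselization`: `A^h → Â` is flat.
-/

set_option autoImplicit false
universe u

namespace Groth.Agent.Lib.Helper37.Hz

open IsLocalRing

/-- Under going-down, minimal primes contract to minimal primes. -/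
theorem comap_mem_minimalPrimes_of_hasGoingDown {A B : Type*} [CommRing A] [CommRing B]
    [Algebra A B] [Algebra.HasGoingDown A B] {Q : Ideal B} (hQ : Q ∈ minimalPrimes B) :
    Q.comap (algebraMap A B) ∈ minimalPrimes A := by
  haveI : Q.IsPrime := hQ.1.1
  refine ⟨⟨inferInstance, bot_le⟩, ?_⟩
  rintro P' ⟨hP', -⟩ hle
  by_contra hnot
  have hlt : P' < Q.comap (algebraMap A B) := lt_of_le_not_ge hle hnot
  haveI : Q.LiesOver (Q.comap (algebraMap A B)) := ⟨rfl⟩
  obtain ⟨Q', hQ'lt, hQ'prime, -⟩ :=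
    Ideal.exists_ideal_lt_liesOver_of_lt (p := P') (q := Q.comap (algebraMap A B)) Q hlt
  exact (not_le_of_gt hQ'lt) (hQ.2 ⟨hQ'prime, bot_le⟩ hQ'lt.le)

/-- For a faithfully flat algebra, every minimal prime is the contraction of a minimal prime. -/
theorem exists_minimalPrimes_comap_eq_of_faithfullyFlat {A B : Type*} [CommRing A] [CommRing B]
    [Algebra A B] [Module.FaithfullyFlat A B] {P : Ideal A} (hP : P ∈ minimalPrimes A) :
    ∃ Q ∈ minimalPrimes B, Q.comap (algebraMap A B) = P := by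
  haveI : P.IsPrime := hP.1.1
  obtain ⟨⟨Q₀, hQ₀⟩, hQ₀P⟩ :=
    PrimeSpectrum.comap_surjective_of_faithfullyFlat (A := A) (B := B) ⟨P, inferInstance⟩
  have hQ₀P' : Q₀.comap (algebraMap A B) = P := congrArg PrimeSpectrum.asIdeal hQ₀P
  obtain ⟨Q, hQ, hQle⟩ := Ideal.exists_minimalPrimes_le (I := ⊥) (J := Q₀) bot_le
  haveI : Q.IsPrime := hQ.1.1
  refine ⟨Q, hQ, ?_⟩
  have h1 : Q.comap (algebraMap A B) ≤ P := hQ₀P' ▸ Ideal.comap_mono hQle
  exact le_antisymm h1 (hP.2 ⟨inferInstance, bot_le⟩ h1)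

end Groth.Agent.Lib.Helper37.Hz
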