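import Groth.Agent.Lib.Helper37.Hz32
import Groth.Agent.S4366

/-!
# Henselization project, part 33: weakly étale morphisms of schemes from weakly étale algebras
-/

set_option autoImplicit false
universe u
open AlgebraicGeometry CategoryTheory CategoryTheory.Limits

namespace Groth.Agent.Lib.Helper37.Hz

/-- `Spec` of a weakly étale algebra is a weakly étale morphism. -/
theorem weaklyEtale_SpecMap (A R : Type u) [CommRing A] [CommRing R] [Algebra A R]
    [hW : Algebra.WeaklyEtale A R] :
    WeaklyEtale (Spec.map (CommRingCat.ofHom (algebraMap A R))) where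
  flat := by
    rw [Flat.SpecMap_iff]
    exact RingHom.flat_algebraMap_iff.mpr inferInstance
  flat_diagonal := by
    rw [diagonal_SpecMap]
    have : Flat (Spec.map (CommRingCat.ofHom
        (Algebra.TensorProduct.lmul' A : TensorProduct A R R →ₐ[A] R).toRingHom)) := by
      rw [Flat.SpecMap_iff]
      exact Algebra.WeaklyEtale.flat_lmul' A R
    infer_instance

/-- The canonical morphism `Spec O_{X,x} ⟶ X` is weakly étale. -/
theorem weaklyEtale_fromSpecStalk (X : Scheme.{u}) (x : X) : WeaklyEtale (X.fromSpecStalk x) where
  flat := Groth.Agent.S4366.flat_fromSpecStalk X x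
  flat_diagonal := by
    infer_instance

end Groth.Agent.Lib.Helper37.Hz
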