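import Groth.Agent.Lib.Helper37.Hz33
import Groth.Agent.Lib.Helper4.HenselCoreflection
import Groth.Agent.Lib.Helper15.IndEtFibre

/-!
# Henselization project, part 34: lifting along ind-étale algebras and recognition of
(strict) henselizations

* `existsUnique_lift_of_hasFactorization`: for `D` ind-étale over `B` and `T` a henselian local
  `B`-algebra, `Hom_B(D, T) → Hom_B(D, κ(T))` is bijective (via helper4's coreflection library).
* `isStrictHenselization_of_hasFactorization`, `isHenselization_of_hasFactorization`.
* `isSeparable_residueField_of_hasFactorization`.
-/

set_option autoImplicit false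
universe u

open IsLocalRing

namespace Groth.Agent.Lib.Helper37.Hz


open Groth.Agent.Lib.Helper4 in
/-- **Lifting along ind-étale algebras into henselian local rings.** -/
theorem existsUnique_lift_of_hasFactorization {B D T : Type u} [CommRing B] [CommRing D]
    [Algebra B D] [CommRing T] [HenselianLocalRing T] [Algebra B T]
    (hD : HasFactorization (etaleClass B) D) (φ : D →ₐ[B] ResidueField T) :
    ∃! ψ : D →ₐ[B] T, ∀ d, residue T (ψ d) = φ d := by
  let u : T →ₐ[B] ResidueField T := IsScalarTower.toAlgHom B T (ResidueField T)
  have hu : Function.Surjective u := residue_surjective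
  have hku : RingHom.ker u.toRingHom = maximalIdeal T := ker_residue
  obtain ⟨τ, hτ⟩ := exists_lift_of_hasFactorization φ hD
  refine ⟨(ρS u hu hku).comp τ, fun d => ?_, fun ψ' hψ' => ?_⟩
  · have h1 : u.comp ((ρS u hu hku).comp τ) = φ := by
      rw [← AlgHom.comp_assoc, u_ρS, hτ]
    exact congrArg (fun m => m d) h1
  · apply hom_henselian_ext u hku D hD
    have h1 : u.comp ((ρS u hu hku).comp τ) = φ := by
      rw [← AlgHom.comp_assoc, u_ρS, hτ]
    rw [h1]
    ext d
    exact hψ' d



section Recognition

open Groth.Agent.Lib.Helper4

variable (B D : Type u) [CommRing B] [IsLocalRing B] [CommRing D] [IsLocalRing D] [Algebra B D]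
  [IsLocalHom (algebraMap B D)]

/-- **Recognition of strict henselizations**: a henselian local ring `D`, ind-étale over the local
ring `B` (local structure map), whose residue field is a separable closure of that of `B`, is a
strict henselization of `B`. -/
theorem isStrictHenselization_of_hasFactorization (hD : HasFactorization (etaleClass B) D)
    (hh : HenselianLocalRing D)
    (hsep : IsSepClosure (ResidueField B) (ResidueField D)) :
    Hensel.IsStrictHenselization B D where
  henselian := hh
  isSepClosure := hsep
  universal T _ _ f _ τ hτ := by
    letI : Algebra B T := f.toAlgebra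
    let φ : D →ₐ[B] ResidueField T :=
      { toRingHom := τ.comp (residue D)
        commutes' := fun b => by
          have h1 := RingHom.congr_fun hτ (residue B b)
          simp only [RingHom.comp_apply, ResidueField.map_residue] at h1
          exact h1 }
    obtain ⟨ψ, hψ, huniq⟩ := existsUnique_lift_of_hasFactorization hD φ
    refine ⟨ψ.toRingHom, ⟨?_, fun x => hψ x⟩, ?_⟩
    · ext b
      exact ψ.commutes b
    · rintro g' ⟨hg1, hg2⟩
      let ψ' : D →ₐ[B] T := { toRingHom := g', commutes' := fun b => RingHom.congr_fun hg1 b }
      have := huniq ψ' (fun d => hg2 d)
      rw [← this]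

/-- **Recognition of henselizations**: a henselian local ring `D`, ind-étale over the local
ring `B` (local structure map), with `𝔪_B D = 𝔪_D` and the same residue field, is a henselization
of `B`. -/
theorem isHenselization_of_hasFactorization (hD : HasFactorization (etaleClass B) D)
    (hh : HenselianLocalRing D)
    (hmax : (maximalIdeal B).map (algebraMap B D) = maximalIdeal D)
    (hres : Function.Surjective (ResidueField.map (algebraMap B D))) :
    Hensel.IsHenselization B D where
  henselian := hh
  universal T _ _ f hf := by
    letI : Algebra B T := f.toAlgebra
    haveI : IsLocalHom (algebraMap B T) := hf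
    have hbij : Function.Bijective (ResidueField.map (algebraMap B D)) :=
      ⟨(ResidueField.map (algebraMap B D)).injective, hres⟩
    let σ : ResidueField B ≃+* ResidueField D := RingEquiv.ofBijective _ hbij
    let φ : D →ₐ[B] ResidueField T :=
      { toRingHom := ((ResidueField.map f).comp (σ.symm : ResidueField D →+* ResidueField B)).comp
          (residue D)
        commutes' := fun b => by
          change ResidueField.map f (σ.symm (residue D (algebraMap B D b))) = _
          have h1 : residue D (algebraMap B D b) = σ (residue B b) := rfl
          rw [h1, RingEquiv.symm_apply_apply, ResidueField.map_residue]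
          rfl }
    obtain ⟨ψ, hψ, huniq⟩ := existsUnique_lift_of_hasFactorization hD φ
    refine ⟨ψ.toRingHom, ?_, ?_⟩
    · ext b
      exact ψ.commutes b
    · intro g' hg1
      let ψ' : D →ₐ[B] T := { toRingHom := g', commutes' := fun b => RingHom.congr_fun hg1 b }
      have hloc : IsLocalHom g' :=
        isLocalHom_of_map_maximalIdeal_eq (algebraMap B D) hmax g' (by rw [hg1]; exact hf)
      have := huniq ψ' (fun d => by
        obtain ⟨z, hz⟩ := hres (residue D d)
        obtain ⟨b, rfl⟩ := residue_surjective z
        rw [ResidueField.map_residue] at hz
        have h2 : residue T (g' d) = residue T (g' (algebraMap B D b)) := by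
          have h3 : d - algebraMap B D b ∈ maximalIdeal D := by
            rw [← residue_eq_zero_iff, map_sub, hz, sub_self]
          have h4 : g' (d - algebraMap B D b) ∈ maximalIdeal T := by
            rw [mem_maximalIdeal, mem_nonunits_iff] at h3 ⊢
            exact fun hu => h3 (isUnit_of_map_unit g' _ hu)
          rw [← residue_eq_zero_iff, map_sub, map_sub, sub_eq_zero] at h4
          exact h4
        change residue T (g' d) = φ d
        rw [h2]
        have h5 : g' (algebraMap B D b) = f b := RingHom.congr_fun hg1 b
        rw [h5]
        change _ = ResidueField.map f (σ.symm (residue D d))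
        rw [← hz]
        have h1 : residue D (algebraMap B D b) = σ (residue B b) := rfl
        rw [h1, RingEquiv.symm_apply_apply, ResidueField.map_residue])
      rw [← this]





/-- The residue field extension of a local ind-étale algebra is separable (algebraic). -/
theorem isSeparable_residueField_of_hasFactorization (hD : HasFactorization (etaleClass B) D) :
    Algebra.IsSeparable (ResidueField B) (ResidueField D) := by
  have hfac := Groth.Agent.Lib.Helper15.IndEtFibre.exists_etale_factor'
    ((isIndEtale_iff_hasFactorization D).mpr hD)
  have hp : maximalIdeal B = (maximalIdeal D).comap (algebraMap B D) :=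
    (maximalIdeal D).over_def (maximalIdeal B)
  have h0 := Groth.Agent.Lib.Helper15.IndEtFibre.isSeparable_residueField hfac
    (maximalIdeal B) (maximalIdeal D) hp
  let _ := Localization.AtPrime.algebraOfLiesOver (maximalIdeal B) (maximalIdeal D)
  have h1 : Algebra.IsSeparable (maximalIdeal B).ResidueField (maximalIdeal D).ResidueField := by
    convert h0 using 1
    apply Algebra.algebra_ext
    intro r
    rfl
  exact inferInstanceAs (Algebra.IsSeparable (B ⧸ maximalIdeal B) (D ⧸ maximalIdeal D))


end Recognition

end Groth.Agent.Lib.Helper37.Hz
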