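import Groth.Agent.Lib.Helper37.Hz34
import Groth.Agent.Lib.Helper37.HenselPi
import Groth.Agent.S0733

/-!
# Henselization project, part 35: strict henselization of a finite local algebra

For a finite local `A`-algebra `B`, the strict henselization of `B` is a localization of
`B ⊗_A A^sh` at a maximal ideal.
-/

set_option autoImplicit false
universe u

open IsLocalRing TensorProduct

namespace Groth.Agent.Lib.Helper37.Hz


/-- A factor of a finite product of local rings is the localization of the product at the
corresponding maximal ideal. -/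
theorem isLocalization_pi_eval {C : Type*} [CommRing C] {ι : Type*} [Fintype ι] [DecidableEq ι]
    (A : ι → Type*) [∀ i, CommRing (A i)] [∀ i, IsLocalRing (A i)] (e : C ≃+* (∀ i, A i)) (i₀ : ι) :
    letI : Algebra C (A i₀) := ((Pi.evalRingHom A i₀).comp (e : C →+* (∀ i, A i))).toAlgebra
    IsLocalization.AtPrime (A i₀)
      ((maximalIdeal (A i₀)).comap ((Pi.evalRingHom A i₀).comp (e : C →+* (∀ i, A i)))) := by
  letI : Algebra C (A i₀) := ((Pi.evalRingHom A i₀).comp (e : C →+* (∀ i, A i))).toAlgebra
  have hπ : ∀ c : C, algebraMap C (A i₀) c = e c i₀ := fun c => rfl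
  refine ⟨?_, ?_, ?_⟩
  · rintro ⟨y, hy⟩
    have : y ∉ (maximalIdeal (A i₀)).comap ((Pi.evalRingHom A i₀).comp (e : C →+* (∀ i, A i))) := hy
    rw [Ideal.mem_comap, mem_maximalIdeal, mem_nonunits_iff, not_not] at this
    exact this
  · intro z
    refine ⟨(e.symm (Pi.single i₀ z), 1), ?_⟩
    simp only [OneMemClass.coe_one, map_one, mul_one]
    rw [hπ, RingEquiv.apply_symm_apply, Pi.single_eq_same]
  · intro x y hxy
    rw [hπ, hπ] at hxy
    have hε : e.symm (Pi.single i₀ 1) ∈
        ((maximalIdeal (A i₀)).comap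
          ((Pi.evalRingHom A i₀).comp (e : C →+* (∀ i, A i)))).primeCompl := by
      change e.symm (Pi.single i₀ 1) ∉ (Ideal.comap ((Pi.evalRingHom A i₀).comp
        (e : C →+* (∀ i, A i))) (maximalIdeal (A i₀)))
      rw [Ideal.mem_comap, mem_maximalIdeal, mem_nonunits_iff, not_not]
      change IsUnit (e (e.symm (Pi.single i₀ 1)) i₀)
      rw [RingEquiv.apply_symm_apply, Pi.single_eq_same]
      exact isUnit_one
    refine ⟨⟨_, hε⟩, ?_⟩
    apply e.injective
    rw [map_mul, map_mul, RingEquiv.apply_symm_apply]
    funext i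
    by_cases hi : i = i₀
    · subst hi
      simp only [Pi.mul_apply, Pi.single_eq_same, one_mul]
      exact hxy
    · simp only [Pi.mul_apply, Pi.single_eq_of_ne hi, zero_mul]



namespace FinTens

attribute [local instance] Algebra.TensorProduct.rightAlgebra

/-- `B ⊗_A S` is a finite `S`-module (right structure) when `B` is finite over `A`. -/
lemma finite_right (A B S : Type*) [CommRing A] [CommRing B] [CommRing S] [Algebra A B]
    [Algebra A S] [Module.Finite A B] : Module.Finite S (B ⊗[A] S) := by
  let f : S ⊗[A] B →ₗ[S] B ⊗[A] S :=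
    { toFun := TensorProduct.comm A S B
      map_add' := map_add _
      map_smul' := fun s x => by
        simp only [RingHom.id_apply]
        induction x using TensorProduct.induction_on with
        | zero => simp
        | add x y hx hy => rw [smul_add, map_add, map_add, smul_add, hx, hy]
        | tmul s' b =>
          rw [TensorProduct.smul_tmul', TensorProduct.comm_tmul, TensorProduct.comm_tmul,
            smul_eq_mul]
          have h1 : s • (b ⊗ₜ[A] s') = (1 : B) ⊗ₜ[A] s * (b ⊗ₜ[A] s') := Algebra.smul_def s _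
          rw [h1, Algebra.TensorProduct.tmul_mul_tmul, one_mul] }
  exact Module.Finite.of_surjective f (TensorProduct.comm A S B).surjective

end FinTens



namespace FinTens

open Groth.Agent.Lib.Helper4

attribute [local instance] Algebra.TensorProduct.rightAlgebra

variable (A B S T : Type u) [CommRing A] [IsLocalRing A] [CommRing B] [IsLocalRing B] [Algebra A B]
  [Module.Finite A B]
  [CommRing S] [IsLocalRing S] [Algebra A S] [IsLocalHom (algebraMap A S)]
  [hS : Hensel.IsStrictHenselization A S]
  [CommRing T] [IsLocalRing T] [Algebra B T] [IsLocalHom (algebraMap B T)]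
  [hT : Hensel.IsStrictHenselization B T]

include hS hT in
/-- For a finite local `A`-algebra `B`, a strict henselization `S` of `A` and a strict henselization
`T` of `B`: `T` is `B`-isomorphic to the localization of `B ⊗_A S` at some maximal ideal. -/
theorem exists_algEquiv_localization :
    ∃ (q : Ideal (B ⊗[A] S)) (_ : q.IsMaximal), Nonempty (Localization.AtPrime q ≃ₐ[B] T) := by
  classical
  haveI hSh : HenselianLocalRing S := hS.henselian
  haveI : Module.Finite S (B ⊗[A] S) := finite_right A B S
  haveI : Module.FaithfullyFlat A S := faithfullyFlat_of_isStrictHenselization A S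
  haveI : Nontrivial (B ⊗[A] S) := Module.FaithfullyFlat.rTensor_nontrivial A S B
  obtain ⟨ι, _, Ai, _, hloc, ⟨e⟩⟩ :=
    Groth.Agent.Lib.Helper37.exists_pi_isLocalRing_of_finite S (B ⊗[A] S)
  haveI := hloc
  haveI : Nonempty ι := by
    by_contra hne
    rw [not_nonempty_iff] at hne
    exact not_subsingleton (B ⊗[A] S) e.injective.subsingleton
  obtain ⟨i₀⟩ := ‹Nonempty ι›
  -- the projection to the chosen factor
  let π : B ⊗[A] S →+* Ai i₀ := (Pi.evalRingHom Ai i₀).comp (e : B ⊗[A] S →+* (∀ i, Ai i))
  have hπsurj : Function.Surjective π :=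
    (Function.surjective_eval i₀).comp e.surjective
  letI algC : Algebra (B ⊗[A] S) (Ai i₀) := π.toAlgebra
  let q : Ideal (B ⊗[A] S) := (maximalIdeal (Ai i₀)).comap π
  haveI hqmax : q.IsMaximal := Ideal.comap_isMaximal_of_surjective π hπsurj
  haveI hlocz : IsLocalization.AtPrime (Ai i₀) q := isLocalization_pi_eval Ai e i₀
  -- algebra structures on the factor
  letI algB : Algebra B (Ai i₀) := (π.comp (algebraMap B (B ⊗[A] S))).toAlgebra
  haveI towB : IsScalarTower B (B ⊗[A] S) (Ai i₀) := IsScalarTower.of_algebraMap_eq' rfl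
  letI algS : Algebra S (Ai i₀) := (π.comp (algebraMap S (B ⊗[A] S))).toAlgebra
  haveI towS : IsScalarTower S (B ⊗[A] S) (Ai i₀) := IsScalarTower.of_algebraMap_eq' rfl
  haveI finS : Module.Finite S (Ai i₀) :=
    Module.Finite.of_surjective (IsScalarTower.toAlgHom S (B ⊗[A] S) (Ai i₀)).toLinearMap hπsurj
  -- henselian
  haveI hAih : HenselianLocalRing (Ai i₀) :=
    Groth.Agent.Lib.Helper37.henselianLocalRing_of_finite S (Ai i₀)
  -- `S → Ai` is local
  haveI hSloc : IsLocalHom (algebraMap S (Ai i₀)) := by
    refine ((local_hom_TFAE _).out 4 0).mp ?_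
    haveI : Algebra.IsIntegral S (Ai i₀) := Algebra.IsIntegral.of_finite S (Ai i₀)
    have hmax : ((maximalIdeal (Ai i₀)).comap (algebraMap S (Ai i₀))).IsMaximal :=
      Ideal.isMaximal_comap_of_isIntegral_of_isMaximal (R := S) _
    exact IsLocalRing.eq_maximalIdeal hmax
  -- `B → Ai` is local
  haveI hBloc : IsLocalHom (algebraMap B (Ai i₀)) := by
    refine ((local_hom_TFAE _).out 4 0).mp ?_
    have hcomm : (algebraMap B (Ai i₀)).comp (algebraMap A B) =
        (algebraMap S (Ai i₀)).comp (algebraMap A S) := by
      ext a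
      change π (algebraMap B (B ⊗[A] S) (algebraMap A B a)) =
        π (algebraMap S (B ⊗[A] S) (algebraMap A S a))
      rw [IntTens.algebraMap_comm A B S a]
    have h1 : ((maximalIdeal (Ai i₀)).comap (algebraMap B (Ai i₀))).comap (algebraMap A B) =
        maximalIdeal A := by
      rw [Ideal.comap_comap, hcomm, ← Ideal.comap_comap, maximalIdeal_comap (algebraMap S (Ai i₀)),
        maximalIdeal_comap (algebraMap A S)]
    haveI : Algebra.IsIntegral A B := Algebra.IsIntegral.of_finite A B
    have hmax : ((maximalIdeal (Ai i₀)).comap (algebraMap B (Ai i₀))).IsMaximal :=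
      Ideal.isMaximal_of_isIntegral_of_isMaximal_comap (R := A) _
        (h1 ▸ maximalIdeal.isMaximal A)
    exact IsLocalRing.eq_maximalIdeal hmax
  -- ind-étale
  have hAS : EtPBC.IsIndEtale A S := isIndEtale_of_isStrictHenselization A S
  have hBC : EtPBC.IsIndEtale B (B ⊗[A] S) := Groth.Agent.S0733.result A S B hAS
  have hCD : HasFactorization (etaleClass (B ⊗[A] S)) (Ai i₀) :=
    hasFactorization_of_isLocalization (B ⊗[A] S) q.primeCompl (Ai i₀)
  have hfact : HasFactorization (etaleClass B) (Ai i₀) :=
    hasFactorization_trans B (B ⊗[A] S) (Ai i₀) hBC hCD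
  -- residue field
  haveI : IsSepClosed (ResidueField S) := hS.isSepClosure.sep_closed
  haveI : Algebra.IsAlgebraic (ResidueField S) (ResidueField (Ai i₀)) :=
    Algebra.IsAlgebraic.of_finite _ _
  have hsc : IsSepClosed (ResidueField (Ai i₀)) :=
    Algebra.IsAlgebraic.isSepClosed (F := ResidueField S)
  have hsep := isSeparable_residueField_of_hasFactorization B (Ai i₀) hfact
  have hSH : Hensel.IsStrictHenselization B (Ai i₀) :=
    isStrictHenselization_of_hasFactorization B (Ai i₀) hfact hAih ⟨hsc, hsep⟩
  obtain ⟨e1⟩ := nonempty_algEquiv_SHens B T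
  obtain ⟨e2⟩ := nonempty_algEquiv_SHens B (Ai i₀)
  let e3 : Localization.AtPrime q ≃ₐ[B ⊗[A] S] Ai i₀ :=
    IsLocalization.algEquiv q.primeCompl _ _
  exact ⟨q, hqmax, ⟨(e3.restrictScalars B).trans (e2.trans e1.symm)⟩⟩

end FinTens


end Groth.Agent.Lib.Helper37.Hz
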