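import Groth.Agent.Lib.Helper37.Hz35

/-!
# Henselization project, part 36: the henselization of `R_p` as the colimit of étale `R`-algebras
with a point over `p` with trivial residue field extension (uses helper4's coreflection library)
-/

set_option autoImplicit false
universe u

open IsLocalRing TensorProduct

namespace Groth.Agent.Lib.Helper37.Hz


namespace Pairs

/-- Surjectivity of `κ(p) → κ(q)` in terms of elements. -/
theorem residueField_map_surjective_iff {R S : Type*} [CommRing R] [CommRing S] [Algebra R S]
    (p : Ideal R) [p.IsPrime] (q : Ideal S) [q.IsPrime] (hq : p = q.comap (algebraMap R S)) :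
    Function.Surjective (Ideal.ResidueField.map p q (algebraMap R S) hq) ↔
      ∀ a : S, ∃ r s : R, s ∉ p ∧ algebraMap R S s * a - algebraMap R S r ∈ q := by
  constructor
  · intro hsurj a
    obtain ⟨z, hz⟩ := hsurj (algebraMap S q.ResidueField a)
    obtain ⟨r, s, hs, rfl⟩ := IsFractionRing.div_surjective (A := R ⧸ p) z
    obtain ⟨r, rfl⟩ := Ideal.Quotient.mk_surjective r
    obtain ⟨s, rfl⟩ := Ideal.Quotient.mk_surjective s
    have hs0 : algebraMap (R ⧸ p) p.ResidueField (Ideal.Quotient.mk p s) ≠ 0 := by
      intro h0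
      exact (nonZeroDivisors.ne_zero hs)
        ((IsFractionRing.injective (R ⧸ p) p.ResidueField) (by rw [h0, map_zero]))
    have hsp : s ∉ p := by
      intro hsp
      apply nonZeroDivisors.ne_zero hs
      exact Ideal.Quotient.eq_zero_iff_mem.mpr hsp
    refine ⟨r, s, hsp, ?_⟩
    rw [← Ideal.algebraMap_residueField_eq_zero, map_sub, map_mul, ← hz, sub_eq_zero]
    rw [Ideal.algebraMap_quotient_residueField_mk, Ideal.algebraMap_quotient_residueField_mk] at *
    rw [map_div₀, Ideal.ResidueField.map_algebraMap, Ideal.ResidueField.map_algebraMap]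
    have h1 : algebraMap S q.ResidueField (algebraMap R S s) ≠ 0 := by
      rw [← Ideal.ResidueField.map_algebraMap p q (algebraMap R S) hq]
      exact (map_ne_zero _).mpr hs0
    field_simp
  · intro h z
    have key : ∀ a : S, algebraMap S q.ResidueField a ∈
        (Ideal.ResidueField.map p q (algebraMap R S) hq).fieldRange := by
      intro a
      obtain ⟨r, s, hsp, hrs⟩ := h a
      rw [← Ideal.algebraMap_residueField_eq_zero, map_sub, map_mul, sub_eq_zero] at hrs
      have hs0 : algebraMap S q.ResidueField (algebraMap R S s) ≠ 0 := by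
        rw [Ne, Ideal.algebraMap_residueField_eq_zero]
        intro hmem
        apply hsp
        rw [hq]
        exact hmem
      have h2 : algebraMap S q.ResidueField a =
          algebraMap S q.ResidueField (algebraMap R S r) /
            algebraMap S q.ResidueField (algebraMap R S s) := by
        rw [eq_div_iff hs0, mul_comm]
        exact hrs
      rw [h2, ← Ideal.ResidueField.map_algebraMap p q (algebraMap R S) hq,
        ← Ideal.ResidueField.map_algebraMap p q (algebraMap R S) hq]
      exact div_mem ⟨_, rfl⟩ ⟨_, rfl⟩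
    obtain ⟨a, b, hb, rfl⟩ := IsFractionRing.div_surjective (A := S ⧸ q) z
    obtain ⟨a, rfl⟩ := Ideal.Quotient.mk_surjective a
    obtain ⟨b, rfl⟩ := Ideal.Quotient.mk_surjective b
    rw [Ideal.algebraMap_quotient_residueField_mk, Ideal.algebraMap_quotient_residueField_mk]
    have := div_mem (key a) (key b)
    obtain ⟨w, hw⟩ := this
    exact ⟨w, hw⟩

end Pairs



namespace Pairs

open Groth.Agent.Lib.Helper4

variable (R : Type u) [CommRing R] (p : Ideal R) [p.IsPrime] (Rh : Type u) [CommRing Rh]
  [IsLocalRing Rh] [Algebra (Localization.AtPrime p) Rh]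
  [IsLocalHom (algebraMap (Localization.AtPrime p) Rh)]
  [hH : Hensel.IsHenselization (Localization.AtPrime p) Rh] [Algebra R Rh]
  [IsScalarTower R (Localization.AtPrime p) Rh]

omit hH in
lemma comap_maximalIdeal : (maximalIdeal Rh).comap (algebraMap R Rh) = p := by
  rw [IsScalarTower.algebraMap_eq R (Localization.AtPrime p) Rh, ← Ideal.comap_comap,
    maximalIdeal_comap (algebraMap (Localization.AtPrime p) Rh)]
  exact IsLocalization.AtPrime.comap_maximalIdeal (Localization.AtPrime p) p

include hH in
lemma exists_approx (x : Rh) :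
    ∃ r s : R, s ∉ p ∧ algebraMap R Rh s * x - algebraMap R Rh r ∈ maximalIdeal Rh := by
  obtain ⟨y, hy⟩ := exists_sub_mem_maximalIdeal_of_isHenselization (Localization.AtPrime p) Rh x
  obtain ⟨r, s, rfl⟩ := IsLocalization.exists_mk'_eq p.primeCompl y
  refine ⟨r, s, s.2, ?_⟩
  have h1 : algebraMap R Rh s * x - algebraMap R Rh r =
      algebraMap R Rh s * (x - algebraMap (Localization.AtPrime p) Rh
        (IsLocalization.mk' (Localization.AtPrime p) r s)) := by
    rw [mul_sub, IsScalarTower.algebraMap_apply R (Localization.AtPrime p) Rh,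
      IsScalarTower.algebraMap_apply R (Localization.AtPrime p) Rh, ← map_mul,
      IsLocalization.mul_mk'_eq_mk'_of_mul, IsLocalization.mk'_mul_cancel_left]
  rw [h1]
  exact Ideal.mul_mem_left _ _ hy

variable {S : Type u} [CommRing S] [Algebra R S] (f : S →ₐ[R] Rh)

omit hH in
lemma comap_comap_eq :
    p = ((maximalIdeal Rh).comap f.toRingHom).comap (algebraMap R S) := by
  rw [Ideal.comap_comap, AlgHom.toRingHom_eq_coe, AlgHom.comp_algebraMap,
    comap_maximalIdeal R p Rh]

include hH in
lemma residueField_map_bijective :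
    Function.Bijective (Ideal.ResidueField.map p ((maximalIdeal Rh).comap f.toRingHom)
      (algebraMap R S) (comap_comap_eq R p Rh f)) := by
  refine ⟨RingHom.injective _, ?_⟩
  rw [residueField_map_surjective_iff]
  intro a
  obtain ⟨r, s, hs, hrs⟩ := exists_approx R p Rh (f a)
  refine ⟨r, s, hs, ?_⟩
  rw [Ideal.mem_comap]
  simpa using hrs

end Pairs



namespace Pairs

open Groth.Agent.Lib.Helper4

variable (R : Type u) [CommRing R] (p : Ideal R) [p.IsPrime] (Rh : Type u) [CommRing Rh]
  [IsLocalRing Rh] [Algebra (Localization.AtPrime p) Rh]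
  [IsLocalHom (algebraMap (Localization.AtPrime p) Rh)]
  [hH : Hensel.IsHenselization (Localization.AtPrime p) Rh] [Algebra R Rh]
  [IsScalarTower R (Localization.AtPrime p) Rh]

include hH in
lemma hasFactorization : HasFactorization (etaleClass R) Rh := by
  have h1 : EtPBC.IsIndEtale R (Localization.AtPrime p) :=
    (isIndEtale_iff_hasFactorization _).mpr
      (hasFactorization_of_isLocalization R p.primeCompl (Localization.AtPrime p))
  have h2 : HasFactorization (etaleClass (Localization.AtPrime p)) Rh :=
    (isIndEtale_iff_hasFactorization _).mp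
      (isIndEtale_of_isHenselization (Localization.AtPrime p) Rh)
  exact hasFactorization_trans R (Localization.AtPrime p) Rh h1 h2

/-- the residue map as an `R`-algebra map -/
noncomputable abbrev u : Rh →ₐ[R] ResidueField Rh := IsScalarTower.toAlgHom R Rh (ResidueField Rh)

omit hH in
lemma hu : Function.Surjective (u R Rh) := residue_surjective

omit hH in
lemma hku : RingHom.ker (u R Rh).toRingHom = maximalIdeal Rh := ker_residue

variable {S : Type u} [CommRing S] [Algebra R S]

include hH in
/-- Uniqueness in part (a). -/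
theorem algHom_ext_of_comap_eq [Algebra.Etale R S] (q : Ideal S) [q.IsPrime]
    (hq : p = q.comap (algebraMap R S))
    (hbij : Function.Bijective (Ideal.ResidueField.map p q (algebraMap R S) hq))
    (f₁ f₂ : S →ₐ[R] Rh) (h₁ : (maximalIdeal Rh).comap f₁.toRingHom = q)
    (h₂ : (maximalIdeal Rh).comap f₂.toRingHom = q) : f₁ = f₂ := by
  haveI := hH.henselian
  apply lift_henselian_unique (u R Rh) (hku R Rh) S
  ext a
  obtain ⟨r, s, hs, hrs⟩ := (residueField_map_surjective_iff p q hq).mp hbij.2 a
  have hs0 : residue Rh (algebraMap R Rh s) ≠ 0 := by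
    rw [Ne, residue_eq_zero_iff]
    intro hmem
    apply hs
    rw [← comap_maximalIdeal R p Rh]
    exact hmem
  have key : ∀ f : S →ₐ[R] Rh, (maximalIdeal Rh).comap f.toRingHom = q →
      residue Rh (f a) = residue Rh (algebraMap R Rh r) / residue Rh (algebraMap R Rh s) := by
    intro f hf
    have h3 : f (algebraMap R S s * a - algebraMap R S r) ∈ maximalIdeal Rh := by
      rw [← hf] at hrs
      exact hrs
    rw [← residue_eq_zero_iff, map_sub, map_mul, map_sub, map_mul, AlgHom.commutes,
      AlgHom.commutes, sub_eq_zero] at h3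
    rw [eq_div_iff hs0, mul_comm]
    exact h3
  change residue Rh (f₁ a) = residue Rh (f₂ a)
  rw [key f₁ h₁, key f₂ h₂]

include hH in
/-- Existence in part (a). -/
theorem exists_algHom_comap_eq [Algebra.Etale R S] (q : Ideal S) [q.IsPrime]
    (hq : p = q.comap (algebraMap R S))
    (hbij : Function.Bijective (Ideal.ResidueField.map p q (algebraMap R S) hq)) :
    ∃ f : S →ₐ[R] Rh, (maximalIdeal Rh).comap f.toRingHom = q := by
  haveI := hH.henselian
  let σ : p.ResidueField ≃+* q.ResidueField := RingEquiv.ofBijective _ hbij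
  let ρ : p.ResidueField →+* ResidueField Rh :=
    ResidueField.map (algebraMap (Localization.AtPrime p) Rh)
  let τ : q.ResidueField →+* ResidueField Rh := ρ.comp (σ.symm : q.ResidueField →+* p.ResidueField)
  have hτ : τ.comp (algebraMap R q.ResidueField) = (residue Rh).comp (algebraMap R Rh) := by
    ext r
    have h1 : algebraMap R q.ResidueField r = σ (algebraMap R p.ResidueField r) := by
      change _ = Ideal.ResidueField.map p q (algebraMap R S) hq (algebraMap R p.ResidueField r)
      rw [Ideal.ResidueField.map_algebraMap, ← IsScalarTower.algebraMap_apply]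
    simp only [RingHom.comp_apply, τ, RingHom.coe_coe]
    rw [h1, RingEquiv.symm_apply_apply]
    have h2 : algebraMap R p.ResidueField r =
        residue (Localization.AtPrime p) (algebraMap R (Localization.AtPrime p) r) := rfl
    rw [h2]
    change ResidueField.map (algebraMap (Localization.AtPrime p) Rh) (residue _ _) = _
    rw [ResidueField.map_residue, ← IsScalarTower.algebraMap_apply]
  obtain ⟨f, ⟨hf, -⟩, -⟩ :=
    Groth.Agent.Lib.Helper37.existsUnique_algHom_of_etale_of_henselianLocal R Rh S q τ hτ
  exact ⟨f, hf⟩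

end Pairs



namespace Pairs

open Groth.Agent.Lib.Helper4

variable (R : Type u) [CommRing R] (p : Ideal R) [p.IsPrime] (Rh : Type u) [CommRing Rh]
  [IsLocalRing Rh] [Algebra (Localization.AtPrime p) Rh]
  [IsLocalHom (algebraMap (Localization.AtPrime p) Rh)]
  [hH : Hensel.IsHenselization (Localization.AtPrime p) Rh] [Algebra R Rh]
  [IsScalarTower R (Localization.AtPrime p) Rh]

include hH in
/-- Part (b): every element comes from a pair. -/
theorem exists_pair (x : Rh) :
    ∃ (S : Type u) (_ : CommRing S) (_ : Algebra R S) (_ : Algebra.Etale R S) (q : Ideal S)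
      (_ : q.IsPrime) (hq : p = q.comap (algebraMap R S)),
      Function.Bijective (Ideal.ResidueField.map p q (algebraMap R S) hq) ∧
        ∃ (f : S →ₐ[R] Rh) (s : S), (maximalIdeal Rh).comap f.toRingHom = q ∧ f s = x := by
  haveI := hH.henselian
  obtain ⟨ε, hε⟩ := exists_algEquiv_Et (u R Rh) (hu R Rh) (hku R Rh) (hasFactorization R p Rh)
  obtain ⟨y, a, hya⟩ := etι_jointly_surjective R (ResidueField Rh) (ε x)
  let f : y.Q →ₐ[R] Rh := ε.symm.toAlgHom.comp (etι R (ResidueField Rh) y)
  refine ⟨y.Q, inferInstance, inferInstance, obj_etale (ResidueField Rh) y,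
    (maximalIdeal Rh).comap f.toRingHom, Ideal.comap_isPrime _ _, comap_comap_eq R p Rh f,
    residueField_map_bijective R p Rh f, f, a, rfl, ?_⟩
  change ε.symm (etι R (ResidueField Rh) y a) = x
  rw [hya, AlgEquiv.symm_apply_apply]

include hH in
/-- Part (c): an element of a pair mapping to zero dies in a later pair. -/
theorem exists_pair_killing {S : Type u} [CommRing S] [Algebra R S] [Algebra.Etale R S]
    (q : Ideal S) (f : S →ₐ[R] Rh) (hf : (maximalIdeal Rh).comap f.toRingHom = q) (s : S)
    (hs : f s = 0) :
    ∃ (S' : Type u) (_ : CommRing S') (_ : Algebra R S') (_ : Algebra.Etale R S') (q' : Ideal S')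
      (_ : q'.IsPrime) (hq' : p = q'.comap (algebraMap R S')),
      Function.Bijective (Ideal.ResidueField.map p q' (algebraMap R S') hq') ∧
        ∃ φ : S →ₐ[R] S', q'.comap φ.toRingHom = q ∧ φ s = 0 := by
  haveI := hH.henselian
  obtain ⟨ε, hε⟩ := exists_algEquiv_Et (u R Rh) (hu R Rh) (hku R Rh) (hasFactorization R p Rh)
  obtain ⟨x, θ, hxθ⟩ := exists_obj etaleClass_isGood S (inferInstance : Algebra.Etale R S)
    ((u R Rh).comp f)
  haveI : Algebra.Etale R x.Q := obj_etale (ResidueField Rh) x
  have hfactx : HasFactorization (etaleClass R) x.Q :=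
    (isIndEtale_iff_hasFactorization _).mp (isIndEtale_of_etale R x.Q)
  have h1 : (ε.toAlgHom.comp f).comp θ.toAlgHom = etι R (ResidueField Rh) x := by
    apply etπ_comp_injective R (ResidueField Rh) x.Q hfactx
    rw [etπ_comp_etι, ← AlgHom.comp_assoc, ← AlgHom.comp_assoc, hε, hxθ]
  have h2 : etι R (ResidueField Rh) x (θ.symm s) = etι R (ResidueField Rh) x 0 := by
    rw [← h1, map_zero]
    change ε (f (θ (θ.symm s))) = 0
    rw [AlgEquiv.apply_symm_apply, hs, map_zero]
  obtain ⟨y, g, hg⟩ := etι_eq_imp R (ResidueField Rh) x (θ.symm s) 0 h2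
  let f' : y.Q →ₐ[R] Rh := ε.symm.toAlgHom.comp (etι R (ResidueField Rh) y)
  let φ : S →ₐ[R] y.Q := g.1.comp θ.symm.toAlgHom
  have hcomp : f'.comp φ = f := by
    ext a
    change ε.symm (etι R (ResidueField Rh) y (g.1 (θ.symm a))) = f a
    rw [etι_map, ← h1]
    change ε.symm (ε (f (θ (θ.symm a)))) = f a
    rw [AlgEquiv.symm_apply_apply, AlgEquiv.apply_symm_apply]
  refine ⟨y.Q, inferInstance, inferInstance, obj_etale (ResidueField Rh) y,
    (maximalIdeal Rh).comap f'.toRingHom, Ideal.comap_isPrime _ _, comap_comap_eq R p Rh f',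
    residueField_map_bijective R p Rh f', φ, ?_, ?_⟩
  · rw [Ideal.comap_comap, ← hf]
    congr 1
    exact congrArg (fun m : S →ₐ[R] Rh => m.toRingHom) hcomp
  · change g.1 (θ.symm s) = 0
    rw [hg, map_zero]

end Pairs


end Groth.Agent.Lib.Helper37.Hz
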