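import Groth.Agent.Lib.Helper37.Hz36

set_option autoImplicit false
universe u

open IsLocalRing TensorProduct

namespace Groth.Agent.Lib.Helper37.Hz

namespace Unibranch

variable (A S : Type u) [CommRing A] [IsLocalRing A] [CommRing S] [IsLocalRing S] [Algebra A S]
  [IsLocalHom (algebraMap A S)] [hS : Hensel.IsHenselization A S]

/-- An integral local extension of a local ring is a local homomorphism. -/
theorem isLocalHom_of_isIntegral (A B : Type*) [CommRing A] [IsLocalRing A] [CommRing B]
    [IsLocalRing B] [Algebra A B] [Algebra.IsIntegral A B] : IsLocalHom (algebraMap A B) := by
  refine ((local_hom_TFAE _).out 4 0).mp ?_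
  have hmax : ((maximalIdeal B).comap (algebraMap A B)).IsMaximal :=
    Ideal.isMaximal_comap_of_isIntegral_of_isMaximal (R := A) _
  exact IsLocalRing.eq_maximalIdeal hmax

include hS in
/-- If the normalization of the local domain `A` is local, the henselization of `A` is a domain. -/
theorem isDomain_of_isLocalRing_integralClosure [IsDomain A]
    (hloc : IsLocalRing (integralClosure A (FractionRing A))) : IsDomain S := by
  haveI := hloc
  haveI : IsLocalHom (algebraMap A (integralClosure A (FractionRing A))) :=
    isLocalHom_of_isIntegral A _
  haveI : IsIntegrallyClosed (integralClosure A (FractionRing A)) :=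
    integralClosure.isIntegrallyClosedOfFiniteExtension (FractionRing A)
  have h1 : IsLocalRing (integralClosure A (FractionRing A) ⊗[A] S) :=
    IntTens.isLocalRing A (integralClosure A (FractionRing A)) S
  have h2 := IntTens.isLocalHom A (integralClosure A (FractionRing A)) S h1
  have h3 := IntTens.isHenselization A (integralClosure A (FractionRing A)) S h1 h2
  have h4 : IsDomain (integralClosure A (FractionRing A) ⊗[A] S) :=
    ((normal_iff_of_isHenselization (integralClosure A (FractionRing A))
      (integralClosure A (FractionRing A) ⊗[A] S)).mp ⟨inferInstance, inferInstance⟩).1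
  haveI : Module.Flat A S := (faithfullyFlat_of_isHenselization A S).toFlat
  have hinj : Function.Injective (algebraMap A (integralClosure A (FractionRing A))) := by
    intro a b hab
    have := congrArg Subtype.val hab
    exact IsFractionRing.injective A (FractionRing A) this
  have h5 : Function.Injective (Algebra.TensorProduct.includeRight :
      S →ₐ[A] integralClosure A (FractionRing A) ⊗[A] S) :=
    Algebra.TensorProduct.includeRight_injective hinj
  exact Function.Injective.isDomain
    (Algebra.TensorProduct.includeRight :
      S →ₐ[A] integralClosure A (FractionRing A) ⊗[A] S).toRingHom h5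

end Unibranch

end Groth.Agent.Lib.Helper37.Hz
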