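import Groth.Agent.Lib.Helper37.Hz37

set_option autoImplicit false
universe u

open IsLocalRing TensorProduct

namespace Groth.Agent.Lib.Helper37.Hz

namespace Unibranch

section Idem

variable {A : Type*} [CommRing A] [IsDomain A] {K : Type*} [Field K] [Algebra A K]
  [IsFractionRing A K] (A₁ : Subalgebra A K)

/-- A finitely generated `A`-submodule of `Frac A` has a common denominator. -/
lemma exists_denominator (hfg : A₁.toSubmodule.FG) :
    ∃ a : A, a ≠ 0 ∧ ∀ y : A₁, ∃ r : A, algebraMap A K r = a • (y : K) := by
  classical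
  obtain ⟨s, hs⟩ := hfg
  obtain ⟨b, hb⟩ := IsLocalization.exist_integer_multiples_of_finset (nonZeroDivisors A) s
  refine ⟨b, nonZeroDivisors.ne_zero b.2, fun y => ?_⟩
  have hy : (y : K) ∈ Submodule.span A (s : Set K) := by
    rw [hs]
    exact y.2
  refine Submodule.span_induction (p := fun z _ => ∃ r : A, algebraMap A K r = (b : A) • z)
    ?_ ?_ ?_ ?_ hy
  · intro z hz
    obtain ⟨r, hr⟩ := hb z hz
    exact ⟨r, hr⟩
  · exact ⟨0, by simp⟩
  · rintro z w _ _ ⟨r, hr⟩ ⟨r', hr'⟩
    exact ⟨r + r', by rw [map_add, hr, hr', smul_add]⟩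
  · rintro c z _ ⟨r, hr⟩
    exact ⟨c * r, by rw [map_mul, hr, smul_comm, Algebra.smul_def c]⟩

variable {A₁}

/-- Multiplication by a common denominator, as a linear map into `A`. -/
noncomputable def mu (a : A) (h : ∀ y : A₁, ∃ r : A, algebraMap A K r = a • (y : K)) :
    A₁ →ₗ[A] A where
  toFun y := (h y).choose
  map_add' y z := IsFractionRing.injective A K (by
    rw [map_add, (h _).choose_spec, (h y).choose_spec, (h z).choose_spec]
    simp [smul_add])
  map_smul' r y := IsFractionRing.injective A K (by
    rw [RingHom.id_apply, smul_eq_mul, map_mul, (h _).choose_spec, (h y).choose_spec]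
    simp only [Subalgebra.coe_smul]
    rw [smul_comm, Algebra.smul_def r])

lemma algebraMap_mu (a : A) (h : ∀ y : A₁, ∃ r : A, algebraMap A K r = a • (y : K)) (y : A₁) :
    algebraMap A K (mu a h y) = a • (y : K) := (h y).choose_spec

lemma mu_injective (a : A) (ha : a ≠ 0)
    (h : ∀ y : A₁, ∃ r : A, algebraMap A K r = a • (y : K)) : Function.Injective (mu a h) := by
  intro y z hyz
  have h1 := congrArg (algebraMap A K) hyz
  rw [algebraMap_mu, algebraMap_mu, Algebra.smul_def, Algebra.smul_def] at h1
  have ha' : algebraMap A K a ≠ 0 := by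
    rw [Ne, map_eq_zero_iff _ (IsFractionRing.injective A K)]
    exact ha
  exact Subtype.ext (mul_left_cancel₀ ha' h1)

lemma mu_mul (a : A) (h : ∀ y : A₁, ∃ r : A, algebraMap A K r = a • (y : K)) (y z : A₁) :
    mu a h (y * z) * a = mu a h y * mu a h z := by
  apply IsFractionRing.injective A K
  rw [map_mul (algebraMap A K), map_mul (algebraMap A K), algebraMap_mu, algebraMap_mu,
    algebraMap_mu]
  simp only [Algebra.smul_def, Subalgebra.coe_mul]
  ring

lemma mu_one (a : A) (h : ∀ y : A₁, ∃ r : A, algebraMap A K r = a • (y : K)) :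
    mu a h 1 = a := by
  apply IsFractionRing.injective A K
  rw [algebraMap_mu]
  simp [Algebra.smul_def]

section Nu

variable (S : Type*) [CommRing S] [Algebra A S]

/-- The `S`-linear map `S ⊗ A₁ → S` induced by multiplication by a denominator. -/
noncomputable def nu (a : A) (h : ∀ y : A₁, ∃ r : A, algebraMap A K r = a • (y : K)) :
    S ⊗[A] A₁ →ₗ[A] S :=
  (TensorProduct.rid A S).toLinearMap ∘ₗ (mu a h).lTensor S

lemma nu_tmul (a : A) (h : ∀ y : A₁, ∃ r : A, algebraMap A K r = a • (y : K)) (s : S) (y : A₁) :
    nu S a h (s ⊗ₜ y) = algebraMap A S (mu a h y) * s := by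
  simp [nu, Algebra.smul_def]

lemma nu_injective [Module.Flat A S] (a : A) (ha : a ≠ 0)
    (h : ∀ y : A₁, ∃ r : A, algebraMap A K r = a • (y : K)) : Function.Injective (nu S a h) := by
  rw [nu, LinearMap.coe_comp]
  exact (TensorProduct.rid A S).injective.comp
    (Module.Flat.lTensor_preserves_injective_linearMap _ (mu_injective a ha h))

lemma nu_mul (a : A) (h : ∀ y : A₁, ∃ r : A, algebraMap A K r = a • (y : K))
    (c c' : S ⊗[A] A₁) :
    nu S a h (c * c') * algebraMap A S a = nu S a h c * nu S a h c' := by
  induction c using TensorProduct.induction_on with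
  | zero => simp
  | add x y hx hy => rw [add_mul, map_add, add_mul, hx, hy, map_add, add_mul]
  | tmul s y =>
    induction c' using TensorProduct.induction_on with
    | zero => simp
    | add x y hx hy => rw [mul_add, map_add, add_mul, hx, hy, map_add, mul_add]
    | tmul s' y' =>
      rw [Algebra.TensorProduct.tmul_mul_tmul, nu_tmul, nu_tmul, nu_tmul]
      have := congrArg (algebraMap A S) (mu_mul a h y y')
      rw [map_mul (algebraMap A S), map_mul (algebraMap A S)] at this
      linear_combination (s * s') * this

lemma nu_one (a : A) (h : ∀ y : A₁, ∃ r : A, algebraMap A K r = a • (y : K)) :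
    nu S a h 1 = algebraMap A S a := by
  rw [Algebra.TensorProduct.one_def, nu_tmul, mu_one, mul_one]

/-- If `S` is a flat `A`-algebra which is a domain, with `A → S` injective, then `S ⊗ A₁` has
only trivial idempotents for `A₁` a finite subalgebra of `Frac A`. -/
lemma idem_trivial [Module.Flat A S] [IsDomain S] (hfg : A₁.toSubmodule.FG)
    (e : S ⊗[A] A₁) (he : IsIdempotentElem e) : e = 0 ∨ e = 1 := by
  obtain ⟨a, ha, h⟩ := exists_denominator A₁ hfg
  have h1 := nu_mul S a h e e
  rw [he.eq] at h1
  have h2 : nu S a h e * (algebraMap A S a - nu S a h e) = 0 := by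
    linear_combination h1
  rcases mul_eq_zero.mp h2 with h3 | h3
  · left
    apply nu_injective S a ha h
    rw [h3, map_zero]
  · right
    apply nu_injective S a ha h
    rw [nu_one]
    exact (sub_eq_zero.mp h3).symm

lemma nontrivial_tens [Module.Flat A S] [Nontrivial S]
    (hinj : Function.Injective (algebraMap A S)) (hfg : A₁.toSubmodule.FG) :
    Nontrivial (S ⊗[A] A₁) := by
  obtain ⟨a, ha, h⟩ := exists_denominator A₁ hfg
  refine ⟨⟨1, 0, fun h10 => ?_⟩⟩
  have := congrArg (nu S a h) h10
  rw [nu_one, map_zero, map_eq_zero_iff _ hinj] at this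
  exact ha this

end Nu

end Idem

/-- A nontrivial finite product of local rings with only trivial idempotents is local. -/
lemma isLocalRing_of_pi {C : Type*} [CommRing C] [Nontrivial C] {ι : Type*}
    {B : ι → Type*} [∀ i, CommRing (B i)] [∀ i, IsLocalRing (B i)] (e : C ≃+* ∀ i, B i)
    (hidem : ∀ c : C, IsIdempotentElem c → c = 0 ∨ c = 1) : IsLocalRing C := by
  classical
  have hne : Nonempty ι := by
    by_contra hemp
    rw [not_nonempty_iff] at hemp
    have : (1 : C) = 0 := e.injective (Subsingleton.elim _ _)
    exact one_ne_zero this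
  obtain ⟨i⟩ := hne
  have huniq : ∀ j, j = i := by
    intro j
    by_contra hji
    have hid : IsIdempotentElem (e.symm (Pi.single i 1)) := by
      unfold IsIdempotentElem
      rw [← map_mul, ← Pi.single_mul, mul_one]
    rcases hidem _ hid with h | h
    · have h1 := congrArg e h
      rw [e.apply_symm_apply, map_zero] at h1
      have h2 := congrFun h1 i
      simp at h2
    · have h1 := congrArg e h
      rw [e.apply_symm_apply, map_one] at h1
      have h2 := congrFun h1 j
      simp [hji] at h2
  let f : C →+* B i := (Pi.evalRingHom B i).comp e.toRingHom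
  have hf : Function.Bijective f := by
    constructor
    · intro c c' hcc
      apply e.injective
      funext j
      obtain rfl := huniq j
      exact hcc
    · intro b
      refine ⟨e.symm (Pi.single i b), ?_⟩
      change e (e.symm (Pi.single i b)) i = b
      rw [e.apply_symm_apply, Pi.single_eq_same]
  exact (RingEquiv.ofBijective f hf).symm.isLocalRing

/-- Units descend along a faithfully flat base change. -/
lemma isUnit_of_isUnit_one_tmul {A : Type*} [CommRing A] (S : Type*) [CommRing S] [Algebra A S]
    [Module.FaithfullyFlat A S] {B : Type*} [CommRing B] [Algebra A B] (y : B)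
    (h : IsUnit ((1 : S) ⊗ₜ[A] y)) : IsUnit y := by
  have h1 : (LinearMap.mulLeft A y).lTensor S = LinearMap.mulLeft A ((1 : S) ⊗ₜ[A] y) := by
    ext s b
    simp
  have h2 : Function.Surjective ((LinearMap.mulLeft A y).lTensor S) := by
    rw [h1]
    intro c
    obtain ⟨u, hu⟩ := h
    refine ⟨(↑u⁻¹ : S ⊗[A] B) * c, ?_⟩
    rw [LinearMap.mulLeft_apply, ← hu, ← mul_assoc, Units.mul_inv, one_mul]
  rw [Module.FaithfullyFlat.lTensor_surjective_iff_surjective] at h2
  obtain ⟨z, hz⟩ := h2 1
  exact IsUnit.of_mul_eq_one z hz

section Main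

variable (A S : Type u) [CommRing A] [IsLocalRing A] [CommRing S] [IsLocalRing S] [Algebra A S]
  [IsLocalHom (algebraMap A S)] [hS : Hensel.IsHenselization A S]

include hS in
/-- If the henselization of the local domain `A` is a domain, every finite subalgebra of
`Frac A` is local. -/
theorem isLocalRing_of_fg [IsDomain A] [IsDomain S] (A₁ : Subalgebra A (FractionRing A))
    (hfg : A₁.toSubmodule.FG) : IsLocalRing A₁ := by
  haveI : HenselianLocalRing S := hS.henselian
  haveI : Module.FaithfullyFlat A S := faithfullyFlat_of_isHenselization A S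
  haveI : Module.Flat A S := Module.FaithfullyFlat.toFlat
  have hinj : Function.Injective (algebraMap A S) := FaithfulSMul.algebraMap_injective A S
  haveI : Module.Finite A A₁ := Module.Finite.iff_fg.mpr hfg
  haveI : Nontrivial (S ⊗[A] A₁) := nontrivial_tens S hinj hfg
  obtain ⟨ι, _, B, _, hloc, ⟨e⟩⟩ := exists_pi_isLocalRing_of_finite S (S ⊗[A] A₁)
  haveI := hloc
  haveI : IsLocalRing (S ⊗[A] A₁) := isLocalRing_of_pi e (idem_trivial S hfg)
  refine IsLocalRing.of_isUnit_or_isUnit_one_sub_self fun y => ?_
  rcases IsLocalRing.isUnit_or_isUnit_one_sub_self ((1 : S) ⊗ₜ[A] y) with h | h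
  · exact Or.inl (isUnit_of_isUnit_one_tmul S y h)
  · right
    apply isUnit_of_isUnit_one_tmul (A := A) S
    rwa [TensorProduct.tmul_sub, ← Algebra.TensorProduct.one_def]

include hS in
/-- If the henselization of the local domain `A` is a domain, the normalization of `A` is
local. -/
theorem isLocalRing_integralClosure_of_isDomain [IsDomain A] [IsDomain S] :
    IsLocalRing (integralClosure A (FractionRing A)) := by
  refine IsLocalRing.of_isUnit_or_isUnit_one_sub_self fun x => ?_
  have hx : IsIntegral A (x : FractionRing A) := x.2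
  have hfg := hx.fg_adjoin_singleton
  haveI := isLocalRing_of_fg A S _ hfg
  have hle : Algebra.adjoin A {(x : FractionRing A)} ≤ integralClosure A (FractionRing A) :=
    Algebra.adjoin_le (by
      rintro _ rfl
      exact hx)
  set x₁ : Algebra.adjoin A {(x : FractionRing A)} :=
    ⟨x, Algebra.subset_adjoin (Set.mem_singleton _)⟩ with hx₁
  have hincl : Subalgebra.inclusion hle x₁ = x := Subtype.ext rfl
  rcases IsLocalRing.isUnit_or_isUnit_one_sub_self x₁ with h | h
  · left
    rw [← hincl]
    exact h.map _
  · right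
    rw [← hincl, ← map_one (Subalgebra.inclusion hle), ← map_sub]
    exact h.map _

end Main

end Unibranch

end Groth.Agent.Lib.Helper37.Hz
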