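import Groth.Agent.Lib.Helper37.Hz38
import Groth.Agent.Lib.Helper37.Hz15
import Groth.Prelude.Def_CAlg2
import Groth.Prelude.Def_CAlgX

set_option autoImplicit false
universe u

open IsLocalRing TensorProduct

namespace Groth.Agent.Lib.Helper37.Hz

namespace Unibranch

/-- The nilradical is prime iff there is a unique minimal prime. -/
theorem nilradical_isPrime_iff (S : Type u) [CommRing S] :
    (nilradical S).IsPrime ↔ CAlgX.HasUniqueMinimalPrime S := by
  constructor
  · intro h
    refine ⟨nilradical S, ?_, ?_⟩
    · refine ⟨⟨h, bot_le⟩, fun q hq _ => ?_⟩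
      exact nilradical_le_prime q (H := hq.1)
    · intro q hq
      have h1 : nilradical S ≤ q := nilradical_le_prime q (H := hq.1.1)
      exact le_antisymm (hq.2 ⟨h, bot_le⟩ h1) h1
  · rintro ⟨P, hP, huniq⟩
    have h1 : minimalPrimes S = {P} := by
      ext q
      constructor
      · intro hq
        exact huniq q hq
      · rintro rfl
        exact hP
    have h2 : nilradical S = P := by
      rw [nilradical, ← Ideal.sInf_minimalPrimes]
      change sInf (minimalPrimes S) = P
      rw [h1, sInf_singleton]
    rw [h2]
    exact hP.1.1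

section Main

variable (A S : Type u) [CommRing A] [IsLocalRing A] [CommRing S] [IsLocalRing S] [Algebra A S]
  [IsLocalHom (algebraMap A S)]

instance : IsLocalRing (CAlg2.red A) := by
  haveI : Nontrivial (CAlg2.red A) := by
    rw [Ideal.Quotient.nontrivial_iff]
    intro h
    have : (1 : A) ∈ nilradical A := h ▸ Submodule.mem_top
    rw [mem_nilradical] at this
    exact not_isNilpotent_one this
  exact IsLocalRing.of_surjective' (Ideal.Quotient.mk (nilradical A)) Ideal.Quotient.mk_surjective

instance : Algebra.IsIntegral A (CAlg2.red A) :=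
  Algebra.isIntegral_of_surjective Ideal.Quotient.mk_surjective

instance : IsLocalHom (algebraMap A (CAlg2.red A)) := isLocalHom_of_isIntegral A _

attribute [local instance] Algebra.TensorProduct.rightAlgebra

variable [hS : Hensel.IsHenselization A S]

include hS in
theorem isUnibranch_iff_isDomain_tensor :
    CAlg2.IsUnibranch A ↔ IsDomain (CAlg2.red A ⊗[A] S) := by
  have h1 : IsLocalRing (CAlg2.red A ⊗[A] S) := IntTens.isLocalRing A (CAlg2.red A) S
  have h2 := IntTens.isLocalHom A (CAlg2.red A) S h1
  have h3 := IntTens.isHenselization A (CAlg2.red A) S h1 h2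
  constructor
  · rintro ⟨hdom, hloc⟩
    exact isDomain_of_isLocalRing_integralClosure (CAlg2.red A) (CAlg2.red A ⊗[A] S) hloc
  · intro hdom
    haveI : Module.FaithfullyFlat (CAlg2.red A) (CAlg2.red A ⊗[A] S) :=
      faithfullyFlat_of_isHenselization _ _
    have hinj : Function.Injective (algebraMap (CAlg2.red A) (CAlg2.red A ⊗[A] S)) :=
      FaithfulSMul.algebraMap_injective _ _
    haveI : IsDomain (CAlg2.red A) := Function.Injective.isDomain _ hinj
    exact ⟨inferInstance,
      isLocalRing_integralClosure_of_isDomain (CAlg2.red A) (CAlg2.red A ⊗[A] S)⟩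

include hS in
theorem isDomain_tensor_iff :
    IsDomain (CAlg2.red A ⊗[A] S) ↔ (nilradical S).IsPrime := by
  have e1 : (S ⧸ (nilradical A).map (algebraMap A S)) ≃+* CAlg2.red A ⊗[A] S :=
    (Algebra.TensorProduct.quotIdealMapEquivQuotTensor S (nilradical A)).toRingEquiv
  have e2 : (S ⧸ nilradical S) ≃+* (S ⧸ (nilradical A).map (algebraMap A S)) :=
    Ideal.quotEquivOfEq (nilradical_map_of_isHenselization A S (Or.inl hS)).symm
  rw [← Ideal.Quotient.isDomain_iff_prime]
  constructor
  · intro h
    exact (e2.trans e1).injective.isDomain (e2.trans e1).toRingHom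
  · intro h
    exact (e2.trans e1).symm.injective.isDomain (e2.trans e1).symm.toRingHom

include hS in
theorem isUnibranch_iff_nilradical_isPrime :
    CAlg2.IsUnibranch A ↔ (nilradical S).IsPrime :=
  (isUnibranch_iff_isDomain_tensor A S).trans (isDomain_tensor_iff A S)

end Main

end Unibranch

end Groth.Agent.Lib.Helper37.Hz
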