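import Groth.Agent.Lib.Helper37.Hz39

set_option autoImplicit false
universe u

open IsLocalRing TensorProduct

namespace Groth.Agent.Lib.Helper37.Hz

namespace PITens

variable (A B S : Type u) [CommRing A] [IsLocalRing A] [CommRing B] [IsLocalRing B] [Algebra A B]
  [IsLocalHom (algebraMap A B)] [Algebra.IsIntegral A B]
  [CommRing S] [IsLocalRing S] [Algebra A S] [IsLocalHom (algebraMap A S)]

attribute [local instance] Algebra.TensorProduct.rightAlgebra

variable (p : ℕ)

/-- The residue field extension of `A → B` is purely inseparable (power formulation). -/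
def PI : Prop := ∀ b : B, ∃ (N : ℕ) (a : A), b ^ p ^ N - algebraMap A B a ∈ maximalIdeal B

variable {A B p}

omit [IsLocalRing A] [IsLocalHom (algebraMap A B)] [Algebra.IsIntegral A B] [IsLocalRing S]
  [IsLocalHom (algebraMap A S)] in
lemma exists_pow_eq (hpi : PI A B p) (x : B ⊗[A] S) :
    ∃ (N : ℕ) (s : S), ∀ (L : Type u) [Field L] [ExpChar L p] (φ : B ⊗[A] S →+* L),
      (∀ b ∈ maximalIdeal B, φ (b ⊗ₜ 1) = 0) → φ x ^ p ^ N = φ (1 ⊗ₜ s) := by
  induction x using TensorProduct.induction_on with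
  | zero =>
    refine ⟨0, 0, fun L _ _ φ _ => ?_⟩
    simp
  | tmul b s =>
    obtain ⟨N, a, ha⟩ := hpi b
    refine ⟨N, a • s ^ p ^ N, fun L _ _ φ hφ => ?_⟩
    have h1 : (b ⊗ₜ[A] s) ^ p ^ N =
        ((b ^ p ^ N - algebraMap A B a) ⊗ₜ[A] (1 : S)) * ((1 : B) ⊗ₜ[A] (s ^ p ^ N)) +
          (1 : B) ⊗ₜ[A] (a • s ^ p ^ N) := by
      rw [Algebra.TensorProduct.tmul_pow, Algebra.TensorProduct.tmul_mul_tmul, mul_one, one_mul,
        TensorProduct.sub_tmul, Algebra.algebraMap_eq_smul_one, TensorProduct.smul_tmul,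
        sub_add_cancel]
    rw [← map_pow, h1, map_add, map_mul, hφ _ ha, zero_mul, zero_add]
  | add x y hx hy =>
    obtain ⟨N, s, hs⟩ := hx
    obtain ⟨M, t, ht⟩ := hy
    refine ⟨N + M, s ^ p ^ M + t ^ p ^ N, fun L _ _ φ hφ => ?_⟩
    rw [map_add, add_pow_expChar_pow, pow_add, pow_mul, hs L φ hφ, mul_comm (p ^ N), pow_mul,
      ht L φ hφ, TensorProduct.tmul_add, map_add, ← map_pow, ← map_pow,
      Algebra.TensorProduct.tmul_pow, Algebra.TensorProduct.tmul_pow, one_pow, one_pow]

/-- Transfer of the characteristic exponent to a field receiving a local map. -/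
lemma expChar_of_ker_eq {B : Type*} [CommRing B] [IsLocalRing B] {L : Type*} [Field L]
    (f : B →+* L) (hf : RingHom.ker f = maximalIdeal B) (p : ℕ) [ExpChar (ResidueField B) p] :
    ExpChar L p := by
  let g : ResidueField B →+* L := Ideal.Quotient.lift (maximalIdeal B) f (fun a ha => by
    rw [← hf] at ha
    exact ha)
  exact expChar_of_injective_ringHom g.injective p

variable (A B p)

lemma le_of_isMaximal (hpi : PI A B p) [ExpChar (ResidueField B) p]
    (n n' : Ideal (B ⊗[A] S)) [hn : n.IsMaximal] [hn' : n'.IsMaximal] : n ≤ n' := by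
  intro x hx
  obtain ⟨N, s, hs⟩ := exists_pow_eq S hpi x
  have hp0 : p ^ N ≠ 0 := pow_ne_zero _ (expChar_pos (ResidueField B) p).ne'
  have key : ∀ (m : Ideal (B ⊗[A] S)) [m.IsMaximal],
      Ideal.Quotient.mk m x ^ p ^ N = Ideal.Quotient.mk m ((1 : B) ⊗ₜ[A] s) := by
    intro m hm
    letI : Field ((B ⊗[A] S) ⧸ m) := Ideal.Quotient.field m
    have hker : RingHom.ker ((Ideal.Quotient.mk m).comp (algebraMap B (B ⊗[A] S))) =
        maximalIdeal B := by
      rw [← IntTens.comap_of_isMaximal A B S m, ← RingHom.comap_ker, Ideal.mk_ker]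
    haveI : ExpChar ((B ⊗[A] S) ⧸ m) p := expChar_of_ker_eq _ hker p
    refine hs _ (Ideal.Quotient.mk m) fun b hb => ?_
    rw [← hker] at hb
    exact hb
  have h1 : (1 : B) ⊗ₜ[A] s ∈ n := by
    rw [← Ideal.Quotient.eq_zero_iff_mem, ← key n, Ideal.Quotient.eq_zero_iff_mem.mpr hx,
      zero_pow hp0]
  have h2 : s ∈ maximalIdeal S := by
    by_contra hs'
    have hu : IsUnit s := by
      rwa [mem_maximalIdeal, mem_nonunits_iff, not_not] at hs'
    have : IsUnit ((1 : B) ⊗ₜ[A] s) := hu.map (algebraMap S (B ⊗[A] S))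
    exact hn.ne_top (Ideal.eq_top_of_isUnit_mem _ h1 this)
  have h3 : (1 : B) ⊗ₜ[A] s ∈ n' :=
    IntTens.map_le_of_isMaximal A B S n' (Ideal.mem_map_of_mem _ h2)
  have h4 : Ideal.Quotient.mk n' x ^ p ^ N = 0 := by
    rw [key n', Ideal.Quotient.eq_zero_iff_mem.mpr h3]
  letI : Field ((B ⊗[A] S) ⧸ n') := Ideal.Quotient.field n'
  exact Ideal.Quotient.eq_zero_iff_mem.mp ((pow_eq_zero_iff hp0).mp h4)

lemma isLocalRing (hpi : PI A B p) [ExpChar (ResidueField B) p] [Nontrivial (B ⊗[A] S)] :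
    IsLocalRing (B ⊗[A] S) := by
  obtain ⟨n, hn⟩ := Ideal.exists_maximal (B ⊗[A] S)
  refine IsLocalRing.of_unique_max_ideal ⟨n, hn, fun n' hn' => ?_⟩
  exact (hn'.eq_of_le hn.ne_top (le_of_isMaximal A B S p hpi n' n)).symm ▸ rfl

omit [IsLocalRing A] [IsLocalRing B] [IsLocalHom (algebraMap A B)] [IsLocalHom (algebraMap A S)] in
lemma isLocalHom_right (_h : IsLocalRing (B ⊗[A] S)) :
    IsLocalHom (algebraMap S (B ⊗[A] S)) := by
  haveI := IntTens.isIntegral A B S
  exact Unibranch.isLocalHom_of_isIntegral S _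

lemma isLocalHom_left (_h : IsLocalRing (B ⊗[A] S)) :
    IsLocalHom (algebraMap B (B ⊗[A] S)) := by
  refine ((local_hom_TFAE (algebraMap B (B ⊗[A] S))).out 4 0).mp ?_
  exact IntTens.comap_of_isMaximal A B S (maximalIdeal (B ⊗[A] S))

lemma exists_pow_sub_mem (hpi : PI A B p) [ExpChar (ResidueField B) p]
    (_h : IsLocalRing (B ⊗[A] S)) (x : B ⊗[A] S) :
    ∃ (N : ℕ) (s : S), x ^ p ^ N - (1 : B) ⊗ₜ[A] s ∈ maximalIdeal (B ⊗[A] S) := by
  obtain ⟨N, s, hs⟩ := exists_pow_eq S hpi x
  refine ⟨N, s, ?_⟩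
  have hker : RingHom.ker ((residue (B ⊗[A] S)).comp (algebraMap B (B ⊗[A] S))) =
      maximalIdeal B := by
    rw [← IntTens.comap_of_isMaximal A B S (maximalIdeal (B ⊗[A] S)), ← RingHom.comap_ker,
      ker_residue]
  haveI : ExpChar (ResidueField (B ⊗[A] S)) p := expChar_of_ker_eq _ hker p
  have := hs (ResidueField (B ⊗[A] S)) (residue _) fun b hb => by
    rw [← hker] at hb
    exact hb
  rw [← ker_residue, RingHom.mem_ker, map_sub, map_pow, this, sub_self]

section Strict

variable [hS : Hensel.IsStrictHenselization A S]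

omit [IsLocalRing A] [IsLocalRing B] [IsLocalHom (algebraMap A B)] [IsLocalHom (algebraMap A S)] in
/-- The residue field of `B ⊗ S` is algebraic over that of `S`. -/
lemma isAlgebraic_residueField (_h : IsLocalRing (B ⊗[A] S))
    [IsLocalHom (algebraMap S (B ⊗[A] S))] :
    Algebra.IsAlgebraic (ResidueField S) (ResidueField (B ⊗[A] S)) := by
  haveI := IntTens.isIntegral A B S
  refine ⟨fun x => ?_⟩
  obtain ⟨c, rfl⟩ := residue_surjective x
  have h1 : IsIntegral S c := Algebra.IsIntegral.isIntegral c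
  have h2 : IsIntegral S (residue (B ⊗[A] S) c) :=
    h1.map (IsScalarTower.toAlgHom S (B ⊗[A] S) (ResidueField (B ⊗[A] S)))
  exact (h2.tower_top (A := ResidueField S)).isAlgebraic

open Groth.Agent.Lib.Helper4 in
include hS in
/-- If `A → B` is integral and local with purely inseparable residue field extension, then
`B ⊗_A A^sh` is a strict henselization of `B`. -/
theorem isStrictHenselization (hpi : PI A B p) [ExpChar (ResidueField B) p] :
    ∃ (_ : IsLocalRing (B ⊗[A] S)) (_ : IsLocalHom (algebraMap B (B ⊗[A] S))),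
      Hensel.IsStrictHenselization B (B ⊗[A] S) := by
  haveI : Module.FaithfullyFlat A S := faithfullyFlat_of_isStrictHenselization A S
  haveI : Nontrivial (B ⊗[A] S) := Module.FaithfullyFlat.rTensor_nontrivial A S B
  have hloc : IsLocalRing (B ⊗[A] S) := isLocalRing A B S p hpi
  have hl := isLocalHom_left A B S hloc
  have hr := isLocalHom_right A B S hloc
  refine ⟨hloc, hl, ?_⟩
  haveI := IntTens.isIntegral A B S
  haveI := hS.henselian
  have hh : HenselianLocalRing (B ⊗[A] S) := henselianLocalRing_of_isIntegral S (B ⊗[A] S)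
  have hD : HasFactorization (etaleClass B) (B ⊗[A] S) :=
    (isIndEtale_iff_hasFactorization _).mp
      (Groth.Agent.S0733.result A S B (isIndEtale_of_isStrictHenselization A S))
  haveI : IsSepClosed (ResidueField S) := hS.isSepClosure.sep_closed
  haveI := isAlgebraic_residueField A B S hloc
  have hsc : IsSepClosed (ResidueField (B ⊗[A] S)) :=
    Algebra.IsAlgebraic.isSepClosed (F := ResidueField S)
  exact isStrictHenselization_of_hasFactorization B (B ⊗[A] S) hD hh
    ⟨hsc, isSeparable_residueField_of_hasFactorization B (B ⊗[A] S) hD⟩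

end Strict

end PITens

end Groth.Agent.Lib.Helper37.Hz
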