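import Groth.Agent.Lib.Helper37.Hz40

set_option autoImplicit false
universe u

open IsLocalRing TensorProduct

namespace Groth.Agent.Lib.Helper37.Hz

namespace PITens

variable (A B S : Type u) [CommRing A] [IsLocalRing A] [CommRing B] [IsLocalRing B] [Algebra A B]
  [IsLocalHom (algebraMap A B)] [Algebra.IsIntegral A B]
  [CommRing S] [IsLocalRing S] [Algebra A S] [IsLocalHom (algebraMap A S)]

attribute [local instance] Algebra.TensorProduct.rightAlgebra

omit [IsLocalHom (algebraMap A B)] in
lemma isAlgebraic_residueField_left [IsLocalHom (algebraMap A B)] :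
    Algebra.IsAlgebraic (ResidueField A) (ResidueField B) := by
  refine ⟨fun x => ?_⟩
  obtain ⟨c, rfl⟩ := residue_surjective x
  have h1 : IsIntegral A c := Algebra.IsIntegral.isIntegral c
  have h2 : IsIntegral A (residue B c) :=
    h1.map (IsScalarTower.toAlgHom A B (ResidueField B))
  exact (h2.tower_top (A := ResidueField A)).isAlgebraic

/-- Converse: if `B ⊗_A S` is local for `S` with separably closed residue field algebraic over
that of `A`, then the residue field extension of `A → B` is purely inseparable. -/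
theorem isPurelyInseparable_of_isLocalRing [IsSepClosed (ResidueField S)]
    [Algebra.IsAlgebraic (ResidueField A) (ResidueField S)]
    (hloc : IsLocalRing (B ⊗[A] S)) :
    IsPurelyInseparable (ResidueField A) (ResidueField B) := by
  haveI := isAlgebraic_residueField_left A B
  haveI := IntTens.isIntegral A B S
  haveI hr := isLocalHom_right A B S hloc
  haveI := isAlgebraic_residueField A B S hloc
  haveI : Nonempty (ResidueField B →+* AlgebraicClosure (ResidueField S)) := by
    letI : Algebra (ResidueField A) (AlgebraicClosure (ResidueField S)) :=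
      ((algebraMap (ResidueField S) (AlgebraicClosure (ResidueField S))).comp
        (algebraMap (ResidueField A) (ResidueField S))).toAlgebra
    exact ⟨(IsAlgClosed.lift : ResidueField B →ₐ[ResidueField A]
      AlgebraicClosure (ResidueField S)).toRingHom⟩
  refine IsPurelyInseparable.of_injective_comp_algebraMap (ResidueField A) (ResidueField B)
    (AlgebraicClosure (ResidueField S)) ?_
  intro σ₁ σ₂ h
  have h' : ∀ x, σ₁ (algebraMap (ResidueField A) (ResidueField B) x) =
      σ₂ (algebraMap (ResidueField A) (ResidueField B) x) := fun x => RingHom.congr_fun h x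
  letI : Algebra (ResidueField A) (AlgebraicClosure (ResidueField S)) :=
    (σ₁.comp (algebraMap (ResidueField A) (ResidueField B))).toAlgebra
  let τ' : ResidueField S →ₐ[ResidueField A] AlgebraicClosure (ResidueField S) :=
    IsAlgClosed.lift
  letI : Algebra A (AlgebraicClosure (ResidueField S)) :=
    ((σ₁.comp (algebraMap (ResidueField A) (ResidueField B))).comp (residue A)).toAlgebra
  have hA : ∀ a : A, algebraMap A (AlgebraicClosure (ResidueField S)) a =
      σ₁ (algebraMap (ResidueField A) (ResidueField B) (residue A a)) := fun a => rfl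
  have hres : ∀ a : A, algebraMap (ResidueField A) (ResidueField B) (residue A a) =
      residue B (algebraMap A B a) := fun a => rfl
  let f₁ : B →ₐ[A] AlgebraicClosure (ResidueField S) :=
    { toRingHom := σ₁.comp (residue B)
      commutes' := fun a => by
        rw [hA, hres]
        rfl }
  let f₂ : B →ₐ[A] AlgebraicClosure (ResidueField S) :=
    { toRingHom := σ₂.comp (residue B)
      commutes' := fun a => by
        rw [hA, h', hres]
        rfl }
  let g : S →ₐ[A] AlgebraicClosure (ResidueField S) :=
    { toRingHom := τ'.toRingHom.comp (residue S)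
      commutes' := fun a => by
        rw [hA]
        have : residue S (algebraMap A S a) =
            algebraMap (ResidueField A) (ResidueField S) (residue A a) := rfl
        change τ' (residue S (algebraMap A S a)) = _
        rw [this, τ'.commutes]
        rfl }
  let ψ₁ : B ⊗[A] S →ₐ[A] AlgebraicClosure (ResidueField S) :=
    Algebra.TensorProduct.lift f₁ g (fun _ _ => Commute.all _ _)
  let ψ₂ : B ⊗[A] S →ₐ[A] AlgebraicClosure (ResidueField S) :=
    Algebra.TensorProduct.lift f₂ g (fun _ _ => Commute.all _ _)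
  have hker : ∀ ψ : B ⊗[A] S →ₐ[A] AlgebraicClosure (ResidueField S),
      (∀ s : S, ψ ((1 : B) ⊗ₜ[A] s) = g s) →
      RingHom.ker ψ.toRingHom = maximalIdeal (B ⊗[A] S) := by
    intro ψ hψ
    haveI : (RingHom.ker ψ.toRingHom).IsPrime := RingHom.ker_isPrime _
    have hcomap : (RingHom.ker ψ.toRingHom).comap (algebraMap S (B ⊗[A] S)) =
        maximalIdeal S := by
      ext s
      rw [Ideal.mem_comap, RingHom.mem_ker]
      change ψ ((1 : B) ⊗ₜ[A] s) = 0 ↔ _
      rw [hψ]
      change τ' (residue S s) = 0 ↔ _
      rw [map_eq_zero_iff τ' τ'.toRingHom.injective, residue_eq_zero_iff]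
    have hmax : (RingHom.ker ψ.toRingHom).IsMaximal :=
      Ideal.isMaximal_of_isIntegral_of_isMaximal_comap (R := S) _
        (hcomap ▸ maximalIdeal.isMaximal S)
    exact IsLocalRing.eq_maximalIdeal hmax
  have hψ₁ : ∀ s : S, ψ₁ ((1 : B) ⊗ₜ[A] s) = g s := fun s => by
    simp [ψ₁]
  have hψ₂ : ∀ s : S, ψ₂ ((1 : B) ⊗ₜ[A] s) = g s := fun s => by
    simp [ψ₂]
  let ψb₁ : ResidueField (B ⊗[A] S) →+* AlgebraicClosure (ResidueField S) :=
    Ideal.Quotient.lift (maximalIdeal (B ⊗[A] S)) ψ₁.toRingHom (fun c hc => by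
      rw [← hker ψ₁ hψ₁] at hc
      exact hc)
  let ψb₂ : ResidueField (B ⊗[A] S) →+* AlgebraicClosure (ResidueField S) :=
    Ideal.Quotient.lift (maximalIdeal (B ⊗[A] S)) ψ₂.toRingHom (fun c hc => by
      rw [← hker ψ₂ hψ₂] at hc
      exact hc)
  have hb : ψb₁.comp (algebraMap (ResidueField S) (ResidueField (B ⊗[A] S))) =
      ψb₂.comp (algebraMap (ResidueField S) (ResidueField (B ⊗[A] S))) := by
    ext x
    obtain ⟨s, rfl⟩ := residue_surjective x
    change ψ₁ ((1 : B) ⊗ₜ[A] s) = ψ₂ ((1 : B) ⊗ₜ[A] s)
    rw [hψ₁, hψ₂]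
  have heq : ψb₁ = ψb₂ :=
    IsPurelyInseparable.injective_comp_algebraMap (ResidueField S)
      (ResidueField (B ⊗[A] S)) (AlgebraicClosure (ResidueField S)) hb
  ext x
  obtain ⟨b, rfl⟩ := residue_surjective x
  have h1 : σ₁ (residue B b) = ψb₁ (residue _ (b ⊗ₜ[A] (1 : S))) := by
    change _ = ψ₁ (b ⊗ₜ[A] (1 : S))
    simp [ψ₁, f₁]
  have h2 : σ₂ (residue B b) = ψb₂ (residue _ (b ⊗ₜ[A] (1 : S))) := by
    change _ = ψ₂ (b ⊗ₜ[A] (1 : S))
    simp [ψ₂, f₂]
  rw [h1, h2, heq]

end PITens

end Groth.Agent.Lib.Helper37.Hz
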