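import Groth.Agent.Lib.Helper37.Hz41

set_option autoImplicit false
universe u

open IsLocalRing TensorProduct

namespace Groth.Agent.Lib.Helper37.Hz

namespace Unibranch

section General

variable (A S : Type u) [CommRing A] [IsDomain A] [CommRing S] [Algebra A S] [IsDomain S]

/-- General version of `isLocalRing_of_fg`: the tensor product itself is local. -/
theorem isLocalRing_tensor_of_fg' (hh : HenselianLocalRing S) (hff : Module.FaithfullyFlat A S)
    (A₁ : Subalgebra A (FractionRing A)) (hfg : A₁.toSubmodule.FG) :
    IsLocalRing (S ⊗[A] A₁) := by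
  haveI : Module.Flat A S := Module.FaithfullyFlat.toFlat
  have hinj : Function.Injective (algebraMap A S) := FaithfulSMul.algebraMap_injective A S
  haveI : Module.Finite A A₁ := Module.Finite.iff_fg.mpr hfg
  haveI : Nontrivial (S ⊗[A] A₁) := nontrivial_tens S hinj hfg
  obtain ⟨ι, _, B, _, hloc, ⟨e⟩⟩ := exists_pi_isLocalRing_of_finite S (S ⊗[A] A₁)
  haveI := hloc
  exact isLocalRing_of_pi e (idem_trivial S hfg)

theorem isLocalRing_of_fg' (hh : HenselianLocalRing S) (hff : Module.FaithfullyFlat A S)
    (A₁ : Subalgebra A (FractionRing A)) (hfg : A₁.toSubmodule.FG) : IsLocalRing A₁ := by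
  haveI : IsLocalRing (S ⊗[A] A₁) := isLocalRing_tensor_of_fg' A S hh hff A₁ hfg
  refine IsLocalRing.of_isUnit_or_isUnit_one_sub_self fun y => ?_
  rcases IsLocalRing.isUnit_or_isUnit_one_sub_self ((1 : S) ⊗ₜ[A] y) with h | h
  · exact Or.inl (isUnit_of_isUnit_one_tmul S y h)
  · right
    apply isUnit_of_isUnit_one_tmul (A := A) S
    rwa [TensorProduct.tmul_sub, ← Algebra.TensorProduct.one_def]

theorem isLocalRing_integralClosure_of_isDomain' (hh : HenselianLocalRing S)
    (hff : Module.FaithfullyFlat A S) :
    IsLocalRing (integralClosure A (FractionRing A)) := by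
  refine IsLocalRing.of_isUnit_or_isUnit_one_sub_self fun x => ?_
  have hx : IsIntegral A (x : FractionRing A) := x.2
  have hfg := hx.fg_adjoin_singleton
  haveI := isLocalRing_of_fg' A S hh hff _ hfg
  have hle : Algebra.adjoin A {(x : FractionRing A)} ≤ integralClosure A (FractionRing A) :=
    Algebra.adjoin_le (by
      rintro _ rfl
      exact hx)
  set x₁ : Algebra.adjoin A {(x : FractionRing A)} :=
    ⟨x, Algebra.subset_adjoin (Set.mem_singleton _)⟩ with hx₁
  have hincl : Subalgebra.inclusion hle x₁ = x := Subtype.ext rfl
  rcases IsLocalRing.isUnit_or_isUnit_one_sub_self x₁ with h | h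
  · left
    rw [← hincl]
    exact h.map _
  · right
    rw [← hincl, ← map_one (Subalgebra.inclusion hle), ← map_sub]
    exact h.map _

end General

section Strict

variable (A S : Type u) [CommRing A] [IsLocalRing A] [CommRing S] [IsLocalRing S] [Algebra A S]
  [IsLocalHom (algebraMap A S)] [hS : Hensel.IsStrictHenselization A S]

attribute [local instance] Algebra.TensorProduct.rightAlgebra

include hS in
/-- If the normalization of the local domain `A` is local with purely inseparable residue field
extension, the strict henselization of `A` is a domain. -/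
theorem isDomain_of_geomUnibranch [IsDomain A]
    [IsLocalRing (integralClosure A (FractionRing A))] (p : ℕ)
    [ExpChar (ResidueField (integralClosure A (FractionRing A))) p]
    (hpi : PITens.PI A (integralClosure A (FractionRing A)) p) : IsDomain S := by
  haveI : IsLocalHom (algebraMap A (integralClosure A (FractionRing A))) :=
    isLocalHom_of_isIntegral A _
  haveI : IsIntegrallyClosed (integralClosure A (FractionRing A)) :=
    integralClosure.isIntegrallyClosedOfFiniteExtension (FractionRing A)
  obtain ⟨h1, h2, h3⟩ :=
    PITens.isStrictHenselization A (integralClosure A (FractionRing A)) S p hpi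
  have h4 : IsDomain (integralClosure A (FractionRing A) ⊗[A] S) :=
    ((normal_iff_of_isStrictHenselization (integralClosure A (FractionRing A))
      (integralClosure A (FractionRing A) ⊗[A] S)).mp ⟨inferInstance, inferInstance⟩).1
  haveI : Module.Flat A S := (faithfullyFlat_of_isStrictHenselization A S).toFlat
  have hinj : Function.Injective (algebraMap A (integralClosure A (FractionRing A))) := by
    intro a b hab
    have := congrArg Subtype.val hab
    exact IsFractionRing.injective A (FractionRing A) this
  have h5 : Function.Injective (Algebra.TensorProduct.includeRight :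
      S →ₐ[A] integralClosure A (FractionRing A) ⊗[A] S) :=
    Algebra.TensorProduct.includeRight_injective hinj
  exact Function.Injective.isDomain
    (Algebra.TensorProduct.includeRight :
      S →ₐ[A] integralClosure A (FractionRing A) ⊗[A] S).toRingHom h5

include hS in
/-- If the strict henselization of the local domain `A` is a domain, then the normalization of
`A` is local with purely inseparable residue field extension. -/
theorem geomUnibranch_of_isDomain [IsDomain A] [IsDomain S] (p : ℕ)
    [ExpChar (ResidueField A) p] :
    ∃ _ : IsLocalRing (integralClosure A (FractionRing A)),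
      PITens.PI A (integralClosure A (FractionRing A)) p := by
  have hh : HenselianLocalRing S := hS.henselian
  have hff : Module.FaithfullyFlat A S := faithfullyFlat_of_isStrictHenselization A S
  have hloc : IsLocalRing (integralClosure A (FractionRing A)) :=
    isLocalRing_integralClosure_of_isDomain' A S hh hff
  refine ⟨hloc, fun x => ?_⟩
  have hx : IsIntegral A (x : FractionRing A) := x.2
  have hfg := hx.fg_adjoin_singleton
  have hle : Algebra.adjoin A {(x : FractionRing A)} ≤ integralClosure A (FractionRing A) :=
    Algebra.adjoin_le (by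
      rintro _ rfl
      exact hx)
  set A₁ : Subalgebra A (FractionRing A) := Algebra.adjoin A {(x : FractionRing A)} with hA₁
  haveI : IsLocalRing A₁ := isLocalRing_of_fg' A S hh hff _ hfg
  haveI : Module.Finite A A₁ := Module.Finite.iff_fg.mpr hfg
  haveI : Algebra.IsIntegral A A₁ := Algebra.IsIntegral.of_finite A A₁
  haveI : IsLocalHom (algebraMap A A₁) := isLocalHom_of_isIntegral A _
  have hloc1 : IsLocalRing (S ⊗[A] A₁) := isLocalRing_tensor_of_fg' A S hh hff A₁ hfg
  have hloc2 : IsLocalRing (A₁ ⊗[A] S) :=
    (Algebra.TensorProduct.comm A S A₁).toRingEquiv.isLocalRing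
  haveI : IsSepClosed (ResidueField S) := hS.isSepClosure.sep_closed
  haveI : Algebra.IsSeparable (ResidueField A) (ResidueField S) := hS.isSepClosure.separable
  haveI hpi : IsPurelyInseparable (ResidueField A) (ResidueField A₁) :=
    PITens.isPurelyInseparable_of_isLocalRing A A₁ S hloc2
  set x₁ : A₁ := ⟨x, Algebra.subset_adjoin (Set.mem_singleton _)⟩ with hx₁
  have hincl : Subalgebra.inclusion hle x₁ = x := Subtype.ext rfl
  obtain ⟨N, y, hy⟩ := IsPurelyInseparable.pow_mem (ResidueField A) p (residue A₁ x₁)
  obtain ⟨a, rfl⟩ := residue_surjective y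
  refine ⟨N, a, ?_⟩
  have h1 : x₁ ^ p ^ N - algebraMap A A₁ a ∈ maximalIdeal A₁ := by
    rw [← ker_residue, RingHom.mem_ker, map_sub, map_pow, ← hy, sub_eq_zero]
    rfl
  -- transfer along the local inclusion
  letI : Algebra A₁ (integralClosure A (FractionRing A)) :=
    (Subalgebra.inclusion hle).toRingHom.toAlgebra
  haveI : IsScalarTower A A₁ (integralClosure A (FractionRing A)) :=
    IsScalarTower.of_algebraMap_eq fun a => rfl
  haveI : Algebra.IsIntegral A₁ (integralClosure A (FractionRing A)) :=
    Algebra.IsIntegral.tower_top A (S := A₁)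
  haveI : IsLocalHom (algebraMap A₁ (integralClosure A (FractionRing A))) :=
    isLocalHom_of_isIntegral A₁ _
  have h2 := map_nonunit (algebraMap A₁ (integralClosure A (FractionRing A))) _ h1
  have h3 : algebraMap A₁ (integralClosure A (FractionRing A)) (x₁ ^ p ^ N - algebraMap A A₁ a) =
      x ^ p ^ N - algebraMap A (integralClosure A (FractionRing A)) a := by
    rw [map_sub, map_pow, ← IsScalarTower.algebraMap_apply]
    congr 2
  rw [h3] at h2
  exact h2

end Strict

end Unibranch

end Groth.Agent.Lib.Helper37.Hz
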