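import Groth.Agent.Lib.Helper37.Hz42

set_option autoImplicit false
universe u

open IsLocalRing TensorProduct

namespace Groth.Agent.Lib.Helper37.Hz

namespace Unibranch

section MainStrict

variable (A S : Type u) [CommRing A] [IsLocalRing A] [CommRing S] [IsLocalRing S] [Algebra A S]
  [IsLocalHom (algebraMap A S)] [hS : Hensel.IsStrictHenselization A S]

attribute [local instance] Algebra.TensorProduct.rightAlgebra

omit [IsLocalRing S] [IsLocalHom (algebraMap A S)] in
lemma pi_red (p : ℕ) : PITens.PI A (CAlg2.red A) p := by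
  intro b
  obtain ⟨a, rfl⟩ := Ideal.Quotient.mk_surjective b
  refine ⟨0, a, ?_⟩
  have : (Ideal.Quotient.mk (nilradical A) a) ^ p ^ 0 - algebraMap A (CAlg2.red A) a = 0 := by
    rw [pow_zero, pow_one]
    exact sub_self _
  rw [this]
  exact zero_mem _

include hS in
theorem isGeomUnibranch_iff_isDomain_tensor :
    CAlg2.IsGeomUnibranch A ↔ IsDomain (CAlg2.red A ⊗[A] S) := by
  obtain ⟨h1, h2, h3⟩ := PITens.isStrictHenselization A (CAlg2.red A) S
    (ringExpChar (ResidueField (CAlg2.red A))) (pi_red A _)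
  constructor
  · rintro ⟨⟨hdom, hloc⟩, hgeo⟩
    haveI := hloc
    refine isDomain_of_geomUnibranch (CAlg2.red A) (CAlg2.red A ⊗[A] S)
      (ringExpChar (ResidueField (CAlg2.normRed A))) ?_
    intro b
    obtain ⟨n, a, ha⟩ := hgeo (maximalIdeal (CAlg2.normRed A)) (Ideal.Quotient.mk _ b)
    refine ⟨n, Ideal.Quotient.mk _ a, ?_⟩
    rw [← Ideal.Quotient.eq]
    rw [map_pow]
    exact ha.symm
  · intro hdom
    haveI : Module.FaithfullyFlat (CAlg2.red A) (CAlg2.red A ⊗[A] S) :=
      faithfullyFlat_of_isStrictHenselization _ _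
    have hinj : Function.Injective (algebraMap (CAlg2.red A) (CAlg2.red A ⊗[A] S)) :=
      FaithfulSMul.algebraMap_injective _ _
    haveI : IsDomain (CAlg2.red A) := Function.Injective.isDomain _ hinj
    obtain ⟨hloc, hpi⟩ := geomUnibranch_of_isDomain (CAlg2.red A) (CAlg2.red A ⊗[A] S)
      (ringExpChar (ResidueField (CAlg2.red A)))
    refine ⟨⟨inferInstance, hloc⟩, fun m' hm' x => ?_⟩
    obtain rfl : m' = maximalIdeal (CAlg2.normRed A) := IsLocalRing.eq_maximalIdeal hm'
    haveI : IsLocalHom (algebraMap (CAlg2.red A) (CAlg2.normRed A)) :=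
      isLocalHom_of_isIntegral _ _
    haveI : ExpChar (CAlg2.normRed A ⧸ maximalIdeal (CAlg2.normRed A))
        (ringExpChar (ResidueField (CAlg2.red A))) :=
      expChar_of_injective_ringHom
        (algebraMap (ResidueField (CAlg2.red A)) (ResidueField (CAlg2.normRed A))).injective _
    rw [ringExpChar.eq (CAlg2.normRed A ⧸ maximalIdeal (CAlg2.normRed A))
      (ringExpChar (ResidueField (CAlg2.red A)))]
    obtain ⟨b, rfl⟩ := Ideal.Quotient.mk_surjective x
    obtain ⟨N, a₀, ha₀⟩ := hpi b
    obtain ⟨a, rfl⟩ := Ideal.Quotient.mk_surjective a₀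
    refine ⟨N, a, ?_⟩
    rw [← map_pow]
    exact ((Ideal.Quotient.eq).mpr ha₀).symm

include hS in
theorem isDomain_tensor_iff' :
    IsDomain (CAlg2.red A ⊗[A] S) ↔ (nilradical S).IsPrime := by
  have e1 : (S ⧸ (nilradical A).map (algebraMap A S)) ≃+* CAlg2.red A ⊗[A] S :=
    (Algebra.TensorProduct.quotIdealMapEquivQuotTensor S (nilradical A)).toRingEquiv
  have e2 : (S ⧸ nilradical S) ≃+* (S ⧸ (nilradical A).map (algebraMap A S)) :=
    Ideal.quotEquivOfEq (nilradical_map_of_isHenselization A S (Or.inr hS)).symm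
  rw [← Ideal.Quotient.isDomain_iff_prime]
  constructor
  · intro h
    exact (e2.trans e1).injective.isDomain (e2.trans e1).toRingHom
  · intro h
    exact (e2.trans e1).symm.injective.isDomain (e2.trans e1).symm.toRingHom

include hS in
theorem isGeomUnibranch_iff_nilradical_isPrime :
    CAlg2.IsGeomUnibranch A ↔ (nilradical S).IsPrime :=
  (isGeomUnibranch_iff_isDomain_tensor A S).trans (isDomain_tensor_iff' A S)

end MainStrict

end Unibranch

end Groth.Agent.Lib.Helper37.Hz
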