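import Groth.Agent.Lib.Helper37.Hz43

/-!
# Henselization project, part 44: nontriviality of `B ⊗_A S` for `B` integral local over `A`,
and the purely inseparable hypothesis from `IsPurelyInseparable`.
-/

set_option autoImplicit false
universe u

open IsLocalRing TensorProduct

namespace Groth.Agent.Lib.Helper37.Hz

namespace PITens

variable (A B S : Type u) [CommRing A] [IsLocalRing A] [CommRing B] [IsLocalRing B] [Algebra A B]
  [IsLocalHom (algebraMap A B)] [Algebra.IsIntegral A B]
  [CommRing S] [IsLocalRing S] [Algebra A S] [IsLocalHom (algebraMap A S)]

/-- `B ⊗_A S` is nontrivial when `B` is integral and local over `A` and `S` is any local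
`A`-algebra with local structure map. -/
theorem nontrivial_tensor : Nontrivial (B ⊗[A] S) := by
  haveI := isAlgebraic_residueField_left A B
  letI : Algebra (ResidueField A) (AlgebraicClosure (ResidueField S)) :=
    ((algebraMap (ResidueField S) (AlgebraicClosure (ResidueField S))).comp
      (algebraMap (ResidueField A) (ResidueField S))).toAlgebra
  let σ : ResidueField B →ₐ[ResidueField A] AlgebraicClosure (ResidueField S) :=
    IsAlgClosed.lift
  letI : Algebra A (AlgebraicClosure (ResidueField S)) :=
    ((algebraMap (ResidueField A) (AlgebraicClosure (ResidueField S))).comp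
      (residue A)).toAlgebra
  let f : B →ₐ[A] AlgebraicClosure (ResidueField S) :=
    { toRingHom := σ.toRingHom.comp (residue B)
      commutes' := fun a => by
        have : residue B (algebraMap A B a) =
            algebraMap (ResidueField A) (ResidueField B) (residue A a) := rfl
        change σ (residue B (algebraMap A B a)) = _
        rw [this, σ.commutes]
        rfl }
  let g : S →ₐ[A] AlgebraicClosure (ResidueField S) :=
    { toRingHom := (algebraMap (ResidueField S) (AlgebraicClosure (ResidueField S))).comp
        (residue S)
      commutes' := fun a => rfl }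
  let ψ : B ⊗[A] S →ₐ[A] AlgebraicClosure (ResidueField S) :=
    Algebra.TensorProduct.lift f g (fun _ _ => Commute.all _ _)
  exact ψ.toRingHom.domain_nontrivial

/-- The power formulation from `IsPurelyInseparable`. -/
theorem pi_of_isPurelyInseparable
    [IsPurelyInseparable (ResidueField A) (ResidueField B)] (p : ℕ)
    [ExpChar (ResidueField A) p] : PI A B p := by
  intro b
  obtain ⟨N, y, hy⟩ := IsPurelyInseparable.pow_mem (ResidueField A) p (residue B b)
  obtain ⟨a, rfl⟩ := residue_surjective y
  refine ⟨N, a, ?_⟩
  rw [← ker_residue, RingHom.mem_ker, map_sub, map_pow, ← hy, sub_eq_zero]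
  rfl

end PITens

end Groth.Agent.Lib.Helper37.Hz
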