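import Groth.Agent.Lib.Helper37.Hz44

set_option autoImplicit false
universe u

open IsLocalRing TensorProduct

namespace Groth.Agent.Lib.Helper37.Hz

namespace Birat

variable {A A' S : Type u} [CommRing A] [CommRing A'] [Algebra A A'] [CommRing S] [Algebra A S]

attribute [local instance] Algebra.TensorProduct.rightAlgebra

/-- Elements of the kernel of `S → A' ⊗ S` are nilpotent when `A → A'` has nil kernel and `S` is
flat. -/
lemma isNilpotent_of_one_tmul_eq_zero [Module.Flat A S]
    (hker : ∀ a : A, algebraMap A A' a = 0 → IsNilpotent a) (s : S)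
    (hs : (1 : A') ⊗ₜ[A] s = 0) : IsNilpotent s := by
  let g : A →ₗ[A] A' := Algebra.linearMap A A'
  have hex : Function.Exact (LinearMap.ker g).subtype g := LinearMap.exact_subtype_ker_map g
  have hex' := Module.Flat.rTensor_exact S hex
  have h1 : (g.rTensor S) ((1 : A) ⊗ₜ[A] s) = 0 := by
    rw [LinearMap.rTensor_tmul]
    simpa [g] using hs
  obtain ⟨y, hy⟩ := (hex' _).mp h1
  have key : ∀ y : (LinearMap.ker g) ⊗[A] S,
      TensorProduct.lid A S (((LinearMap.ker g).subtype.rTensor S) y) ∈ nilradical S := by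
    intro y
    induction y using TensorProduct.induction_on with
    | zero => simp
    | tmul n s' =>
      rw [LinearMap.rTensor_tmul, TensorProduct.lid_tmul, Submodule.subtype_apply,
        Algebra.smul_def]
      have hn : IsNilpotent (n : A) := hker _ (LinearMap.mem_ker.mp n.2)
      exact Ideal.mul_mem_right _ _ (mem_nilradical.mpr (hn.map (algebraMap A S)))
    | add x y hx hy =>
      rw [map_add, map_add]
      exact Ideal.add_mem _ hx hy
  have := key y
  rw [hy, TensorProduct.lid_tmul, one_smul] at this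
  exact mem_nilradical.mp this

/-- Elements of `T` act as nonzerodivisors on `A' ⊗ S`. -/
lemma algebraMap_mem_nonZeroDivisors [Module.Flat A S] (t : A)
    (ht : ∀ x : A', algebraMap A A' t * x = 0 → x = 0) :
    algebraMap A (A' ⊗[A] S) t ∈ nonZeroDivisors (A' ⊗[A] S) := by
  have hinj : Function.Injective (LinearMap.lsmul A A' t) := by
    rw [injective_iff_map_eq_zero]
    intro x hx
    apply ht
    rw [← Algebra.smul_def]
    exact hx
  have h2 := Module.Flat.rTensor_preserves_injective_linearMap (M := S) _ hinj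
  have h3 : ∀ c : A' ⊗[A] S, ((LinearMap.lsmul A A' t).rTensor S) c =
      algebraMap A (A' ⊗[A] S) t * c := by
    intro c
    induction c using TensorProduct.induction_on with
    | zero => simp
    | tmul x s =>
      rw [LinearMap.rTensor_tmul, Algebra.TensorProduct.algebraMap_apply,
        Algebra.TensorProduct.tmul_mul_tmul, one_mul, LinearMap.lsmul_apply, Algebra.smul_def]
    | add x y hx hy => rw [map_add, hx, hy, mul_add]
  rw [mem_nonZeroDivisors_iff_right]
  intro c hc
  apply h2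
  rw [h3, mul_comm, hc, map_zero]

/-- Every element of `A' ⊗ S` has a multiple by an element of `T` in the image of `S`. -/
lemma exists_smul_eq (T : Submonoid A)
    (hbir : ∀ x : A', ∃ t ∈ T, ∃ a : A, algebraMap A A' t * x = algebraMap A A' a)
    (c : A' ⊗[A] S) :
    ∃ t ∈ T, ∃ s : S, algebraMap A (A' ⊗[A] S) t * c = (1 : A') ⊗ₜ[A] s := by
  induction c using TensorProduct.induction_on with
  | zero => exact ⟨1, T.one_mem, 0, by simp⟩
  | tmul x s =>
    obtain ⟨t, ht, a, ha⟩ := hbir x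
    refine ⟨t, ht, a • s, ?_⟩
    rw [Algebra.TensorProduct.algebraMap_apply, Algebra.TensorProduct.tmul_mul_tmul, one_mul, ha,
      Algebra.algebraMap_eq_smul_one, TensorProduct.smul_tmul]
  | add x y hx hy =>
    obtain ⟨t₁, ht₁, s₁, h₁⟩ := hx
    obtain ⟨t₂, ht₂, s₂, h₂⟩ := hy
    refine ⟨t₁ * t₂, T.mul_mem ht₁ ht₂, t₂ • s₁ + t₁ • s₂, ?_⟩
    rw [map_mul, mul_add, mul_comm (algebraMap A (A' ⊗[A] S) t₁), mul_assoc, h₁,
      mul_comm (algebraMap A (A' ⊗[A] S) t₂) (algebraMap A (A' ⊗[A] S) t₁), mul_assoc, h₂,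
      TensorProduct.tmul_add, TensorProduct.tmul_smul, TensorProduct.tmul_smul,
      Algebra.smul_def, Algebra.smul_def]

/-- **Birational invariance of minimal primes**: for `A → A'` integral with nil kernel which
becomes surjective after inverting a multiplicative set `T` of nonzerodivisors on `A'`, and `S`
flat over `A`, contraction is a bijection from the minimal primes of `A' ⊗ S` to those of `S`. -/
theorem bijOn_minimalPrimes [Algebra.IsIntegral A A'] [Module.Flat A S] (T : Submonoid A)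
    (hT : ∀ t ∈ T, ∀ x : A', algebraMap A A' t * x = 0 → x = 0)
    (hbir : ∀ x : A', ∃ t ∈ T, ∃ a : A, algebraMap A A' t * x = algebraMap A A' a)
    (hker : ∀ a : A, algebraMap A A' a = 0 → IsNilpotent a) :
    Set.BijOn (fun P : Ideal (A' ⊗[A] S) =>
        P.comap (Algebra.TensorProduct.includeRight.toRingHom : S →+* A' ⊗[A] S))
      (minimalPrimes (A' ⊗[A] S)) (minimalPrimes S) := by
  haveI : Algebra.IsIntegral S (A' ⊗[A] S) := IntTens.isIntegral A A' S
  have hincl : (Algebra.TensorProduct.includeRight.toRingHom : S →+* A' ⊗[A] S) =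
      algebraMap S (A' ⊗[A] S) := rfl
  -- key comparison
  have hLE : ∀ P₁ P₂ : Ideal (A' ⊗[A] S), P₂ ∈ minimalPrimes (A' ⊗[A] S) →
      P₁.comap (algebraMap S (A' ⊗[A] S)) ≤ P₂.comap (algebraMap S (A' ⊗[A] S)) → P₁ ≤ P₂ := by
    intro P₁ P₂ hP₂ hle c hc
    haveI := hP₂.1.1
    obtain ⟨t, ht, s, hs⟩ := exists_smul_eq (S := S) T hbir c
    have h1 : (1 : A') ⊗ₜ[A] s ∈ P₁ := hs ▸ Ideal.mul_mem_left _ _ hc
    have h2 : (1 : A') ⊗ₜ[A] s ∈ P₂ := hle h1
    rw [← hs] at h2
    rcases Ideal.IsPrime.mem_or_mem inferInstance h2 with h3 | h3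
    · exfalso
      exact Set.disjoint_left.mp (Ideal.disjoint_nonZeroDivisors_of_mem_minimalPrimes hP₂) h3
        (algebraMap_mem_nonZeroDivisors t (hT t ht))
    · exact h3
  -- lying over for minimal primes
  have hLO : ∀ P ∈ minimalPrimes S, ∃ P' ∈ minimalPrimes (A' ⊗[A] S),
      P'.comap (algebraMap S (A' ⊗[A] S)) = P := by
    intro P hP
    haveI := hP.1.1
    have hk : (⊥ : Ideal (A' ⊗[A] S)).comap (algebraMap S (A' ⊗[A] S)) ≤ P := by
      intro s hs
      rw [Ideal.mem_comap, Ideal.mem_bot] at hs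
      have hn : IsNilpotent s := isNilpotent_of_one_tmul_eq_zero hker s hs
      exact nilradical_le_prime P (mem_nilradical.mpr hn)
    obtain ⟨Q, -, hQ, hQP⟩ := Ideal.exists_ideal_over_prime_of_isIntegral P
      (⊥ : Ideal (A' ⊗[A] S)) hk
    obtain ⟨P', hP', hP'Q⟩ := Ideal.exists_minimalPrimes_le (I := ⊥) (J := Q) bot_le
    refine ⟨P', hP', ?_⟩
    haveI := hP'.1.1
    have hle : P'.comap (algebraMap S (A' ⊗[A] S)) ≤ P := hQP ▸ Ideal.comap_mono hP'Q
    exact le_antisymm hle (hP.2 ⟨inferInstance, bot_le⟩ hle)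
  rw [hincl]
  refine ⟨?_, ?_, ?_⟩
  · intro P' hP'
    haveI := hP'.1.1
    obtain ⟨P₁, hP₁, hP₁le⟩ := Ideal.exists_minimalPrimes_le (I := ⊥)
      (J := P'.comap (algebraMap S (A' ⊗[A] S))) bot_le
    obtain ⟨P₁', hP₁', hP₁'c⟩ := hLO P₁ hP₁
    have h1 : P₁' ≤ P' := hLE P₁' P' hP' (hP₁'c ▸ hP₁le)
    have h2 : P₁' = P' := le_antisymm h1 (hP'.2 hP₁'.1 h1)
    change P'.comap (algebraMap S (A' ⊗[A] S)) ∈ minimalPrimes S
    rw [← h2, hP₁'c]
    exact hP₁
  · intro P₁ hP₁ P₂ hP₂ h
    exact le_antisymm (hLE P₁ P₂ hP₂ (le_of_eq h)) (hLE P₂ P₁ hP₁ (le_of_eq h.symm))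
  · intro P hP
    obtain ⟨P', hP', hc⟩ := hLO P hP
    exact ⟨P', hP', hc⟩

end Birat

end Groth.Agent.Lib.Helper37.Hz
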