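import Groth.Agent.Lib.Helper37.Hz45

set_option autoImplicit false
universe u

open IsLocalRing TensorProduct

namespace Groth.Agent.Lib.Helper37.Hz

namespace Birat

variable (A : Type u) [CommRing A]

/-- Elements of `A` whose image in `A_red` is a nonzerodivisor. -/
def T : Submonoid A := (nonZeroDivisors (CAlg2.red A)).comap (Ideal.Quotient.mk (nilradical A))

instance : Algebra.IsIntegral A (CAlg2.red A) :=
  Algebra.isIntegral_of_surjective Ideal.Quotient.mk_surjective

instance : Algebra.IsIntegral (CAlg2.red A) (CAlg2.normRed A) :=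
  integralClosure.AlgebraIsIntegral

instance isIntegral_normRed : Algebra.IsIntegral A (CAlg2.normRed A) :=
  Algebra.IsIntegral.trans (CAlg2.red A)

lemma coe_algebraMap (a : A) :
    ((algebraMap A (CAlg2.normRed A) a : CAlg2.normRed A) : FractionRing (CAlg2.red A)) =
      algebraMap (CAlg2.red A) (FractionRing (CAlg2.red A)) (Ideal.Quotient.mk _ a) := rfl

lemma normRed_hT (t : A) (ht : t ∈ T A) (x : CAlg2.normRed A)
    (h : algebraMap A (CAlg2.normRed A) t * x = 0) : x = 0 := by
  have h1 := congrArg (Subtype.val) h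
  rw [Subalgebra.coe_mul, coe_algebraMap, Subalgebra.coe_zero] at h1
  have hu : IsUnit (algebraMap (CAlg2.red A) (FractionRing (CAlg2.red A))
      (Ideal.Quotient.mk _ t)) :=
    IsLocalization.map_units (FractionRing (CAlg2.red A))
      (⟨Ideal.Quotient.mk _ t, ht⟩ : nonZeroDivisors (CAlg2.red A))
  exact Subtype.ext (hu.mul_right_eq_zero.mp h1)

lemma normRed_hbir (x : CAlg2.normRed A) :
    ∃ t ∈ T A, ∃ a : A, algebraMap A (CAlg2.normRed A) t * x = algebraMap A (CAlg2.normRed A) a := by
  obtain ⟨⟨a₀, b⟩, hab⟩ := IsLocalization.surj (nonZeroDivisors (CAlg2.red A))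
    (x : FractionRing (CAlg2.red A))
  obtain ⟨t, ht⟩ := Ideal.Quotient.mk_surjective (b : CAlg2.red A)
  obtain ⟨a, ha⟩ := Ideal.Quotient.mk_surjective a₀
  refine ⟨t, ?_, a, ?_⟩
  · change Ideal.Quotient.mk _ t ∈ nonZeroDivisors (CAlg2.red A)
    rw [ht]
    exact b.2
  · apply Subtype.ext
    rw [Subalgebra.coe_mul, coe_algebraMap, coe_algebraMap, ht, ha, mul_comm]
    exact hab

lemma normRed_hker (a : A) (h : algebraMap A (CAlg2.normRed A) a = 0) : IsNilpotent a := by
  have h1 := congrArg (Subtype.val) h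
  rw [coe_algebraMap, Subalgebra.coe_zero,
    map_eq_zero_iff _ (IsFractionRing.injective (CAlg2.red A) (FractionRing (CAlg2.red A))),
    Ideal.Quotient.eq_zero_iff_mem, mem_nilradical] at h1
  exact h1

/-- Contraction is a bijection from the minimal primes of `normRed A ⊗ S` to those of `S`, for
every flat `A`-algebra `S`. -/
theorem bijOn_minimalPrimes_normRed (S : Type u) [CommRing S] [Algebra A S] [Module.Flat A S] :
    Set.BijOn (fun P : Ideal (CAlg2.normRed A ⊗[A] S) =>
        P.comap (Algebra.TensorProduct.includeRight.toRingHom : S →+* CAlg2.normRed A ⊗[A] S))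
      (minimalPrimes (CAlg2.normRed A ⊗[A] S)) (minimalPrimes S) :=
  bijOn_minimalPrimes (T A) (normRed_hT A) (normRed_hbir A) (normRed_hker A)

end Birat

end Groth.Agent.Lib.Helper37.Hz
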