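import Groth.Agent.Lib.Helper37.Hz46

set_option autoImplicit false
universe u

open Polynomial

namespace Groth.Agent.Lib.Helper37.Hz

namespace TotNorm

variable {B Q : Type*} [CommRing B] [CommRing Q] [Algebra B Q]

/-- Hypotheses: `B` is a reduced ring with finitely many minimal primes, integrally closed in an
overring `Q` in which all nonzerodivisors of `B` are invertible. -/
structure Hyp (B Q : Type*) [CommRing B] [CommRing Q] [Algebra B Q] : Prop where
  red : IsReduced B
  inj : Function.Injective (algebraMap B Q)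
  unit : ∀ u ∈ nonZeroDivisors B, IsUnit (algebraMap B Q u)
  closed : ∀ x : Q, IsIntegral B x → ∃ b, algebraMap B Q b = x
  fin : (minimalPrimes B).Finite

lemma eq_zero_of_forall_mem [IsReduced B] (y : B) (h : ∀ q ∈ minimalPrimes B, y ∈ q) : y = 0 := by
  have h1 : y ∈ sInf (minimalPrimes B) := by
    rw [Ideal.mem_sInf]
    exact fun {q} hq => h q hq
  rw [minimalPrimes, Ideal.sInf_minimalPrimes] at h1
  have h2 : (⊥ : Ideal B).radical = nilradical B := rfl
  rw [h2, nilradical_eq_zero] at h1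
  exact h1

lemma mem_nonZeroDivisors_of_forall_not_mem [IsReduced B] (u : B)
    (h : ∀ q ∈ minimalPrimes B, u ∉ q) : u ∈ nonZeroDivisors B := by
  rw [mem_nonZeroDivisors_iff_right]
  intro y hy
  apply eq_zero_of_forall_mem
  intro q hq
  haveI := hq.1.1
  have : y * u ∈ q := hy ▸ q.zero_mem
  exact (Ideal.IsPrime.mem_or_mem inferInstance this).resolve_right (h q hq)

variable (H : Hyp B Q)
include H

/-- The idempotent attached to a minimal prime. -/
theorem exists_idempotent (p : Ideal B) (hp : p ∈ minimalPrimes B) :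
    ∃ e : B, e * e = e ∧ 1 - e ∈ p ∧ (∀ y ∈ p, e * y = 0) ∧
      ∀ q ∈ minimalPrimes B, q ≠ p → e ∈ q := by
  classical
  haveI := H.red
  haveI hpp : p.IsPrime := hp.1.1
  set s : Finset (Ideal B) := H.fin.toFinset.erase p with hs
  have hs_mem : ∀ q, q ∈ s ↔ q ∈ minimalPrimes B ∧ q ≠ p := by
    intro q
    rw [hs, Finset.mem_erase, Set.Finite.mem_toFinset, and_comm]
  -- a ∈ ⋂_{q ≠ p} q, a ∉ p
  have ha : ∃ a : B, a ∈ s.inf id ∧ a ∉ p := by
    have : ¬ s.inf id ≤ p := by
      intro hle
      obtain ⟨q, hq, hqp⟩ := (Ideal.IsPrime.inf_le' hpp).mp hle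
      obtain ⟨hq1, hq2⟩ := (hs_mem q).mp hq
      exact hq2 (le_antisymm hqp (hp.2 hq1.1 hqp))
    exact SetLike.not_le_iff_exists.mp this
  obtain ⟨a, has, hap⟩ := ha
  have haq : ∀ q ∈ s, a ∈ q := by
    intro q hq
    have : s.inf id ≤ id q := Finset.inf_le hq
    exact this has
  -- b ∈ p, b ∉ q for q ≠ p
  have hb : ∃ b : B, b ∈ p ∧ ∀ q ∈ s, b ∉ q := by
    have : ¬ ((p : Set B) ⊆ ⋃ q ∈ (↑s : Set (Ideal B)), (id q : Ideal B)) := by
      intro hsub
      obtain ⟨q, hq, hpq⟩ := (Ideal.subset_union_prime (f := id) p p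
        (fun q hq _ _ => ((hs_mem q).mp hq).1.1.1)).mp hsub
      obtain ⟨hq1, hq2⟩ := (hs_mem q).mp hq
      exact hq2 (le_antisymm (hq1.2 hp.1 hpq) hpq)
    rw [Set.not_subset] at this
    obtain ⟨b, hbp, hbn⟩ := this
    refine ⟨b, hbp, fun q hq hbq => hbn ?_⟩
    simp only [Set.mem_iUnion]
    exact ⟨q, hq, hbq⟩
  obtain ⟨b, hbp, hbq⟩ := hb
  have hab : a * b = 0 := by
    apply eq_zero_of_forall_mem
    intro q hq
    by_cases hqp : q = p
    · rw [hqp]
      exact Ideal.mul_mem_left _ _ hbp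
    · exact Ideal.mul_mem_right _ _ (haq q ((hs_mem q).mpr ⟨hq, hqp⟩))
  have hu_not : ∀ q ∈ minimalPrimes B, a + b ∉ q := by
    intro q hq hmem
    by_cases hqp : q = p
    · rw [hqp] at hmem
      exact hap ((Ideal.add_mem_iff_left _ hbp).mp hmem)
    · have hq' := (hs_mem q).mpr ⟨hq, hqp⟩
      exact hbq q hq' ((Ideal.add_mem_iff_right _ (haq q hq')).mp hmem)
  have hu : a + b ∈ nonZeroDivisors B := mem_nonZeroDivisors_of_forall_not_mem _ hu_not
  obtain ⟨w, hw⟩ := (H.unit _ hu).exists_right_inv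
  -- the idempotent in Q
  have hsq : a * a = a * (a + b) := by rw [mul_add, hab, add_zero]
  have hε : IsIdempotentElem (algebraMap B Q a * w) := by
    unfold IsIdempotentElem
    have h1 : algebraMap B Q a * algebraMap B Q a = algebraMap B Q a * algebraMap B Q (a + b) := by
      rw [← map_mul, hsq, map_mul]
    calc algebraMap B Q a * w * (algebraMap B Q a * w)
        = (algebraMap B Q a * algebraMap B Q a) * w * w := by ring
      _ = algebraMap B Q a * (algebraMap B Q (a + b) * w) * w := by rw [h1]; ring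
      _ = algebraMap B Q a * w := by rw [hw, mul_one]
  have hint : IsIntegral B (algebraMap B Q a * w) := by
    nontriviality B
    refine ⟨X ^ 2 - X, monic_X_pow_sub (by rw [degree_X]; norm_num), ?_⟩
    simp only [eval₂_sub, eval₂_pow, eval₂_X]
    rw [pow_two, hε.eq, sub_self]
  obtain ⟨e, he⟩ := H.closed _ hint
  have hee : e * e = e := by
    apply H.inj
    rw [map_mul, he]
    exact hε.eq
  have heu : e * (a + b) = a := by
    apply H.inj
    rw [map_mul, he, mul_assoc, mul_comm w, hw, mul_one]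
  have h1e : (1 - e) * (a + b) = b := by
    rw [sub_mul, one_mul, heu, add_sub_cancel_left]
  have h1ep : 1 - e ∈ p := by
    have : (1 - e) * (a + b) ∈ p := by rw [h1e]; exact hbp
    exact (hpp.mem_or_mem this).resolve_right (hu_not p hp)
  have heq : ∀ q ∈ minimalPrimes B, q ≠ p → e ∈ q := by
    intro q hq hqp
    haveI := hq.1.1
    have hq' := (hs_mem q).mpr ⟨hq, hqp⟩
    have : e * (a + b) ∈ q := by rw [heu]; exact haq q hq'
    exact (Ideal.IsPrime.mem_or_mem inferInstance this).resolve_right (hu_not q hq)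
  refine ⟨e, hee, h1ep, fun y hy => ?_, heq⟩
  apply eq_zero_of_forall_mem
  intro q hq
  by_cases hqp : q = p
  · rw [hqp]
    exact Ideal.mul_mem_left _ _ hy
  · exact Ideal.mul_mem_right _ _ (heq q hq hqp)

/-- The quotient of `B` by a minimal prime is an integrally closed domain. -/
theorem isIntegrallyClosed_quotient (p : Ideal B) [hpp : p.IsPrime] (hp : p ∈ minimalPrimes B) :
    IsIntegrallyClosed (B ⧸ p) := by
  classical
  haveI := H.red
  obtain ⟨e, hee, h1e, hep, heq⟩ := exists_idempotent H p hp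
  rw [isIntegrallyClosed_iff (FractionRing (B ⧸ p))]
  intro x hx
  obtain ⟨g, hg, hgx⟩ := hx
  obtain ⟨ab, bb, hbb, rfl⟩ := IsFractionRing.div_surjective (A := B ⧸ p) x
  obtain ⟨a, rfl⟩ := Ideal.Quotient.mk_surjective ab
  obtain ⟨b, rfl⟩ := Ideal.Quotient.mk_surjective bb
  obtain ⟨G, hGmap, -, hGmonic⟩ := lifts_and_natDegree_eq_and_monic
    (f := Ideal.Quotient.mk p) (p := g)
    ((mem_lifts _).mpr (map_surjective _ Ideal.Quotient.mk_surjective g)) hg
  have hinjK := IsFractionRing.injective (B ⧸ p) (FractionRing (B ⧸ p))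
  have h1 : aeval (algebraMap (B ⧸ p) (FractionRing (B ⧸ p)) (Ideal.Quotient.mk p a))
      (scaleRoots g (Ideal.Quotient.mk p b)) = 0 :=
    scaleRoots_aeval_eq_zero_of_aeval_div_eq_zero hinjK hgx hbb
  have h2 : eval (Ideal.Quotient.mk p a) (scaleRoots g (Ideal.Quotient.mk p b)) = 0 := by
    apply hinjK
    rw [map_zero, ← h1, aeval_algebraMap_apply, coe_aeval_eq_eval]
  have hlead : Ideal.Quotient.mk p G.leadingCoeff ≠ 0 := by
    rw [hGmonic.leadingCoeff, map_one]
    exact one_ne_zero
  have hmk : ∀ (a' b' : B), Ideal.Quotient.mk p (eval a' (scaleRoots G b')) =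
      eval (Ideal.Quotient.mk p a') (scaleRoots g (Ideal.Quotient.mk p b')) := by
    intro a' b'
    rw [← hGmap, ← map_scaleRoots G b' (Ideal.Quotient.mk p) hlead, eval_map, eval₂_hom]
  have hbp : b ∉ p := by
    intro hb
    have : Ideal.Quotient.mk p b = 0 := Ideal.Quotient.eq_zero_iff_mem.mpr hb
    exact nonZeroDivisors.ne_zero hbb this
  set b' : B := e * b + (1 - e) with hb'
  have hmkb : Ideal.Quotient.mk p b' = Ideal.Quotient.mk p b := by
    rw [Ideal.Quotient.eq]
    have : b' - b = (1 - e) * (1 - b) := by rw [hb']; ring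
    rw [this]
    exact Ideal.mul_mem_right _ _ h1e
  have hmka : Ideal.Quotient.mk p (e * a) = Ideal.Quotient.mk p a := by
    rw [Ideal.Quotient.eq]
    have : e * a - a = -((1 - e) * a) := by ring
    rw [this]
    exact neg_mem (Ideal.mul_mem_right _ _ h1e)
  have hb'nz : b' ∈ nonZeroDivisors B := by
    apply mem_nonZeroDivisors_of_forall_not_mem
    intro q hq hmem
    by_cases hqp : q = p
    · rw [hqp] at hmem
      apply hbp
      rw [← Ideal.Quotient.eq_zero_iff_mem, ← hmkb, Ideal.Quotient.eq_zero_iff_mem]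
      exact hmem
    · have h3 : e * (b - 1) ∈ q := Ideal.mul_mem_right _ _ (heq q hq hqp)
      have h4 : b' - e * (b - 1) = 1 := by rw [hb']; ring
      have : (1 : B) ∈ q := h4 ▸ Ideal.sub_mem _ hmem h3
      exact hq.1.1.ne_top ((Ideal.eq_top_iff_one _).mpr this)
  obtain ⟨w', hw'⟩ := (H.unit _ hb'nz).exists_right_inv
  set y : Q := algebraMap B Q (e * a) * w' with hy
  -- the element `H'`
  have hH' : eval (e * a) (scaleRoots G b') ∈ p := by
    rw [← Ideal.Quotient.eq_zero_iff_mem, hmk, hmka, hmkb]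
    exact h2
  have heH' : e * eval (e * a) (scaleRoots G b') = 0 := hep _ hH'
  have hby : algebraMap B Q b' * y = algebraMap B Q (e * a) := by
    rw [hy, mul_comm, mul_assoc, mul_comm w', hw', mul_one]
  have h5 : algebraMap B Q b' ^ G.natDegree * eval₂ (algebraMap B Q) y G =
      algebraMap B Q (eval (e * a) (scaleRoots G b')) := by
    rw [← scaleRoots_eval₂_mul, hby, ← aeval_def, aeval_algebraMap_apply, coe_aeval_eq_eval]
  have h6 : algebraMap B Q e * eval₂ (algebraMap B Q) y G = 0 := by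
    have hu : IsUnit (algebraMap B Q b' ^ G.natDegree) := (H.unit _ hb'nz).pow _
    apply hu.mul_left_cancel
    rw [mul_zero, mul_left_comm, h5, ← map_mul, heH', map_zero]
  have hey : algebraMap B Q e * y = y := by
    rw [hy, ← mul_assoc, ← map_mul, ← mul_assoc, hee]
  have h7 : y * eval₂ (algebraMap B Q) y G = 0 := by
    calc y * eval₂ (algebraMap B Q) y G
        = (algebraMap B Q e * y) * eval₂ (algebraMap B Q) y G := by rw [hey]
      _ = y * (algebraMap B Q e * eval₂ (algebraMap B Q) y G) := by ring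
      _ = 0 := by rw [h6, mul_zero]
  have hint : IsIntegral B y := by
    refine ⟨X * G, monic_X.mul hGmonic, ?_⟩
    rw [eval₂_mul, eval₂_X]
    exact h7
  obtain ⟨z, hz⟩ := H.closed y hint
  have hzb : z * b' = e * a := by
    apply H.inj
    rw [map_mul, hz, mul_comm]
    exact hby
  refine ⟨Ideal.Quotient.mk p z, ?_⟩
  have hne : algebraMap (B ⧸ p) (FractionRing (B ⧸ p)) (Ideal.Quotient.mk p b) ≠ 0 := by
    intro h0
    exact nonZeroDivisors.ne_zero hbb (hinjK (h0.trans (map_zero _).symm))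
  rw [eq_div_iff hne, ← map_mul, ← hmkb, ← map_mul, hzb, hmka]

end TotNorm

end Groth.Agent.Lib.Helper37.Hz
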