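import Groth.Agent.Lib.Helper37.Hz47

set_option autoImplicit false
universe u

open TensorProduct

namespace Groth.Agent.Lib.Helper37.Hz

namespace TotNorm

/-- Finiteness of minimal primes transfers along ring isomorphisms. -/
lemma finite_minimalPrimes_of_ringEquiv {R R' : Type*} [CommRing R] [CommRing R']
    (e : R ≃+* R') (h : (minimalPrimes R).Finite) : (minimalPrimes R').Finite := by
  have h1 := Ideal.comap_minimalPrimes_eq_of_surjective (f := (e : R →+* R')) e.surjective ⊥
  have h2 : (⊥ : Ideal R').comap (e : R →+* R') = ⊥ := by
    ext x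
    rw [Ideal.mem_comap, Ideal.mem_bot, Ideal.mem_bot]
    exact map_eq_zero_iff e e.injective
  rw [h2] at h1
  have h3 : (Ideal.comap (e : R →+* R') '' (⊥ : Ideal R').minimalPrimes).Finite := by
    rw [← h1]
    exact h
  exact Set.Finite.of_finite_image h3
    (Ideal.comap_injective_of_surjective _ e.surjective).injOn

variable (A : Type u) [CommRing A]

/-- The integral closure of `A_red` in its total ring of fractions satisfies `TotNorm.Hyp`
when `A` has finitely many minimal primes. -/
theorem hyp_normRed (hfin : (minimalPrimes A).Finite) :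
    Hyp (CAlg2.normRed A) (FractionRing (CAlg2.red A)) where
  red := by
    haveI : IsReduced (CAlg2.red A) := by
      change IsReduced (A ⧸ nilradical A)
      rw [← Ideal.isRadical_iff_quotient_reduced]
      exact Ideal.radical_isRadical _
    exact isReduced_of_injective (algebraMap (CAlg2.normRed A) (FractionRing (CAlg2.red A)))
      Subtype.val_injective
  inj := Subtype.val_injective
  unit := by
    intro u hu
    obtain ⟨⟨a₀, t⟩, hat⟩ := IsLocalization.surj (nonZeroDivisors (CAlg2.red A))
      (u : FractionRing (CAlg2.red A))
    have hinj := IsFractionRing.injective (CAlg2.red A) (FractionRing (CAlg2.red A))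
    have ha₀ : a₀ ∈ nonZeroDivisors (CAlg2.red A) := by
      rw [mem_nonZeroDivisors_iff_right]
      intro c hc
      have h1 : (algebraMap (CAlg2.red A) (CAlg2.normRed A) (c * t)) * u = 0 := by
        apply Subtype.val_injective
        change algebraMap (CAlg2.red A) (FractionRing (CAlg2.red A)) (c * t) *
          (u : FractionRing (CAlg2.red A)) = 0
        rw [map_mul, mul_assoc, mul_comm (algebraMap _ _ (t : CAlg2.red A)), hat, ← map_mul, hc,
          map_zero]
      have h2 := (mem_nonZeroDivisors_iff_right.mp hu) _ h1
      have h3 : c * t = 0 := by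
        apply hinj
        rw [map_zero]
        exact congrArg Subtype.val h2
      exact (mem_nonZeroDivisors_iff_right.mp t.2) c h3
    have hu1 : IsUnit (algebraMap (CAlg2.red A) (FractionRing (CAlg2.red A)) a₀) :=
      IsLocalization.map_units _ (⟨a₀, ha₀⟩ : nonZeroDivisors (CAlg2.red A))
    rw [← hat] at hu1
    exact isUnit_of_mul_isUnit_left hu1
  closed := by
    intro x hx
    have : IsIntegral (CAlg2.red A) x := isIntegral_trans x hx
    exact ⟨⟨x, this⟩, rfl⟩
  fin := by
    haveI : Module.Flat A A := inferInstance
    have h1 := Birat.bijOn_minimalPrimes_normRed A A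
    have h2 : (minimalPrimes (CAlg2.normRed A ⊗[A] A)).Finite := h1.finite_iff_finite.mpr hfin
    exact finite_minimalPrimes_of_ringEquiv (R := CAlg2.normRed A ⊗[A] A) (R' := CAlg2.normRed A)
      (Algebra.TensorProduct.rid A A (CAlg2.normRed A)).toRingEquiv h2

end TotNorm

end Groth.Agent.Lib.Helper37.Hz
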