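import Groth.Agent.Lib.Helper37.Hz48

set_option autoImplicit false
universe u

open TensorProduct

namespace Groth.Agent.Lib.Helper37.Hz

namespace TotNorm

open Groth.Agent.Lib.Helper4

/-- Every element of `(B ⧸ p) ⊗ E` is of the form `1 ⊗ z`. -/
lemma exists_one_tmul {B : Type*} [CommRing B] (p : Ideal B) {E : Type*} [CommRing E]
    [Algebra B E] (z : (B ⧸ p) ⊗[B] E) : ∃ z₀ : E, (1 : B ⧸ p) ⊗ₜ[B] z₀ = z := by
  induction z using TensorProduct.induction_on with
  | zero => exact ⟨0, by simp⟩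
  | tmul r x =>
    obtain ⟨b, rfl⟩ := Ideal.Quotient.mk_surjective r
    refine ⟨b • x, ?_⟩
    rw [TensorProduct.tmul_smul, TensorProduct.smul_tmul']
    congr 1
    rw [Algebra.smul_def, mul_one]
    rfl
  | add x y hx hy =>
    obtain ⟨x₀, rfl⟩ := hx
    obtain ⟨y₀, rfl⟩ := hy
    exact ⟨x₀ + y₀, TensorProduct.tmul_add _ _ _⟩

/-- The kernel of `E → (B ⧸ p) ⊗ E`. -/
lemma mem_map_of_one_tmul_eq_zero {B : Type*} [CommRing B] (p : Ideal B) {E : Type*} [CommRing E]
    [Algebra B E] (z : E) (hz : (1 : B ⧸ p) ⊗ₜ[B] z = 0) : z ∈ p.map (algebraMap B E) := by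
  have h1 : Algebra.TensorProduct.quotIdealMapEquivQuotTensor E p
      (Ideal.Quotient.mk (p.map (algebraMap B E)) z) = 0 := by
    rw [Algebra.TensorProduct.quotIdealMapEquivQuotTensor_mk]
    exact hz
  rw [map_eq_zero_iff _ (AlgEquiv.injective _)] at h1
  exact Ideal.Quotient.eq_zero_iff_mem.mp h1

lemma mul_eq_zero_of_mem_map {B : Type*} [CommRing B] (p : Ideal B) {E : Type*} [CommRing E]
    [Algebra B E] (e : B) (he : ∀ y ∈ p, e * y = 0) (z : E) (hz : z ∈ p.map (algebraMap B E)) :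
    algebraMap B E e * z = 0 := by
  refine Submodule.span_induction (p := fun z _ => algebraMap B E e * z = 0) ?_ ?_ ?_ ?_ hz
  · rintro _ ⟨y, hy, rfl⟩
    rw [← map_mul, he y hy, map_zero]
  · exact mul_zero _
  · intro x y _ _ hx hy
    rw [mul_add, hx, hy, add_zero]
  · intro r x _ hx
    rw [smul_eq_mul, mul_left_comm, hx, mul_zero]

variable {B : Type u} [CommRing B] {Q : Type*} [CommRing Q] [Algebra B Q] (H : Hyp B Q)
variable {D : Type u} [CommRing D] [Algebra B D]

include H in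
/-- Local rings of ind-étale algebras over `B` are "domain-like". -/
theorem exists_mul_eq_zero (hD : HasFactorization (etaleClass B) D) (n : Ideal D) [n.IsPrime]
    (a b : D) (hab : a * b = 0) : ∃ v : D, v ∉ n ∧ (v * a = 0 ∨ v * b = 0) := by
  classical
  -- the finitely presented algebra
  let I : Ideal (MvPolynomial (Fin 2) B) :=
    Ideal.span {(MvPolynomial.X 0 * MvPolynomial.X 1 : MvPolynomial (Fin 2) B)}
  haveI : Algebra.FinitePresentation B (MvPolynomial (Fin 2) B ⧸ I) :=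
    Algebra.FinitePresentation.quotient (Submodule.fg_span_singleton _)
  let φ₀ : MvPolynomial (Fin 2) B →ₐ[B] D := MvPolynomial.aeval ![a, b]
  have hφ₀ : ∀ z ∈ I, φ₀ z = 0 := by
    intro z hz
    have : I ≤ RingHom.ker φ₀.toRingHom := by
      rw [Ideal.span_le, Set.singleton_subset_iff]
      change φ₀ (MvPolynomial.X 0 * MvPolynomial.X 1) = 0
      simp [φ₀, hab]
    exact this hz
  let φ : (MvPolynomial (Fin 2) B ⧸ I) →ₐ[B] D := Ideal.Quotient.liftₐ I φ₀ hφ₀
  obtain ⟨E, _, _, hE, α, β, hαβ⟩ := hD _ φ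
  haveI : Algebra.Etale B E := hE
  set aE : E := α (Ideal.Quotient.mk I (MvPolynomial.X 0)) with haE
  set bE : E := α (Ideal.Quotient.mk I (MvPolynomial.X 1)) with hbE
  have habE : aE * bE = 0 := by
    rw [haE, hbE, ← map_mul, ← map_mul]
    have : Ideal.Quotient.mk I (MvPolynomial.X 0 * MvPolynomial.X 1) = 0 :=
      Ideal.Quotient.eq_zero_iff_mem.mpr (Ideal.subset_span rfl)
    rw [this, map_zero]
  have hβa : β aE = a := by
    have := congrArg (fun f => f (Ideal.Quotient.mk I (MvPolynomial.X 0))) hαβ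
    simpa [φ, φ₀] using this
  have hβb : β bE = b := by
    have := congrArg (fun f => f (Ideal.Quotient.mk I (MvPolynomial.X 1))) hαβ
    simpa [φ, φ₀] using this
  -- the residue point
  let ρ : D →+* FractionRing (D ⧸ n) :=
    (algebraMap (D ⧸ n) (FractionRing (D ⧸ n))).comp (Ideal.Quotient.mk n)
  have hρ : ∀ x : D, ρ x = 0 ↔ x ∈ n := by
    intro x
    change algebraMap (D ⧸ n) (FractionRing (D ⧸ n)) (Ideal.Quotient.mk n x) = 0 ↔ _
    rw [map_eq_zero_iff _ (IsFractionRing.injective (D ⧸ n) (FractionRing (D ⧸ n))),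
      Ideal.Quotient.eq_zero_iff_mem]
  have hBΩ : ∀ x : B, algebraMap B (FractionRing (D ⧸ n)) x = ρ (algebraMap B D x) := by
    intro x
    rw [IsScalarTower.algebraMap_apply B (D ⧸ n) (FractionRing (D ⧸ n)),
      IsScalarTower.algebraMap_apply B D (D ⧸ n)]
    rfl
  obtain ⟨p, hp, hpn⟩ := Ideal.exists_minimalPrimes_le (I := (⊥ : Ideal B))
    (J := n.comap (algebraMap B D)) bot_le
  haveI hpp : p.IsPrime := hp.1.1
  obtain ⟨e, hee, h1e, hep, -⟩ := exists_idempotent H p hp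
  letI : Algebra (B ⧸ p) (FractionRing (D ⧸ n)) :=
    (Ideal.Quotient.lift p (algebraMap B (FractionRing (D ⧸ n))) (fun x hx => by
      rw [hBΩ, hρ]
      exact hpn hx)).toAlgebra
  haveI : IsScalarTower B (B ⧸ p) (FractionRing (D ⧸ n)) :=
    IsScalarTower.of_algebraMap_eq fun x => rfl
  let g : E →ₐ[B] FractionRing (D ⧸ n) :=
    { toRingHom := ρ.comp β.toRingHom
      commutes' := fun x => by
        change ρ (β (algebraMap B E x)) = _
        rw [β.commutes, hBΩ] }
  let θ : (B ⧸ p) ⊗[B] E →ₐ[B ⧸ p] FractionRing (D ⧸ n) :=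
    Algebra.TensorProduct.lift (Algebra.ofId (B ⧸ p) (FractionRing (D ⧸ n))) g
      (fun _ _ => Commute.all _ _)
  haveI : IsIntegrallyClosed (B ⧸ p) := isIntegrallyClosed_quotient H p hp
  obtain ⟨c, hc, hdom, -⟩ := exists_away_isIntegrallyClosed (B ⧸ p) ((B ⧸ p) ⊗[B] E) θ
  have hprod : algebraMap ((B ⧸ p) ⊗[B] E) (Localization.Away c) ((1 : B ⧸ p) ⊗ₜ[B] aE) *
      algebraMap ((B ⧸ p) ⊗[B] E) (Localization.Away c) ((1 : B ⧸ p) ⊗ₜ[B] bE) = 0 := by
    rw [← map_mul, Algebra.TensorProduct.tmul_mul_tmul, habE, TensorProduct.tmul_zero, map_zero]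
  -- main extraction
  have key : ∀ xE : E,
      algebraMap ((B ⧸ p) ⊗[B] E) (Localization.Away c) ((1 : B ⧸ p) ⊗ₜ[B] xE) = 0 →
      ∃ v : D, v ∉ n ∧ v * β xE = 0 := by
    intro xE hx
    obtain ⟨⟨_, k, rfl⟩, hk⟩ :=
      (IsLocalization.map_eq_zero_iff (Submonoid.powers c) (Localization.Away c) _).mp hx
    obtain ⟨c₀, hc₀⟩ := exists_one_tmul p (c ^ k)
    have h1 : (1 : B ⧸ p) ⊗ₜ[B] (c₀ * xE) = 0 := by
      have : (1 : B ⧸ p) ⊗ₜ[B] (c₀ * xE) = c ^ k * (1 : B ⧸ p) ⊗ₜ[B] xE := by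
        rw [← hc₀, Algebra.TensorProduct.tmul_mul_tmul, mul_one]
      rw [this]
      exact hk
    have h2 := mul_eq_zero_of_mem_map p e hep _ (mem_map_of_one_tmul_eq_zero p _ h1)
    refine ⟨algebraMap B D e * β c₀, ?_, ?_⟩
    · intro hmem
      rcases Ideal.IsPrime.mem_or_mem inferInstance hmem with h3 | h3
      · have h4 : algebraMap B D (1 - e) ∈ n := hpn h1e
        rw [map_sub, map_one] at h4
        have : (1 : D) ∈ n := by
          have := Ideal.add_mem _ h4 h3
          rwa [sub_add_cancel] at this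
        exact (Ideal.IsPrime.ne_top inferInstance) ((Ideal.eq_top_iff_one _).mpr this)
      · apply hc
        have h5 : θ (c ^ k) = 0 := by
          rw [← hc₀]
          change θ ((1 : B ⧸ p) ⊗ₜ[B] c₀) = 0
          simp only [θ, Algebra.TensorProduct.lift_tmul, map_one, one_mul]
          change ρ (β c₀) = 0
          rw [hρ]
          exact h3
        rw [map_pow] at h5
        exact pow_eq_zero_iff (by
          rintro rfl
          rw [pow_zero] at h5
          exact one_ne_zero h5) |>.mp h5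
    · rw [mul_assoc, ← map_mul, ← β.commutes, ← map_mul, h2, map_zero]
  rcases mul_eq_zero.mp hprod with h | h
  · obtain ⟨v, hv, hva⟩ := key aE h
    exact ⟨v, hv, Or.inl (hβa ▸ hva)⟩
  · obtain ⟨v, hv, hvb⟩ := key bE h
    exact ⟨v, hv, Or.inr (hβb ▸ hvb)⟩

end TotNorm

end Groth.Agent.Lib.Helper37.Hz
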