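import Groth.Agent.Lib.Helper37.Hz50

set_option autoImplicit false
universe u

open TensorProduct IsLocalRing

namespace Groth.Agent.Lib.Helper37.Hz

namespace TotNorm

open Groth.Agent.Lib.Helper4

attribute [local instance] Algebra.TensorProduct.rightAlgebra

variable (A S : Type u) [CommRing A] [CommRing S] [Algebra A S]

theorem hasFactorization_normRed_tensor (hind : EtPBC.IsIndEtale A S) :
    HasFactorization (etaleClass (CAlg2.normRed A)) (CAlg2.normRed A ⊗[A] S) :=
  (isIndEtale_iff_hasFactorization _).mp (Groth.Agent.S0733.result A S (CAlg2.normRed A) hind)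

/-- In `normRed A ⊗ S` (`S` ind-étale over `A`, `A` with finitely many minimal primes), every
maximal ideal contains exactly one minimal prime. -/
theorem existsUnique_minimalPrime_le (hfin : (minimalPrimes A).Finite)
    (hind : EtPBC.IsIndEtale A S) (m : Ideal (CAlg2.normRed A ⊗[A] S)) [hm : m.IsPrime] :
    ∃! q : Ideal (CAlg2.normRed A ⊗[A] S),
      q ∈ minimalPrimes (CAlg2.normRed A ⊗[A] S) ∧ q ≤ m := by
  obtain ⟨q, hq, hqm⟩ := Ideal.exists_minimalPrimes_le (I := ⊥) (J := m) bot_le
  refine ⟨q, ⟨hq, hqm⟩, fun q' hq' => ?_⟩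
  exact minimalPrime_unique_of_le (hyp_normRed A hfin) (hasFactorization_normRed_tensor A S hind)
    m q' q hq'.1 hq hq'.2 hqm

/-- In `normRed A ⊗ S` (`S` henselian local), every prime lies in exactly one maximal ideal. -/
theorem existsUnique_maximal_ge [HenselianLocalRing S] (q : Ideal (CAlg2.normRed A ⊗[A] S))
    [hq : q.IsPrime] :
    ∃! m : Ideal (CAlg2.normRed A ⊗[A] S), m.IsMaximal ∧ q ≤ m := by
  haveI : Algebra.IsIntegral S (CAlg2.normRed A ⊗[A] S) := IntTens.isIntegral A _ S
  obtain ⟨m, hm, hqm⟩ := Ideal.exists_le_maximal q hq.ne_top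
  refine ⟨m, ⟨hm, hqm⟩, fun m' hm' => ?_⟩
  haveI := hm'.1
  exact maximal_unique_of_le S (CAlg2.normRed A ⊗[A] S) q m' m hm'.2 hqm

end TotNorm

end Groth.Agent.Lib.Helper37.Hz
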