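import Groth.Agent.Lib.Helper37.Hz51
import Groth.Prelude.Def_Brnch

set_option autoImplicit false
universe u

open TensorProduct IsLocalRing

namespace Groth.Agent.Lib.Helper37.Hz

namespace IntTensG

variable (A B S : Type u) [CommRing A] [IsLocalRing A] [CommRing B] [Algebra A B]
  [Algebra.IsIntegral A B]
  [CommRing S] [IsLocalRing S] [Algebra A S] [IsLocalHom (algebraMap A S)]

attribute [local instance] Algebra.TensorProduct.rightAlgebra

/-- Maximal ideals of `B ⊗_A S` contract to maximal ideals of `B` (`B` integral over `A`). -/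
lemma comap_isMaximal (n : Ideal (B ⊗[A] S)) [hn : n.IsMaximal] :
    (n.comap (algebraMap B (B ⊗[A] S))).IsMaximal := by
  have h1 : (n.comap (algebraMap B (B ⊗[A] S))).comap (algebraMap A B) = maximalIdeal A := by
    refine ((maximalIdeal.isMaximal A).eq_of_le ?_ ?_).symm
    · exact Ideal.comap_ne_top _ (Ideal.comap_ne_top _ hn.ne_top)
    · intro a ha
      rw [Ideal.mem_comap, Ideal.mem_comap, ← IntTens.algebraMap_comm]
      refine IntTens.map_le_of_isMaximal A B S n (Ideal.mem_map_of_mem _ ?_)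
      exact map_nonunit (algebraMap A S) a ha
  exact Ideal.isMaximal_of_isIntegral_of_isMaximal_comap (R := A) _
    (h1 ▸ maximalIdeal.isMaximal A)

variable [hS : Hensel.IsHenselization A S]

include hS in
/-- For the henselization, maximal ideals of `B ⊗_A A^h` are determined by their contraction. -/
lemma le_of_comap_le (n n' : Ideal (B ⊗[A] S)) [hn : n.IsMaximal] [hn' : n'.IsMaximal]
    (h : n.comap (algebraMap B (B ⊗[A] S)) ≤ n'.comap (algebraMap B (B ⊗[A] S))) : n ≤ n' := by
  intro x hx
  obtain ⟨b, hb⟩ := IntTens.exists_sub_mem A B S x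
  have h1 : b ⊗ₜ[A] (1 : S) ∈ n := by
    have := Ideal.sub_mem _ hx (IntTens.map_le_of_isMaximal A B S n hb)
    rwa [sub_sub_cancel] at this
  have h3 : b ⊗ₜ[A] (1 : S) ∈ n' := h h1
  have := Ideal.add_mem _ (IntTens.map_le_of_isMaximal A B S n' hb) h3
  rwa [sub_add_cancel] at this

include hS in
/-- Every maximal ideal of `B` is the contraction of a maximal ideal of `B ⊗_A A^h`. -/
lemma exists_isMaximal_comap_eq (m' : Ideal B) [hm' : m'.IsMaximal] :
    ∃ n : Ideal (B ⊗[A] S), n.IsMaximal ∧ n.comap (algebraMap B (B ⊗[A] S)) = m' := by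
  haveI : Module.FaithfullyFlat A S := faithfullyFlat_of_isHenselization A S
  haveI : Module.FaithfullyFlat B (B ⊗[A] S) := inferInstance
  have h1 : (m'.map (algebraMap B (B ⊗[A] S))).comap (algebraMap B (B ⊗[A] S)) = m' :=
    Ideal.comap_map_eq_self_of_faithfullyFlat m'
  have h2 : m'.map (algebraMap B (B ⊗[A] S)) ≠ ⊤ := by
    intro htop
    rw [htop, Ideal.comap_top] at h1
    exact hm'.ne_top h1.symm
  obtain ⟨n, hn, hle⟩ := Ideal.exists_le_maximal _ h2
  refine ⟨n, hn, ?_⟩
  have h3 : m' ≤ n.comap (algebraMap B (B ⊗[A] S)) := by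
    rw [← Ideal.map_le_iff_le_comap]
    exact hle
  exact (hm'.eq_of_le (Ideal.comap_ne_top _ hn.ne_top) h3).symm

end IntTensG

end Groth.Agent.Lib.Helper37.Hz
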