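import Groth.Agent.Lib.Helper37.Hz53

set_option autoImplicit false
universe u

open TensorProduct IsLocalRing Polynomial

namespace Groth.Agent.Lib.Helper37.Hz

namespace Branches

attribute [local instance] Algebra.TensorProduct.rightAlgebra

section Generic

variable (A S : Type u) [CommRing A] [CommRing S] [Algebra A S]

/-- Minimal primes of `S` versus maximal ideals of `normRed A ⊗ S`, for `S` henselian local,
flat and ind-étale over `A` (finitely many minimal primes). -/
theorem nonempty_equiv_maximalSpectrum [HenselianLocalRing S] [Module.Flat A S]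
    (hind : EtPBC.IsIndEtale A S) (hfin : (minimalPrimes A).Finite) :
    Nonempty (minimalPrimes S ≃ MaximalSpectrum (CAlg2.normRed A ⊗[A] S)) := by
  classical
  let e₁ : minimalPrimes (CAlg2.normRed A ⊗[A] S) ≃ minimalPrimes S :=
    (Birat.bijOn_minimalPrimes_normRed A S).equiv _
  have hmax : ∀ q : minimalPrimes (CAlg2.normRed A ⊗[A] S),
      ∃! m : Ideal (CAlg2.normRed A ⊗[A] S), m.IsMaximal ∧ (q : Ideal _) ≤ m := by
    intro q
    haveI := q.2.1.1
    exact TotNorm.existsUnique_maximal_ge A S q.1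
  let f₂ : minimalPrimes (CAlg2.normRed A ⊗[A] S) →
      MaximalSpectrum (CAlg2.normRed A ⊗[A] S) :=
    fun q => ⟨(hmax q).choose, (hmax q).choose_spec.1.1⟩
  have hf₂le : ∀ q : minimalPrimes (CAlg2.normRed A ⊗[A] S),
      (q : Ideal (CAlg2.normRed A ⊗[A] S)) ≤ (f₂ q).asIdeal := fun q => (hmax q).choose_spec.1.2
  have hf₂ : Function.Bijective f₂ := by
    constructor
    · intro q₁ q₂ h
      haveI := (f₂ q₁).isMaximal.isPrime
      have hu := TotNorm.existsUnique_minimalPrime_le A S hfin hind (f₂ q₁).asIdeal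
      apply Subtype.ext
      exact hu.unique ⟨q₁.2, hf₂le q₁⟩ ⟨q₂.2, h ▸ hf₂le q₂⟩
    · intro m
      haveI := m.isMaximal.isPrime
      obtain ⟨q, hq, hqm⟩ := Ideal.exists_minimalPrimes_le (I := ⊥) (J := m.asIdeal) bot_le
      refine ⟨⟨q, hq⟩, ?_⟩
      apply MaximalSpectrum.ext
      exact ((hmax ⟨q, hq⟩).unique (hmax ⟨q, hq⟩).choose_spec.1 ⟨m.isMaximal, hqm⟩)
  exact ⟨e₁.symm.trans (Equiv.ofBijective f₂ hf₂)⟩

end Generic

section Points

variable (A B S : Type u) [CommRing A] [IsLocalRing A] [CommRing B] [Algebra A B]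
  [Algebra.IsIntegral A B]
  [CommRing S] [IsLocalRing S] [Algebra A S] [IsLocalHom (algebraMap A S)]
  (Ω : Type u) [Field Ω] [Algebra A Ω] (g : S →ₐ[A] Ω)

/-- The point of `B ⊗ S` attached to a point of `B`. -/
noncomputable def pt (f : B →ₐ[A] Ω) : B ⊗[A] S →ₐ[A] Ω :=
  Algebra.TensorProduct.lift f g (fun _ _ => Commute.all _ _)

omit [IsLocalRing A] [Algebra.IsIntegral A B] [IsLocalRing S] [IsLocalHom (algebraMap A S)] in
lemma pt_tmul (f : B →ₐ[A] Ω) (b : B) (s : S) : pt A B S Ω g f (b ⊗ₜ[A] s) = f b * g s := by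
  simp [pt]

variable (hg : ∀ s : S, g s = 0 ↔ s ∈ maximalIdeal S)
include hg

omit [IsLocalRing A] [IsLocalHom (algebraMap A S)] in
lemma ker_pt_isMaximal (f : B →ₐ[A] Ω) : (RingHom.ker (pt A B S Ω g f).toRingHom).IsMaximal := by
  haveI : (RingHom.ker (pt A B S Ω g f).toRingHom).IsPrime := RingHom.ker_isPrime _
  haveI : Algebra.IsIntegral S (B ⊗[A] S) := IntTens.isIntegral A B S
  have hcomap : (RingHom.ker (pt A B S Ω g f).toRingHom).comap (algebraMap S (B ⊗[A] S)) =
      maximalIdeal S := by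
    ext s
    rw [Ideal.mem_comap, RingHom.mem_ker]
    change pt A B S Ω g f ((1 : B) ⊗ₜ[A] s) = 0 ↔ _
    rw [pt_tmul, map_one, one_mul, hg]
  have hmax : ((RingHom.ker (pt A B S Ω g f).toRingHom).comap
      (algebraMap S (B ⊗[A] S))).IsMaximal := by
    rw [hcomap]
    exact maximalIdeal.isMaximal S
  exact Ideal.isMaximal_of_isIntegral_of_isMaximal_comap (R := S) _ hmax

section Quot

variable (n : Ideal (B ⊗[A] S)) [hn : n.IsMaximal]

omit hg in
/-- The residue field of `S` maps to the residue field at a maximal ideal of `B ⊗ S`. -/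
noncomputable def resToQuot : ResidueField S →+* (B ⊗[A] S) ⧸ n :=
  Ideal.Quotient.lift (maximalIdeal S)
    ((Ideal.Quotient.mk n).comp (algebraMap S (B ⊗[A] S))) (fun s hs => by
      rw [RingHom.comp_apply, Ideal.Quotient.eq_zero_iff_mem]
      exact IntTens.map_le_of_isMaximal A B S n (Ideal.mem_map_of_mem _ hs))

omit hg [IsLocalRing A] [IsLocalHom (algebraMap A S)] in
lemma resToQuot_residue (s : S) :
    resToQuot A B S n (residue S s) = Ideal.Quotient.mk n ((1 : B) ⊗ₜ[A] s) := rfl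

omit hg in
/-- The algebra structure. -/
noncomputable def algQuot : Algebra (ResidueField S) ((B ⊗[A] S) ⧸ n) :=
  (resToQuot A B S n).toAlgebra

attribute [local instance] algQuot

omit hg [IsLocalRing A] [IsLocalHom (algebraMap A S)] in
lemma isAlgebraic_quot :
    letI : Field ((B ⊗[A] S) ⧸ n) := Ideal.Quotient.field n
    Algebra.IsAlgebraic (ResidueField S) ((B ⊗[A] S) ⧸ n) := by
  letI : Field ((B ⊗[A] S) ⧸ n) := Ideal.Quotient.field n
  haveI : Algebra.IsIntegral S (B ⊗[A] S) := IntTens.isIntegral A B S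
  refine ⟨fun x => ?_⟩
  obtain ⟨c, rfl⟩ := Ideal.Quotient.mk_surjective x
  obtain ⟨p, hp, hpc⟩ := Algebra.IsIntegral.isIntegral (R := S) c
  refine IsIntegral.isAlgebraic ⟨p.map (residue S), hp.map _, ?_⟩
  rw [eval₂_map]
  have : (algebraMap (ResidueField S) ((B ⊗[A] S) ⧸ n)).comp (residue S) =
      (Ideal.Quotient.mk n).comp (algebraMap S (B ⊗[A] S)) := rfl
  rw [this, ← hom_eval₂, hpc, map_zero]

end Quot

attribute [local instance] algQuot

omit [IsLocalRing A] [IsLocalHom (algebraMap A S)] in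
/-- Points of `B ⊗ S` over the fixed point `g` of `S` are determined by their kernels (`S` with
separably closed residue field). -/
theorem eq_of_ker_pt_eq [IsSepClosed (ResidueField S)] (f₁ f₂ : B →ₐ[A] Ω)
    (h : RingHom.ker (pt A B S Ω g f₁).toRingHom = RingHom.ker (pt A B S Ω g f₂).toRingHom) :
    f₁ = f₂ := by
  have hn : (RingHom.ker (pt A B S Ω g f₁).toRingHom).IsMaximal := ker_pt_isMaximal A B S Ω g hg f₁
  letI : Field ((B ⊗[A] S) ⧸ RingHom.ker (pt A B S Ω g f₁).toRingHom) := Ideal.Quotient.field _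
  haveI := isAlgebraic_quot A B S (RingHom.ker (pt A B S Ω g f₁).toRingHom)
  let ψb₁ : (B ⊗[A] S) ⧸ RingHom.ker (pt A B S Ω g f₁).toRingHom →+* Ω :=
    Ideal.Quotient.lift _ (pt A B S Ω g f₁).toRingHom (fun c hc => hc)
  let ψb₂ : (B ⊗[A] S) ⧸ RingHom.ker (pt A B S Ω g f₁).toRingHom →+* Ω :=
    Ideal.Quotient.lift _ (pt A B S Ω g f₂).toRingHom (fun c hc => by
      rw [h] at hc
      exact hc)
  have hb : ψb₁.comp (algebraMap (ResidueField S) _) = ψb₂.comp (algebraMap (ResidueField S) _) := by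
    ext x
    obtain ⟨s, rfl⟩ := residue_surjective x
    change pt A B S Ω g f₁ ((1 : B) ⊗ₜ[A] s) = pt A B S Ω g f₂ ((1 : B) ⊗ₜ[A] s)
    rw [pt_tmul, pt_tmul, map_one, map_one]
  have heq : ψb₁ = ψb₂ :=
    IsPurelyInseparable.injective_comp_algebraMap (ResidueField S) _ Ω hb
  ext b
  have h1 : f₁ b = ψb₁ (Ideal.Quotient.mk _ (b ⊗ₜ[A] (1 : S))) := by
    change _ = pt A B S Ω g f₁ (b ⊗ₜ[A] (1 : S))
    rw [pt_tmul, map_one, mul_one]
  have h2 : f₂ b = ψb₂ (Ideal.Quotient.mk _ (b ⊗ₜ[A] (1 : S))) := by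
    change _ = pt A B S Ω g f₂ (b ⊗ₜ[A] (1 : S))
    rw [pt_tmul, map_one, mul_one]
  rw [h1, h2, heq]

omit [IsLocalRing A] [IsLocalHom (algebraMap A S)] in
/-- Every maximal ideal of `B ⊗ S` is the kernel of a point over `g` (`Ω` algebraically
closed). -/
theorem exists_ker_pt_eq [IsAlgClosed Ω] (n : Ideal (B ⊗[A] S)) [hn : n.IsMaximal] :
    ∃ f : B →ₐ[A] Ω, RingHom.ker (pt A B S Ω g f).toRingHom = n := by
  letI : Field ((B ⊗[A] S) ⧸ n) := Ideal.Quotient.field _
  haveI := isAlgebraic_quot A B S n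
  let j : ResidueField S →+* Ω := Ideal.Quotient.lift (maximalIdeal S) g.toRingHom
    (fun s hs => (hg s).mpr hs)
  letI : Algebra (ResidueField S) Ω := j.toAlgebra
  let lift : ((B ⊗[A] S) ⧸ n) →ₐ[ResidueField S] Ω := IsAlgClosed.lift
  have hlift_S : ∀ s : S, lift (Ideal.Quotient.mk n ((1 : B) ⊗ₜ[A] s)) = g s := by
    intro s
    rw [← resToQuot_residue]
    exact lift.commutes (residue S s)
  let f : B →ₐ[A] Ω :=
    { toRingHom := lift.toRingHom.comp ((Ideal.Quotient.mk n).comp (algebraMap B (B ⊗[A] S)))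
      commutes' := fun a => by
        change lift (Ideal.Quotient.mk n (algebraMap B (B ⊗[A] S) (algebraMap A B a))) = _
        rw [← IntTens.algebraMap_comm]
        change lift (Ideal.Quotient.mk n ((1 : B) ⊗ₜ[A] (algebraMap A S a))) = _
        rw [hlift_S, g.commutes] }
  refine ⟨f, ?_⟩
  have key : ∀ c : B ⊗[A] S, pt A B S Ω g f c = lift (Ideal.Quotient.mk n c) := by
    intro c
    induction c using TensorProduct.induction_on with
    | zero => simp
    | tmul b s =>
      rw [pt_tmul]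
      have h1 : b ⊗ₜ[A] s = (b ⊗ₜ[A] (1 : S)) * ((1 : B) ⊗ₜ[A] s) := by
        rw [Algebra.TensorProduct.tmul_mul_tmul, mul_one, one_mul]
      rw [h1, map_mul, map_mul, hlift_S]
      rfl
    | add x y hx hy => rw [map_add, hx, hy, map_add, map_add]
  ext c
  rw [RingHom.mem_ker]
  change pt A B S Ω g f c = 0 ↔ _
  rw [key, map_eq_zero_iff lift lift.toRingHom.injective, Ideal.Quotient.eq_zero_iff_mem]

end Points

end Branches

end Groth.Agent.Lib.Helper37.Hz
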