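import Groth.Agent.Lib.Helper37.Hz54

set_option autoImplicit false
universe u

open TensorProduct IsLocalRing Polynomial

namespace Groth.Agent.Lib.Helper37.Hz

namespace Branches

attribute [local instance] Algebra.TensorProduct.rightAlgebra

section Strict

variable (A S : Type u) [CommRing A] [IsLocalRing A]
  [CommRing S] [IsLocalRing S] [Algebra A S] [IsLocalHom (algebraMap A S)]
  [hS : Hensel.IsStrictHenselization A S]

/-- `AlgebraicClosure κ(A)` as an `A`-algebra through `toClosure`. -/
noncomputable def algAC : Algebra A (AlgebraicClosure (ResidueField A)) :=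
  (Brnch.toClosure A).toAlgebra

attribute [local instance] algAC

include hS in
/-- Maximal ideals of `normRed A ⊗ A^sh` correspond to pairs (maximal ideal of `normRed A`,
embedding of its residue field into the algebraic closure of the residue field of `A`). -/
theorem nonempty_equiv_emb :
    Nonempty ((Σ m' : MaximalSpectrum (CAlg2.normRed A), Brnch.Emb A m') ≃
      MaximalSpectrum (CAlg2.normRed A ⊗[A] S)) := by
  classical
  haveI : Algebra.IsSeparable (ResidueField A) (ResidueField S) := hS.isSepClosure.separable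
  haveI : IsSepClosed (ResidueField S) := hS.isSepClosure.sep_closed
  let j : ResidueField S →ₐ[ResidueField A] AlgebraicClosure (ResidueField A) := IsAlgClosed.lift
  let g : S →ₐ[A] AlgebraicClosure (ResidueField A) :=
    { toRingHom := j.toRingHom.comp (residue S)
      commutes' := fun a => by
        have : residue S (algebraMap A S a) =
            algebraMap (ResidueField A) (ResidueField S) (residue A a) := rfl
        change j (residue S (algebraMap A S a)) = _
        rw [this, j.commutes]
        rfl }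
  have hg : ∀ s : S, g s = 0 ↔ s ∈ maximalIdeal S := by
    intro s
    change j (residue S s) = 0 ↔ _
    rw [map_eq_zero_iff j j.toRingHom.injective, residue_eq_zero_iff]
  let fx : (Σ m' : MaximalSpectrum (CAlg2.normRed A), Brnch.Emb A m') →
      (CAlg2.normRed A →ₐ[A] AlgebraicClosure (ResidueField A)) := fun x =>
    { toRingHom := x.2.1.comp (Ideal.Quotient.mk x.1.asIdeal)
      commutes' := fun a => RingHom.congr_fun x.2.2 a }
  have hfx_ker : ∀ x, RingHom.ker (fx x).toRingHom = x.1.asIdeal := by
    intro x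
    haveI := x.1.isMaximal
    letI : Field (CAlg2.normRed A ⧸ x.1.asIdeal) := Ideal.Quotient.field _
    ext a'
    rw [RingHom.mem_ker]
    change x.2.1 (Ideal.Quotient.mk x.1.asIdeal a') = 0 ↔ _
    rw [map_eq_zero_iff x.2.1 x.2.1.injective, Ideal.Quotient.eq_zero_iff_mem]
  let Φ : (Σ m' : MaximalSpectrum (CAlg2.normRed A), Brnch.Emb A m') →
      MaximalSpectrum (CAlg2.normRed A ⊗[A] S) := fun x =>
    ⟨RingHom.ker (pt A (CAlg2.normRed A) S _ g (fx x)).toRingHom,
      ker_pt_isMaximal A (CAlg2.normRed A) S _ g hg (fx x)⟩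
  have hinj : Function.Injective Φ := by
    intro x y h
    have hker : RingHom.ker (pt A (CAlg2.normRed A) S _ g (fx x)).toRingHom =
        RingHom.ker (pt A (CAlg2.normRed A) S _ g (fx y)).toRingHom :=
      congrArg MaximalSpectrum.asIdeal h
    have hf : fx x = fx y := eq_of_ker_pt_eq A (CAlg2.normRed A) S _ g hg (fx x) (fx y) hker
    obtain ⟨m'₁, σ₁⟩ := x
    obtain ⟨m'₂, σ₂⟩ := y
    have hm : m'₁ = m'₂ := by
      apply MaximalSpectrum.ext
      have h1 := hfx_ker ⟨m'₁, σ₁⟩
      have h2 := hfx_ker ⟨m'₂, σ₂⟩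
      rw [hf] at h1
      exact h1.symm.trans h2
    subst hm
    have hσ : σ₁.1 = σ₂.1 := by
      ext z
      exact congrArg (fun f => f z) hf
    have : σ₁ = σ₂ := Subtype.ext hσ
    rw [this]
  have hsurj : Function.Surjective Φ := by
    intro n
    haveI := n.isMaximal
    obtain ⟨f, hf⟩ := exists_ker_pt_eq A (CAlg2.normRed A) S _ g hg n.asIdeal
    have hkerf : RingHom.ker f.toRingHom =
        n.asIdeal.comap (algebraMap (CAlg2.normRed A) (CAlg2.normRed A ⊗[A] S)) := by
      ext a'
      rw [RingHom.mem_ker, Ideal.mem_comap, ← hf, RingHom.mem_ker]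
      change f a' = 0 ↔ pt A (CAlg2.normRed A) S _ g f (a' ⊗ₜ[A] (1 : S)) = 0
      rw [pt_tmul, map_one, mul_one]
    have hmax : (RingHom.ker f.toRingHom).IsMaximal := by
      rw [hkerf]
      exact IntTensG.comap_isMaximal A (CAlg2.normRed A) S n.asIdeal
    let m' : MaximalSpectrum (CAlg2.normRed A) := ⟨RingHom.ker f.toRingHom, hmax⟩
    let σ₀ : CAlg2.normRed A ⧸ m'.asIdeal →+* AlgebraicClosure (ResidueField A) :=
      Ideal.Quotient.lift m'.asIdeal f.toRingHom (fun a h => h)
    have hσ₀ : σ₀.comp (Brnch.toResidue A m') = Brnch.toClosure A := by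
      ext a
      change f (algebraMap A (CAlg2.normRed A) a) = _
      rw [f.commutes]
      rfl
    refine ⟨⟨m', ⟨σ₀, hσ₀⟩⟩, ?_⟩
    apply MaximalSpectrum.ext
    change RingHom.ker (pt A (CAlg2.normRed A) S _ g (fx ⟨m', ⟨σ₀, hσ₀⟩⟩)).toRingHom = n.asIdeal
    have : fx ⟨m', ⟨σ₀, hσ₀⟩⟩ = f := by
      ext a'
      rfl
    rw [this, hf]
  exact ⟨Equiv.ofBijective Φ ⟨hinj, hsurj⟩⟩

include hS in
theorem card_minimalPrimes_eq_numGeomBranches :
    ENat.card (minimalPrimes S) = Brnch.numGeomBranches A := by
  classical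
  haveI : Module.FaithfullyFlat A S := faithfullyFlat_of_isStrictHenselization A S
  unfold Brnch.numGeomBranches
  split_ifs with hfin
  · haveI : HenselianLocalRing S := hS.henselian
    haveI : Module.Flat A S := Module.FaithfullyFlat.toFlat
    obtain ⟨e₁⟩ := nonempty_equiv_maximalSpectrum A S
      (isIndEtale_of_isStrictHenselization A S) hfin
    obtain ⟨e₂⟩ := nonempty_equiv_emb A S
    exact ENat.card_congr (e₁.trans e₂.symm)
  · have hinf : (minimalPrimes S).Infinite := infinite_minimalPrimes_of_faithfullyFlat hfin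
    haveI : Infinite (minimalPrimes S) := hinf.to_subtype
    exact ENat.card_eq_top_of_infinite

end Strict

end Branches

end Groth.Agent.Lib.Helper37.Hz
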