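import Groth.Agent.Lib.Helper37.Hz56

/-!
# Henselization project, part 57: minimal primes along faithfully flat maps; when do the numbers
of minimal primes agree.
-/

set_option autoImplicit false
universe u

open TensorProduct IsLocalRing

namespace Groth.Agent.Lib.Helper37.Hz

namespace Compare

section GoingDown

variable {R S : Type*} [CommRing R] [CommRing S] [Algebra R S] [Algebra.HasGoingDown R S]

/-- Under going-down, a prime minimal over the extension of a minimal prime `q` is a minimal
prime lying over `q`. -/
theorem mem_minimalPrimes_of_mem_minimalPrimes_map {q : Ideal R} (hq : q ∈ minimalPrimes R)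
    {P : Ideal S} (hP : P ∈ (q.map (algebraMap R S)).minimalPrimes) :
    P ∈ minimalPrimes S ∧ P.comap (algebraMap R S) = q := by
  haveI : q.IsPrime := hq.1.1
  haveI : P.IsPrime := hP.1.1
  have hle : q ≤ P.comap (algebraMap R S) := Ideal.map_le_iff_le_comap.mp hP.1.2
  haveI : P.LiesOver (P.comap (algebraMap R S)) := ⟨rfl⟩
  obtain ⟨P', hP'le, hP'prime, hP'over⟩ :=
    Ideal.exists_ideal_le_liesOver_of_le (p := q) (q := P.comap (algebraMap R S)) P hle
  have hP'q : P'.comap (algebraMap R S) = q := (hP'over.over).symm
  have hqP' : q.map (algebraMap R S) ≤ P' := Ideal.map_le_iff_le_comap.mpr hP'q.ge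
  have hPP' : P = P' := le_antisymm (hP.2 ⟨hP'prime, hqP'⟩ hP'le) hP'le
  have hcomap : P.comap (algebraMap R S) = q := by rw [hPP', hP'q]
  refine ⟨⟨⟨inferInstance, bot_le⟩, ?_⟩, hcomap⟩
  rintro P₃ ⟨hP₃, -⟩ hP₃le
  haveI := hP₃
  have h1 : P₃.comap (algebraMap R S) ≤ q := hcomap ▸ Ideal.comap_mono hP₃le
  have h2 : q ≤ P₃.comap (algebraMap R S) := hq.2 ⟨inferInstance, bot_le⟩ h1
  exact hP.2 ⟨hP₃, Ideal.map_le_iff_le_comap.mpr h2⟩ hP₃le

/-- A minimal prime lying over `q` is minimal over the extension of `q`. -/
theorem mem_minimalPrimes_map_of_mem_minimalPrimes {q : Ideal R}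
    {P : Ideal S} (hP : P ∈ minimalPrimes S) (hPq : P.comap (algebraMap R S) = q) :
    P ∈ (q.map (algebraMap R S)).minimalPrimes := by
  refine ⟨⟨hP.1.1, Ideal.map_le_iff_le_comap.mpr hPq.ge⟩, ?_⟩
  rintro P' ⟨hP', -⟩ hle
  exact hP.2 ⟨hP', bot_le⟩ hle

end GoingDown

/-- For a faithfully flat map of rings with finitely many minimal primes, the numbers of
minimal primes agree iff the radical of the extension of every minimal prime is prime. -/
theorem card_minimalPrimes_eq_iff (R S : Type*) [CommRing R] [CommRing S] [Algebra R S]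
    [Module.FaithfullyFlat R S] (hR : (minimalPrimes R).Finite) (hS : (minimalPrimes S).Finite) :
    ENat.card (minimalPrimes R) = ENat.card (minimalPrimes S) ↔
      ∀ q ∈ minimalPrimes R, (q.map (algebraMap R S)).radical.IsPrime := by
  classical
  haveI : Module.Flat R S := Module.FaithfullyFlat.toFlat
  let F : minimalPrimes S → minimalPrimes R := fun P =>
    ⟨(P : Ideal S).comap (algebraMap R S), comap_mem_minimalPrimes_of_hasGoingDown P.2⟩
  have hsurj : Function.Surjective F := by
    intro q
    obtain ⟨P, hP, hPq⟩ := exists_minimalPrimes_comap_eq_of_faithfullyFlat (B := S) q.2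
    exact ⟨⟨P, hP⟩, Subtype.ext hPq⟩
  letI := hR.fintype
  letI := hS.fintype
  rw [ENat.card_eq_coe_fintype_card, ENat.card_eq_coe_fintype_card, Nat.cast_inj]
  constructor
  · intro hcard q hq
    have hbij : Function.Bijective F :=
      (Fintype.bijective_iff_surjective_and_card F).mpr ⟨hsurj, hcard.symm⟩
    obtain ⟨P, hPq⟩ := hsurj ⟨q, hq⟩
    have hPq' : (P : Ideal S).comap (algebraMap R S) = q := congrArg Subtype.val hPq
    have hset : (q.map (algebraMap R S)).minimalPrimes = {(P : Ideal S)} := by
      ext P'
      constructor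
      · intro hP'
        obtain ⟨h1, h2⟩ := mem_minimalPrimes_of_mem_minimalPrimes_map hq hP'
        have : (⟨P', h1⟩ : minimalPrimes S) = P := by
          apply hbij.1
          apply Subtype.ext
          change P'.comap (algebraMap R S) = (P : Ideal S).comap (algebraMap R S)
          rw [h2, hPq']
        exact congrArg Subtype.val this
      · rintro rfl
        exact mem_minimalPrimes_map_of_mem_minimalPrimes P.2 hPq'
    rw [← Ideal.sInf_minimalPrimes, hset, sInf_singleton]
    exact P.2.1.1
  · intro h
    have hinj : Function.Injective F := by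
      intro P₁ P₂ h12
      have h12' : (P₁ : Ideal S).comap (algebraMap R S) = (P₂ : Ideal S).comap (algebraMap R S) :=
        congrArg Subtype.val h12
      have key : ∀ P : minimalPrimes S,
          (P : Ideal S) = (((F P : Ideal R)).map (algebraMap R S)).radical := by
        intro P
        haveI := h _ (F P).2
        haveI : (P : Ideal S).IsPrime := P.2.1.1
        have hle : ((F P : Ideal R).map (algebraMap R S)).radical ≤ (P : Ideal S) := by
          rw [Ideal.IsPrime.radical_le_iff inferInstance]
          exact Ideal.map_comap_le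
        exact le_antisymm (P.2.2 ⟨inferInstance, bot_le⟩ hle) hle
      apply Subtype.ext
      rw [key P₁, key P₂, h12]
    exact (Fintype.card_of_bijective ⟨hinj, hsurj⟩).symm

section Local

variable (R S S' : Type u) [CommRing R] [IsLocalRing R] [CommRing S] [IsLocalRing S]
  [CommRing S'] [IsLocalRing S'] [Algebra R S] [IsLocalHom (algebraMap R S)]

/-- A ring map out of a henselization whose restriction to the base ring is local is local. -/
theorem isLocalHom_of_comp_isLocalHom [hS : Hensel.IsHenselization R S] (g : S →+* S')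
    (hloc : IsLocalHom (g.comp (algebraMap R S))) : IsLocalHom g := by
  refine ⟨fun x hx => ?_⟩
  by_contra hnot
  have hx' : x ∈ maximalIdeal S := hnot
  rw [← map_maximalIdeal_of_isHenselization R S] at hx'
  have h2 : g x ∈ ((maximalIdeal R).map (algebraMap R S)).map g := Ideal.mem_map_of_mem _ hx'
  rw [Ideal.map_map] at h2
  have h3 : (maximalIdeal R).map (g.comp (algebraMap R S)) ≤ maximalIdeal S' :=
    ((IsLocalRing.local_hom_TFAE _).out 0 2).mp hloc
  exact (h3 h2) hx

/-- A ring map out of a strict henselization whose restriction to the base ring is local is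
local. -/
theorem isLocalHom_of_comp_isLocalHom' [hS : Hensel.IsStrictHenselization R S] (g : S →+* S')
    (hloc : IsLocalHom (g.comp (algebraMap R S))) : IsLocalHom g := by
  refine ⟨fun x hx => ?_⟩
  by_contra hnot
  have hx' : x ∈ maximalIdeal S := hnot
  rw [← map_maximalIdeal_of_isStrictHenselization R S] at hx'
  have h2 : g x ∈ ((maximalIdeal R).map (algebraMap R S)).map g := Ideal.mem_map_of_mem _ hx'
  rw [Ideal.map_map] at h2
  have h3 : (maximalIdeal R).map (g.comp (algebraMap R S)) ≤ maximalIdeal S' :=
    ((IsLocalRing.local_hom_TFAE _).out 0 2).mp hloc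
  exact (h3 h2) hx

end Local

end Compare

end Groth.Agent.Lib.Helper37.Hz
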