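import Groth.Agent.Lib.Helper37.Hz57
import Groth.Agent.Lib.Helper69.NormalSmooth

/-!
# Henselization project, part 58: local ind-étale algebras over normal rings are domains;
étale invariance of strict henselizations.
-/

set_option autoImplicit false
universe u

open TensorProduct IsLocalRing

namespace Groth.Agent.Lib.Helper37.Hz

namespace SmoothBr

open Groth.Agent.Lib.Helper4

/-- A local ring which is ind-étale over a normal ring is a domain. -/
theorem isDomain_of_hasFactorization_of_isNormalRing (N W : Type u) [CommRing N] [CommRing W]
    [IsLocalRing W] [Algebra N W] (hN : EGA4.IsNormalRing N)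
    (hW : HasFactorization (etaleClass N) W) : IsDomain W := by
  classical
  have key : ∀ a b : W, a * b = 0 → a = 0 ∨ b = 0 := by
    intro a b hab
    let I : Ideal (MvPolynomial (Fin 2) N) :=
      Ideal.span {(MvPolynomial.X 0 * MvPolynomial.X 1 : MvPolynomial (Fin 2) N)}
    haveI : Algebra.FinitePresentation N (MvPolynomial (Fin 2) N ⧸ I) :=
      Algebra.FinitePresentation.quotient (Submodule.fg_span_singleton _)
    let φ₀ : MvPolynomial (Fin 2) N →ₐ[N] W := MvPolynomial.aeval ![a, b]
    have hφ₀ : ∀ z ∈ I, φ₀ z = 0 := by
      intro z hz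
      have : I ≤ RingHom.ker φ₀.toRingHom := by
        rw [Ideal.span_le, Set.singleton_subset_iff]
        change φ₀ (MvPolynomial.X 0 * MvPolynomial.X 1) = 0
        simp [φ₀, hab]
      exact this hz
    let φ : (MvPolynomial (Fin 2) N ⧸ I) →ₐ[N] W := Ideal.Quotient.liftₐ I φ₀ hφ₀
    obtain ⟨E, _, _, hE, α, β, hαβ⟩ := hW _ φ
    haveI : Algebra.Etale N E := hE
    set aE : E := α (Ideal.Quotient.mk I (MvPolynomial.X 0)) with haE
    set bE : E := α (Ideal.Quotient.mk I (MvPolynomial.X 1)) with hbE
    have habE : aE * bE = 0 := by
      rw [haE, hbE, ← map_mul, ← map_mul]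
      have : Ideal.Quotient.mk I (MvPolynomial.X 0 * MvPolynomial.X 1) = 0 :=
        Ideal.Quotient.eq_zero_iff_mem.mpr (Ideal.subset_span rfl)
      rw [this, map_zero]
    have hβa : β aE = a := by
      have := congrArg (fun f => f (Ideal.Quotient.mk I (MvPolynomial.X 0))) hαβ
      simpa [φ, φ₀] using this
    have hβb : β bE = b := by
      have := congrArg (fun f => f (Ideal.Quotient.mk I (MvPolynomial.X 1))) hαβ
      simpa [φ, φ₀] using this
    let r : Ideal E := (maximalIdeal W).comap β.toRingHom
    haveI : r.IsPrime := Ideal.comap_isPrime _ _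
    have hEn : EGA4.IsNormalRing E :=
      Groth.Agent.Lib.Helper69.NormalSmooth.isNormalRing_of_smooth N E hN
    haveI : IsDomain (Localization.AtPrime r) := (hEn r).1
    have hprod : algebraMap E (Localization.AtPrime r) aE *
        algebraMap E (Localization.AtPrime r) bE = 0 := by
      rw [← map_mul, habE, map_zero]
    have extract : ∀ xE : E, algebraMap E (Localization.AtPrime r) xE = 0 → β xE = 0 := by
      intro xE hx
      obtain ⟨⟨s, hs⟩, hsx⟩ :=
        (IsLocalization.map_eq_zero_iff r.primeCompl (Localization.AtPrime r) xE).mp hx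
      have hu : IsUnit (β s) := by
        have : β s ∉ maximalIdeal W := hs
        rwa [mem_maximalIdeal, mem_nonunits_iff, not_not] at this
      have h1 : β s * β xE = 0 := by
        rw [← map_mul]
        change β (s * xE) = 0
        rw [show s * xE = (⟨s, hs⟩ : r.primeCompl) * xE from rfl, hsx, map_zero]
      exact hu.mul_right_eq_zero.mp h1
    rcases mul_eq_zero.mp hprod with h | h
    · left; rw [← hβa]; exact extract aE h
    · right; rw [← hβb]; exact extract bE h
  haveI : NoZeroDivisors W := ⟨fun {a b} h => key a b h⟩
  exact NoZeroDivisors.to_isDomain W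

section EtInv

variable (A B T : Type u) [CommRing A] [IsLocalRing A] [CommRing B] [IsLocalRing B]
  [CommRing T] [IsLocalRing T] [Algebra A B] [IsLocalHom (algebraMap A B)]
  [Algebra B T] [IsLocalHom (algebraMap B T)] [Algebra A T] [IsScalarTower A B T]
  [IsLocalHom (algebraMap A T)]

/-- **Étale invariance of the strict henselization**: a strict henselization of a local
ind-étale `A`-algebra `B` is a strict henselization of `A`. -/
theorem isStrictHenselization_of_isIndEtale (hAB : EtPBC.IsIndEtale A B)
    [hT : Hensel.IsStrictHenselization B T] : Hensel.IsStrictHenselization A T := by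
  have hBT : HasFactorization (etaleClass B) T :=
    (isIndEtale_iff_hasFactorization T).mp (isIndEtale_of_isStrictHenselization B T)
  have hAT : HasFactorization (etaleClass A) T := hasFactorization_trans A B T hAB hBT
  haveI hh : HenselianLocalRing T := hT.henselian
  haveI := hT.isSepClosure
  haveI : Algebra.IsSeparable (ResidueField A) (ResidueField T) :=
    isSeparable_residueField_of_hasFactorization A T hAT
  refine isStrictHenselization_of_hasFactorization A T hAT hh
    ⟨IsSepClosure.sep_closed (ResidueField B), inferInstance⟩

end EtInv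

end SmoothBr

end Groth.Agent.Lib.Helper37.Hz
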