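import Groth.Agent.Lib.Helper37.Hz58

/-!
# Henselization project, part 59: local rings ind-étale over smooth algebras over (strictly)
henselian domains are domains.
-/

set_option autoImplicit false
set_option linter.style.haveILetI false
set_option linter.unusedSectionVars false
universe u

open TensorProduct IsLocalRing

namespace Groth.Agent.Lib.Helper37.Hz

namespace SmoothBr

open Groth.Agent.Lib.Helper4

section Generic

variable (Y T N : Type u) [CommRing Y] [CommRing T] [IsLocalRing T] [Algebra Y T]
  [CommRing N] [Algebra Y N]

/-- Generic form: `T` local ind-étale over `Y`, `N` a normal `Y`-algebra with `Y → N` injective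
and `N ⊗_Y T` local: then `T` is a domain. -/
theorem isDomain_of_isLocalRing_tensor_generic (hN : EGA4.IsNormalRing N)
    (hinj : Function.Injective (algebraMap Y N)) (hT : HasFactorization (etaleClass Y) T)
    (hloc : IsLocalRing (N ⊗[Y] T)) : IsDomain T := by
  have hind : EtPBC.IsIndEtale Y T := (isIndEtale_iff_hasFactorization T).mpr hT
  have hW : HasFactorization (etaleClass N) (N ⊗[Y] T) :=
    (isIndEtale_iff_hasFactorization _).mp (Groth.Agent.S0733.result Y T N hind)
  haveI : Algebra.WeaklyEtale Y T := Groth.Agent.S0736.result Y T hind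
  haveI : Module.Flat Y T := Algebra.WeaklyEtale.flat
  have hinjT : Function.Injective
      (Algebra.TensorProduct.includeRight : T →ₐ[Y] N ⊗[Y] T) :=
    Algebra.TensorProduct.includeRight_injective (R := Y) (A := N) (B := T) hinj
  haveI := hloc
  haveI : IsDomain (N ⊗[Y] T) := isDomain_of_hasFactorization_of_isNormalRing N _ hN hW
  exact hinjT.isDomain (Algebra.TensorProduct.includeRight : T →ₐ[Y] N ⊗[Y] T).toRingHom

variable (D K : Type u) [CommRing D] [CommRing K] [Algebra D K] [Algebra D Y] [Algebra D T]
  [IsScalarTower D Y T] [Algebra K N] [Algebra D N] [IsScalarTower D K N] [IsScalarTower D Y N]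

/-- Generic form: if `N` is generated over `Y` by the image of `K` and `K ⊗_D T` is local, then
`N ⊗_Y T` is local (if nontrivial). -/
theorem isLocalRing_tensor_generic
    (hgen : ∀ n : N, n ∈ Submodule.span Y (Set.range (algebraMap K N)))
    (hinj : Function.Injective (algebraMap Y N)) [Module.Flat Y T]
    [IsLocalRing (K ⊗[D] T)] : IsLocalRing (N ⊗[Y] T) := by
  have hinjT : Function.Injective
      (Algebra.TensorProduct.includeRight : T →ₐ[Y] N ⊗[Y] T) :=
    Algebra.TensorProduct.includeRight_injective (R := Y) (A := N) (B := T) hinj
  haveI : Nontrivial (N ⊗[Y] T) := hinjT.nontrivial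
  let f : K →ₐ[D] N ⊗[Y] T :=
    ((Algebra.TensorProduct.includeLeft : N →ₐ[D] N ⊗[Y] T)).comp (IsScalarTower.toAlgHom D K N)
  let g : T →ₐ[D] N ⊗[Y] T :=
    (Algebra.TensorProduct.includeRight : T →ₐ[Y] N ⊗[Y] T).restrictScalars D
  let θ : K ⊗[D] T →ₐ[D] N ⊗[Y] T :=
    Algebra.TensorProduct.lift f g (fun _ _ => Commute.all _ _)
  have hθ : Function.Surjective θ := by
    intro z
    induction z using TensorProduct.induction_on with
    | zero => exact ⟨0, map_zero _⟩
    | tmul n t =>
      have hn := hgen n
      induction hn using Submodule.span_induction with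
      | mem x hx =>
        obtain ⟨k, rfl⟩ := hx
        refine ⟨k ⊗ₜ[D] t, ?_⟩
        simp [θ, f, g]
      | zero => exact ⟨0, by simp⟩
      | add x y _ _ hx hy =>
        obtain ⟨z₁, hz₁⟩ := hx
        obtain ⟨z₂, hz₂⟩ := hy
        exact ⟨z₁ + z₂, by rw [map_add, hz₁, hz₂, TensorProduct.add_tmul]⟩
      | smul y x _ hx =>
        obtain ⟨z₁, hz₁⟩ := hx
        refine ⟨(1 : K) ⊗ₜ[D] (algebraMap Y T y) * z₁, ?_⟩
        rw [map_mul, hz₁]
        simp only [θ, f, g, Algebra.TensorProduct.lift_tmul, map_one, one_mul,
          AlgHom.restrictScalars_apply, Algebra.TensorProduct.includeRight_apply,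
          Algebra.TensorProduct.tmul_mul_tmul]
        rw [← Algebra.smul_def, TensorProduct.smul_tmul]
    | add z₁ z₂ h₁ h₂ =>
      obtain ⟨w₁, hw₁⟩ := h₁
      obtain ⟨w₂, hw₂⟩ := h₂
      exact ⟨w₁ + w₂, by rw [map_add, hw₁, hw₂]⟩
  exact IsLocalRing.of_surjective' θ.toRingHom hθ

end Generic

section Core

attribute [local instance] Algebra.TensorProduct.rightAlgebra

variable (D Y T : Type u) [CommRing D] [IsDomain D] [CommRing Y] [Algebra D Y]
  [Algebra.Smooth D Y] [CommRing T] [IsLocalRing T] [Algebra Y T] [Algebra D T]
  [IsScalarTower D Y T]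

/-- **Core**: `T` a local ring, ind-étale over the smooth `D`-algebra `Y`, `D` a domain with
normalization `Dν`.  If `Dν ⊗ T` is local then `T` is a domain. -/
theorem isDomain_of_isLocalRing_tensor (hT : HasFactorization (etaleClass Y) T)
    (hloc : IsLocalRing (integralClosure D (FractionRing D) ⊗[D] T)) : IsDomain T := by
  classical
  haveI : IsIntegrallyClosed (integralClosure D (FractionRing D)) :=
    integralClosure.isIntegrallyClosedOfFiniteExtension (FractionRing D)
  have hN : EGA4.IsNormalRing (integralClosure D (FractionRing D) ⊗[D] Y) :=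
    Groth.Agent.Lib.Helper69.NormalSmooth.isNormalRing_of_smooth_of_isIntegrallyClosed
      (integralClosure D (FractionRing D)) _
  have hind : EtPBC.IsIndEtale Y T := (isIndEtale_iff_hasFactorization T).mpr hT
  haveI : Algebra.WeaklyEtale Y T := Groth.Agent.S0736.result Y T hind
  haveI : Module.Flat Y T := Algebra.WeaklyEtale.flat
  have hinjD : Function.Injective (algebraMap D (integralClosure D (FractionRing D))) := by
    intro a b hab
    have := congrArg (Subtype.val) hab
    exact IsFractionRing.injective D (FractionRing D) this
  have hinjY : Function.Injective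
      (algebraMap Y (integralClosure D (FractionRing D) ⊗[D] Y)) :=
    Algebra.TensorProduct.includeRight_injective (R := D)
      (A := integralClosure D (FractionRing D)) (B := Y) hinjD
  have hgen : ∀ n : integralClosure D (FractionRing D) ⊗[D] Y,
      n ∈ Submodule.span Y (Set.range
        (algebraMap (integralClosure D (FractionRing D))
          (integralClosure D (FractionRing D) ⊗[D] Y))) := by
    intro n
    induction n using TensorProduct.induction_on with
    | zero => exact zero_mem _
    | tmul k y =>
      have : k ⊗ₜ[D] y = y • (algebraMap (integralClosure D (FractionRing D))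
          (integralClosure D (FractionRing D) ⊗[D] Y) k) := by
        rw [Algebra.smul_def]
        change _ = ((1 : integralClosure D (FractionRing D)) ⊗ₜ[D] y) * (k ⊗ₜ[D] (1 : Y))
        rw [Algebra.TensorProduct.tmul_mul_tmul, one_mul, mul_one]
      rw [this]
      exact Submodule.smul_mem _ _ (Submodule.subset_span ⟨k, rfl⟩)
    | add x y hx hy => exact add_mem hx hy
  haveI := hloc
  refine isDomain_of_isLocalRing_tensor_generic Y T
    (integralClosure D (FractionRing D) ⊗[D] Y) hN hinjY hT ?_
  exact isLocalRing_tensor_generic Y T (integralClosure D (FractionRing D) ⊗[D] Y) D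
    (integralClosure D (FractionRing D)) hgen hinjY

end Core
end SmoothBr
end Groth.Agent.Lib.Helper37.Hz

namespace Groth.Agent.Lib.Helper37.Hz

namespace SmoothBr

open Groth.Agent.Lib.Helper4

section WrapperA

variable (D Y T : Type u) [CommRing D] [IsDomain D] [hD : HenselianLocalRing D]
  [IsSepClosed (ResidueField D)] [CommRing Y] [Algebra D Y]
  [Algebra.Smooth D Y] [CommRing T] [IsLocalRing T] [Algebra Y T] [Algebra D T]
  [IsScalarTower D Y T]

/-- A local ring `T`, ind-étale over a smooth algebra over a strictly henselian local domain `D`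
(with `D → T` local), is a domain. -/
theorem isDomain_of_smooth_of_isSepClosed (hDT : IsLocalHom (algebraMap D T))
    (hT : HasFactorization (etaleClass Y) T) : IsDomain T := by
  classical
  haveI : IsLocalRing (integralClosure D (FractionRing D)) :=
    Unibranch.isLocalRing_integralClosure_of_isDomain' D D hD inferInstance
  haveI : Algebra.IsIntegral D (integralClosure D (FractionRing D)) :=
    integralClosure.AlgebraIsIntegral
  haveI : IsLocalHom (algebraMap D (integralClosure D (FractionRing D))) :=
    Unibranch.isLocalHom_of_isIntegral D _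
  haveI : Algebra.IsAlgebraic (ResidueField D)
      (ResidueField (integralClosure D (FractionRing D))) :=
    PITens.isAlgebraic_residueField_left D _
  haveI : ExpChar (ResidueField D) (ringExpChar (ResidueField D)) :=
    ringExpChar.expChar _
  haveI : ExpChar (ResidueField (integralClosure D (FractionRing D)))
      (ringExpChar (ResidueField D)) :=
    expChar_of_injective_algebraMap (FaithfulSMul.algebraMap_injective (ResidueField D)
      (ResidueField (integralClosure D (FractionRing D)))) _
  have hpi : PITens.PI D (integralClosure D (FractionRing D)) (ringExpChar (ResidueField D)) :=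
    PITens.pi_of_isPurelyInseparable D _ _
  haveI : Nontrivial (integralClosure D (FractionRing D) ⊗[D] T) :=
    PITens.nontrivial_tensor D _ T
  exact isDomain_of_isLocalRing_tensor D Y T hT
    (PITens.isLocalRing D _ T (ringExpChar (ResidueField D)) hpi)

end WrapperA

section AtPrime

variable (R : Type u) [CommRing R] (p : Ideal R) [p.IsPrime] (Rh : Type u) [CommRing Rh]
  [IsLocalRing Rh] [Algebra (Localization.AtPrime p) Rh]
  [IsLocalHom (algebraMap (Localization.AtPrime p) Rh)]
  [hH : Hensel.IsStrictHenselization (Localization.AtPrime p) Rh] [Algebra R Rh]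
  [IsScalarTower R (Localization.AtPrime p) Rh]

include hH in
/-- A strict henselization of `R_p` is ind-étale over `R`. -/
theorem hasFactorization_of_isStrictHenselization_atPrime :
    HasFactorization (etaleClass R) Rh := by
  have h1 : EtPBC.IsIndEtale R (Localization.AtPrime p) :=
    (isIndEtale_iff_hasFactorization _).mpr
      (hasFactorization_of_isLocalization R p.primeCompl (Localization.AtPrime p))
  have h2 : HasFactorization (etaleClass (Localization.AtPrime p)) Rh :=
    (isIndEtale_iff_hasFactorization _).mp
      (isIndEtale_of_isStrictHenselization (Localization.AtPrime p) Rh)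
  exact hasFactorization_trans R (Localization.AtPrime p) Rh h1 h2

end AtPrime

end SmoothBr
end Groth.Agent.Lib.Helper37.Hz
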