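import Groth.Agent.Lib.Helper37.Hz59

/-!
# Henselization project, part 60: quotients of ind-étale maps; primes of a strictly henselian
local ring stay prime in local rings ind-étale over smooth algebras.
-/

set_option autoImplicit false
set_option linter.style.haveILetI false
set_option linter.unusedSectionVars false
universe u

open TensorProduct IsLocalRing

namespace Groth.Agent.Lib.Helper37.Hz

namespace SmoothBr

open Groth.Agent.Lib.Helper4

section Quot

variable (A B : Type u) [CommRing A] [CommRing B] [Algebra A B] (I : Ideal A)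

/-- Quotients of ind-étale maps are ind-étale. -/
theorem hasFactorization_quotient (h : HasFactorization (etaleClass A) B) :
    HasFactorization (etaleClass (A ⧸ I)) (B ⧸ I.map (algebraMap A B)) := by
  have h1 : EtPBC.IsIndEtale (A ⧸ I) ((A ⧸ I) ⊗[A] B) :=
    Groth.Agent.S0733.result A B (A ⧸ I) ((isIndEtale_iff_hasFactorization B).mpr h)
  have h2 := (isIndEtale_iff_hasFactorization _).mp h1
  let e := Algebra.TensorProduct.quotIdealMapEquivQuotTensor B I
  refine HasFactorization.of_retract e.toAlgHom e.symm.toAlgHom ?_ h2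
  ext x
  simp

end Quot

section PrimeMap

variable (R Y T : Type u) [CommRing R] [hR : HenselianLocalRing R]
  [IsSepClosed (ResidueField R)] [CommRing Y] [Algebra R Y]
  [Algebra.Smooth R Y] [CommRing T] [IsLocalRing T] [Algebra Y T] [Algebra R T]
  [IsScalarTower R Y T]

/-- Let `R` be a strictly henselian local ring, `Y` a smooth `R`-algebra, `T` a local ring,
ind-étale over `Y`, with `R → T` local.  Then the extension to `T` of any prime ideal of `R` is
prime. -/
theorem isPrime_map_of_smooth_of_isSepClosed (hRT : IsLocalHom (algebraMap R T))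
    (hT : HasFactorization (etaleClass Y) T) (I : Ideal R) [hI : I.IsPrime] :
    (I.map (algebraMap R T)).IsPrime := by
  classical
  have hmapmap : (I.map (algebraMap R Y)).map (algebraMap Y T) = I.map (algebraMap R T) := by
    rw [Ideal.map_map, ← IsScalarTower.algebraMap_eq]
  rw [← hmapmap]
  -- the quotient rings
  haveI : IsDomain (R ⧸ I) := Ideal.Quotient.isDomain I
  haveI : IsLocalRing (R ⧸ I) :=
    IsLocalRing.of_surjective' (Ideal.Quotient.mk I) Ideal.Quotient.mk_surjective
  haveI : Algebra.IsIntegral R (R ⧸ I) :=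
    Algebra.isIntegral_of_surjective Ideal.Quotient.mk_surjective
  haveI hD : HenselianLocalRing (R ⧸ I) := henselianLocalRing_of_isIntegral R (R ⧸ I)
  haveI : IsLocalHom (algebraMap R (R ⧸ I)) := Unibranch.isLocalHom_of_isIntegral R _
  haveI : Algebra.IsAlgebraic (ResidueField R) (ResidueField (R ⧸ I)) :=
    PITens.isAlgebraic_residueField_left R _
  haveI : IsSepClosed (ResidueField (R ⧸ I)) :=
    Algebra.IsAlgebraic.isSepClosed (F := ResidueField R)
  -- smoothness of the quotient
  haveI : Algebra.Smooth (R ⧸ I) (Y ⧸ I.map (algebraMap R Y)) :=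
    Algebra.Smooth.of_equiv (Algebra.TensorProduct.quotIdealMapEquivQuotTensor Y I).symm
  have hT' := hasFactorization_quotient Y T (I.map (algebraMap R Y)) hT
  -- proper ideal
  have hle : (I.map (algebraMap R Y)).map (algebraMap Y T) ≤ maximalIdeal T := by
    rw [hmapmap]
    refine le_trans (Ideal.map_mono (le_maximalIdeal hI.ne_top)) ?_
    exact ((IsLocalRing.local_hom_TFAE (algebraMap R T)).out 0 2).mp hRT
  have hne : (I.map (algebraMap R Y)).map (algebraMap Y T) ≠ ⊤ :=
    fun h => (maximalIdeal.isMaximal T).ne_top (top_le_iff.mp (h ▸ hle))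
  haveI : Nontrivial (T ⧸ (I.map (algebraMap R Y)).map (algebraMap Y T)) :=
    Ideal.Quotient.nontrivial_iff.mpr hne
  haveI : IsLocalRing (T ⧸ (I.map (algebraMap R Y)).map (algebraMap Y T)) :=
    IsLocalRing.of_surjective' (Ideal.Quotient.mk _) Ideal.Quotient.mk_surjective
  letI : Algebra (R ⧸ I) (T ⧸ (I.map (algebraMap R Y)).map (algebraMap Y T)) :=
    ((algebraMap (Y ⧸ I.map (algebraMap R Y))
      (T ⧸ (I.map (algebraMap R Y)).map (algebraMap Y T))).comp
      (algebraMap (R ⧸ I) (Y ⧸ I.map (algebraMap R Y)))).toAlgebra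
  haveI : IsScalarTower (R ⧸ I) (Y ⧸ I.map (algebraMap R Y))
      (T ⧸ (I.map (algebraMap R Y)).map (algebraMap Y T)) :=
    IsScalarTower.of_algebraMap_eq' rfl
  have hloc : IsLocalHom (algebraMap (R ⧸ I)
      (T ⧸ (I.map (algebraMap R Y)).map (algebraMap Y T))) := by
    refine ⟨fun d hd => ?_⟩
    obtain ⟨r, rfl⟩ := Ideal.Quotient.mk_surjective d
    have h1 : algebraMap (R ⧸ I) (T ⧸ (I.map (algebraMap R Y)).map (algebraMap Y T))
        (Ideal.Quotient.mk I r) = Ideal.Quotient.mk _ (algebraMap R T r) := by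
      rw [IsScalarTower.algebraMap_apply R Y T]
      rfl
    rw [h1] at hd
    by_contra hr
    have hr' : r ∈ maximalIdeal R := by
      by_contra hr'
      rw [mem_maximalIdeal, mem_nonunits_iff, not_not] at hr'
      exact hr (hr'.map _)
    have h2' : (maximalIdeal R).map (algebraMap R T) ≤ maximalIdeal T :=
      ((IsLocalRing.local_hom_TFAE (algebraMap R T)).out 0 2).mp hRT
    have h2 : algebraMap R T r ∈ maximalIdeal T := h2' (Ideal.mem_map_of_mem _ hr')
    obtain ⟨z, hz⟩ := hd.exists_right_inv
    obtain ⟨z, rfl⟩ := Ideal.Quotient.mk_surjective z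
    rw [← map_mul, ← map_one (Ideal.Quotient.mk _), Ideal.Quotient.eq] at hz
    have h3 : algebraMap R T r * z - 1 ∈ maximalIdeal T := hle hz
    have h4 : (1 : T) ∈ maximalIdeal T := by
      have := Ideal.sub_mem _ (Ideal.mul_mem_right z _ h2) h3
      rwa [sub_sub_cancel] at this
    exact (maximalIdeal.isMaximal T).ne_top ((Ideal.eq_top_iff_one _).mpr h4)
  have hdom : IsDomain (T ⧸ (I.map (algebraMap R Y)).map (algebraMap Y T)) :=
    isDomain_of_smooth_of_isSepClosed (R ⧸ I) (Y ⧸ I.map (algebraMap R Y)) _ hloc hT'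
  exact (Ideal.Quotient.isDomain_iff_prime _).mp hdom

end PrimeMap

end SmoothBr
end Groth.Agent.Lib.Helper37.Hz
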