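import Groth.Agent.Lib.Helper37.Hz60

/-!
# Henselization project, part 61: the number of geometric branches is invariant under smooth
local extensions.
-/

set_option autoImplicit false
set_option linter.style.haveILetI false
set_option linter.unusedSectionVars false
universe u

open TensorProduct IsLocalRing

namespace Groth.Agent.Lib.Helper37.Hz

namespace SmoothBr

open Groth.Agent.Lib.Helper4

section Card

/-- For a faithfully flat map such that the radical of the extension of every minimal prime is
prime, the numbers of minimal primes agree (no finiteness needed). -/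
theorem card_minimalPrimes_eq_of_radical_isPrime (R S : Type*) [CommRing R] [CommRing S]
    [Algebra R S] [Module.FaithfullyFlat R S]
    (h : ∀ q ∈ minimalPrimes R, (q.map (algebraMap R S)).radical.IsPrime) :
    ENat.card (minimalPrimes R) = ENat.card (minimalPrimes S) := by
  classical
  haveI : Module.Flat R S := Module.FaithfullyFlat.toFlat
  let F : minimalPrimes S → minimalPrimes R := fun P =>
    ⟨(P : Ideal S).comap (algebraMap R S), comap_mem_minimalPrimes_of_hasGoingDown P.2⟩
  have hsurj : Function.Surjective F := by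
    intro q
    obtain ⟨P, hP, hPq⟩ := exists_minimalPrimes_comap_eq_of_faithfullyFlat (B := S) q.2
    exact ⟨⟨P, hP⟩, Subtype.ext hPq⟩
  have hinj : Function.Injective F := by
    intro P₁ P₂ h12
    have key : ∀ P : minimalPrimes S,
        (P : Ideal S) = (((F P : Ideal R)).map (algebraMap R S)).radical := by
      intro P
      haveI := h _ (F P).2
      haveI : (P : Ideal S).IsPrime := P.2.1.1
      have hle : ((F P : Ideal R).map (algebraMap R S)).radical ≤ (P : Ideal S) := by
        rw [Ideal.IsPrime.radical_le_iff inferInstance]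
        exact Ideal.map_comap_le
      exact le_antisymm (P.2.2 ⟨inferInstance, bot_le⟩ hle) hle
    apply Subtype.ext
    rw [key P₁, key P₂, h12]
  exact (ENat.card_congr (Equiv.ofBijective F ⟨hinj, hsurj⟩)).symm

end Card

section Loc

variable (S : Type u) [CommRing S] (M : Submonoid S) (SM : Type u) [CommRing SM] [Algebra S SM]
  [IsLocalization M SM] (T : Type u) [CommRing T] [Algebra S T] [Algebra SM T]
  [IsScalarTower S SM T]

include M in
/-- If `T` is ind-étale over `S` and an algebra over the localization `S_M`, it is ind-étale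
over `S_M`. -/
theorem hasFactorization_of_isLocalization_base (h : HasFactorization (etaleClass S) T) :
    HasFactorization (etaleClass SM) T := by
  have h1 : EtPBC.IsIndEtale SM (SM ⊗[S] T) :=
    Groth.Agent.S0733.result S T SM ((isIndEtale_iff_hasFactorization T).mpr h)
  have h2 := (isIndEtale_iff_hasFactorization _).mp h1
  have hcomm : ∀ a : SM, (1 : SM) ⊗ₜ[S] (algebraMap SM T a) = a ⊗ₜ[S] (1 : T) := by
    intro a
    let f₁ : SM →+* SM ⊗[S] T :=
      (Algebra.TensorProduct.includeRight : T →ₐ[S] SM ⊗[S] T).toRingHom.comp (algebraMap SM T)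
    let f₂ : SM →+* SM ⊗[S] T :=
      (Algebra.TensorProduct.includeLeft : SM →ₐ[S] SM ⊗[S] T).toRingHom
    have : f₁ = f₂ := by
      apply IsLocalization.ringHom_ext M
      ext s
      change (1 : SM) ⊗ₜ[S] (algebraMap SM T (algebraMap S SM s)) =
        (algebraMap S SM s) ⊗ₜ[S] (1 : T)
      rw [← IsScalarTower.algebraMap_apply, Algebra.algebraMap_eq_smul_one,
        Algebra.algebraMap_eq_smul_one, TensorProduct.smul_tmul]
    exact RingHom.congr_fun this a
  let θ : T →ₐ[SM] SM ⊗[S] T :=
    { toRingHom := (Algebra.TensorProduct.includeRight : T →ₐ[S] SM ⊗[S] T).toRingHom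
      commutes' := fun a => by
        change (1 : SM) ⊗ₜ[S] (algebraMap SM T a) = _
        rw [hcomm]
        rfl }
  let ρ : SM ⊗[S] T →ₐ[SM] T :=
    Algebra.TensorProduct.lift (Algebra.ofId SM T) (AlgHom.id S T) (fun _ _ => Commute.all _ _)
  refine HasFactorization.of_retract θ ρ ?_ h2
  ext t
  change ρ ((1 : SM) ⊗ₜ[S] t) = t
  simp [ρ]

end Loc

section Right

attribute [local instance] Algebra.TensorProduct.rightAlgebra

variable (R A S : Type u) [CommRing R] [CommRing A] [CommRing S] [Algebra R A] [Algebra R S]

/-- Base change of an ind-étale map, with the new base on the right. -/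
theorem hasFactorization_tensor_right (h : EtPBC.IsIndEtale R A) :
    HasFactorization (etaleClass S) (A ⊗[R] S) := by
  have h1 : EtPBC.IsIndEtale S (S ⊗[R] A) := Groth.Agent.S0733.result R A S h
  have h2 := (isIndEtale_iff_hasFactorization _).mp h1
  let θ : A ⊗[R] S →ₐ[S] S ⊗[R] A :=
    { toRingHom := (Algebra.TensorProduct.comm R A S).toAlgHom.toRingHom
      commutes' := fun s => by
        change Algebra.TensorProduct.comm R A S ((1 : A) ⊗ₜ[R] s) = _
        rw [Algebra.TensorProduct.comm_tmul]
        rfl }
  let ρ : S ⊗[R] A →ₐ[S] A ⊗[R] S :=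
    { toRingHom := (Algebra.TensorProduct.comm R S A).toAlgHom.toRingHom
      commutes' := fun s => by
        change Algebra.TensorProduct.comm R S A (s ⊗ₜ[R] (1 : A)) = _
        rw [Algebra.TensorProduct.comm_tmul]
        rfl }
  refine HasFactorization.of_retract θ ρ ?_ h2
  ext x
  change Algebra.TensorProduct.comm R S A (Algebra.TensorProduct.comm R A S x) = x
  induction x using TensorProduct.induction_on with
  | zero => simp
  | tmul a s => simp
  | add x y hx hy => rw [map_add, map_add, hx, hy]

end Right

end SmoothBr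
end Groth.Agent.Lib.Helper37.Hz

namespace Groth.Agent.Lib.Helper37.Hz

namespace SmoothBr

open Groth.Agent.Lib.Helper4

section Main2

attribute [local instance] Algebra.TensorProduct.rightAlgebra

variable (R S Ash : Type u) [CommRing R] [CommRing S] [Algebra R S] [Algebra.Smooth R S]
  (q : Ideal S) [q.IsPrime]
  [CommRing Ash] [hAh : HenselianLocalRing Ash] [IsSepClosed (ResidueField Ash)] [Algebra R Ash]
  (Q : Ideal (Ash ⊗[R] S)) [Q.IsPrime]

local notation "CQ" => Localization.AtPrime Q
local notation "TQ" => SHens (Localization.AtPrime Q)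

theorem card_minimalPrimes_eq_numGeomBranches_of_smooth
    (hRA : HasFactorization (etaleClass R) Ash)
    (hQA : ∀ x : Ash, x ⊗ₜ[R] (1 : S) ∈ Q ↔ x ∈ maximalIdeal Ash)
    (hQS : ∀ s : S, (1 : Ash) ⊗ₜ[R] s ∈ Q ↔ s ∈ q) :
    ENat.card (minimalPrimes Ash) = Brnch.numGeomBranches (Localization.AtPrime q) := by
  classical
  haveI hT : Hensel.IsStrictHenselization CQ TQ := inferInstance
  -- algebra structures on `T`
  letI : Algebra (Ash ⊗[R] S) TQ :=
    ((algebraMap CQ TQ).comp (algebraMap (Ash ⊗[R] S) CQ)).toAlgebra
  haveI : IsScalarTower (Ash ⊗[R] S) CQ TQ := IsScalarTower.of_algebraMap_eq' rfl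
  letI : Algebra Ash TQ := ((algebraMap (Ash ⊗[R] S) TQ).comp (algebraMap Ash _)).toAlgebra
  haveI : IsScalarTower Ash (Ash ⊗[R] S) TQ := IsScalarTower.of_algebraMap_eq' rfl
  letI : Algebra S TQ := ((algebraMap (Ash ⊗[R] S) TQ).comp (algebraMap S _)).toAlgebra
  haveI : IsScalarTower S (Ash ⊗[R] S) TQ := IsScalarTower.of_algebraMap_eq' rfl
  -- elements of `Q` go to the maximal ideal
  have hQT : ∀ y ∈ Q, algebraMap (Ash ⊗[R] S) TQ y ∈ maximalIdeal TQ := by
    intro y hy
    have h1 : algebraMap (Ash ⊗[R] S) CQ y ∈ maximalIdeal CQ := by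
      rw [← Localization.AtPrime.map_eq_maximalIdeal]
      exact Ideal.mem_map_of_mem _ hy
    have h3 : IsLocalHom (algebraMap CQ TQ) := inferInstance
    have h4 : (maximalIdeal CQ).map (algebraMap CQ TQ) ≤ maximalIdeal TQ :=
      ((IsLocalRing.local_hom_TFAE (algebraMap CQ TQ)).out 0 2).mp h3
    exact h4 (Ideal.mem_map_of_mem _ h1)
  have hunit : ∀ y ∉ Q, IsUnit (algebraMap (Ash ⊗[R] S) TQ y) := by
    intro y hy
    have h1 : IsUnit (algebraMap (Ash ⊗[R] S) CQ y) :=
      IsLocalization.map_units CQ (⟨y, hy⟩ : Q.primeCompl)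
    exact h1.map (algebraMap CQ TQ)
  -- `Ash → T` is local and faithfully flat
  have hlocA : IsLocalHom (algebraMap Ash TQ) := by
    refine ((IsLocalRing.local_hom_TFAE _).out 2 0).mp ?_
    rw [Ideal.map_le_iff_le_comap]
    intro x hx
    rw [Ideal.mem_comap]
    exact hQT _ ((hQA x).mpr hx)
  have hTY : HasFactorization (etaleClass (Ash ⊗[R] S)) TQ :=
    hasFactorization_of_isStrictHenselization_atPrime (Ash ⊗[R] S) Q TQ
  haveI : Module.FaithfullyFlat CQ TQ := faithfullyFlat_of_isStrictHenselization _ _
  haveI : Module.Flat (Ash ⊗[R] S) CQ := IsLocalization.flat _ Q.primeCompl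
  haveI : Module.Flat (Ash ⊗[R] S) TQ := Module.Flat.trans (Ash ⊗[R] S) CQ TQ
  haveI : Module.Flat Ash TQ := Module.Flat.trans Ash (Ash ⊗[R] S) TQ
  haveI := hlocA
  haveI : Module.FaithfullyFlat Ash TQ := Module.FaithfullyFlat.of_flat_of_isLocalHom
  -- primes stay prime
  have hprime : ∀ a ∈ minimalPrimes Ash, ((a : Ideal Ash).map (algebraMap Ash TQ)).radical.IsPrime := by
    intro a ha
    haveI : a.IsPrime := ha.1.1
    have h1 := isPrime_map_of_smooth_of_isSepClosed Ash (Ash ⊗[R] S) TQ hlocA hTY a
    rw [h1.radical]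
    exact h1
  rw [card_minimalPrimes_eq_of_radical_isPrime Ash TQ hprime]
  -- `T` is a strict henselization of `S_q`
  have hunitS : ∀ s : q.primeCompl, IsUnit (algebraMap S TQ s) := by
    intro s
    exact hunit _ (fun h => s.2 ((hQS s).mp h))
  letI : Algebra (Localization.AtPrime q) TQ :=
    (IsLocalization.lift (M := q.primeCompl) (g := algebraMap S TQ) hunitS).toAlgebra
  haveI : IsScalarTower S (Localization.AtPrime q) TQ :=
    IsScalarTower.of_algebraMap_eq' (IsLocalization.lift_comp _).symm
  haveI : IsLocalHom (algebraMap (Localization.AtPrime q) TQ) := by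
    refine isLocalHom_of_atPrime q _ fun r hr => ?_
    rw [← IsScalarTower.algebraMap_apply S (Localization.AtPrime q) TQ]
    exact hQT _ ((hQS r).mpr hr)
  have hSY : EtPBC.IsIndEtale S (Ash ⊗[R] S) :=
    (isIndEtale_iff_hasFactorization _).mpr
      (hasFactorization_tensor_right R Ash S ((isIndEtale_iff_hasFactorization Ash).mpr hRA))
  have hfacS : HasFactorization (etaleClass S) TQ :=
    hasFactorization_trans S (Ash ⊗[R] S) TQ hSY hTY
  have hfacSq : HasFactorization (etaleClass (Localization.AtPrime q)) TQ :=
    hasFactorization_of_isLocalization_base S q.primeCompl (Localization.AtPrime q) TQ hfacS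
  haveI hh : HenselianLocalRing TQ := hT.henselian
  haveI := hT.isSepClosure
  haveI : Algebra.IsSeparable (ResidueField (Localization.AtPrime q)) (ResidueField TQ) :=
    isSeparable_residueField_of_hasFactorization (Localization.AtPrime q) TQ hfacSq
  haveI : Hensel.IsStrictHenselization (Localization.AtPrime q) TQ :=
    isStrictHenselization_of_hasFactorization (Localization.AtPrime q) TQ hfacSq hh
      ⟨IsSepClosure.sep_closed (ResidueField CQ), inferInstance⟩
  exact Branches.card_minimalPrimes_eq_numGeomBranches (Localization.AtPrime q) TQ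

end Main2

section MainStrict

attribute [local instance] Algebra.TensorProduct.rightAlgebra

variable {R S Ash Bsh : Type u} [CommRing R] [CommRing S] [Algebra R S] [Algebra.Smooth R S]
  (q : Ideal S) [q.IsPrime] (p : Ideal R) [p.IsPrime] [q.LiesOver p]
  [CommRing Ash] [IsLocalRing Ash] [Algebra (Localization.AtPrime p) Ash]
  [IsLocalHom (algebraMap (Localization.AtPrime p) Ash)]
  [hA : Hensel.IsStrictHenselization (Localization.AtPrime p) Ash]
  [CommRing Bsh] [IsLocalRing Bsh] [Algebra (Localization.AtPrime q) Bsh]
  [IsLocalHom (algebraMap (Localization.AtPrime q) Bsh)]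
  [hB : Hensel.IsStrictHenselization (Localization.AtPrime q) Bsh]

include hA hB in
theorem card_minimalPrimes_strictHenselization_of_smooth :
    ENat.card (minimalPrimes Ash) = ENat.card (minimalPrimes Bsh) := by
  classical
  -- step 1: the local map on localizations
  letI : Algebra (Localization.AtPrime p) (Localization.AtPrime q) :=
    (Localization.localRingHom p q (algebraMap R S) (q.over_def p)).toAlgebra
  haveI : IsLocalHom (algebraMap (Localization.AtPrime p) (Localization.AtPrime q)) :=
    Localization.isLocalHom_localRingHom p q (algebraMap R S) (q.over_def p)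
  haveI hBh : HenselianLocalRing Bsh := hB.henselian
  haveI hAh : HenselianLocalRing Ash := hA.henselian
  haveI : IsSepClosed (ResidueField Bsh) := hB.isSepClosure.sep_closed
  haveI : IsSepClosed (ResidueField Ash) := hA.isSepClosure.sep_closed
  obtain ⟨g, hg, hgloc⟩ := Compare.exists_map_of_isStrictHenselization
    (Localization.AtPrime p) (Localization.AtPrime q) Ash Bsh
  -- step 3: algebra structures over `R`
  letI : Algebra R Ash :=
    ((algebraMap (Localization.AtPrime p) Ash).comp (algebraMap R (Localization.AtPrime p))).toAlgebra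
  haveI : IsScalarTower R (Localization.AtPrime p) Ash := IsScalarTower.of_algebraMap_eq' rfl
  letI : Algebra S Bsh :=
    ((algebraMap (Localization.AtPrime q) Bsh).comp (algebraMap S (Localization.AtPrime q))).toAlgebra
  haveI : IsScalarTower S (Localization.AtPrime q) Bsh := IsScalarTower.of_algebraMap_eq' rfl
  letI : Algebra R Bsh := ((algebraMap S Bsh).comp (algebraMap R S)).toAlgebra
  haveI : IsScalarTower R S Bsh := IsScalarTower.of_algebraMap_eq' rfl
  let gA : Ash →ₐ[R] Bsh :=
    { toRingHom := g
      commutes' := fun r => by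
        change g (algebraMap (Localization.AtPrime p) Ash (algebraMap R _ r)) = _
        have := RingHom.congr_fun hg (algebraMap R (Localization.AtPrime p) r)
        rw [RingHom.comp_apply, RingHom.comp_apply] at this
        rw [this]
        change algebraMap (Localization.AtPrime q) Bsh
          (Localization.localRingHom p q (algebraMap R S) (q.over_def p) (algebraMap R _ r)) = _
        rw [Localization.localRingHom_to_map]
        rfl }
  let χ : Ash ⊗[R] S →ₐ[R] Bsh :=
    Algebra.TensorProduct.lift gA (IsScalarTower.toAlgHom R S Bsh) (fun _ _ => Commute.all _ _)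
  -- step 4: the prime
  let Q : Ideal (Ash ⊗[R] S) := (maximalIdeal Bsh).comap χ.toRingHom
  haveI hQ : Q.IsPrime := Ideal.comap_isPrime _ _
  have hQA : ∀ x : Ash, x ⊗ₜ[R] (1 : S) ∈ Q ↔ x ∈ maximalIdeal Ash := by
    intro x
    change χ (x ⊗ₜ[R] (1 : S)) ∈ maximalIdeal Bsh ↔ _
    rw [show χ (x ⊗ₜ[R] (1 : S)) = g x by simp [χ, gA]]
    rw [← maximalIdeal_comap g, Ideal.mem_comap]
  have hQS : ∀ s : S, (1 : Ash) ⊗ₜ[R] s ∈ Q ↔ s ∈ q := by
    intro s
    change χ ((1 : Ash) ⊗ₜ[R] s) ∈ maximalIdeal Bsh ↔ _
    rw [show χ ((1 : Ash) ⊗ₜ[R] s) = algebraMap (Localization.AtPrime q) Bsh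
      (algebraMap S (Localization.AtPrime q) s) by simp [χ, gA]; rfl]
    have h1 : algebraMap (Localization.AtPrime q) Bsh
        (algebraMap S (Localization.AtPrime q) s) ∈ maximalIdeal Bsh ↔
        algebraMap S (Localization.AtPrime q) s ∈ maximalIdeal (Localization.AtPrime q) := by
      rw [← maximalIdeal_comap (algebraMap (Localization.AtPrime q) Bsh), Ideal.mem_comap]
    have h2 : (maximalIdeal (Localization.AtPrime q)).comap
        (algebraMap S (Localization.AtPrime q)) = q :=
      IsLocalization.AtPrime.under_maximalIdeal (Localization.AtPrime q) q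
    rw [h1, ← Ideal.mem_comap, h2]
  have hRA : HasFactorization (etaleClass R) Ash :=
    hasFactorization_of_isStrictHenselization_atPrime R p Ash
  rw [card_minimalPrimes_eq_numGeomBranches_of_smooth R S Ash q Q hRA hQA hQS]
  exact (Branches.card_minimalPrimes_eq_numGeomBranches (Localization.AtPrime q) Bsh).symm

end MainStrict
end SmoothBr
end Groth.Agent.Lib.Helper37.Hz
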