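import Groth.Prelude.Def_Found
import Groth.Prelude.Def_EGA4b
import Groth.Agent.Lib.Helper15.FormalCat
import Groth.Agent.Lib.Helper15.HensFibre
import Groth.Agent.Lib.Helper88.HensNagata2
import Groth.Agent.Lib.Helper29.FormalEquidim
import Groth.Agent.S13598
import Groth.Agent.Lib.Helper37.Hz20
import Mathlib

/-!
# Henselization and formal (strict) equidimensionality of quotients
-/

set_option autoImplicit false
universe u

namespace Groth.Agent.Lib.Helper37.Hz.FormCat

open IsLocalRing TensorProduct

section Setup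

variable (R : Type u) [CommRing R] [IsLocalRing R]
variable (S : Type u) [CommRing S] [IsLocalRing S] [Algebra R S] [IsLocalHom (algebraMap R S)]

theorem nontrivial_quot (a : Ideal R) (ha : a ≠ ⊤) :
    Nontrivial (S ⧸ a.map (algebraMap R S)) := by
  rw [Ideal.Quotient.nontrivial_iff]
  intro h
  have h1 : a.map (algebraMap R S) ≤ maximalIdeal S :=
    (Ideal.map_mono (le_maximalIdeal ha)).trans (IsLocalRing.map_maximalIdeal_le (algebraMap R S))
  rw [h] at h1
  exact (Ideal.IsPrime.ne_top (inferInstance : (maximalIdeal S).IsPrime)) (top_le_iff.1 h1)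

theorem isLocalHom_quot (a : Ideal R) [Nontrivial (S ⧸ a.map (algebraMap R S))] :
    IsLocalHom (algebraMap (R ⧸ a) (S ⧸ a.map (algebraMap R S))) := by
  have h1 : IsLocalHom (Ideal.Quotient.mk (a.map (algebraMap R S))) :=
    IsLocalHom.of_surjective _ Ideal.Quotient.mk_surjective
  constructor
  intro x hx
  obtain ⟨y, rfl⟩ := Ideal.Quotient.mk_surjective x
  have h2 : algebraMap (R ⧸ a) (S ⧸ a.map (algebraMap R S)) (Ideal.Quotient.mk a y) =
      Ideal.Quotient.mk _ (algebraMap R S y) := rfl
  rw [h2] at hx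
  have h3 : IsUnit (algebraMap R S y) := isUnit_of_map_unit _ _ hx
  have h4 : IsUnit y := isUnit_of_map_unit _ _ h3
  exact h4.map _

end Setup

section Hens

variable (R : Type u) [CommRing R] [IsLocalRing R] [IsNoetherianRing R]
variable (S : Type u) [CommRing S] [IsLocalRing S] [Algebra R S] [IsLocalHom (algebraMap R S)]
  [hS : Hensel.IsHenselization R S]

include hS in
/-- The completions of `R/p` and `S/pS` are isomorphic (`S` a henselization of `R`). -/
theorem nonempty_ringEquiv_adicCompletion_quot (p : Ideal R) [p.IsPrime]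
    [IsLocalRing (R ⧸ p)] [IsLocalRing (S ⧸ p.map (algebraMap R S))] :
    Nonempty (AdicCompletion (maximalIdeal (R ⧸ p)) (R ⧸ p) ≃+*
      AdicCompletion (maximalIdeal (S ⧸ p.map (algebraMap R S)))
        (S ⧸ p.map (algebraMap R S))) := by
  have hpm : p ≤ maximalIdeal R := le_maximalIdeal (Ideal.IsPrime.ne_top inferInstance)
  haveI := isLocalHom_quot R S p
  haveI : Hensel.IsHenselization (R ⧸ p) (S ⧸ p.map (algebraMap R S)) :=
    Groth.Agent.S13598.result p hpm
  obtain ⟨e⟩ := Groth.Agent.Lib.Helper88.HensNagata.nonempty_algEquiv_adicCompletion (R ⧸ p)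
    (S ⧸ p.map (algebraMap R S))
  exact ⟨e.toRingEquiv⟩

include hS in
/-- a prime `q` of the henselization is minimal over `(q ∩ R) S`. -/
theorem map_mem_minimalPrimes_quot (q : Ideal S) [q.IsPrime] :
    q.map (Ideal.Quotient.mk ((q.comap (algebraMap R S)).map (algebraMap R S))) ∈
      minimalPrimes (S ⧸ (q.comap (algebraMap R S)).map (algebraMap R S)) := by
  have hfib := Groth.Agent.Lib.Helper15.HensFibre.fibField_of_isHenselization R S
  set p := q.comap (algebraMap R S) with hp
  have hle : p.map (algebraMap R S) ≤ q := Ideal.map_comap_le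
  have hsurj : Function.Surjective (Ideal.Quotient.mk (p.map (algebraMap R S))) :=
    Ideal.Quotient.mk_surjective
  have hker : RingHom.ker (Ideal.Quotient.mk (p.map (algebraMap R S))) ≤ q := by
    rw [Ideal.mk_ker]; exact hle
  haveI hq' : (q.map (Ideal.Quotient.mk (p.map (algebraMap R S)))).IsPrime :=
    Ideal.map_isPrime_of_surjective hsurj hker
  refine ⟨⟨hq', bot_le⟩, ?_⟩
  rintro J ⟨hJ, -⟩ hJq
  haveI := hJ
  -- pull back
  set q₁ := J.comap (Ideal.Quotient.mk (p.map (algebraMap R S))) with hq₁
  haveI : q₁.IsPrime := Ideal.comap_isPrime _ _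
  have h1 : q₁ ≤ q := by
    have := Ideal.comap_mono (f := Ideal.Quotient.mk (p.map (algebraMap R S))) hJq
    rwa [Ideal.comap_map_of_surjective _ hsurj, ← RingHom.ker_eq_comap_bot,
      sup_eq_left.2 hker] at this
  have h2 : p.map (algebraMap R S) ≤ q₁ := by
    intro x hx
    rw [hq₁, Ideal.mem_comap, Ideal.Quotient.eq_zero_iff_mem.2 hx]
    exact Ideal.zero_mem _
  have h3 : q ≤ q₁ := by
    intro x hx
    obtain ⟨s, hs, hsx⟩ := hfib q x hx
    have hsx' : s * x ∈ q₁ := h2 hsx
    rcases Ideal.IsPrime.mem_or_mem inferInstance hsx' with h | h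
    · exact absurd (h1 h) hs
    · exact h
  have := Ideal.map_mono (f := Ideal.Quotient.mk (p.map (algebraMap R S))) h3
  rwa [hq₁, Ideal.map_comap_of_surjective _ hsurj] at this

include hS in
/-- **Henselization preserves formal catenarity**, pointwise form. -/
theorem isFormallyEquidim_quotient (q : Ideal S) [q.IsPrime]
    (h : EGA4.IsFormallyEquidim (R ⧸ q.comap (algebraMap R S))) :
    EGA4.IsFormallyEquidim (S ⧸ q) := by
  haveI hSN : IsNoetherianRing S :=
    (Groth.Agent.Lib.Helper37.Hz.isNoetherianRing_iff_of_isHenselization R S).mp inferInstance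
  set p := q.comap (algebraMap R S) with hp
  haveI : Nontrivial (S ⧸ p.map (algebraMap R S)) :=
    nontrivial_quot R S p (Ideal.IsPrime.ne_top inferInstance)
  obtain ⟨e⟩ := nonempty_ringEquiv_adicCompletion_quot R S p
  have hB' : EGA4.IsFormallyEquidim (S ⧸ p.map (algebraMap R S)) :=
    Groth.Agent.Lib.Helper29.FormalEquidim.isEquidim_of_ringEquiv e h
  have hle : p.map (algebraMap R S) ≤ q := Ideal.map_comap_le
  exact Groth.Agent.Lib.Helper15.FormalCat.isFormallyEquidim_of_surjective hB'
    (Ideal.Quotient.factor hle) (Ideal.Quotient.factor_surjective hle)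
    (Groth.Agent.Lib.Helper15.LocEquidim.isEquidim_of_isDomain _)

end Hens

end Groth.Agent.Lib.Helper37.Hz.FormCat
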