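import Groth.Agent.Lib.Helper37.Hz62

/-!
# Strict formal equidimensionality of quotients by associated primes; henselization
-/

set_option autoImplicit false
universe u

namespace Groth.Agent.Lib.Helper37.Hz.FormCat

open IsLocalRing TensorProduct Groth.Agent.Lib.Helper29.FormalEquidim

section SE

variable (A : Type u) [CommRing A] [IsLocalRing A] [IsNoetherianRing A]

/-- If `C` is a flat Noetherian `A`-algebra which is strictly equidimensional, then so is `C/PC`
for each associated prime `P` of `A`. -/
theorem isStrictlyEquidim_quotient_map_of_mem_associatedPrimes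
    (C : Type u) [CommRing C] [IsNoetherianRing C] [Algebra A C] [Module.Flat A C]
    (hC : EGA4.IsStrictlyEquidim C) (P : Ideal A) (hP : P ∈ associatedPrimes A A) :
    EGA4.IsStrictlyEquidim (C ⧸ P.map (algebraMap A C)) := by
  obtain ⟨f, hf⟩ := ((isAssociatedPrime_iff_exists_injective_linearMap P A).1 hP).2
  obtain ⟨g, hg⟩ := exists_injective_quotient_map_tensor A C P A f hf
  let r : C ⊗[A] A ≃ₗ[C] C := TensorProduct.AlgebraTensorModule.rid A C C
  let g' : (C ⧸ P.map (algebraMap A C)) →ₗ[C] C := r.toLinearMap.comp g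
  have hg' : Function.Injective g' := r.injective.comp hg
  intro 𝔮 h𝔮
  have hQ := comap_mem_associatedPrimes (P.map (algebraMap A C)) h𝔮
  have hQ' := associatedPrimes.subset_of_injective hg' hQ
  have hprime : 𝔮.IsPrime := IsAssociatedPrime.isPrime h𝔮
  have h1 := hC _ hQ'
  have e : (C ⧸ 𝔮.comap (Ideal.Quotient.mk (P.map (algebraMap A C)))) ≃+*
      ((C ⧸ P.map (algebraMap A C)) ⧸ 𝔮) :=
    RingEquiv.ofBijective (Ideal.quotientMap 𝔮 (Ideal.Quotient.mk (P.map (algebraMap A C))) le_rfl)
      ⟨Ideal.quotientMap_injective, Ideal.quotientMap_surjective Ideal.Quotient.mk_surjective⟩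
  have h2 := ringKrullDim_eq_of_ringEquiv e
  have h3 : ringKrullDim (C ⧸ P.map (algebraMap A C)) ≤ ringKrullDim C :=
    ringKrullDim_le_of_surjective (Ideal.Quotient.mk _) Ideal.Quotient.mk_surjective
  have h4 : ringKrullDim ((C ⧸ P.map (algebraMap A C)) ⧸ 𝔮) ≤
      ringKrullDim (C ⧸ P.map (algebraMap A C)) :=
    ringKrullDim_le_of_surjective (Ideal.Quotient.mk 𝔮) Ideal.Quotient.mk_surjective
  apply le_antisymm h4
  rw [← h2, h1]
  exact h3

/-- **Lemma SE**: if the completion of `A` is strictly equidimensional and `P` is an associated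
prime of `A`, then the completion of `A/P` is strictly equidimensional. -/
theorem isStrictlyEquidim_adicCompletion_quotient_of_mem_associatedPrimes
    (hC : EGA4.IsStrictlyEquidim (AdicCompletion (maximalIdeal A) A))
    (P : Ideal A) (hP : P ∈ associatedPrimes A A) [IsLocalRing (A ⧸ P)] :
    EGA4.IsStrictlyEquidim (AdicCompletion (maximalIdeal (A ⧸ P)) (A ⧸ P)) := by
  haveI hN : IsNoetherianRing (AdicCompletion (maximalIdeal A) A) :=
    Groth.Agent.Lib.Helper83.isNoetherianRing_adicCompletion (I := maximalIdeal A)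
  have h1 := isStrictlyEquidim_quotient_map_of_mem_associatedPrimes A
    (AdicCompletion (maximalIdeal A) A) hC P hP
  obtain ⟨e⟩ := nonempty_quotientCompletionEquiv A P
  exact isStrictlyEquidim_of_ringEquiv e h1

end SE

section Hens

variable (R : Type u) [CommRing R] [IsLocalRing R] [IsNoetherianRing R]
variable (S : Type u) [CommRing S] [IsLocalRing S] [Algebra R S] [IsLocalHom (algebraMap R S)]
  [hS : Hensel.IsHenselization R S]

include hS in
/-- **Henselization preserves strict formal catenarity**, pointwise form. -/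
theorem isStrictlyEquidim_adicCompletion_quotient (q : Ideal S) [q.IsPrime]
    (h : EGA4.IsStrictlyEquidim
      (AdicCompletion (maximalIdeal (R ⧸ q.comap (algebraMap R S)))
        (R ⧸ q.comap (algebraMap R S)))) :
    EGA4.IsStrictlyEquidim (AdicCompletion (maximalIdeal (S ⧸ q)) (S ⧸ q)) := by
  haveI hSN : IsNoetherianRing S :=
    (Groth.Agent.Lib.Helper37.Hz.isNoetherianRing_iff_of_isHenselization R S).mp inferInstance
  set p := q.comap (algebraMap R S) with hp
  haveI : Nontrivial (S ⧸ p.map (algebraMap R S)) :=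
    nontrivial_quot R S p (Ideal.IsPrime.ne_top inferInstance)
  obtain ⟨e⟩ := nonempty_ringEquiv_adicCompletion_quot R S p
  haveI hN1 : IsNoetherianRing (AdicCompletion (maximalIdeal (R ⧸ p)) (R ⧸ p)) :=
    Groth.Agent.Lib.Helper83.isNoetherianRing_adicCompletion (I := maximalIdeal (R ⧸ p))
  have hB' : EGA4.IsStrictlyEquidim (AdicCompletion
      (maximalIdeal (S ⧸ p.map (algebraMap R S))) (S ⧸ p.map (algebraMap R S))) :=
    isStrictlyEquidim_of_ringEquiv e h
  have hle : p.map (algebraMap R S) ≤ q := Ideal.map_comap_le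
  have hmin := map_mem_minimalPrimes_quot R S q
  set q' := q.map (Ideal.Quotient.mk (p.map (algebraMap R S))) with hq'
  haveI : q'.IsPrime := hmin.1.1
  have hass : q' ∈ associatedPrimes (S ⧸ p.map (algebraMap R S)) (S ⧸ p.map (algebraMap R S)) := by
    apply Module.associatedPrimes.minimalPrimes_annihilator_subset_associatedPrimes
    have : Module.annihilator (S ⧸ p.map (algebraMap R S)) (S ⧸ p.map (algebraMap R S)) = ⊥ := by
      rw [eq_bot_iff]
      intro r hr
      have := Module.mem_annihilator.1 hr 1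
      rw [smul_eq_mul, mul_one] at this
      rw [this]
      exact Ideal.zero_mem _
    rw [this]
    exact hmin
  haveI : Nontrivial ((S ⧸ p.map (algebraMap R S)) ⧸ q') :=
    Ideal.Quotient.nontrivial_iff.2 (Ideal.IsPrime.ne_top inferInstance)
  have h1 := isStrictlyEquidim_adicCompletion_quotient_of_mem_associatedPrimes
    (S ⧸ p.map (algebraMap R S)) hB' q' hass
  let ε : ((S ⧸ p.map (algebraMap R S)) ⧸ q') ≃+* (S ⧸ q) :=
    DoubleQuot.quotQuotEquivQuotOfLE hle
  have hmap : (maximalIdeal ((S ⧸ p.map (algebraMap R S)) ⧸ q')).map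
      (ε : ((S ⧸ p.map (algebraMap R S)) ⧸ q') →+* (S ⧸ q)) = maximalIdeal (S ⧸ q) :=
    IsLocalRing.map_maximalIdeal_of_surjective _ ε.surjective
  obtain ⟨ê⟩ := nonempty_adicCompletion_ringEquiv ε _ _ hmap
  haveI hN2 : IsNoetherianRing (AdicCompletion
      (maximalIdeal ((S ⧸ p.map (algebraMap R S)) ⧸ q')) ((S ⧸ p.map (algebraMap R S)) ⧸ q')) :=
    Groth.Agent.Lib.Helper83.isNoetherianRing_adicCompletion
      (I := maximalIdeal ((S ⧸ p.map (algebraMap R S)) ⧸ q'))
  exact isStrictlyEquidim_of_ringEquiv ê h1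

end Hens

end Groth.Agent.Lib.Helper37.Hz.FormCat
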