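import Groth.Agent.Lib.Helper37.Hz44
import Groth.Agent.Lib.Helper37.Hz30
import Groth.Agent.Lib.Helper37.Hz28
import Groth.Prelude.Def_Hensel
import Mathlib

/-!
# `B^{sh} ⊗_{A^{sh}} C^{sh} ≅ D^{sh}` : abstract form

If `A' → B'` is an integral local homomorphism, `κ(A')` separably closed, `C'` strictly henselian,
then `T = B' ⊗_{A'} C'` is a henselian local ring with separably closed residue field, and any
compatible map `T → D'` to a strict henselization `D'` of a local ring `D₀` mapping to `T` is
bijective (provided `B'`, `C'` are strict henselizations of local rings `B₀`, `C₀` mapping to `D₀`).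
-/

set_option autoImplicit false
universe u

namespace Groth.Agent.Lib.Helper37.Hz.ShTens

open IsLocalRing TensorProduct

attribute [local instance] Algebra.TensorProduct.rightAlgebra

section Local

variable (A' B' C' : Type u) [CommRing A'] [IsLocalRing A'] [CommRing B'] [IsLocalRing B']
  [Algebra A' B'] [IsLocalHom (algebraMap A' B')] [Algebra.IsIntegral A' B']
  [CommRing C'] [IsLocalRing C'] [Algebra A' C'] [IsLocalHom (algebraMap A' C')]

/-- `B' ⊗_{A'} C'` is local when `κ(A')` is separably closed and `B'` is integral over `A'`. -/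
theorem isLocalRing_tensor [IsSepClosed (ResidueField A')] : IsLocalRing (B' ⊗[A'] C') := by
  obtain ⟨p, hp⟩ := ExpChar.exists (ResidueField A')
  haveI : Algebra.IsAlgebraic (ResidueField A') (ResidueField B') :=
    PITens.isAlgebraic_residueField_left A' B'
  haveI : IsPurelyInseparable (ResidueField A') (ResidueField B') := inferInstance
  have hpi : PITens.PI A' B' p := PITens.pi_of_isPurelyInseparable A' B' p
  haveI : ExpChar (ResidueField B') p :=
    expChar_of_injective_algebraMap (algebraMap (ResidueField A') (ResidueField B')).injective p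
  haveI : Nontrivial (B' ⊗[A'] C') := PITens.nontrivial_tensor A' B' C'
  exact PITens.isLocalRing A' B' C' p hpi

theorem henselianLocalRing_tensor [IsSepClosed (ResidueField A')] [HenselianLocalRing C'] :
    HenselianLocalRing (B' ⊗[A'] C') := by
  haveI := isLocalRing_tensor A' B' C'
  haveI : Algebra.IsIntegral C' (B' ⊗[A'] C') := IntTens.isIntegral A' B' C'
  exact henselianLocalRing_of_isIntegral C' _

theorem isSepClosed_residueField_tensor [IsSepClosed (ResidueField C')]
    (hT : IsLocalRing (B' ⊗[A'] C')) :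
    IsSepClosed (ResidueField (B' ⊗[A'] C')) := by
  haveI : IsLocalHom (algebraMap C' (B' ⊗[A'] C')) := PITens.isLocalHom_right A' B' C' hT
  haveI := PITens.isAlgebraic_residueField A' B' C' hT
  exact Algebra.IsAlgebraic.isSepClosed (F := ResidueField C') (E := ResidueField (B' ⊗[A'] C'))

end Local

section Main

variable (A' B' C' D' B₀ C₀ D₀ : Type u)
  [CommRing A'] [IsLocalRing A'] [CommRing B'] [IsLocalRing B']
  [Algebra A' B'] [IsLocalHom (algebraMap A' B')] [Algebra.IsIntegral A' B']
  [CommRing C'] [IsLocalRing C'] [Algebra A' C'] [IsLocalHom (algebraMap A' C')]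
  [CommRing D'] [IsLocalRing D'] [Algebra A' D'] [Algebra B' D'] [Algebra C' D']
  [IsLocalHom (algebraMap C' D')]
  [IsScalarTower A' B' D'] [IsScalarTower A' C' D']
  [CommRing B₀] [IsLocalRing B₀] [Algebra B₀ B'] [IsLocalHom (algebraMap B₀ B')]
  [hB : Hensel.IsStrictHenselization B₀ B']
  [CommRing C₀] [IsLocalRing C₀] [Algebra C₀ C'] [IsLocalHom (algebraMap C₀ C')]
  [hC : Hensel.IsStrictHenselization C₀ C']
  [CommRing D₀] [IsLocalRing D₀] [Algebra D₀ D'] [IsLocalHom (algebraMap D₀ D')]
  [hD : Hensel.IsStrictHenselization D₀ D']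

/-- The canonical map `ψ : B' ⊗ C' → D'`. -/
noncomputable abbrev psi : B' ⊗[A'] C' →ₐ[A'] D' :=
  Algebra.TensorProduct.lift (IsScalarTower.toAlgHom A' B' D') (IsScalarTower.toAlgHom A' C' D')
    (fun _ _ => Commute.all _ _)

theorem isLocalHom_psi (hT : IsLocalRing (B' ⊗[A'] C')) :
    IsLocalHom (psi A' B' C' D').toRingHom := by
  haveI : Algebra.IsIntegral C' (B' ⊗[A'] C') := IntTens.isIntegral A' B' C'
  have hcomap : (maximalIdeal D').comap (psi A' B' C' D').toRingHom =
      maximalIdeal (B' ⊗[A'] C') := by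
    haveI : ((maximalIdeal D').comap (psi A' B' C' D').toRingHom).IsPrime :=
      Ideal.comap_isPrime _ _
    have hover : ((maximalIdeal D').comap (psi A' B' C' D').toRingHom).comap
        (algebraMap C' (B' ⊗[A'] C')) = maximalIdeal C' := by
      rw [Ideal.comap_comap]
      have : (psi A' B' C' D').toRingHom.comp (algebraMap C' (B' ⊗[A'] C')) =
          algebraMap C' D' := by
        ext c
        simp [IntTens.algebraMap_right_apply]
      rw [this]
      have h04 : IsLocalHom (algebraMap C' D') ↔
          (maximalIdeal D').comap (algebraMap C' D') = maximalIdeal C' :=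
        (local_hom_TFAE (algebraMap C' D')).out 0 4
      exact h04.mp inferInstance
    have hmax : ((maximalIdeal D').comap (psi A' B' C' D').toRingHom).IsMaximal :=
      Ideal.isMaximal_of_isIntegral_of_isMaximal_comap _ (by rw [hover]; infer_instance)
    exact (IsLocalRing.eq_maximalIdeal hmax)
  have h40 : (maximalIdeal D').comap (psi A' B' C' D').toRingHom =
      maximalIdeal (B' ⊗[A'] C') ↔ IsLocalHom (psi A' B' C' D').toRingHom :=
    (local_hom_TFAE (psi A' B' C' D').toRingHom).out 4 0
  exact h40.mp hcomap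

include hB hC hD in
/-- **Abstract form** of `B^{sh} ⊗_{A^{sh}} C^{sh} ≅ D^{sh}`. -/
theorem bijective_psi [IsSepClosed (ResidueField A')]
    (f : D₀ →+* B' ⊗[A'] C')
    (hf : (psi A' B' C' D').toRingHom.comp f = algebraMap D₀ D')
    (b₀ : B₀ →+* D₀)
    (hb₀ : f.comp b₀ = (algebraMap B' (B' ⊗[A'] C')).comp (algebraMap B₀ B'))
    (c₀ : C₀ →+* D₀)
    (hc₀ : f.comp c₀ = (algebraMap C' (B' ⊗[A'] C')).comp (algebraMap C₀ C')) :
    Function.Bijective (psi A' B' C' D') := by
  classical
  haveI : HenselianLocalRing C' := Hensel.IsStrictHenselization.henselian (R := C₀)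
  haveI : HenselianLocalRing D' := Hensel.IsStrictHenselization.henselian (R := D₀)
  haveI : IsSepClosed (ResidueField C') :=
    (Hensel.IsStrictHenselization.isSepClosure (R := C₀) (S := C')).sep_closed
  haveI hT : IsLocalRing (B' ⊗[A'] C') := isLocalRing_tensor A' B' C'
  haveI hTh : HenselianLocalRing (B' ⊗[A'] C') := henselianLocalRing_tensor A' B' C'
  haveI hTsc : IsSepClosed (ResidueField (B' ⊗[A'] C')) :=
    isSepClosed_residueField_tensor A' B' C' hT
  haveI hψloc : IsLocalHom (psi A' B' C' D').toRingHom := isLocalHom_psi A' B' C' D' hT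
  set ψ : B' ⊗[A'] C' →+* D' := (psi A' B' C' D').toRingHom with hψ
  haveI hfloc : IsLocalHom f := by
    haveI : IsLocalHom (ψ.comp f) := by rw [hf]; infer_instance
    exact isLocalHom_of_comp f ψ
  haveI hιB : IsLocalHom (algebraMap B' (B' ⊗[A'] C')) := PITens.isLocalHom_left A' B' C' hT
  haveI hιC : IsLocalHom (algebraMap C' (B' ⊗[A'] C')) := PITens.isLocalHom_right A' B' C' hT
  -- residue field map of ψ is bijective
  letI a1 : Algebra (ResidueField D₀) (ResidueField (B' ⊗[A'] C')) :=
    (ResidueField.map f).toAlgebra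
  letI a2 : Algebra (ResidueField (B' ⊗[A'] C')) (ResidueField D') :=
    (ResidueField.map ψ).toAlgebra
  haveI : IsScalarTower (ResidueField D₀) (ResidueField (B' ⊗[A'] C')) (ResidueField D') := by
    refine IsScalarTower.of_algebraMap_eq' ?_
    change ResidueField.map (algebraMap D₀ D') = (ResidueField.map ψ).comp (ResidueField.map f)
    rw [← ResidueField.map_comp]
    congr 1
    exact hf.symm
  haveI : Algebra.IsSeparable (ResidueField D₀) (ResidueField D') :=
    (Hensel.IsStrictHenselization.isSepClosure (R := D₀) (S := D')).separable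
  haveI : Algebra.IsSeparable (ResidueField (B' ⊗[A'] C')) (ResidueField D') :=
    Algebra.isSeparable_tower_top_of_isSeparable (ResidueField D₀) _ _
  have hκ : Function.Bijective (ResidueField.map ψ) :=
    IsSepClosed.algebraMap_bijective (ResidueField (B' ⊗[A'] C')) (ResidueField D')
  let ε : ResidueField (B' ⊗[A'] C') ≃+* ResidueField D' := RingEquiv.ofBijective _ hκ
  have hε : ∀ x, ε x = ResidueField.map ψ x := fun _ => rfl
  let τ : ResidueField D' →+* ResidueField (B' ⊗[A'] C') := ε.symm.toRingHom
  have hτε : ∀ x, τ (ResidueField.map ψ x) = x := fun x => ε.symm_apply_apply x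
  have hετ : ∀ y, ResidueField.map ψ (τ y) = y := fun y => ε.apply_symm_apply y
  have hτ : τ.comp (ResidueField.map (algebraMap D₀ D')) = ResidueField.map f := by
    ext x
    obtain ⟨x, rfl⟩ := residue_surjective x
    rw [RingHom.comp_apply, ResidueField.map_residue, ResidueField.map_residue,
      ← RingHom.congr_fun hf x, RingHom.comp_apply, ← ResidueField.map_residue ψ, hτε]
  obtain ⟨χ, ⟨hχ1, hχ2⟩, -⟩ :=
    Hensel.IsStrictHenselization.universal (R := D₀) (S := D') (B' ⊗[A'] C') f τ hτ
  -- ψ ∘ χ = id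
  have h1 : ψ.comp χ = RingHom.id D' := by
    obtain ⟨g, -, hguniq⟩ := Hensel.IsStrictHenselization.universal (R := D₀) (S := D') D'
      (algebraMap D₀ D') (RingHom.id _) (by ext x; rfl)
    rw [hguniq (ψ.comp χ) ⟨by rw [RingHom.comp_assoc, hχ1, hf], fun x => by
        rw [RingHom.comp_apply, ← ResidueField.map_residue ψ, hχ2, hετ]; rfl⟩,
      hguniq (RingHom.id D') ⟨by ext x; rfl, fun x => rfl⟩]
  -- χ ∘ ψ = id
  have hθB : (χ.comp ψ).comp (algebraMap B' (B' ⊗[A'] C')) = algebraMap B' (B' ⊗[A'] C') := by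
    haveI : IsLocalHom ((algebraMap B' (B' ⊗[A'] C')).comp (algebraMap B₀ B')) :=
      RingHom.isLocalHom_comp _ _
    obtain ⟨g, -, hguniq⟩ := Hensel.IsStrictHenselization.universal (R := B₀) (S := B')
      (B' ⊗[A'] C') ((algebraMap B' (B' ⊗[A'] C')).comp (algebraMap B₀ B'))
      (ResidueField.map (algebraMap B' (B' ⊗[A'] C'))) (ResidueField.map_comp _ _).symm
    rw [hguniq ((χ.comp ψ).comp (algebraMap B' (B' ⊗[A'] C'))) ⟨?_, fun x => ?_⟩,
      hguniq (algebraMap B' (B' ⊗[A'] C')) ⟨rfl, fun x => (ResidueField.map_residue _ x).symm⟩]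
    · rw [RingHom.comp_assoc, ← hb₀, RingHom.comp_assoc, ← RingHom.comp_assoc b₀, hf,
        ← RingHom.comp_assoc, hχ1]
    · rw [RingHom.comp_apply, RingHom.comp_apply, hχ2, ← ResidueField.map_residue ψ, hτε,
        ResidueField.map_residue]
  have hθC : (χ.comp ψ).comp (algebraMap C' (B' ⊗[A'] C')) = algebraMap C' (B' ⊗[A'] C') := by
    haveI : IsLocalHom ((algebraMap C' (B' ⊗[A'] C')).comp (algebraMap C₀ C')) :=
      RingHom.isLocalHom_comp _ _
    obtain ⟨g, -, hguniq⟩ := Hensel.IsStrictHenselization.universal (R := C₀) (S := C')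
      (B' ⊗[A'] C') ((algebraMap C' (B' ⊗[A'] C')).comp (algebraMap C₀ C'))
      (ResidueField.map (algebraMap C' (B' ⊗[A'] C'))) (ResidueField.map_comp _ _).symm
    rw [hguniq ((χ.comp ψ).comp (algebraMap C' (B' ⊗[A'] C'))) ⟨?_, fun x => ?_⟩,
      hguniq (algebraMap C' (B' ⊗[A'] C')) ⟨rfl, fun x => (ResidueField.map_residue _ x).symm⟩]
    · rw [RingHom.comp_assoc, ← hc₀, RingHom.comp_assoc, ← RingHom.comp_assoc c₀, hf,
        ← RingHom.comp_assoc, hχ1]
    · rw [RingHom.comp_apply, RingHom.comp_apply, hχ2, ← ResidueField.map_residue ψ, hτε,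
        ResidueField.map_residue]
  have h2 : ∀ t : B' ⊗[A'] C', χ (ψ t) = t := by
    intro t
    induction t using TensorProduct.induction_on with
    | zero => simp
    | add x y hx hy => rw [map_add, map_add, hx, hy]
    | tmul b c =>
      have e1 : b ⊗ₜ[A'] c = algebraMap B' (B' ⊗[A'] C') b * algebraMap C' (B' ⊗[A'] C') c := by
        rw [IntTens.algebraMap_right_apply, Algebra.TensorProduct.algebraMap_apply,
          Algebra.algebraMap_self, RingHom.id_apply, Algebra.TensorProduct.tmul_mul_tmul, mul_one,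
          one_mul]
      rw [e1, map_mul, map_mul]
      have hb := RingHom.congr_fun hθB b
      have hc := RingHom.congr_fun hθC c
      simp only [RingHom.comp_apply] at hb hc
      rw [hb, hc]
  constructor
  · intro x y hxy
    have : ψ x = ψ y := hxy
    rw [← h2 x, ← h2 y, this]
  · intro y
    exact ⟨χ y, RingHom.congr_fun h1 y⟩

end Main

end Groth.Agent.Lib.Helper37.Hz.ShTens
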