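import Groth.Agent.Lib.Helper37.Hz64

/-!
# `B^{sh} ⊗_{A^{sh}} C^{sh} ≅ D^{sh}` when `B^{sh}` is integral over `A^{sh}`
-/

set_option autoImplicit false
universe u

namespace Groth.Agent.Lib.Helper37.Hz.ShTens

open IsLocalRing TensorProduct

attribute [local instance] Algebra.TensorProduct.rightAlgebra

section Concrete

variable (A B C : Type u) [CommRing A] [CommRing B]
    [CommRing C] [Algebra A B] [Algebra A C]
    (pA : Ideal A) [pA.IsPrime] (pB : Ideal B) [pB.IsPrime] [pB.LiesOver pA]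
    (pC : Ideal C) [pC.IsPrime] [pC.LiesOver pA]
    (pD : Ideal (B ⊗[A] C)) [pD.IsPrime] [pD.LiesOver pB]
    (hDC : pD.comap (Algebra.TensorProduct.includeRight : C →ₐ[A] B ⊗[A] C).toRingHom = pC)
    (Ash : Type u) [CommRing Ash] [IsLocalRing Ash] [Algebra (Localization.AtPrime pA) Ash]
    [IsLocalHom (algebraMap (Localization.AtPrime pA) Ash)]
    [hA : Hensel.IsStrictHenselization (Localization.AtPrime pA) Ash] [Algebra A Ash]
    [IsScalarTower A (Localization.AtPrime pA) Ash]
    (Bsh : Type u) [CommRing Bsh] [IsLocalRing Bsh] [Algebra (Localization.AtPrime pB) Bsh]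
    [IsLocalHom (algebraMap (Localization.AtPrime pB) Bsh)]
    [hB : Hensel.IsStrictHenselization (Localization.AtPrime pB) Bsh] [Algebra B Bsh]
    [IsScalarTower B (Localization.AtPrime pB) Bsh] [Algebra A Bsh] [IsScalarTower A B Bsh]
    [Algebra Ash Bsh] [IsScalarTower A Ash Bsh] [IsLocalHom (algebraMap Ash Bsh)]
    (Csh : Type u) [CommRing Csh] [IsLocalRing Csh] [Algebra (Localization.AtPrime pC) Csh]
    [IsLocalHom (algebraMap (Localization.AtPrime pC) Csh)]
    [hC' : Hensel.IsStrictHenselization (Localization.AtPrime pC) Csh] [Algebra C Csh]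
    [IsScalarTower C (Localization.AtPrime pC) Csh] [Algebra A Csh] [IsScalarTower A C Csh]
    [Algebra Ash Csh] [IsScalarTower A Ash Csh] [IsLocalHom (algebraMap Ash Csh)]
    (Dsh : Type u) [CommRing Dsh] [IsLocalRing Dsh] [Algebra (Localization.AtPrime pD) Dsh]
    [IsLocalHom (algebraMap (Localization.AtPrime pD) Dsh)]
    [hD : Hensel.IsStrictHenselization (Localization.AtPrime pD) Dsh] [Algebra (B ⊗[A] C) Dsh]
    [IsScalarTower (B ⊗[A] C) (Localization.AtPrime pD) Dsh]
    [Algebra Bsh Dsh] [IsLocalHom (algebraMap Bsh Dsh)] [Algebra B Dsh] [IsScalarTower B Bsh Dsh]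
    [IsScalarTower B (B ⊗[A] C) Dsh]
    [Algebra Csh Dsh] [IsLocalHom (algebraMap Csh Dsh)]
    (hC : ∀ c : C, algebraMap Csh Dsh (algebraMap C Csh c) = algebraMap (B ⊗[A] C) Dsh (1 ⊗ₜ[A] c))
    [Algebra Ash Dsh] [IsScalarTower Ash Bsh Dsh] [IsScalarTower Ash Csh Dsh]

/-- The natural map `B ⊗_A C → B^{sh} ⊗_{A^{sh}} C^{sh}`. -/
noncomputable def f0 : B ⊗[A] C →ₐ[A] Bsh ⊗[Ash] Csh :=
  (Algebra.TensorProduct.mapOfCompatibleSMul Ash A A Bsh Csh).comp
    (Algebra.TensorProduct.map (IsScalarTower.toAlgHom A B Bsh) (IsScalarTower.toAlgHom A C Csh))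

omit [IsLocalRing Ash] [IsLocalRing Bsh] [IsLocalRing Csh] in
lemma f0_tmul (b : B) (c : C) :
    f0 A B C Ash Bsh Csh (b ⊗ₜ c) = algebraMap B Bsh b ⊗ₜ algebraMap C Csh c := by
  simp [f0]

include hC in
lemma psi_f0 (d : B ⊗[A] C) :
    psi Ash Bsh Csh Dsh (f0 A B C Ash Bsh Csh d) = algebraMap (B ⊗[A] C) Dsh d := by
  induction d using TensorProduct.induction_on with
  | zero => simp
  | add x y hx hy => rw [map_add, map_add, map_add, hx, hy]
  | tmul b c =>
    rw [f0_tmul, psi, Algebra.TensorProduct.lift_tmul, IsScalarTower.coe_toAlgHom',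
      IsScalarTower.coe_toAlgHom', hC, ← IsScalarTower.algebraMap_apply B Bsh Dsh,
      IsScalarTower.algebraMap_apply B (B ⊗[A] C) Dsh, ← map_mul,
      Algebra.TensorProduct.algebraMap_apply, Algebra.algebraMap_self, RingHom.id_apply,
      Algebra.TensorProduct.tmul_mul_tmul, mul_one, one_mul]

include hDC hC hA hB hC' hD in
/-- **General form**: if `B^{sh}` is integral over `A^{sh}` then
`B^{sh} ⊗_{A^{sh}} C^{sh} → D^{sh}` is bijective. -/
theorem bijective_of_isIntegral [Algebra.IsIntegral Ash Bsh] :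
    Function.Bijective (Algebra.TensorProduct.lift (IsScalarTower.toAlgHom Ash Bsh Dsh)
      (IsScalarTower.toAlgHom Ash Csh Dsh) (fun _ _ => Commute.all _ _)) := by
  classical
  haveI : IsSepClosed (ResidueField Ash) :=
    (Hensel.IsStrictHenselization.isSepClosure (R := Localization.AtPrime pA) (S := Ash)).sep_closed
  haveI hT : IsLocalRing (Bsh ⊗[Ash] Csh) := isLocalRing_tensor Ash Bsh Csh
  haveI hψloc : IsLocalHom (psi Ash Bsh Csh Dsh).toRingHom := isLocalHom_psi Ash Bsh Csh Dsh hT
  -- `pD` is the preimage of the maximal ideal of `Dsh`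
  have hpD : ∀ d : B ⊗[A] C, d ∈ pD ↔ algebraMap (B ⊗[A] C) Dsh d ∈ maximalIdeal Dsh := by
    intro d
    rw [IsScalarTower.algebraMap_apply (B ⊗[A] C) (Localization.AtPrime pD) Dsh,
      ← Ideal.mem_comap (f := algebraMap (Localization.AtPrime pD) Dsh),
      IsLocalRing.maximalIdeal_comap, IsLocalization.AtPrime.to_map_mem_maximal_iff _ pD]
  have hunit : ∀ y : pD.primeCompl, IsUnit ((f0 A B C Ash Bsh Csh).toRingHom y) := by
    intro y
    have h1 : (y : B ⊗[A] C) ∉ pD := y.2
    rw [hpD, mem_maximalIdeal, mem_nonunits_iff, not_not, ← psi_f0 A B C Ash Bsh Csh Dsh hC] at h1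
    exact isUnit_of_map_unit (psi Ash Bsh Csh Dsh).toRingHom _ h1
  let f : Localization.AtPrime pD →+* Bsh ⊗[Ash] Csh :=
    IsLocalization.lift (M := pD.primeCompl) (g := (f0 A B C Ash Bsh Csh).toRingHom) hunit
  have hf_alg : ∀ d : B ⊗[A] C, f (algebraMap _ (Localization.AtPrime pD) d) =
      f0 A B C Ash Bsh Csh d := fun d => IsLocalization.lift_eq _ d
  have hf : (psi Ash Bsh Csh Dsh).toRingHom.comp f = algebraMap (Localization.AtPrime pD) Dsh := by
    refine IsLocalization.ringHom_ext pD.primeCompl (RingHom.ext fun d => ?_)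
    simp only [RingHom.coe_comp, Function.comp_apply]
    rw [hf_alg, ← IsScalarTower.algebraMap_apply (B ⊗[A] C) (Localization.AtPrime pD) Dsh]
    exact psi_f0 A B C Ash Bsh Csh Dsh hC d
  -- the maps from `B_pB` and `C_pC`
  have hpB : pB = pD.comap (algebraMap B (B ⊗[A] C)) := Ideal.LiesOver.over
  let b₀ : Localization.AtPrime pB →+* Localization.AtPrime pD :=
    Localization.localRingHom pB pD (algebraMap B (B ⊗[A] C)) hpB
  let c₀ : Localization.AtPrime pC →+* Localization.AtPrime pD :=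
    Localization.localRingHom pC pD
      (Algebra.TensorProduct.includeRight : C →ₐ[A] B ⊗[A] C).toRingHom hDC.symm
  have hb₀ : f.comp b₀ = (algebraMap Bsh (Bsh ⊗[Ash] Csh)).comp
      (algebraMap (Localization.AtPrime pB) Bsh) := by
    refine IsLocalization.ringHom_ext pB.primeCompl (RingHom.ext fun b => ?_)
    simp only [RingHom.coe_comp, Function.comp_apply]
    rw [Localization.localRingHom_to_map, hf_alg, Algebra.TensorProduct.algebraMap_apply,
      Algebra.algebraMap_self, RingHom.id_apply, f0_tmul, map_one,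
      ← IsScalarTower.algebraMap_apply B (Localization.AtPrime pB) Bsh,
      Algebra.TensorProduct.algebraMap_apply, Algebra.algebraMap_self, RingHom.id_apply]
  have hc₀ : f.comp c₀ = (algebraMap Csh (Bsh ⊗[Ash] Csh)).comp
      (algebraMap (Localization.AtPrime pC) Csh) := by
    refine IsLocalization.ringHom_ext pC.primeCompl (RingHom.ext fun c => ?_)
    simp only [RingHom.coe_comp, Function.comp_apply]
    rw [Localization.localRingHom_to_map, hf_alg]
    change f0 A B C Ash Bsh Csh ((1 : B) ⊗ₜ[A] c) = _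
    rw [f0_tmul, map_one, ← IsScalarTower.algebraMap_apply C (Localization.AtPrime pC) Csh,
      IntTens.algebraMap_right_apply]
  exact bijective_psi Ash Bsh Csh Dsh (Localization.AtPrime pB) (Localization.AtPrime pC)
    (Localization.AtPrime pD) f hf b₀ hb₀ c₀ hc₀

end Concrete

end Groth.Agent.Lib.Helper37.Hz.ShTens
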