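import Groth.Agent.Lib.Helper37.Hz29
import Groth.Agent.Lib.Helper37.Hz30
import Groth.Agent.Lib.Helper31.HensQF
import Groth.Agent.S9460
import Mathlib

/-!
# Integrality of `S^{sh}` over `R^{sh}` for ind-quasi-finite maps
-/

set_option autoImplicit false
universe u

namespace Groth.Agent.Lib.Helper37.Hz.ShInt

open IsLocalRing TensorProduct

section Abstract

/-- **(M')**: an `Rh`-algebra map `ρ : E → D` to a local ring which is "localization-like", from
an algebra `E` each of whose elements lies in a quasi-finite subalgebra of finite type, has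
integral target (`Rh` henselian local, `Rh → D` local). -/
theorem isIntegral_of_forall_exists_subalgebra (Rh : Type u) [CommRing Rh] [HenselianLocalRing Rh]
    (E : Type u) [CommRing E] [Algebra Rh E] (D : Type u) [CommRing D] [IsLocalRing D]
    [Algebra Rh D] [IsLocalHom (algebraMap Rh D)] (ρ : E →ₐ[Rh] D)
    (hρ : ∀ d : D, ∃ x s : E, IsUnit (ρ s) ∧ d * ρ s = ρ x)
    (hE : ∀ x : E, ∃ E₁ : Subalgebra Rh E, x ∈ E₁ ∧ Algebra.FiniteType Rh E₁ ∧
      Algebra.QuasiFinite Rh E₁) :
    Algebra.IsIntegral Rh D := by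
  classical
  have key : ∀ x : E, IsIntegral Rh (ρ x) ∧ (IsUnit (ρ x) → ∃ t : E, ρ x * ρ t = 1) := by
    intro x
    obtain ⟨E₁, hx, hft, hqf⟩ := hE x
    haveI := hft
    haveI := hqf
    let ρ₁ : E₁ →ₐ[Rh] D := ρ.comp E₁.val
    let Q₁ : Ideal E₁ := (maximalIdeal D).comap ρ₁.toRingHom
    haveI hQ₁p : Q₁.IsPrime := Ideal.comap_isPrime _ _
    haveI hQ₁o : Q₁.LiesOver (maximalIdeal Rh) := by
      constructor
      ext a
      rw [Ideal.under, Ideal.mem_comap, Ideal.mem_comap]
      have h1 : ρ₁.toRingHom (algebraMap Rh E₁ a) = algebraMap Rh D a := ρ₁.commutes a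
      rw [h1]
      constructor
      · intro ha
        exact map_nonunit (algebraMap Rh D) a ha
      · intro ha
        by_contra hn
        rw [mem_maximalIdeal, mem_nonunits_iff, not_not] at hn
        exact ha (hn.map _)
    haveI hQ₁q : Algebra.QuasiFiniteAt Rh Q₁ := inferInstance
    obtain ⟨e, he, heQ, hfin, hunit⟩ :=
      Groth.Agent.Lib.Helper31.HensQF.exists_idempotent_isUnit Rh E₁ Q₁
    have hρe : IsUnit (ρ₁ e) := by
      by_contra hn
      exact heQ hn
    have hρ1e : ρ₁ (1 - e) = 0 := by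
      have h0 : ρ₁ e * ρ₁ (1 - e) = 0 := by
        rw [← map_mul, mul_sub, mul_one, he.eq, sub_self, map_zero]
      exact (hρe.mul_right_eq_zero).1 h0
    have hle : ∀ a ∈ Ideal.span ({1 - e} : Set E₁), ρ₁ a = 0 := by
      intro a ha
      obtain ⟨c, rfl⟩ := Ideal.mem_span_singleton'.1 ha
      rw [map_mul, hρ1e, mul_zero]
    let ρbar : (E₁ ⧸ Ideal.span ({1 - e} : Set E₁)) →ₐ[Rh] D :=
      Ideal.Quotient.liftₐ _ ρ₁ hle
    have hρbar : ∀ y : E₁, ρbar (Ideal.Quotient.mk _ y) = ρ y := fun y => rfl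
    haveI := hfin
    refine ⟨?_, fun hu => ?_⟩
    · have h1 : IsIntegral Rh (Ideal.Quotient.mk (Ideal.span ({1 - e} : Set E₁)) ⟨x, hx⟩) :=
        Algebra.IsIntegral.isIntegral _
      have h2 := h1.map ρbar
      rwa [hρbar] at h2
    · have hxQ : (⟨x, hx⟩ : E₁) ∉ Q₁ := by
        intro hmem
        exact hmem hu
      obtain ⟨t', ht'⟩ := (hunit ⟨x, hx⟩ hxQ).exists_right_inv
      obtain ⟨t, rfl⟩ := Ideal.Quotient.mk_surjective t'
      refine ⟨t, ?_⟩
      have h3 := congrArg ρbar ht'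
      rw [map_mul, hρbar, hρbar, map_one] at h3
      exact h3
  refine ⟨fun d => ?_⟩
  obtain ⟨x, s, hs, hds⟩ := hρ d
  obtain ⟨t, ht⟩ := (key s).2 hs
  have hd : d = ρ (x * t) := by
    rw [map_mul, ← hds, mul_assoc, ht, mul_one]
  rw [hd]
  exact (key (x * t)).1

end Abstract

section L

open TensLoc

variable (R : Type u) [CommRing R] (S : Type u) [CommRing S] [Algebra R S]
  (p : Ideal R) [p.IsPrime] (q : Ideal S) [q.IsPrime] [q.LiesOver p]
  (Rh : Type u) [CommRing Rh] [IsLocalRing Rh] [Algebra (Localization.AtPrime p) Rh]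
  [IsLocalHom (algebraMap (Localization.AtPrime p) Rh)]
  [hR : Hensel.IsStrictHenselization (Localization.AtPrime p) Rh]
  [Algebra R Rh] [IsScalarTower R (Localization.AtPrime p) Rh]
  (Sh : Type u) [CommRing Sh] [IsLocalRing Sh] [Algebra (Localization.AtPrime q) Sh]
  [IsLocalHom (algebraMap (Localization.AtPrime q) Sh)]
  [hS : Hensel.IsStrictHenselization (Localization.AtPrime q) Sh]
  [Algebra S Sh] [IsScalarTower S (Localization.AtPrime q) Sh] [Algebra R Sh] [IsScalarTower R S Sh]
  [Algebra Rh Sh] [IsScalarTower R Rh Sh]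

include hR q in
theorem isLocalHom_algebraMap_D : IsLocalHom (algebraMap Rh (D R S Rh Sh)) := by
  have hRh := map_maximalIdeal_of_isStrictHenselization (Localization.AtPrime p) Rh
  have hloc1 : IsLocalHom (fromRh R S Rh Sh) := isLocalHom_fromRh R S p q Rh Sh hRh
  have : algebraMap Rh (D R S Rh Sh) = fromRh R S Rh Sh := by
    ext a
    rw [IsScalarTower.algebraMap_apply Rh (Rh ⊗[R] S) (D R S Rh Sh), fromRh_apply,
      Algebra.TensorProduct.algebraMap_apply, Algebra.algebraMap_self, RingHom.id_apply]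
  rw [this]; exact hloc1

include hR hS in
/-- **(L)**: if `D = (Rh ⊗_R S)_Q` is integral over `Rh`, so is `Sh`. -/
theorem isIntegral_of_isIntegral_D [Algebra.IsIntegral Rh (D R S Rh Sh)] :
    Algebra.IsIntegral Rh Sh := by
  classical
  haveI hensRh : HenselianLocalRing Rh := hR.henselian
  haveI hscRh : IsSepClosed (ResidueField Rh) := hR.isSepClosure.sep_closed
  haveI hensD : HenselianLocalRing (D R S Rh Sh) :=
    henselianLocalRing_of_isIntegral Rh (D R S Rh Sh)
  haveI hlocRhD : IsLocalHom (algebraMap Rh (D R S Rh Sh)) := isLocalHom_algebraMap_D R S p q Rh Sh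
  haveI halgD : Algebra.IsAlgebraic (ResidueField Rh) (ResidueField (D R S Rh Sh)) := by
    refine ⟨fun x => ?_⟩
    obtain ⟨c, rfl⟩ := residue_surjective x
    have h1 : IsIntegral Rh c := Algebra.IsIntegral.isIntegral c
    have h2 : IsIntegral Rh (residue (D R S Rh Sh) c) :=
      h1.map (IsScalarTower.toAlgHom Rh (D R S Rh Sh) (ResidueField (D R S Rh Sh)))
    exact (h2.tower_top (A := ResidueField Rh)).isAlgebraic
  haveI hscD : IsSepClosed (ResidueField (D R S Rh Sh)) :=
    Algebra.IsAlgebraic.isSepClosed (F := ResidueField Rh)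
  haveI hlocid : IsLocalHom (algebraMap (D R S Rh Sh) (D R S Rh Sh)) := by
    rw [Algebra.algebraMap_self]; infer_instance
  haveI hHz : Hensel.IsStrictHenselization (D R S Rh Sh) (D R S Rh Sh) :=
    Groth.Agent.Lib.Helper31.HensQF.isStrictHenselization_self _
  obtain ⟨e, he⟩ := Groth.Agent.S9460.result R S p q Rh Sh (D R S Rh Sh)
  have hcomm : ∀ a : Rh, e (algebraMap Rh (D R S Rh Sh) a) = algebraMap Rh Sh a := by
    intro a
    rw [IsScalarTower.algebraMap_apply Rh (Rh ⊗[R] S) (D R S Rh Sh)]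
    have := he (algebraMap Rh (Rh ⊗[R] S) a)
    rw [Algebra.algebraMap_self, RingHom.id_apply] at this
    rw [this, Algebra.TensorProduct.algebraMap_apply, Algebra.algebraMap_self,
      RingHom.id_apply, φ_tmul, map_one, mul_one]
  let ea : D R S Rh Sh →ₐ[Rh] Sh := { (e : D R S Rh Sh →+* Sh) with commutes' := hcomm }
  refine ⟨fun y => ?_⟩
  obtain ⟨x, rfl⟩ := e.surjective y
  have h1 : IsIntegral Rh x := Algebra.IsIntegral.isIntegral x
  exact h1.map ea

include hR hS in
/-- `Sh` is integral over `Rh` when every element of `Rh ⊗_R S` lies in a quasi-finite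
`Rh`-subalgebra of finite type. -/
theorem isIntegral_of_forall_exists_subalgebra'
    (hE : ∀ x : Rh ⊗[R] S, ∃ E₁ : Subalgebra Rh (Rh ⊗[R] S), x ∈ E₁ ∧ Algebra.FiniteType Rh E₁ ∧
      Algebra.QuasiFinite Rh E₁) :
    Algebra.IsIntegral Rh Sh := by
  haveI hensRh : HenselianLocalRing Rh := hR.henselian
  haveI hlocRhD : IsLocalHom (algebraMap Rh (D R S Rh Sh)) := isLocalHom_algebraMap_D R S p q Rh Sh
  haveI : Algebra.IsIntegral Rh (D R S Rh Sh) := by
    refine isIntegral_of_forall_exists_subalgebra Rh (Rh ⊗[R] S) (D R S Rh Sh)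
      (IsScalarTower.toAlgHom Rh (Rh ⊗[R] S) (D R S Rh Sh)) (fun d => ?_) hE
    obtain ⟨x, s, rfl⟩ := IsLocalization.exists_mk'_eq (Q R S Rh Sh).primeCompl d
    refine ⟨x, s, ?_, ?_⟩
    · exact IsLocalization.map_units _ s
    · exact IsLocalization.mk'_spec _ x s
  exact isIntegral_of_isIntegral_D R S p q Rh Sh

include hR hS in
/-- integral case -/
theorem isIntegral_of_isIntegral [Algebra.IsIntegral R S] : Algebra.IsIntegral Rh Sh := by
  refine isIntegral_of_forall_exists_subalgebra' R S p q Rh Sh (fun x => ?_)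
  refine ⟨Algebra.adjoin Rh {x}, Algebra.subset_adjoin rfl, ?_, ?_⟩
  · have h := Subalgebra.fg_adjoin_finset (R := Rh) ({x} : Finset (Rh ⊗[R] S))
    rw [Finset.coe_singleton] at h
    exact (Subalgebra.fg_iff_finiteType _).1 h
  · haveI : Module.Finite Rh (Algebra.adjoin Rh {x}) :=
      Module.Finite.iff_fg.mpr (Algebra.IsIntegral.isIntegral x).fg_adjoin_singleton
    infer_instance

end L

end Groth.Agent.Lib.Helper37.Hz.ShInt
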