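import Groth.Agent.Lib.Helper37.Hz66

/-!
# Ind-quasi-finite algebras: base change of the directed-union hypothesis
-/

set_option autoImplicit false
universe u

namespace Groth.Agent.Lib.Helper37.Hz.ShInt

open IsLocalRing TensorProduct

theorem exists_subalgebra_baseChange (A B Ah : Type u) [CommRing A] [CommRing B] [CommRing Ah]
    [Algebra A B] [Algebra A Ah]
    (hB : ∀ s : Finset B, ∃ B₀ : Subalgebra A B, (↑s : Set B) ⊆ ↑B₀ ∧
      Algebra.FiniteType A ↥B₀ ∧ Algebra.QuasiFinite A ↥B₀) (x : Ah ⊗[A] B) :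
    ∃ E₁ : Subalgebra Ah (Ah ⊗[A] B), x ∈ E₁ ∧ Algebra.FiniteType Ah E₁ ∧
      Algebra.QuasiFinite Ah E₁ := by
  classical
  obtain ⟨T, hT⟩ := TensorProduct.exists_finset x
  obtain ⟨B₀, hsub, hft, hqf⟩ := hB (T.image Prod.snd)
  haveI := hft
  haveI := hqf
  let g : Ah ⊗[A] B₀ →ₐ[Ah] Ah ⊗[A] B := Algebra.TensorProduct.map (AlgHom.id Ah Ah) B₀.val
  refine ⟨g.range, ?_, ?_, ?_⟩
  · rw [hT]
    refine Subalgebra.sum_mem _ (fun i hi => ?_)
    have hmem : i.2 ∈ B₀ := hsub (by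
      rw [Finset.coe_image]
      exact ⟨i, hi, rfl⟩)
    exact ⟨i.1 ⊗ₜ[A] ⟨i.2, hmem⟩, by simp [g]⟩
  · exact Algebra.FiniteType.of_surjective g.rangeRestrict g.rangeRestrict_surjective
  · exact Algebra.QuasiFinite.of_surjective_algHom g.rangeRestrict g.rangeRestrict_surjective

end Groth.Agent.Lib.Helper37.Hz.ShInt
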