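import Groth.Agent.Lib.Helper37.Hz67

/-!
# Ind-quasi-finite local version: `S_q` a directed union of quasi-finite `R_p`-algebras
-/

set_option autoImplicit false
universe u

namespace Groth.Agent.Lib.Helper37.Hz.ShInt

open IsLocalRing TensorProduct TensLoc

section Loc

variable (R : Type u) [CommRing R] (S : Type u) [CommRing S] [Algebra R S]
  (p : Ideal R) [p.IsPrime] (q : Ideal S) [q.IsPrime] [q.LiesOver p]
  (Rh : Type u) [CommRing Rh] [IsLocalRing Rh] [Algebra (Localization.AtPrime p) Rh]
  [IsLocalHom (algebraMap (Localization.AtPrime p) Rh)]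
  [hR : Hensel.IsStrictHenselization (Localization.AtPrime p) Rh]
  [Algebra R Rh] [IsScalarTower R (Localization.AtPrime p) Rh]
  (Sh : Type u) [CommRing Sh] [IsLocalRing Sh] [Algebra (Localization.AtPrime q) Sh]
  [IsLocalHom (algebraMap (Localization.AtPrime q) Sh)]
  [hS : Hensel.IsStrictHenselization (Localization.AtPrime q) Sh]
  [Algebra S Sh] [IsScalarTower S (Localization.AtPrime q) Sh] [Algebra R Sh] [IsScalarTower R S Sh]
  [Algebra Rh Sh] [IsScalarTower R Rh Sh]
  [Algebra (Localization.AtPrime p) (Localization.AtPrime q)]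
  [IsScalarTower R (Localization.AtPrime p) (Localization.AtPrime q)]

/-- `Rh ⊗_R S → Rh ⊗_{R_p} S_q`. -/
noncomputable def nu : Rh ⊗[R] S →ₐ[R] Rh ⊗[Localization.AtPrime p] (Localization.AtPrime q) :=
  (Algebra.TensorProduct.mapOfCompatibleSMul (Localization.AtPrime p) R R Rh
    (Localization.AtPrime q)).comp
    (Algebra.TensorProduct.map (AlgHom.id R Rh)
      (IsScalarTower.toAlgHom R S (Localization.AtPrime q)))

omit [q.LiesOver p] [IsLocalRing Rh] [IsLocalHom (algebraMap (Localization.AtPrime p) Rh)] in
lemma nu_tmul (a : Rh) (b : S) :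
    nu R S p q Rh (a ⊗ₜ b) = a ⊗ₜ algebraMap S (Localization.AtPrime q) b := by
  simp [nu]

include hR hS in
theorem isIntegral_of_forall_exists_subalgebra_loc
    (hB : ∀ s : Finset (Localization.AtPrime q),
      ∃ B₀ : Subalgebra (Localization.AtPrime p) (Localization.AtPrime q),
        (↑s : Set (Localization.AtPrime q)) ⊆ ↑B₀ ∧
          Algebra.FiniteType (Localization.AtPrime p) ↥B₀ ∧
            Algebra.QuasiFinite (Localization.AtPrime p) ↥B₀) :
    Algebra.IsIntegral Rh Sh := by
  classical
  haveI hensRh : HenselianLocalRing Rh := hR.henselian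
  haveI hlocRhD : IsLocalHom (algebraMap Rh (D R S Rh Sh)) := isLocalHom_algebraMap_D R S p q Rh Sh
  haveI : IsScalarTower (Localization.AtPrime p) Rh (D R S Rh Sh) := inferInstance
  have hRhD : ∀ a : Rh, algebraMap Rh (D R S Rh Sh) a = fromRh R S Rh Sh a := by
    intro a
    rw [IsScalarTower.algebraMap_apply Rh (Rh ⊗[R] S) (D R S Rh Sh), fromRh_apply,
      Algebra.TensorProduct.algebraMap_apply, Algebra.algebraMap_self, RingHom.id_apply]
  have hcomm : (fromSq R S q Rh Sh).comp
      (algebraMap (Localization.AtPrime p) (Localization.AtPrime q)) =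
      algebraMap (Localization.AtPrime p) (D R S Rh Sh) := by
    refine IsLocalization.ringHom_ext p.primeCompl (RingHom.ext fun a => ?_)
    simp only [RingHom.coe_comp, Function.comp_apply]
    change _ = algebraMap Rh (D R S Rh Sh) (algebraMap (Localization.AtPrime p) Rh
      (algebraMap R (Localization.AtPrime p) a))
    rw [← IsScalarTower.algebraMap_apply R (Localization.AtPrime p) Rh, hRhD,
      fromRh_algebraMap R S q,
      ← IsScalarTower.algebraMap_apply R (Localization.AtPrime p) (Localization.AtPrime q),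
      IsScalarTower.algebraMap_apply R S (Localization.AtPrime q)]
  let g : Localization.AtPrime q →ₐ[Localization.AtPrime p] D R S Rh Sh :=
    { toRingHom := fromSq R S q Rh Sh
      commutes' := fun r => RingHom.congr_fun hcomm r }
  let ρ : Rh ⊗[Localization.AtPrime p] (Localization.AtPrime q) →ₐ[Rh] D R S Rh Sh :=
    Algebra.TensorProduct.lift (Algebra.ofId Rh (D R S Rh Sh)) g (fun _ _ => Commute.all _ _)
  have hρν : ∀ y : Rh ⊗[R] S, ρ (nu R S p q Rh y) = algebraMap (Rh ⊗[R] S) (D R S Rh Sh) y := by
    intro y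
    induction y using TensorProduct.induction_on with
    | zero => simp
    | add x y hx hy => rw [map_add, map_add, map_add, hx, hy]
    | tmul a b =>
      rw [nu_tmul, Algebra.TensorProduct.lift_tmul]
      change algebraMap Rh (D R S Rh Sh) a * fromSq R S q Rh Sh (algebraMap S _ b) = _
      rw [hRhD, fromRh_apply, fromSq_algebraMap, ← map_mul, Algebra.TensorProduct.tmul_mul_tmul,
        mul_one, one_mul]
  haveI : Algebra.IsIntegral Rh (D R S Rh Sh) := by
    refine isIntegral_of_forall_exists_subalgebra Rh
      (Rh ⊗[Localization.AtPrime p] (Localization.AtPrime q)) (D R S Rh Sh) ρ (fun d => ?_)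
      (exists_subalgebra_baseChange (Localization.AtPrime p) (Localization.AtPrime q) Rh hB)
    obtain ⟨x, s, rfl⟩ := IsLocalization.exists_mk'_eq (Q R S Rh Sh).primeCompl d
    refine ⟨nu R S p q Rh x, nu R S p q Rh s, ?_, ?_⟩
    · rw [hρν]
      exact IsLocalization.map_units _ s
    · rw [hρν, hρν]
      exact IsLocalization.mk'_spec _ x s
  exact isIntegral_of_isIntegral_D R S p q Rh Sh

end Loc

end Groth.Agent.Lib.Helper37.Hz.ShInt
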