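import Groth.Agent.Lib.Helper37.Hz61
import Groth.Agent.Lib.Helper37.Hz29

/-!
# `S^{sh}` is ind-étale over `R^{sh} ⊗_R S`; primes of `R^{sh}` stay prime in `S^{sh}` for smooth
`R → S`.
-/

set_option autoImplicit false
set_option linter.style.haveILetI false
set_option linter.unusedSectionVars false
universe u

open TensorProduct IsLocalRing

namespace Groth.Agent.Lib.Helper37.Hz

namespace TensLoc

open Groth.Agent.Lib.Helper4

section SH

variable (R : Type u) [CommRing R] (S : Type u) [CommRing S] [Algebra R S]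
  (p : Ideal R) [p.IsPrime] (q : Ideal S) [q.IsPrime] [q.LiesOver p]
  (Rh : Type u) [CommRing Rh] [IsLocalRing Rh] [Algebra (Localization.AtPrime p) Rh]
  [IsLocalHom (algebraMap (Localization.AtPrime p) Rh)]
  [hR : Hensel.IsStrictHenselization (Localization.AtPrime p) Rh]
  [Algebra R Rh] [IsScalarTower R (Localization.AtPrime p) Rh]
  (Sh : Type u) [CommRing Sh] [IsLocalRing Sh] [Algebra (Localization.AtPrime q) Sh]
  [IsLocalHom (algebraMap (Localization.AtPrime q) Sh)]
  [hS : Hensel.IsStrictHenselization (Localization.AtPrime q) Sh]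
  [Algebra S Sh] [IsScalarTower S (Localization.AtPrime q) Sh] [Algebra R Sh] [IsScalarTower R S Sh]
  [Algebra Rh Sh] [IsScalarTower R Rh Sh]

include hR hS in
/-- `Sh` is a strict henselization of `D = (Rh ⊗_R S)_Q` (via `toSh`). -/
theorem isStrictHenselization_toSh :
    @Hensel.IsStrictHenselization (D R S Rh Sh) Sh _ _ _ _ (toSh R S Rh Sh).toAlgebra
      (isLocalHom_toSh R S Rh Sh) := by
  classical
  have hRh := map_maximalIdeal_of_isStrictHenselization (Localization.AtPrime p) Rh
  letI algD : Algebra (D R S Rh Sh) Sh := (toSh R S Rh Sh).toAlgebra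
  letI algP : Algebra (Localization.AtPrime q) (D R S Rh Sh) := (fromSq R S q Rh Sh).toAlgebra
  haveI : IsScalarTower (Localization.AtPrime q) (D R S Rh Sh) Sh :=
    IsScalarTower.of_algebraMap_eq' (toSh_comp_fromSq R S q Rh Sh).symm
  haveI : IsLocalHom (algebraMap (D R S Rh Sh) Sh) := isLocalHom_toSh R S Rh Sh
  haveI : IsLocalHom (algebraMap (Localization.AtPrime q) (D R S Rh Sh)) :=
    isLocalHom_fromSq R S q Rh Sh
  haveI hfromRh : IsLocalHom (fromRh R S Rh Sh) := isLocalHom_fromRh R S p q Rh Sh hRh
  refine isStrictHenselization_of_tower (Localization.AtPrime q) (D R S Rh Sh) Sh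
    (fun T _ _ f hf τ hτ g hg hg2 => ?_)
  refine comp_toSh_eq R S q Rh Sh f g hg ?_
  haveI : IsLocalHom (f.comp (fromRh R S Rh Sh)) := RingHom.isLocalHom_comp _ _
  haveI hloc : IsLocalHom ((f.comp (fromRh R S Rh Sh)).comp
      (algebraMap (Localization.AtPrime p) Rh)) := RingHom.isLocalHom_comp _ _
  obtain ⟨k, -, hk⟩ := hR.universal T
    ((f.comp (fromRh R S Rh Sh)).comp (algebraMap (Localization.AtPrime p) Rh))
    (IsLocalRing.ResidueField.map (f.comp (fromRh R S Rh Sh)))
    (IsLocalRing.ResidueField.map_comp _ _).symm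
  have hA : ∀ x : Rh, IsLocalRing.residue T ((g.comp (algebraMap Rh Sh)) x) =
      IsLocalRing.ResidueField.map (f.comp (fromRh R S Rh Sh)) (IsLocalRing.residue Rh x) := by
    intro x
    rw [RingHom.comp_apply, hg2, IsLocalRing.ResidueField.map_residue, RingHom.comp_apply,
      ← IsLocalRing.ResidueField.map_residue f, ← hτ, RingHom.comp_apply,
      IsLocalRing.ResidueField.map_residue]
    congr 2
    exact (RingHom.congr_fun (toSh_comp_fromRh R S Rh Sh) x).symm
  have hB : ∀ x : Rh, IsLocalRing.residue T ((f.comp (fromRh R S Rh Sh)) x) =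
      IsLocalRing.ResidueField.map (f.comp (fromRh R S Rh Sh)) (IsLocalRing.residue Rh x) := by
    intro x
    rw [IsLocalRing.ResidueField.map_residue]
  rw [hk (g.comp (algebraMap Rh Sh)) ⟨comp_algebraMap_eq R S p q Rh Sh f g hg, hA⟩,
    hk (f.comp (fromRh R S Rh Sh)) ⟨rfl, hB⟩]

include hR hS in
/-- `Sh` is ind-étale over `Rh ⊗_R S` (via `φ`). -/
theorem hasFactorization_phi :
    @HasFactorization (Rh ⊗[R] S) _ (etaleClass (Rh ⊗[R] S)) Sh _
      (φ R S Rh Sh).toRingHom.toAlgebra := by
  letI algD : Algebra (D R S Rh Sh) Sh := (toSh R S Rh Sh).toAlgebra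
  haveI : IsLocalHom (algebraMap (D R S Rh Sh) Sh) := isLocalHom_toSh R S Rh Sh
  haveI := isStrictHenselization_toSh R S p q Rh Sh
  letI algY : Algebra (Rh ⊗[R] S) Sh := (φ R S Rh Sh).toRingHom.toAlgebra
  haveI : IsScalarTower (Rh ⊗[R] S) (D R S Rh Sh) Sh :=
    IsScalarTower.of_algebraMap_eq (fun d => (toSh_algebraMap R S Rh Sh d).symm)
  exact SmoothBr.hasFactorization_of_isStrictHenselization_atPrime (Rh ⊗[R] S) (Q R S Rh Sh) Sh

end SH

end TensLoc

namespace SmoothBr

open Groth.Agent.Lib.Helper4 TensLoc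

section PrimeSH

variable {R S Ash Bsh : Type u} [CommRing R] [CommRing S] [Algebra R S] [Algebra.Smooth R S]
  (q : Ideal S) [q.IsPrime] (p : Ideal R) [p.IsPrime] [q.LiesOver p]
  [CommRing Ash] [IsLocalRing Ash] [Algebra (Localization.AtPrime p) Ash]
  [IsLocalHom (algebraMap (Localization.AtPrime p) Ash)]
  [hA : Hensel.IsStrictHenselization (Localization.AtPrime p) Ash]
  [CommRing Bsh] [IsLocalRing Bsh] [Algebra (Localization.AtPrime q) Bsh]
  [IsLocalHom (algebraMap (Localization.AtPrime q) Bsh)]
  [hB : Hensel.IsStrictHenselization (Localization.AtPrime q) Bsh]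

include hA hB in
/-- For smooth `R → S`, an element of `R` which is prime in the strict henselization of `R_p`
is prime in the strict henselization of `S_q` (`q` over `p`). -/
theorem prime_of_prime_of_smooth (δ : R)
    (hδ : Prime (algebraMap (Localization.AtPrime p) Ash
      (algebraMap R (Localization.AtPrime p) δ))) :
    Prime (algebraMap (Localization.AtPrime q) Bsh
      (algebraMap S (Localization.AtPrime q) (algebraMap R S δ))) := by
  classical
  letI : Algebra (Localization.AtPrime p) (Localization.AtPrime q) :=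
    (Localization.localRingHom p q (algebraMap R S) (q.over_def p)).toAlgebra
  haveI : IsLocalHom (algebraMap (Localization.AtPrime p) (Localization.AtPrime q)) :=
    Localization.isLocalHom_localRingHom p q (algebraMap R S) (q.over_def p)
  haveI hBh : HenselianLocalRing Bsh := hB.henselian
  haveI hAh : HenselianLocalRing Ash := hA.henselian
  haveI : IsSepClosed (ResidueField Bsh) := hB.isSepClosure.sep_closed
  haveI : IsSepClosed (ResidueField Ash) := hA.isSepClosure.sep_closed
  obtain ⟨g, hg, hgloc⟩ := Compare.exists_map_of_isStrictHenselization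
    (Localization.AtPrime p) (Localization.AtPrime q) Ash Bsh
  letI : Algebra R Ash :=
    ((algebraMap (Localization.AtPrime p) Ash).comp (algebraMap R (Localization.AtPrime p))).toAlgebra
  haveI : IsScalarTower R (Localization.AtPrime p) Ash := IsScalarTower.of_algebraMap_eq' rfl
  letI : Algebra S Bsh :=
    ((algebraMap (Localization.AtPrime q) Bsh).comp (algebraMap S (Localization.AtPrime q))).toAlgebra
  haveI : IsScalarTower S (Localization.AtPrime q) Bsh := IsScalarTower.of_algebraMap_eq' rfl
  letI : Algebra R Bsh := ((algebraMap S Bsh).comp (algebraMap R S)).toAlgebra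
  haveI : IsScalarTower R S Bsh := IsScalarTower.of_algebraMap_eq' rfl
  letI : Algebra Ash Bsh := g.toAlgebra
  haveI : IsLocalHom (algebraMap Ash Bsh) := hgloc
  have hgR : ∀ r : R, g (algebraMap R Ash r) = algebraMap R Bsh r := by
    intro r
    change g (algebraMap (Localization.AtPrime p) Ash (algebraMap R _ r)) = _
    have := RingHom.congr_fun hg (algebraMap R (Localization.AtPrime p) r)
    rw [RingHom.comp_apply, RingHom.comp_apply] at this
    rw [this]
    change algebraMap (Localization.AtPrime q) Bsh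
      (Localization.localRingHom p q (algebraMap R S) (q.over_def p) (algebraMap R _ r)) = _
    rw [Localization.localRingHom_to_map]
    rfl
  haveI : IsScalarTower R Ash Bsh := IsScalarTower.of_algebraMap_eq (fun r => (hgR r).symm)
  -- `Bsh` is ind-étale over `Y = Ash ⊗ S`
  have hfac := TensLoc.hasFactorization_phi R S p q Ash Bsh
  letI algY : Algebra (Ash ⊗[R] S) Bsh := (φ R S Ash Bsh).toRingHom.toAlgebra
  haveI : IsScalarTower Ash (Ash ⊗[R] S) Bsh := IsScalarTower.of_algebraMap_eq (fun x => by
    change _ = φ R S Ash Bsh (x ⊗ₜ[R] (1 : S))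
    rw [φ_tmul, map_one, mul_one])
  -- flatness, injectivity
  letI algD : Algebra (D R S Ash Bsh) Bsh := (toSh R S Ash Bsh).toAlgebra
  haveI : IsLocalHom (algebraMap (D R S Ash Bsh) Bsh) := isLocalHom_toSh R S Ash Bsh
  haveI := isStrictHenselization_toSh R S p q Ash Bsh
  haveI : IsScalarTower (Ash ⊗[R] S) (D R S Ash Bsh) Bsh :=
    IsScalarTower.of_algebraMap_eq (fun d => (toSh_algebraMap R S Ash Bsh d).symm)
  haveI : Module.FaithfullyFlat (D R S Ash Bsh) Bsh := faithfullyFlat_of_isStrictHenselization _ _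
  haveI : Module.Flat (Ash ⊗[R] S) (D R S Ash Bsh) :=
    IsLocalization.flat _ (Q R S Ash Bsh).primeCompl
  haveI : Module.Flat (Ash ⊗[R] S) Bsh := Module.Flat.trans (Ash ⊗[R] S) (D R S Ash Bsh) Bsh
  haveI : Module.Flat Ash Bsh := Module.Flat.trans Ash (Ash ⊗[R] S) Bsh
  haveI : Module.FaithfullyFlat Ash Bsh := Module.FaithfullyFlat.of_flat_of_isLocalHom
  have hinj : Function.Injective (algebraMap Ash Bsh) := FaithfulSMul.algebraMap_injective Ash Bsh
  -- the prime ideal
  set a : Ash := algebraMap (Localization.AtPrime p) Ash (algebraMap R (Localization.AtPrime p) δ)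
    with ha
  haveI hI : (Ideal.span ({a} : Set Ash)).IsPrime := (Ideal.span_singleton_prime hδ.ne_zero).mpr hδ
  have h1 := isPrime_map_of_smooth_of_isSepClosed Ash (Ash ⊗[R] S) Bsh hgloc hfac
    (Ideal.span ({a} : Set Ash))
  rw [Ideal.map_span, Set.image_singleton] at h1
  have hne : algebraMap Ash Bsh a ≠ 0 := fun h0 => hδ.ne_zero (hinj (h0.trans (map_zero _).symm))
  have h2 : Prime (algebraMap Ash Bsh a) := (Ideal.span_singleton_prime hne).mp h1
  have h3 : algebraMap Ash Bsh a = algebraMap (Localization.AtPrime q) Bsh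
      (algebraMap S (Localization.AtPrime q) (algebraMap R S δ)) := by
    have : a = algebraMap R Ash δ := rfl
    rw [this]
    exact hgR δ
  rwa [h3] at h2

end PrimeSH

end SmoothBr

end Groth.Agent.Lib.Helper37.Hz
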