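import Groth.Agent.Lib.Helper37.Hz44

/-!
# Swapped locality lemma: `S ⊗_A B` local when `κ(S)/κ(A)` purely inseparable, `B` integral
-/

set_option autoImplicit false
set_option linter.style.haveILetI false
universe u

open IsLocalRing TensorProduct

namespace Groth.Agent.Lib.Helper37.Hz

namespace PITens

section Swap

variable (A S B : Type u) [CommRing A] [IsLocalRing A] [CommRing S] [IsLocalRing S] [Algebra A S]
  [IsLocalHom (algebraMap A S)]
  [CommRing B] [IsLocalRing B] [Algebra A B] [IsLocalHom (algebraMap A B)] [Algebra.IsIntegral A B]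
  (p : ℕ)

attribute [local instance] Algebra.TensorProduct.rightAlgebra

omit [IsLocalRing A] [IsLocalHom (algebraMap A S)] [IsLocalRing B] [IsLocalHom (algebraMap A B)] in
lemma comap_left_of_isMaximal (n : Ideal (S ⊗[A] B)) [n.IsMaximal] :
    n.comap (algebraMap S (S ⊗[A] B)) = maximalIdeal S := by
  haveI : Algebra.IsIntegral S (S ⊗[A] B) := inferInstance
  haveI : (n.comap (algebraMap S (S ⊗[A] B))).IsMaximal :=
    Ideal.isMaximal_comap_of_isIntegral_of_isMaximal n
  exact IsLocalRing.eq_maximalIdeal inferInstance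

omit [IsLocalHom (algebraMap A B)] in
lemma comap_right_of_isMaximal (n : Ideal (S ⊗[A] B)) [n.IsMaximal] :
    n.comap (algebraMap B (S ⊗[A] B)) = maximalIdeal B := by
  haveI hp : (n.comap (algebraMap B (S ⊗[A] B))).IsPrime := Ideal.comap_isPrime _ _
  have hcomm : (algebraMap B (S ⊗[A] B)).comp (algebraMap A B) =
      (algebraMap S (S ⊗[A] B)).comp (algebraMap A S) := by
    ext a
    simp only [RingHom.coe_comp, Function.comp_apply]
    change (1 : S) ⊗ₜ[A] (algebraMap A B a) = (algebraMap A S a) ⊗ₜ[A] (1 : B)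
    rw [Algebra.algebraMap_eq_smul_one, Algebra.algebraMap_eq_smul_one (A := S) a,
      TensorProduct.smul_tmul]
  have h1 : (n.comap (algebraMap B (S ⊗[A] B))).comap (algebraMap A B) = maximalIdeal A := by
    rw [Ideal.comap_comap, hcomm, ← Ideal.comap_comap, comap_left_of_isMaximal]
    have h04 : IsLocalHom (algebraMap A S) ↔
        (maximalIdeal S).comap (algebraMap A S) = maximalIdeal A :=
      (local_hom_TFAE (algebraMap A S)).out 0 4
    exact h04.mp inferInstance
  haveI : (n.comap (algebraMap B (S ⊗[A] B))).IsMaximal :=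
    Ideal.isMaximal_of_isIntegral_of_isMaximal_comap _ (by rw [h1]; infer_instance)
  exact IsLocalRing.eq_maximalIdeal inferInstance

omit [IsLocalHom (algebraMap A B)] in
lemma le_of_isMaximal_swap (hpi : PI A S p) [ExpChar (ResidueField S) p]
    (n n' : Ideal (S ⊗[A] B)) [hn : n.IsMaximal] [hn' : n'.IsMaximal] : n ≤ n' := by
  intro x hx
  obtain ⟨N, b, hb⟩ := exists_pow_eq B hpi x
  have hp0 : p ^ N ≠ 0 := pow_ne_zero _ (expChar_pos (ResidueField S) p).ne'
  have key : ∀ (m : Ideal (S ⊗[A] B)) [m.IsMaximal],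
      Ideal.Quotient.mk m x ^ p ^ N = Ideal.Quotient.mk m ((1 : S) ⊗ₜ[A] b) := by
    intro m hm
    letI : Field ((S ⊗[A] B) ⧸ m) := Ideal.Quotient.field m
    have hker : RingHom.ker ((Ideal.Quotient.mk m).comp (algebraMap S (S ⊗[A] B))) =
        maximalIdeal S := by
      rw [← comap_left_of_isMaximal A S B m, ← RingHom.comap_ker, Ideal.mk_ker]
    haveI : ExpChar ((S ⊗[A] B) ⧸ m) p := expChar_of_ker_eq _ hker p
    refine hb _ (Ideal.Quotient.mk m) fun s hs => ?_
    rw [← hker] at hs
    exact hs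
  have h1 : (1 : S) ⊗ₜ[A] b ∈ n := by
    rw [← Ideal.Quotient.eq_zero_iff_mem, ← key n, Ideal.Quotient.eq_zero_iff_mem.mpr hx,
      zero_pow hp0]
  have h2 : b ∈ maximalIdeal B := by
    rw [← comap_right_of_isMaximal A S B n]
    exact h1
  have h3 : (1 : S) ⊗ₜ[A] b ∈ n' := by
    rw [← comap_right_of_isMaximal A S B n'] at h2
    exact h2
  have h4 : Ideal.Quotient.mk n' x ^ p ^ N = 0 := by
    rw [key n', Ideal.Quotient.eq_zero_iff_mem.mpr h3]
  letI : Field ((S ⊗[A] B) ⧸ n') := Ideal.Quotient.field n'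
  exact Ideal.Quotient.eq_zero_iff_mem.mp ((pow_eq_zero_iff hp0).mp h4)

omit [IsLocalHom (algebraMap A B)] in
lemma isLocalRing_swap (hpi : PI A S p) [ExpChar (ResidueField S) p] [Nontrivial (S ⊗[A] B)] :
    IsLocalRing (S ⊗[A] B) := by
  obtain ⟨n, hn⟩ := Ideal.exists_maximal (S ⊗[A] B)
  refine IsLocalRing.of_unique_max_ideal ⟨n, hn, fun n' hn' => ?_⟩
  exact (hn'.eq_of_le hn.ne_top (le_of_isMaximal_swap A S B p hpi n' n)).symm ▸ rfl

/-- `B ⊗_A S` is local when `B` is local integral over `A` and `κ(S)/κ(A)` is purely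
inseparable. -/
lemma isLocalRing_swap' (hpi : PI A S p) [ExpChar (ResidueField S) p] :
    IsLocalRing (B ⊗[A] S) := by
  haveI : Nontrivial (B ⊗[A] S) := nontrivial_tensor A B S
  haveI : Nontrivial (S ⊗[A] B) :=
    (Algebra.TensorProduct.comm A S B).toRingEquiv.toEquiv.nontrivial
  haveI := isLocalRing_swap A S B p hpi
  exact (Algebra.TensorProduct.comm A S B).toRingEquiv.isLocalRing

end Swap

end PITens

end Groth.Agent.Lib.Helper37.Hz
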