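import Groth.Agent.Lib.Helper37.Hz60
import Groth.Agent.Lib.Helper37.Hz70

/-!
# Primes of a henselian local ring stay prime in local rings ind-étale over smooth algebras with
purely inseparable residue field extension.
-/

set_option autoImplicit false
set_option linter.style.haveILetI false
set_option linter.unusedSectionVars false
universe u

open TensorProduct IsLocalRing

namespace Groth.Agent.Lib.Helper37.Hz

namespace SmoothBr

open Groth.Agent.Lib.Helper4

section WrapperB

variable (D Y T : Type u) [CommRing D] [IsDomain D] [hD : HenselianLocalRing D]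
  [CommRing Y] [Algebra D Y]
  [Algebra.Smooth D Y] [CommRing T] [IsLocalRing T] [Algebra Y T] [Algebra D T]
  [IsScalarTower D Y T]

/-- A local ring `T`, ind-étale over a smooth algebra over a henselian local domain `D`
(with `D → T` local and purely inseparable residue field extension), is a domain. -/
theorem isDomain_of_smooth_of_PI (hDT : IsLocalHom (algebraMap D T))
    (hT : HasFactorization (etaleClass Y) T) (p : ℕ) [ExpChar (ResidueField T) p]
    (hpi : PITens.PI D T p) : IsDomain T := by
  classical
  haveI := hDT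
  haveI : IsLocalRing (integralClosure D (FractionRing D)) :=
    Unibranch.isLocalRing_integralClosure_of_isDomain' D D hD inferInstance
  haveI : Algebra.IsIntegral D (integralClosure D (FractionRing D)) :=
    integralClosure.AlgebraIsIntegral
  haveI : IsLocalHom (algebraMap D (integralClosure D (FractionRing D))) :=
    Unibranch.isLocalHom_of_isIntegral D _
  exact isDomain_of_isLocalRing_tensor D Y T hT
    (PITens.isLocalRing_swap' D T (integralClosure D (FractionRing D)) p hpi)

end WrapperB

section PrimeMapPI

variable (R Y T : Type u) [CommRing R] [hR : HenselianLocalRing R]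
  [CommRing Y] [Algebra R Y]
  [Algebra.Smooth R Y] [CommRing T] [IsLocalRing T] [Algebra Y T] [Algebra R T]
  [IsScalarTower R Y T]

/-- Let `R` be a henselian local ring, `Y` a smooth `R`-algebra, `T` a local ring,
ind-étale over `Y`, with `R → T` local and purely inseparable residue field extension.  Then the
extension to `T` of any prime ideal of `R` is prime. -/
theorem isPrime_map_of_smooth_of_PI (hRT : IsLocalHom (algebraMap R T))
    (hT : HasFactorization (etaleClass Y) T) (p : ℕ) [ExpChar (ResidueField T) p]
    (hpi : PITens.PI R T p) (I : Ideal R) [hI : I.IsPrime] :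
    (I.map (algebraMap R T)).IsPrime := by
  classical
  have hmapmap : (I.map (algebraMap R Y)).map (algebraMap Y T) = I.map (algebraMap R T) := by
    rw [Ideal.map_map, ← IsScalarTower.algebraMap_eq]
  rw [← hmapmap]
  -- the quotient rings
  haveI : IsDomain (R ⧸ I) := Ideal.Quotient.isDomain I
  haveI : IsLocalRing (R ⧸ I) :=
    IsLocalRing.of_surjective' (Ideal.Quotient.mk I) Ideal.Quotient.mk_surjective
  haveI : Algebra.IsIntegral R (R ⧸ I) :=
    Algebra.isIntegral_of_surjective Ideal.Quotient.mk_surjective
  haveI hD : HenselianLocalRing (R ⧸ I) := henselianLocalRing_of_isIntegral R (R ⧸ I)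
  -- smoothness of the quotient
  haveI : Algebra.Smooth (R ⧸ I) (Y ⧸ I.map (algebraMap R Y)) :=
    Algebra.Smooth.of_equiv (Algebra.TensorProduct.quotIdealMapEquivQuotTensor Y I).symm
  have hT' := hasFactorization_quotient Y T (I.map (algebraMap R Y)) hT
  -- proper ideal
  have hle : (I.map (algebraMap R Y)).map (algebraMap Y T) ≤ maximalIdeal T := by
    rw [hmapmap]
    refine le_trans (Ideal.map_mono (le_maximalIdeal hI.ne_top)) ?_
    exact ((IsLocalRing.local_hom_TFAE (algebraMap R T)).out 0 2).mp hRT
  have hne : (I.map (algebraMap R Y)).map (algebraMap Y T) ≠ ⊤ :=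
    fun h => (maximalIdeal.isMaximal T).ne_top (top_le_iff.mp (h ▸ hle))
  haveI : Nontrivial (T ⧸ (I.map (algebraMap R Y)).map (algebraMap Y T)) :=
    Ideal.Quotient.nontrivial_iff.mpr hne
  haveI : IsLocalRing (T ⧸ (I.map (algebraMap R Y)).map (algebraMap Y T)) :=
    IsLocalRing.of_surjective' (Ideal.Quotient.mk _) Ideal.Quotient.mk_surjective
  letI : Algebra (R ⧸ I) (T ⧸ (I.map (algebraMap R Y)).map (algebraMap Y T)) :=
    ((algebraMap (Y ⧸ I.map (algebraMap R Y))
      (T ⧸ (I.map (algebraMap R Y)).map (algebraMap Y T))).comp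
      (algebraMap (R ⧸ I) (Y ⧸ I.map (algebraMap R Y)))).toAlgebra
  haveI : IsScalarTower (R ⧸ I) (Y ⧸ I.map (algebraMap R Y))
      (T ⧸ (I.map (algebraMap R Y)).map (algebraMap Y T)) :=
    IsScalarTower.of_algebraMap_eq' rfl
  have halg : ∀ r : R, algebraMap (R ⧸ I) (T ⧸ (I.map (algebraMap R Y)).map (algebraMap Y T))
      (Ideal.Quotient.mk I r) = Ideal.Quotient.mk _ (algebraMap R T r) := by
    intro r
    rw [IsScalarTower.algebraMap_apply R Y T]
    rfl
  have hloc : IsLocalHom (algebraMap (R ⧸ I)
      (T ⧸ (I.map (algebraMap R Y)).map (algebraMap Y T))) := by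
    refine ⟨fun d hd => ?_⟩
    obtain ⟨r, rfl⟩ := Ideal.Quotient.mk_surjective d
    rw [halg] at hd
    by_contra hr
    have hr' : r ∈ maximalIdeal R := by
      by_contra hr'
      rw [mem_maximalIdeal, mem_nonunits_iff, not_not] at hr'
      exact hr (hr'.map _)
    have h2' : (maximalIdeal R).map (algebraMap R T) ≤ maximalIdeal T :=
      ((IsLocalRing.local_hom_TFAE (algebraMap R T)).out 0 2).mp hRT
    have h2 : algebraMap R T r ∈ maximalIdeal T := h2' (Ideal.mem_map_of_mem _ hr')
    obtain ⟨z, hz⟩ := hd.exists_right_inv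
    obtain ⟨z, rfl⟩ := Ideal.Quotient.mk_surjective z
    rw [← map_mul, ← map_one (Ideal.Quotient.mk _), Ideal.Quotient.eq] at hz
    have h3 : algebraMap R T r * z - 1 ∈ maximalIdeal T := hle hz
    have h4 : (1 : T) ∈ maximalIdeal T := by
      have := Ideal.sub_mem _ (Ideal.mul_mem_right z _ h2) h3
      rwa [sub_sub_cancel] at this
    exact (maximalIdeal.isMaximal T).ne_top ((Ideal.eq_top_iff_one _).mpr h4)
  -- residue characteristic and the PI condition for the quotient
  haveI hmkloc : IsLocalHom (Ideal.Quotient.mk ((I.map (algebraMap R Y)).map (algebraMap Y T))) :=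
    IsLocalHom.of_surjective _ Ideal.Quotient.mk_surjective
  haveI : ExpChar (ResidueField (T ⧸ (I.map (algebraMap R Y)).map (algebraMap Y T))) p :=
    expChar_of_injective_ringHom
      (ResidueField.map (Ideal.Quotient.mk ((I.map (algebraMap R Y)).map (algebraMap Y T)))).injective
      p
  have hpi' : PITens.PI (R ⧸ I) (T ⧸ (I.map (algebraMap R Y)).map (algebraMap Y T)) p := by
    intro t
    obtain ⟨t, rfl⟩ := Ideal.Quotient.mk_surjective t
    obtain ⟨N, a, ha⟩ := hpi t
    refine ⟨N, Ideal.Quotient.mk I a, ?_⟩
    rw [halg, ← map_pow, ← map_sub]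
    exact map_nonunit (Ideal.Quotient.mk ((I.map (algebraMap R Y)).map (algebraMap Y T))) _ ha
  have hdom : IsDomain (T ⧸ (I.map (algebraMap R Y)).map (algebraMap Y T)) :=
    isDomain_of_smooth_of_PI (R ⧸ I) (Y ⧸ I.map (algebraMap R Y)) _ hloc hT' p hpi'
  exact (Ideal.Quotient.isDomain_iff_prime _).mp hdom

end PrimeMapPI

end SmoothBr
end Groth.Agent.Lib.Helper37.Hz
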