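import Groth.Agent.Lib.Helper37.Hz69
import Groth.Agent.Lib.Helper37.Hz71

/-!
# Smooth maps with purely inseparable residue extension preserve the number of branches
-/

set_option autoImplicit false
set_option linter.style.haveILetI false
set_option linter.unusedSectionVars false
universe u

open TensorProduct IsLocalRing

namespace Groth.Agent.Lib.Helper37.Hz

namespace SmoothBr

open Groth.Agent.Lib.Helper4

section AtPrimeH

variable (R : Type u) [CommRing R] (p : Ideal R) [p.IsPrime] (Rh : Type u) [CommRing Rh]
  [IsLocalRing Rh] [Algebra (Localization.AtPrime p) Rh]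
  [IsLocalHom (algebraMap (Localization.AtPrime p) Rh)]
  [hH : Hensel.IsHenselization (Localization.AtPrime p) Rh] [Algebra R Rh]
  [IsScalarTower R (Localization.AtPrime p) Rh]

include hH in
/-- A henselization of `R_p` is ind-étale over `R`. -/
theorem hasFactorization_of_isHenselization_atPrime :
    HasFactorization (etaleClass R) Rh := by
  have h1 : EtPBC.IsIndEtale R (Localization.AtPrime p) :=
    (isIndEtale_iff_hasFactorization _).mpr
      (hasFactorization_of_isLocalization R p.primeCompl (Localization.AtPrime p))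
  have h2 : HasFactorization (etaleClass (Localization.AtPrime p)) Rh :=
    (isIndEtale_iff_hasFactorization _).mp
      (isIndEtale_of_isHenselization (Localization.AtPrime p) Rh)
  exact hasFactorization_trans R (Localization.AtPrime p) Rh h1 h2

end AtPrimeH

end SmoothBr

namespace TensLoc

open Groth.Agent.Lib.Helper4

section H

variable (R : Type u) [CommRing R] (S : Type u) [CommRing S] [Algebra R S]
  (p : Ideal R) [p.IsPrime] (q : Ideal S) [q.IsPrime] [q.LiesOver p]
  (Rh : Type u) [CommRing Rh] [IsLocalRing Rh] [Algebra (Localization.AtPrime p) Rh]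
  [IsLocalHom (algebraMap (Localization.AtPrime p) Rh)]
  [hR : Hensel.IsHenselization (Localization.AtPrime p) Rh]
  [Algebra R Rh] [IsScalarTower R (Localization.AtPrime p) Rh]
  (Sh : Type u) [CommRing Sh] [IsLocalRing Sh] [Algebra (Localization.AtPrime q) Sh]
  [IsLocalHom (algebraMap (Localization.AtPrime q) Sh)]
  [hS : Hensel.IsHenselization (Localization.AtPrime q) Sh]
  [Algebra S Sh] [IsScalarTower S (Localization.AtPrime q) Sh] [Algebra R Sh] [IsScalarTower R S Sh]
  [Algebra Rh Sh] [IsScalarTower R Rh Sh]

include hR hS in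
/-- `Sh` is a henselization of `D = (Rh ⊗_R S)_Q` (via `toSh`). -/
theorem isHenselization_toSh :
    @Hensel.IsHenselization (D R S Rh Sh) Sh _ _ _ _ (toSh R S Rh Sh).toAlgebra
      (isLocalHom_toSh R S Rh Sh) := by
  classical
  have hRh := map_maximalIdeal_of_isHenselization (Localization.AtPrime p) Rh
  letI algD : Algebra (D R S Rh Sh) Sh := (toSh R S Rh Sh).toAlgebra
  letI algP : Algebra (Localization.AtPrime q) (D R S Rh Sh) := (fromSq R S q Rh Sh).toAlgebra
  haveI : IsScalarTower (Localization.AtPrime q) (D R S Rh Sh) Sh :=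
    IsScalarTower.of_algebraMap_eq' (toSh_comp_fromSq R S q Rh Sh).symm
  haveI : IsLocalHom (algebraMap (D R S Rh Sh) Sh) := isLocalHom_toSh R S Rh Sh
  haveI : IsLocalHom (algebraMap (Localization.AtPrime q) (D R S Rh Sh)) :=
    isLocalHom_fromSq R S q Rh Sh
  refine isHenselization_of_tower (Localization.AtPrime q) (D R S Rh Sh) Sh
    (fun T _ _ f hf g hg => ?_)
  refine comp_toSh_eq R S q Rh Sh f g hg ?_
  haveI := hf
  haveI := isLocalHom_fromRh R S p q Rh Sh hRh
  haveI : IsLocalHom (f.comp (fromRh R S Rh Sh)) := RingHom.isLocalHom_comp _ _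
  have hloc : IsLocalHom ((f.comp (fromRh R S Rh Sh)).comp
      (algebraMap (Localization.AtPrime p) Rh)) := RingHom.isLocalHom_comp _ _
  obtain ⟨k, -, hk⟩ := hR.universal T
    ((f.comp (fromRh R S Rh Sh)).comp (algebraMap (Localization.AtPrime p) Rh)) hloc
  rw [hk (g.comp (algebraMap Rh Sh)) (comp_algebraMap_eq R S p q Rh Sh f g hg),
    hk (f.comp (fromRh R S Rh Sh)) rfl]

include hR hS in
/-- `Sh` is ind-étale over `Rh ⊗_R S` (via `φ`). -/
theorem hasFactorization_phi_hens :
    @HasFactorization (Rh ⊗[R] S) _ (etaleClass (Rh ⊗[R] S)) Sh _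
      (φ R S Rh Sh).toRingHom.toAlgebra := by
  letI algD : Algebra (D R S Rh Sh) Sh := (toSh R S Rh Sh).toAlgebra
  haveI : IsLocalHom (algebraMap (D R S Rh Sh) Sh) := isLocalHom_toSh R S Rh Sh
  haveI := isHenselization_toSh R S p q Rh Sh
  letI algY : Algebra (Rh ⊗[R] S) Sh := (φ R S Rh Sh).toRingHom.toAlgebra
  haveI : IsScalarTower (Rh ⊗[R] S) (D R S Rh Sh) Sh :=
    IsScalarTower.of_algebraMap_eq (fun d => (toSh_algebraMap R S Rh Sh d).symm)
  exact SmoothBr.hasFactorization_of_isHenselization_atPrime (Rh ⊗[R] S) (Q R S Rh Sh) Sh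

end H

end TensLoc

namespace SmoothBr

open Groth.Agent.Lib.Helper4 TensLoc

section MainH

variable {R S Ah Bh : Type u} [CommRing R] [CommRing S] [Algebra R S] [Algebra.Smooth R S]
  (q : Ideal S) [q.IsPrime] (p : Ideal R) [p.IsPrime] [q.LiesOver p]
  [CommRing Ah] [IsLocalRing Ah] [Algebra (Localization.AtPrime p) Ah]
  [IsLocalHom (algebraMap (Localization.AtPrime p) Ah)]
  [hA : Hensel.IsHenselization (Localization.AtPrime p) Ah]
  [CommRing Bh] [IsLocalRing Bh] [Algebra (Localization.AtPrime q) Bh]
  [IsLocalHom (algebraMap (Localization.AtPrime q) Bh)]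
  [hB : Hensel.IsHenselization (Localization.AtPrime q) Bh]

include hA hB in
/-- For smooth `R → S` and `q` over `p` with `κ(q)/κ(p)` purely inseparable, henselizations of
`R_p` and `S_q` have the same number of minimal primes. -/
theorem card_minimalPrimes_henselization_of_smooth_PI
    (hpi : @IsPurelyInseparable p.ResidueField q.ResidueField _ _
      (Ideal.ResidueField.mapₐ p q (Algebra.ofId R S) (q.over_def p)).toRingHom.toAlgebra) :
    ENat.card (minimalPrimes Ah) = ENat.card (minimalPrimes Bh) := by
  classical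
  letI : Algebra (Localization.AtPrime p) (Localization.AtPrime q) :=
    (Localization.localRingHom p q (algebraMap R S) (q.over_def p)).toAlgebra
  haveI : IsLocalHom (algebraMap (Localization.AtPrime p) (Localization.AtPrime q)) :=
    Localization.isLocalHom_localRingHom p q (algebraMap R S) (q.over_def p)
  haveI hBh : HenselianLocalRing Bh := hB.henselian
  haveI hAh : HenselianLocalRing Ah := hA.henselian
  obtain ⟨g, hg, hgloc⟩ := Compare.exists_map_of_isHenselization
    (Localization.AtPrime p) (Localization.AtPrime q) Ah Bh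
  letI : Algebra R Ah :=
    ((algebraMap (Localization.AtPrime p) Ah).comp (algebraMap R (Localization.AtPrime p))).toAlgebra
  haveI : IsScalarTower R (Localization.AtPrime p) Ah := IsScalarTower.of_algebraMap_eq' rfl
  letI : Algebra S Bh :=
    ((algebraMap (Localization.AtPrime q) Bh).comp (algebraMap S (Localization.AtPrime q))).toAlgebra
  haveI : IsScalarTower S (Localization.AtPrime q) Bh := IsScalarTower.of_algebraMap_eq' rfl
  letI : Algebra R Bh := ((algebraMap S Bh).comp (algebraMap R S)).toAlgebra
  haveI : IsScalarTower R S Bh := IsScalarTower.of_algebraMap_eq' rfl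
  letI : Algebra Ah Bh := g.toAlgebra
  haveI : IsLocalHom (algebraMap Ah Bh) := hgloc
  have hgP : ∀ r : Localization.AtPrime p, g (algebraMap (Localization.AtPrime p) Ah r) =
      algebraMap (Localization.AtPrime q) Bh
        (Localization.localRingHom p q (algebraMap R S) (q.over_def p) r) := by
    intro r
    have := RingHom.congr_fun hg r
    rw [RingHom.comp_apply, RingHom.comp_apply] at this
    exact this
  have hgR : ∀ r : R, g (algebraMap R Ah r) = algebraMap R Bh r := by
    intro r
    change g (algebraMap (Localization.AtPrime p) Ah (algebraMap R _ r)) = _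
    rw [hgP, Localization.localRingHom_to_map]
    rfl
  haveI : IsScalarTower R Ah Bh := IsScalarTower.of_algebraMap_eq (fun r => (hgR r).symm)
  -- `Bh` is ind-étale over `Y = Ah ⊗ S`
  have hfac := TensLoc.hasFactorization_phi_hens R S p q Ah Bh
  letI algY : Algebra (Ah ⊗[R] S) Bh := (φ R S Ah Bh).toRingHom.toAlgebra
  haveI : IsScalarTower Ah (Ah ⊗[R] S) Bh := IsScalarTower.of_algebraMap_eq (fun x => by
    change _ = φ R S Ah Bh (x ⊗ₜ[R] (1 : S))
    rw [φ_tmul, map_one, mul_one])
  -- flatness
  letI algD : Algebra (D R S Ah Bh) Bh := (toSh R S Ah Bh).toAlgebra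
  haveI : IsLocalHom (algebraMap (D R S Ah Bh) Bh) := isLocalHom_toSh R S Ah Bh
  haveI := isHenselization_toSh R S p q Ah Bh
  haveI : IsScalarTower (Ah ⊗[R] S) (D R S Ah Bh) Bh :=
    IsScalarTower.of_algebraMap_eq (fun d => (toSh_algebraMap R S Ah Bh d).symm)
  haveI : Module.FaithfullyFlat (D R S Ah Bh) Bh := faithfullyFlat_of_isHenselization _ _
  haveI : Module.Flat (Ah ⊗[R] S) (D R S Ah Bh) :=
    IsLocalization.flat _ (Q R S Ah Bh).primeCompl
  haveI : Module.Flat (Ah ⊗[R] S) Bh := Module.Flat.trans (Ah ⊗[R] S) (D R S Ah Bh) Bh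
  haveI : Module.Flat Ah Bh := Module.Flat.trans Ah (Ah ⊗[R] S) Bh
  haveI : Module.FaithfullyFlat Ah Bh := Module.FaithfullyFlat.of_flat_of_isLocalHom
  -- the characteristic exponent
  obtain ⟨P, hP⟩ := ExpChar.exists p.ResidueField
  letI algK : Algebra p.ResidueField q.ResidueField :=
    (Ideal.ResidueField.mapₐ p q (Algebra.ofId R S) (q.over_def p)).toRingHom.toAlgebra
  haveI := hpi
  have hκq : ExpChar q.ResidueField P :=
    expChar_of_injective_ringHom (algebraMap p.ResidueField q.ResidueField).injective P
  haveI : ExpChar (ResidueField Bh) P :=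
    expChar_of_injective_ringHom
      (ResidueField.map (algebraMap (Localization.AtPrime q) Bh)).injective P
  -- the PI condition
  have hPI : PITens.PI Ah Bh P := by
    intro b
    obtain ⟨s, hs⟩ := exists_sub_mem_maximalIdeal_of_isHenselization (Localization.AtPrime q) Bh b
    obtain ⟨n, y, hy⟩ := IsPurelyInseparable.pow_mem p.ResidueField P
      (residue (Localization.AtPrime q) s)
    obtain ⟨r, rfl⟩ := residue_surjective y
    refine ⟨n, algebraMap (Localization.AtPrime p) Ah r, ?_⟩
    change b ^ P ^ n - g (algebraMap (Localization.AtPrime p) Ah r) ∈ maximalIdeal Bh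
    rw [hgP, ← residue_eq_zero_iff, map_sub, map_pow, sub_eq_zero]
    have h1 : residue Bh b = residue Bh (algebraMap (Localization.AtPrime q) Bh s) := by
      rw [← sub_eq_zero, ← map_sub, residue_eq_zero_iff]
      exact hs
    have h2 : algebraMap p.ResidueField q.ResidueField (residue (Localization.AtPrime p) r) =
        residue (Localization.AtPrime q)
          (Localization.localRingHom p q (algebraMap R S) (q.over_def p) r) := rfl
    rw [h2] at hy
    rw [h1, ← ResidueField.map_residue (algebraMap (Localization.AtPrime q) Bh),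
      ← ResidueField.map_residue (algebraMap (Localization.AtPrime q) Bh), ← map_pow, ← hy]
  -- primes stay prime
  have hprime : ∀ a ∈ minimalPrimes Ah,
      ((a : Ideal Ah).map (algebraMap Ah Bh)).radical.IsPrime := by
    intro a ha
    haveI : a.IsPrime := ha.1.1
    have h1 := isPrime_map_of_smooth_of_PI Ah (Ah ⊗[R] S) Bh hgloc hfac P hPI a
    rw [h1.radical]
    exact h1
  exact card_minimalPrimes_eq_of_radical_isPrime Ah Bh hprime

end MainH

end SmoothBr

end Groth.Agent.Lib.Helper37.Hz
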