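import Groth.Agent.Lib.Helper37.Hz72
import Groth.Agent.Lib.Helper37.Hz25

/-!
# Henselization project, part 73: the tower `A → A^h → A^sh`.

`A^sh` is a strict henselization of `A^h`; extensions of primes `q` of `A^h` with reduced quotient
are radical in `A^sh`; every minimal prime of `A^sh` is extended from `A^h` iff the two rings have
the same number of minimal primes.
-/

set_option autoImplicit false
universe u

open TensorProduct IsLocalRing Groth.Agent.Lib.Helper4

namespace Groth.Agent.Lib.Helper37.Hz

namespace Tower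

variable (A Ah Ash : Type u) [CommRing A] [IsLocalRing A]
  [CommRing Ah] [IsLocalRing Ah] [Algebra A Ah] [IsLocalHom (algebraMap A Ah)]
  [hh : Hensel.IsHenselization A Ah]
  [CommRing Ash] [IsLocalRing Ash] [Algebra A Ash] [IsLocalHom (algebraMap A Ash)]
  [hsh : Hensel.IsStrictHenselization A Ash] [Algebra Ah Ash] [IsScalarTower A Ah Ash]

include hh in
/-- The map `A^h → A^sh` is local. -/
theorem isLocalHom_algebraMap : IsLocalHom (algebraMap Ah Ash) := by
  refine Compare.isLocalHom_of_comp_isLocalHom A Ah Ash (algebraMap Ah Ash) ?_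
  rw [← IsScalarTower.algebraMap_eq]
  infer_instance

include hh hsh in
/-- `A^sh` is a strict henselization of `A^h`. -/
theorem isStrictHenselization [IsLocalHom (algebraMap Ah Ash)] :
    Hensel.IsStrictHenselization Ah Ash where
  henselian := hsh.henselian
  isSepClosure := by
    haveI := hsh.isSepClosure
    haveI : IsSepClosed (ResidueField Ash) := IsSepClosure.sep_closed (ResidueField A)
    haveI : Algebra.IsSeparable (ResidueField A) (ResidueField Ash) :=
      IsSepClosure.separable
    exact ⟨inferInstance, Algebra.isSeparable_tower_top_of_isSeparable (ResidueField A)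
      (ResidueField Ah) (ResidueField Ash)⟩
  universal T _ _ f _ τ hτ := by
    haveI : IsLocalHom (f.comp (algebraMap A Ah)) := RingHom.isLocalHom_comp _ _
    have hτ' : τ.comp (ResidueField.map (algebraMap A Ash)) =
        ResidueField.map (f.comp (algebraMap A Ah)) := by
      apply RingHom.ext
      intro x
      obtain ⟨a, rfl⟩ := residue_surjective x
      have h1 := RingHom.congr_fun hτ (residue Ah (algebraMap A Ah a))
      simp only [RingHom.comp_apply, ResidueField.map_residue] at h1 ⊢
      rw [← h1, ← IsScalarTower.algebraMap_apply]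
    obtain ⟨g, ⟨hg1, hg2⟩, hguniq⟩ := hsh.universal T (f.comp (algebraMap A Ah)) τ hτ'
    have hgf : g.comp (algebraMap Ah Ash) = f := by
      obtain ⟨g₀, -, hg₀⟩ := hh.universal T (f.comp (algebraMap A Ah)) inferInstance
      have e1 : g.comp (algebraMap Ah Ash) = g₀ := hg₀ _ (by
        change (g.comp (algebraMap Ah Ash)).comp (algebraMap A Ah) = f.comp (algebraMap A Ah)
        rw [RingHom.comp_assoc, ← IsScalarTower.algebraMap_eq, hg1])
      have e2 : f = g₀ := hg₀ _ rfl
      rw [e1, e2]
    refine ⟨g, ⟨hgf, hg2⟩, ?_⟩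
    rintro g' ⟨hg'1, hg'2⟩
    refine hguniq g' ⟨?_, hg'2⟩
    rw [← hg'1, RingHom.comp_assoc, ← IsScalarTower.algebraMap_eq]

include hh hsh in
/-- For an ideal `q` of `A^h` with reduced quotient, `A^sh / q A^sh` is reduced. -/
theorem isReduced_quotient_map (q : Ideal Ah) [IsReduced (Ah ⧸ q)] :
    IsReduced (Ash ⧸ q.map (algebraMap Ah Ash)) := by
  haveI := isLocalHom_algebraMap A Ah Ash
  haveI := isStrictHenselization A Ah Ash
  have h1 : EtPBC.IsIndEtale Ah Ash := isIndEtale_of_isStrictHenselization Ah Ash
  have h2 := (isIndEtale_iff_hasFactorization Ash).mp h1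
  exact isReduced_of_hasFactorization (SmoothBr.hasFactorization_quotient Ah Ash q h2)

include hh hsh in
/-- Every minimal prime of `A^sh` is extended from `A^h` iff `A^h` and `A^sh` have the same
number of minimal primes. -/
theorem forall_eq_map_comap_iff (hfinh : (minimalPrimes Ah).Finite)
    (hfinsh : (minimalPrimes Ash).Finite) :
    (∀ Q ∈ minimalPrimes Ash, Q = Ideal.map (algebraMap Ah Ash) (Q.comap (algebraMap Ah Ash))) ↔
      ENat.card (minimalPrimes Ah) = ENat.card (minimalPrimes Ash) := by
  haveI := isLocalHom_algebraMap A Ah Ash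
  haveI := isStrictHenselization A Ah Ash
  haveI : Module.FaithfullyFlat Ah Ash := faithfullyFlat_of_isStrictHenselization Ah Ash
  haveI : Module.Flat Ah Ash := Module.FaithfullyFlat.toFlat
  rw [Compare.card_minimalPrimes_eq_iff Ah Ash hfinh hfinsh]
  constructor
  · intro h q hq
    obtain ⟨Q, hQ, hQq⟩ := exists_minimalPrimes_comap_eq_of_faithfullyFlat (B := Ash) hq
    have h1 := h Q hQ
    rw [hQq] at h1
    rw [← h1]
    haveI := hQ.1.1
    rw [Ideal.IsPrime.radical inferInstance]
    exact hQ.1.1
  · intro h Q hQ
    have hqmin : Q.comap (algebraMap Ah Ash) ∈ minimalPrimes Ah :=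
      comap_mem_minimalPrimes_of_hasGoingDown (A := Ah) hQ
    haveI : (Q.comap (algebraMap Ah Ash)).IsPrime := hqmin.1.1
    haveI : IsReduced (Ash ⧸ (Q.comap (algebraMap Ah Ash)).map (algebraMap Ah Ash)) :=
      isReduced_quotient_map A Ah Ash _
    have hrad : ((Q.comap (algebraMap Ah Ash)).map (algebraMap Ah Ash)).radical =
        (Q.comap (algebraMap Ah Ash)).map (algebraMap Ah Ash) :=
      ((Ideal.isRadical_iff_quotient_reduced _).mpr inferInstance).radical
    have hprime := h _ hqmin
    rw [hrad] at hprime
    have hQmin := Compare.mem_minimalPrimes_map_of_mem_minimalPrimes (R := Ah) hQ rfl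
    exact le_antisymm (hQmin.2 ⟨hprime, le_rfl⟩ Ideal.map_comap_le) Ideal.map_comap_le

end Tower

end Groth.Agent.Lib.Helper37.Hz
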