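import Groth.Agent.Lib.Helper37.Hz73
import Mathlib.FieldTheory.PurelyInseparable.Basic

/-!
# Henselization project, part 74: purely inseparable residue fields and embeddings into the
algebraic closure; counting lemma; transfer along ring isomorphisms; normalization of a reduced
ring versus `CAlg2.normRed`.
-/

set_option autoImplicit false
universe u

open IsLocalRing

namespace Groth.Agent.Lib.Helper37.Hz

namespace PIEmb

section Field

variable (A B : Type u) [CommRing A] [IsLocalRing A] [CommRing B] [Algebra A B]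
  [Algebra.IsIntegral A B] (m : Ideal B) [hm : m.IsMaximal]
  (Ω : Type u) [Field Ω] [IsAlgClosed Ω] [Algebra (ResidueField A) Ω]

lemma comap_eq : m.comap (algebraMap A B) = maximalIdeal A := by
  haveI : (m.comap (algebraMap A B)).IsMaximal :=
    Ideal.isMaximal_comap_of_isIntegral_of_isMaximal m
  exact IsLocalRing.eq_maximalIdeal this

/-- The residue field of `A` maps to the residue field of `B` at `m`. -/
noncomputable def resToQuot : ResidueField A →+* B ⧸ m :=
  Ideal.Quotient.lift (maximalIdeal A) ((Ideal.Quotient.mk m).comp (algebraMap A B))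
    (fun a ha => by
      rw [RingHom.comp_apply, Ideal.Quotient.eq_zero_iff_mem, ← Ideal.mem_comap, comap_eq]
      exact ha)

/-- The residue field of `B` at `m` is purely inseparable over that of `A` (in the elementwise
form) iff there is at most one embedding over `κ(A)` into the algebraically closed field `Ω`;
and there is always at least one. -/
theorem subsingleton_emb_iff_and_nonempty (r : A →+* B ⧸ m)
    (hr : r = (Ideal.Quotient.mk m).comp (algebraMap A B)) (c : A →+* Ω)
    (hc : c = (algebraMap (ResidueField A) Ω).comp (residue A)) :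
    ((∀ x : B ⧸ m, ∃ n : ℕ, x ^ (ringExpChar (B ⧸ m)) ^ n ∈ r.range) ↔
      Subsingleton {σ : B ⧸ m →+* Ω // σ.comp r = c}) ∧
      Nonempty {σ : B ⧸ m →+* Ω // σ.comp r = c} := by
  subst hr hc
  letI : Field (B ⧸ m) := Ideal.Quotient.field m
  letI : Algebra (ResidueField A) (B ⧸ m) := (resToQuot A B m).toAlgebra
  haveI halg : Algebra.IsAlgebraic (ResidueField A) (B ⧸ m) := by
    refine ⟨fun x => ?_⟩
    obtain ⟨b, rfl⟩ := Ideal.Quotient.mk_surjective x
    obtain ⟨p, hp, hpb⟩ := Algebra.IsIntegral.isIntegral (R := A) b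
    refine IsIntegral.isAlgebraic ⟨p.map (residue A), hp.map _, ?_⟩
    rw [Polynomial.eval₂_map]
    have : (algebraMap (ResidueField A) (B ⧸ m)).comp (residue A) =
        (Ideal.Quotient.mk m).comp (algebraMap A B) := rfl
    rw [this, ← Polynomial.hom_eval₂, hpb, map_zero]
  haveI : ExpChar (ResidueField A) (ringExpChar (B ⧸ m)) :=
    RingHom.expChar (algebraMap (ResidueField A) (B ⧸ m))
      (RingHom.injective (algebraMap (ResidueField A) (B ⧸ m))) _
  have hrange : ((Ideal.Quotient.mk m).comp (algebraMap A B)).range =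
      (algebraMap (ResidueField A) (B ⧸ m)).range := by
    ext y
    constructor
    · rintro ⟨a, rfl⟩
      exact ⟨residue A a, rfl⟩
    · rintro ⟨r, rfl⟩
      obtain ⟨a, rfl⟩ := residue_surjective r
      exact ⟨a, rfl⟩
  let e : ((B ⧸ m) →ₐ[ResidueField A] Ω) ≃
      {σ : B ⧸ m →+* Ω // σ.comp ((Ideal.Quotient.mk m).comp (algebraMap A B)) =
        (algebraMap (ResidueField A) Ω).comp (residue A)} :=
    { toFun := fun σ => ⟨σ.toRingHom, by
        ext a
        exact σ.commutes (residue A a)⟩
      invFun := fun σ =>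
        { σ.1 with
          commutes' := fun r => by
            obtain ⟨a, rfl⟩ := residue_surjective r
            exact RingHom.congr_fun σ.2 a }
      left_inv := fun σ => by ext; rfl
      right_inv := fun σ => by ext; rfl }
  have hne : Nonempty ((B ⧸ m) →ₐ[ResidueField A] Ω) := ⟨IsAlgClosed.lift⟩
  refine ⟨?_, ⟨e hne.some⟩⟩
  rw [hrange, ← isPurelyInseparable_iff_pow_mem (ResidueField A) (ringExpChar (B ⧸ m)),
    isPurelyInseparable_iff_finSepDegree_eq_one,
    Field.finSepDegree_eq_of_isAlgClosed (ResidueField A) (B ⧸ m) Ω, Nat.card_congr e,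
    Nat.card_eq_one_iff_unique]
  constructor
  · exact fun h => h.1
  · intro h
    exact ⟨h, ⟨e hne.some⟩⟩

end Field

/-- Counting: a sigma type over a finite type with nonempty fibres has the same cardinality as
the base iff all fibres are subsingletons. -/
theorem card_sigma_eq_iff {α : Type*} (β : α → Type*) [Finite α] (hne : ∀ a, Nonempty (β a)) :
    ENat.card α = ENat.card (Σ a, β a) ↔ ∀ a, Subsingleton (β a) := by
  classical
  constructor
  · intro h a
    have hfin : Finite (Σ a, β a) := by
      rw [← ENat.card_lt_top, ← h]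
      exact ENat.card_lt_top_of_finite
    have hsurj : Function.Surjective (Sigma.fst : (Σ a, β a) → α) := by
      intro a
      obtain ⟨b⟩ := hne a
      exact ⟨⟨a, b⟩, rfl⟩
    have hcard : Nat.card (Σ a, β a) ≤ Nat.card α := by
      have h1 : (Nat.card α : ℕ∞) = Nat.card (Σ a, β a) := by
        haveI := Fintype.ofFinite α
        haveI := Fintype.ofFinite (Σ a, β a)
        rw [Nat.card_eq_fintype_card, Nat.card_eq_fintype_card,
          ← ENat.card_eq_coe_fintype_card, ← ENat.card_eq_coe_fintype_card]
        exact h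
      exact (Nat.cast_inj.mp h1).ge
    have hbij := hsurj.bijective_of_nat_card_le hcard
    refine ⟨fun b₁ b₂ => ?_⟩
    have := hbij.1 (a₁ := ⟨a, b₁⟩) (a₂ := ⟨a, b₂⟩) rfl
    exact eq_of_heq (Sigma.mk.inj_iff.mp this).2
  · intro h
    haveI : ∀ a, Unique (β a) := fun a =>
      haveI := h a
      uniqueOfSubsingleton (hne a).some
    exact ENat.card_congr (Equiv.sigmaUnique α β).symm

/-- Transfer of the purely-inseparable-residue-fields condition along a ring isomorphism. -/
theorem pow_mem_range_transfer {A B B' : Type*} [CommRing A] [CommRing B] [CommRing B']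
    (f : A →+* B) (f' : A →+* B') (Ψ : B ≃+* B') (hΨ : ∀ a, Ψ (f a) = f' a)
    (h : ∀ (M : Ideal B) [M.IsMaximal], ∀ x : B ⧸ M, ∃ n : ℕ,
      x ^ (ringExpChar (B ⧸ M)) ^ n ∈ ((Ideal.Quotient.mk M).comp f).range)
    (M' : Ideal B') [hM' : M'.IsMaximal] (y : B' ⧸ M') :
    ∃ n : ℕ, y ^ (ringExpChar (B' ⧸ M')) ^ n ∈ ((Ideal.Quotient.mk M').comp f').range := by
  let M : Ideal B := M'.comap Ψ
  haveI : M.IsMaximal := Ideal.comap_isMaximal_of_equiv Ψ
  have hMM' : M' = M.map (Ψ : B →+* B') :=
    (Ideal.map_comap_of_surjective (Ψ : B →+* B') Ψ.surjective M').symm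
  let ψ : B ⧸ M ≃+* B' ⧸ M' := Ideal.quotientEquiv M M' Ψ hMM'
  have hq : ringExpChar (B' ⧸ M') = ringExpChar (B ⧸ M) := by
    haveI : ExpChar (B' ⧸ M') (ringExpChar (B ⧸ M)) :=
      expChar_of_injective_ringHom (f := (ψ : B ⧸ M →+* B' ⧸ M')) ψ.injective _
    exact ringExpChar.eq _ _
  obtain ⟨n, a, ha⟩ := h M (ψ.symm y)
  refine ⟨n, a, ?_⟩
  rw [hq]
  have h1 : ψ ((Ideal.Quotient.mk M).comp f a) = (Ideal.Quotient.mk M').comp f' a := by
    change ψ (Ideal.Quotient.mk M (f a)) = Ideal.Quotient.mk M' (f' a)
    rw [Ideal.quotientEquiv_mk, hΨ]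
  rw [← h1, ha, map_pow, RingEquiv.apply_symm_apply]

end PIEmb

namespace NormBridge

/-- Transport of the normalization (integral closure in the total ring of fractions) along a
ring isomorphism. -/
theorem exists_integralClosure_equiv {A R : Type*} [CommRing A] [CommRing R] (e0 : A ≃+* R) :
    ∃ ψ : integralClosure A (FractionRing A) ≃+* integralClosure R (FractionRing R),
      ∀ a : A, ψ (algebraMap A _ a) = algebraMap R _ (e0 a) := by
  let E : FractionRing A ≃+* FractionRing R := IsFractionRing.ringEquivOfRingEquiv e0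
  have hE : ∀ a : A, E (algebraMap A _ a) = algebraMap R _ (e0 a) :=
    IsFractionRing.ringEquivOfRingEquiv_algebraMap e0
  have hEs : ∀ r : R, E.symm (algebraMap R _ r) = algebraMap A _ (e0.symm r) := by
    intro r
    rw [RingEquiv.symm_apply_eq, hE, RingEquiv.apply_symm_apply]
  have h1 : ∀ x : FractionRing A, IsIntegral A x → IsIntegral R (E x) := by
    intro x hx
    refine IsIntegral.map_of_comp_eq (e0 : A →+* R) (E : FractionRing A →+* FractionRing R) ?_ hx
    ext a
    simp [hE]
  have h2 : ∀ y : FractionRing R, IsIntegral R y → IsIntegral A (E.symm y) := by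
    intro y hy
    refine IsIntegral.map_of_comp_eq (e0.symm : R →+* A)
      (E.symm : FractionRing R →+* FractionRing A) ?_ hy
    ext r
    simp [hEs]
  let ψ : integralClosure A (FractionRing A) ≃+* integralClosure R (FractionRing R) :=
    { toFun := fun x => ⟨E x.1, h1 x.1 x.2⟩
      invFun := fun y => ⟨E.symm y.1, h2 y.1 y.2⟩
      left_inv := fun x => by ext; simp
      right_inv := fun y => by ext; simp
      map_mul' := by intro x y; ext; simp
      map_add' := by intro x y; ext; simp }
  refine ⟨ψ, ?_⟩
  intro a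
  ext
  exact hE a

/-- For a reduced ring, the integral closure in the total ring of fractions is `CAlg2.normRed`,
compatibly with the maps from `A`. -/
theorem exists_equiv_normRed (A : Type u) [CommRing A] [IsReduced A] :
    ∃ ψ : integralClosure A (FractionRing A) ≃+* CAlg2.normRed A,
      ∀ a : A, ψ (algebraMap A _ a) =
        algebraMap (CAlg2.red A) (CAlg2.normRed A) (Ideal.Quotient.mk (nilradical A) a) := by
  have hbij : Function.Bijective (Ideal.Quotient.mk (nilradical A)) := by
    refine ⟨?_, Ideal.Quotient.mk_surjective⟩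
    rw [injective_iff_map_eq_zero]
    intro a ha
    rw [Ideal.Quotient.eq_zero_iff_mem, nilradical_eq_zero] at ha
    exact ha
  exact exists_integralClosure_equiv (RingEquiv.ofBijective (Ideal.Quotient.mk (nilradical A)) hbij)

end NormBridge

end Groth.Agent.Lib.Helper37.Hz
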