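import Groth.Agent.Lib.Helper37.Hz74

/-!
# Henselization project, part 75: localizations of a strict henselization and connectedness of
the punctured spectrum.
-/

set_option autoImplicit false
universe u

open TensorProduct IsLocalRing Groth.Agent.Lib.Helper4

namespace Groth.Agent.Lib.Helper37.Hz

namespace PunctConn

section A1

variable (A Ash : Type u) [CommRing A] [IsLocalRing A] [CommRing Ash] [IsLocalRing Ash]
  [Algebra A Ash] [IsLocalHom (algebraMap A Ash)] [hsh : Hensel.IsStrictHenselization A Ash]
  (Q : Ideal Ash) [Q.IsPrime]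
  (T : Type u) [CommRing T] [IsLocalRing T] [Algebra (Localization.AtPrime Q) T]
  [IsLocalHom (algebraMap (Localization.AtPrime Q) T)]
  [hT : Hensel.IsStrictHenselization (Localization.AtPrime Q) T]

include hsh hT in
/-- A strict henselization of the localization of `A^sh` at a prime `Q` is a strict henselization
of the localization of `A` at the contraction of `Q`. -/
theorem exists_isStrictHenselization_comap :
    ∃ (_ : Algebra (Localization.AtPrime (Q.comap (algebraMap A Ash))) T)
      (_ : IsLocalHom (algebraMap (Localization.AtPrime (Q.comap (algebraMap A Ash))) T)),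
      Hensel.IsStrictHenselization (Localization.AtPrime (Q.comap (algebraMap A Ash))) T := by
  letI algAshT : Algebra Ash T := ((algebraMap (Localization.AtPrime Q) T).comp
    (algebraMap Ash (Localization.AtPrime Q))).toAlgebra
  haveI : IsScalarTower Ash (Localization.AtPrime Q) T :=
    IsScalarTower.of_algebraMap_eq (fun _ => rfl)
  letI algAT : Algebra A T := ((algebraMap Ash T).comp (algebraMap A Ash)).toAlgebra
  haveI : IsScalarTower A Ash T := IsScalarTower.of_algebraMap_eq (fun _ => rfl)
  have hAshT : HasFactorization (etaleClass Ash) T :=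
    SmoothBr.hasFactorization_of_isStrictHenselization_atPrime Ash Q T
  have hAAsh : EtPBC.IsIndEtale A Ash := isIndEtale_of_isStrictHenselization A Ash
  have hAT : HasFactorization (etaleClass A) T := hasFactorization_trans A Ash T hAAsh hAshT
  have hunit : ∀ a : (Q.comap (algebraMap A Ash)).primeCompl, IsUnit (algebraMap A T a) := by
    intro a
    have h1 : algebraMap A Ash a ∈ Q.primeCompl := a.2
    have h2 : IsUnit (algebraMap Ash (Localization.AtPrime Q) (algebraMap A Ash a)) :=
      IsLocalization.map_units _ (⟨_, h1⟩ : Q.primeCompl)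
    exact h2.map (algebraMap (Localization.AtPrime Q) T)
  let f : Localization.AtPrime (Q.comap (algebraMap A Ash)) →+* T :=
    IsLocalization.lift (M := (Q.comap (algebraMap A Ash)).primeCompl) hunit
  letI algqT : Algebra (Localization.AtPrime (Q.comap (algebraMap A Ash))) T := f.toAlgebra
  haveI : IsScalarTower A (Localization.AtPrime (Q.comap (algebraMap A Ash))) T :=
    IsScalarTower.of_algebraMap_eq (fun a => (IsLocalization.lift_eq hunit a).symm)
  have hqT : HasFactorization (etaleClass (Localization.AtPrime (Q.comap (algebraMap A Ash)))) T :=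
    SmoothBr.hasFactorization_of_isLocalization_base A (Q.comap (algebraMap A Ash)).primeCompl
      (Localization.AtPrime (Q.comap (algebraMap A Ash))) T hAT
  haveI hloc : IsLocalHom (algebraMap (Localization.AtPrime (Q.comap (algebraMap A Ash))) T) := by
    refine isLocalHom_of_atPrime (Q.comap (algebraMap A Ash)) f (fun r hr => ?_)
    have h1 : f (algebraMap A _ r) = algebraMap (Localization.AtPrime Q) T
        (algebraMap Ash (Localization.AtPrime Q) (algebraMap A Ash r)) :=
      IsLocalization.lift_eq hunit r
    rw [h1]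
    have h2 : algebraMap Ash (Localization.AtPrime Q) (algebraMap A Ash r) ∈
        maximalIdeal (Localization.AtPrime Q) :=
      (IsLocalization.AtPrime.to_map_mem_maximal_iff (Localization.AtPrime Q) Q _).mpr hr
    exact map_nonunit (algebraMap (Localization.AtPrime Q) T) _ h2
  have hsep : Algebra.IsSeparable
      (ResidueField (Localization.AtPrime (Q.comap (algebraMap A Ash)))) (ResidueField T) :=
    isSeparable_residueField_of_hasFactorization _ T hqT
  have hsc : IsSepClosed (ResidueField T) := hT.isSepClosure.sep_closed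
  exact ⟨algqT, hloc, isStrictHenselization_of_hasFactorization _ T hqT hT.henselian ⟨hsc, hsep⟩⟩

include hsh in
/-- If `A_q` is geometrically unibranch, `q` the contraction of the prime `Q` of `A^sh`, then
`(A^sh)_Q` has a unique minimal prime. -/
theorem nilradical_isPrime_localization
    (h : CAlg2.IsGeomUnibranch (Localization.AtPrime (Q.comap (algebraMap A Ash)))) :
    (nilradical (Localization.AtPrime Q)).IsPrime := by
  obtain ⟨alg, hloc, hst⟩ :=
    exists_isStrictHenselization_comap A Ash Q (SHens (Localization.AtPrime Q))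
  have hnil : (nilradical (SHens (Localization.AtPrime Q))).IsPrime :=
    (Unibranch.isGeomUnibranch_iff_nilradical_isPrime _ (SHens (Localization.AtPrime Q))).mp h
  haveI : Module.FaithfullyFlat (Localization.AtPrime Q) (SHens (Localization.AtPrime Q)) :=
    faithfullyFlat_of_isStrictHenselization _ _
  have hinj : Function.Injective
      (algebraMap (Localization.AtPrime Q) (SHens (Localization.AtPrime Q))) :=
    FaithfulSMul.algebraMap_injective _ _
  have heq : nilradical (Localization.AtPrime Q) =
      (nilradical (SHens (Localization.AtPrime Q))).comap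
        (algebraMap (Localization.AtPrime Q) (SHens (Localization.AtPrime Q))) := by
    ext x
    rw [Ideal.mem_comap, mem_nilradical, mem_nilradical]
    exact (IsNilpotent.map_iff hinj).symm
  rw [heq]
  exact Ideal.comap_isPrime _ _

end A1

section A3

/-- If the localization at `Q` has a unique minimal prime, there is only one minimal prime
below `Q`. -/
lemma eq_of_le_of_nilradical_isPrime {S : Type*} [CommRing S] (Q : Ideal S) [Q.IsPrime]
    (h : (nilradical (Localization.AtPrime Q)).IsPrime) {P₁ P₂ : Ideal S}
    (h1 : P₁ ∈ minimalPrimes S) (h2 : P₂ ∈ minimalPrimes S) (h1Q : P₁ ≤ Q) (h2Q : P₂ ≤ Q) :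
    P₁ = P₂ := by
  haveI : ((nilradical (Localization.AtPrime Q)).comap
      (algebraMap S (Localization.AtPrime Q))).IsPrime := Ideal.comap_isPrime _ _
  have key : ∀ P ∈ minimalPrimes S, P ≤ Q → P = (nilradical (Localization.AtPrime Q)).comap
      (algebraMap S (Localization.AtPrime Q)) := by
    intro P hP hPQ
    haveI hPp : P.IsPrime := hP.1.1
    have hle : (nilradical (Localization.AtPrime Q)).comap
        (algebraMap S (Localization.AtPrime Q)) ≤ P := by
      intro x hx
      obtain ⟨n, hn⟩ := (mem_nilradical.mp (Ideal.mem_comap.mp hx))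
      rw [← map_pow, IsLocalization.map_eq_zero_iff Q.primeCompl] at hn
      obtain ⟨s, hs⟩ := hn
      have h3 : (s : S) * x ^ n ∈ P := by
        rw [hs]
        exact P.zero_mem
      rcases hPp.mem_or_mem h3 with h4 | h4
      · exact absurd (hPQ h4) s.2
      · exact hPp.mem_of_pow_mem n h4
    exact le_antisymm (hP.2 ⟨inferInstance, bot_le⟩ hle) hle
  rw [key P₁ h1 h1Q, key P₂ h2 h2Q]

variable (A Ash : Type u) [CommRing A] [IsLocalRing A] [CommRing Ash] [IsLocalRing Ash]
  [Algebra A Ash] [IsLocalHom (algebraMap A Ash)] [hsh : Hensel.IsStrictHenselization A Ash]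

include hsh in
/-- A non-maximal prime of `A^sh` contracts to a non-maximal prime. -/
lemma comap_ne_maximalIdeal (Q : Ideal Ash) [hQp : Q.IsPrime] (hQ : Q ≠ maximalIdeal Ash) :
    Q.comap (algebraMap A Ash) ≠ maximalIdeal A := by
  intro h
  apply hQ
  have h1 : (maximalIdeal A).map (algebraMap A Ash) ≤ Q := by
    rw [← h]
    exact Ideal.map_comap_le
  rw [map_maximalIdeal_of_isStrictHenselization A Ash] at h1
  exact ((maximalIdeal.isMaximal Ash).eq_of_le hQp.ne_top h1).symm

include hsh in
/-- Minimal primes of `A^sh` are not maximal unless the maximal ideal of `A` is minimal. -/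
lemma ne_maximalIdeal_of_mem_minimalPrimes (hm : maximalIdeal A ∉ minimalPrimes A)
    {P : Ideal Ash} (hP : P ∈ minimalPrimes Ash) : P ≠ maximalIdeal Ash := by
  haveI : Module.FaithfullyFlat A Ash := faithfullyFlat_of_isStrictHenselization A Ash
  haveI : Module.Flat A Ash := Module.FaithfullyFlat.toFlat
  intro hPm
  have hq : P.comap (algebraMap A Ash) ∈ minimalPrimes A :=
    comap_mem_minimalPrimes_of_hasGoingDown (A := A) hP
  have h4' : IsLocalHom (algebraMap A Ash) ↔
      (maximalIdeal Ash).comap (algebraMap A Ash) = maximalIdeal A :=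
    (local_hom_TFAE (algebraMap A Ash)).out 0 4
  have h4 : (maximalIdeal Ash).comap (algebraMap A Ash) = maximalIdeal A :=
    h4'.mp inferInstance
  rw [hPm, h4] at hq
  exact hm hq

include hsh in
/-- Let `A` be a Noetherian local ring all of whose localizations at non-maximal primes are
geometrically unibranch, and assume that (if `dim A > 0`) the punctured spectrum of `A^sh` is
connected. Then `A^sh` has a unique minimal prime. -/
theorem nilradical_isPrime_of_isPreconnected [IsNoetherianRing A]
    (h1 : ∀ (q : Ideal A) [q.IsPrime], q ≠ maximalIdeal A →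
      CAlg2.IsGeomUnibranch (Localization.AtPrime q))
    (h2 : maximalIdeal A ∉ minimalPrimes A →
      IsPreconnected ({closedPoint Ash}ᶜ : Set (PrimeSpectrum Ash))) :
    (nilradical Ash).IsPrime := by
  classical
  haveI : IsNoetherianRing Ash :=
    (isNoetherianRing_iff_of_isStrictHenselization A Ash).mp inferInstance
  rw [Unibranch.nilradical_isPrime_iff]
  obtain ⟨P₁, hP₁, -⟩ := Ideal.exists_minimalPrimes_le (bot_le : (⊥ : Ideal Ash) ≤ maximalIdeal Ash)
  refine ⟨P₁, hP₁, fun P₂ hP₂ => ?_⟩
  by_contra hne
  by_cases hm : maximalIdeal A ∈ minimalPrimes A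
  · have key : ∀ P ∈ minimalPrimes Ash, P = maximalIdeal Ash := by
      intro P hP
      haveI hPp : P.IsPrime := hP.1.1
      by_contra hPne
      have hq := comap_ne_maximalIdeal A Ash P hPne
      have hle : P.comap (algebraMap A Ash) ≤ maximalIdeal A :=
        le_maximalIdeal (Ideal.IsPrime.ne_top inferInstance)
      exact hq (le_antisymm hle (hm.2 ⟨inferInstance, bot_le⟩ hle))
    exact hne ((key P₂ hP₂).trans (key P₁ hP₁).symm)
  · have hU := h2 hm
    rw [isPreconnected_closed_iff] at hU
    have hfin : (minimalPrimes Ash \ {P₁}).Finite :=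
      (minimalPrimes.finite_of_isNoetherianRing Ash).subset Set.sdiff_subset
    have ht : IsClosed (PrimeSpectrum.zeroLocus (P₁ : Set Ash)) :=
      PrimeSpectrum.isClosed_zeroLocus _
    have ht' : IsClosed (⋃ P ∈ (minimalPrimes Ash \ {P₁}),
        PrimeSpectrum.zeroLocus ((P : Ideal Ash) : Set Ash)) :=
      hfin.isClosed_biUnion (fun P _ => PrimeSpectrum.isClosed_zeroLocus _)
    have hcov : ({closedPoint Ash}ᶜ : Set (PrimeSpectrum Ash)) ⊆
        PrimeSpectrum.zeroLocus (P₁ : Set Ash) ∪ ⋃ P ∈ (minimalPrimes Ash \ {P₁}),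
          PrimeSpectrum.zeroLocus ((P : Ideal Ash) : Set Ash) := by
      intro x _
      obtain ⟨P, hP, hPx⟩ := Ideal.exists_minimalPrimes_le (bot_le : (⊥ : Ideal Ash) ≤ x.asIdeal)
      by_cases hPP : P = P₁
      · left
        rw [← hPP]
        exact hPx
      · right
        exact Set.mem_biUnion (⟨hP, hPP⟩ : P ∈ minimalPrimes Ash \ {P₁}) hPx
    have hne1 : (({closedPoint Ash}ᶜ : Set (PrimeSpectrum Ash)) ∩
        PrimeSpectrum.zeroLocus (P₁ : Set Ash)).Nonempty := by
      refine ⟨⟨P₁, hP₁.1.1⟩, ?_, ?_⟩
      · intro h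
        exact ne_maximalIdeal_of_mem_minimalPrimes A Ash hm hP₁ (congrArg PrimeSpectrum.asIdeal h)
      · exact fun a ha => ha
    have hne2 : (({closedPoint Ash}ᶜ : Set (PrimeSpectrum Ash)) ∩
        ⋃ P ∈ (minimalPrimes Ash \ {P₁}),
          PrimeSpectrum.zeroLocus ((P : Ideal Ash) : Set Ash)).Nonempty := by
      refine ⟨⟨P₂, hP₂.1.1⟩, ?_, ?_⟩
      · intro h
        exact ne_maximalIdeal_of_mem_minimalPrimes A Ash hm hP₂ (congrArg PrimeSpectrum.asIdeal h)
      · exact Set.mem_biUnion (⟨hP₂, fun h => hne h⟩ : P₂ ∈ minimalPrimes Ash \ {P₁})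
          (fun a ha => ha)
    obtain ⟨x, hxU, hxt, hxt'⟩ := hU _ _ ht ht' hcov hne1 hne2
    obtain ⟨P', ⟨hP', hP'ne⟩, hxP'⟩ := Set.mem_iUnion₂.mp hxt'
    have hQne : x.asIdeal ≠ maximalIdeal Ash := fun h => hxU (PrimeSpectrum.ext h)
    have hq := comap_ne_maximalIdeal A Ash x.asIdeal hQne
    have hgu := h1 _ hq
    have hnil := nilradical_isPrime_localization A Ash x.asIdeal hgu
    exact hP'ne (eq_of_le_of_nilradical_isPrime x.asIdeal hnil hP' hP₁ hxP' hxt)

include hsh in
/-- If `A^sh` has a unique minimal prime and `dim A > 0`, then the punctured spectrum of `A^sh`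
is connected. -/
theorem connectedSpace_of_nilradical_isPrime (h : (nilradical Ash).IsPrime)
    (hm : maximalIdeal A ∉ minimalPrimes A) :
    ConnectedSpace ↥({closedPoint Ash}ᶜ : Set (PrimeSpectrum Ash)) := by
  rw [← isConnected_iff_connectedSpace]
  have hNmin : nilradical Ash ∈ minimalPrimes Ash :=
    ⟨⟨h, bot_le⟩, fun q hq _ => nilradical_le_prime q (H := hq.1)⟩
  have hN : (⟨nilradical Ash, h⟩ : PrimeSpectrum Ash) ∈
      ({closedPoint Ash}ᶜ : Set (PrimeSpectrum Ash)) := by
    intro h'
    exact ne_maximalIdeal_of_mem_minimalPrimes A Ash hm hNmin (congrArg PrimeSpectrum.asIdeal h')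
  refine ⟨⟨_, hN⟩, ?_⟩
  refine (isPreconnected_singleton (x := (⟨nilradical Ash, h⟩ : PrimeSpectrum Ash))).subset_closure
    (Set.singleton_subset_iff.mpr hN) ?_
  intro x _
  rw [← PrimeSpectrum.zeroLocus_vanishingIdeal_eq_closure, PrimeSpectrum.vanishingIdeal_singleton,
    PrimeSpectrum.mem_zeroLocus]
  exact nilradical_le_prime x.asIdeal

end A3

end PunctConn

end Groth.Agent.Lib.Helper37.Hz
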