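import Groth.Agent.Lib.Helper37.Hz76
import Groth.Agent.Lib.Helper90.SHensIncomp

/-!
# Henselization project, part 77: intermediate local rings `A → D → A^sh`.

When is `A^sh` a strict henselization of `D`?
-/

set_option autoImplicit false
universe u

open TensorProduct IsLocalRing Groth.Agent.Lib.Helper4

namespace Groth.Agent.Lib.Helper37.Hz

namespace FinSub

section Inj

/-- Let `D` be a reduced local ring with strict henselization `SD`, such that `D` and `SD` have
the same (finite) number of minimal primes, and let `g : SD → S` be a `D`-algebra map with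
`D → S` injective.  Then `g` is injective. -/
theorem injective_of_card_eq (D S SD : Type u) [CommRing D] [IsLocalRing D] [IsReduced D]
    [CommRing S] [Algebra D S] (hinj : Function.Injective (algebraMap D S))
    [CommRing SD] [IsLocalRing SD] [Algebra D SD] [IsLocalHom (algebraMap D SD)]
    [hSD : Hensel.IsStrictHenselization D SD] (g : SD →ₐ[D] S)
    (hfin : (minimalPrimes SD).Finite)
    (hcard : ENat.card (minimalPrimes D) = ENat.card (minimalPrimes SD)) :
    Function.Injective g := by
  classical
  haveI : Module.FaithfullyFlat D SD := faithfullyFlat_of_isStrictHenselization D SD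
  haveI : Module.Flat D SD := Module.FaithfullyFlat.toFlat
  haveI : IsReduced SD := (isReduced_iff_of_isStrictHenselization D SD).mp inferInstance
  let F : minimalPrimes SD → minimalPrimes D := fun Q =>
    ⟨(Q : Ideal SD).comap (algebraMap D SD), comap_mem_minimalPrimes_of_hasGoingDown (A := D) Q.2⟩
  have hFsurj : Function.Surjective F := fun q => by
    obtain ⟨Q, hQ, hQq⟩ := exists_minimalPrimes_comap_eq_of_faithfullyFlat (B := SD) q.2
    exact ⟨⟨Q, hQ⟩, Subtype.ext hQq⟩
  haveI : Finite (minimalPrimes SD) := hfin.to_subtype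
  haveI : Finite (minimalPrimes D) := Finite.of_surjective F hFsurj
  have hFinj : Function.Injective F := by
    have hc : Nat.card (minimalPrimes SD) ≤ Nat.card (minimalPrimes D) := by
      have h1 : (Nat.card (minimalPrimes D) : ℕ∞) = Nat.card (minimalPrimes SD) := by
        haveI := Fintype.ofFinite (minimalPrimes D)
        haveI := Fintype.ofFinite (minimalPrimes SD)
        rw [Nat.card_eq_fintype_card, Nat.card_eq_fintype_card,
          ← ENat.card_eq_coe_fintype_card, ← ENat.card_eq_coe_fintype_card]
        exact hcard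
      exact (Nat.cast_inj.mp h1).ge
    exact (hFsurj.bijective_of_nat_card_le hc).1
  rw [injective_iff_map_eq_zero]
  intro x hx
  by_contra hx0
  have hex : ∃ Q₀ ∈ minimalPrimes SD, x ∉ Q₀ := by
    by_contra hall
    push_neg at hall
    exact hx0 (TotNorm.eq_zero_of_forall_mem x hall)
  obtain ⟨Q₀, hQ₀, hxQ₀⟩ := hex
  have hq₀ : Q₀.comap (algebraMap D SD) ∈ minimalPrimes D :=
    comap_mem_minimalPrimes_of_hasGoingDown (A := D) hQ₀
  obtain ⟨P, hPprime, hPq⟩ :=
    Ideal.exists_comap_eq_of_mem_minimalPrimes_of_injective hinj _ hq₀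
  haveI := hPprime
  have hP'D : (P.comap g.toRingHom).comap (algebraMap D SD) = Q₀.comap (algebraMap D SD) := by
    rw [Ideal.comap_comap, ← hPq]
    congr 1
    exact g.comp_algebraMap
  have hxP' : x ∈ P.comap g.toRingHom := by
    change g x ∈ P
    rw [hx]
    exact P.zero_mem
  obtain ⟨Q₁, hQ₁, hQ₁le⟩ :=
    Ideal.exists_minimalPrimes_le (bot_le : (⊥ : Ideal SD) ≤ P.comap g.toRingHom)
  have hQ₁q : Q₁.comap (algebraMap D SD) = Q₀.comap (algebraMap D SD) := by
    have hle : Q₁.comap (algebraMap D SD) ≤ Q₀.comap (algebraMap D SD) := by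
      rw [← hP'D]
      exact Ideal.comap_mono hQ₁le
    have hmin : Q₁.comap (algebraMap D SD) ∈ minimalPrimes D :=
      comap_mem_minimalPrimes_of_hasGoingDown (A := D) hQ₁
    exact le_antisymm hle (hq₀.2 ⟨hmin.1.1, bot_le⟩ hle)
  have hQ₁₀ : Q₁ = Q₀ :=
    congrArg Subtype.val (hFinj (a₁ := ⟨Q₁, hQ₁⟩) (a₂ := ⟨Q₀, hQ₀⟩) (Subtype.ext hQ₁q))
  rw [hQ₁₀] at hQ₁le
  haveI := hQ₀.1.1
  have heq := Groth.Agent.Lib.Helper90.SHensIncomp.eq_of_le_of_comap_eq D SD Q₀
    (P.comap g.toRingHom) hQ₁le hP'D.symm
  exact hxQ₀ (heq ▸ hxP')

end Inj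

section Tower

variable (A D S : Type u) [CommRing A] [IsLocalRing A] [CommRing D] [IsLocalRing D]
  [CommRing S] [IsLocalRing S] [Algebra A D] [Algebra D S] [Algebra A S] [IsScalarTower A D S]
  [IsLocalHom (algebraMap A D)] [IsLocalHom (algebraMap D S)] [IsLocalHom (algebraMap A S)]
  [hS : Hensel.IsStrictHenselization A S]

include hS in
/-- The residue field of `A^sh` is a separable closure of the residue field of any intermediate
local ring. -/
theorem isSepClosure_of_tower : IsSepClosure (ResidueField D) (ResidueField S) := by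
  haveI := hS.isSepClosure
  haveI : IsSepClosed (ResidueField S) := IsSepClosure.sep_closed (ResidueField A)
  haveI : Algebra.IsSeparable (ResidueField A) (ResidueField S) := IsSepClosure.separable
  exact ⟨inferInstance, Algebra.isSeparable_tower_top_of_isSeparable (ResidueField A)
    (ResidueField D) (ResidueField S)⟩

include hS in
/-- The strict henselization of an intermediate local ring `D` surjects onto `A^sh`. -/
theorem exists_surjective_of_tower (SD : Type u) [CommRing SD] [IsLocalRing SD] [Algebra D SD]
    [IsLocalHom (algebraMap D SD)] [hSD : Hensel.IsStrictHenselization D SD] :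
    ∃ g : SD →ₐ[D] S, Function.Surjective g := by
  haveI hsc := isSepClosure_of_tower A D S
  haveI := hSD.isSepClosure
  haveI : HenselianLocalRing S := hS.henselian
  haveI : HenselianLocalRing SD := hSD.henselian
  let σ : ResidueField SD ≃ₐ[ResidueField D] ResidueField S :=
    IsSepClosure.equiv (ResidueField D) (ResidueField SD) (ResidueField S)
  have hσ : (σ : ResidueField SD →+* ResidueField S).comp
      (ResidueField.map (algebraMap D SD)) = ResidueField.map (algebraMap D S) := by
    ext x
    exact σ.commutes x
  obtain ⟨g, ⟨hg1, hg2⟩, -⟩ := hSD.universal S (algebraMap D S) (σ : _ →+* _) hσ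
  haveI hfloc : IsLocalHom ((algebraMap D SD).comp (algebraMap A D)) :=
    RingHom.isLocalHom_comp _ _
  have hσ' : (σ.symm : ResidueField S →+* ResidueField SD).comp
      (ResidueField.map (algebraMap A S)) =
        ResidueField.map ((algebraMap D SD).comp (algebraMap A D)) := by
    ext x
    obtain ⟨a, rfl⟩ := residue_surjective x
    have h1 := RingHom.congr_fun hσ (residue D (algebraMap A D a))
    simp only [RingHom.comp_apply, ResidueField.map_residue] at h1 ⊢
    rw [IsScalarTower.algebraMap_apply A D S a, ← h1]
    exact σ.symm_apply_apply _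
  obtain ⟨h, ⟨hh1, hh2⟩, -⟩ := hS.universal SD ((algebraMap D SD).comp (algebraMap A D))
    (σ.symm : _ →+* _) hσ'
  have hid : g.comp h = RingHom.id S := by
    obtain ⟨k, -, hk⟩ := hS.universal S (algebraMap A S) (RingHom.id _) (by
      ext x
      obtain ⟨a, rfl⟩ := residue_surjective x
      rfl)
    have e1 : g.comp h = k := hk _ ⟨by
      rw [RingHom.comp_assoc, hh1, ← RingHom.comp_assoc, hg1, ← IsScalarTower.algebraMap_eq],
      fun x => by
        simp only [RingHom.comp_apply, RingHom.id_apply]
        rw [hg2, hh2]
        exact σ.apply_symm_apply _⟩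
    have e2 : RingHom.id S = k := hk _ ⟨RingHom.id_comp _, fun x => rfl⟩
    rw [e1, e2]
  exact ⟨{ toRingHom := g, commutes' := fun d => RingHom.congr_fun hg1 d },
    fun s => ⟨h s, RingHom.congr_fun hid s⟩⟩

include hS in
/-- If the reduced Noetherian local ring `D`, intermediate between `A` and `A^sh` (with `D → A^sh`
injective), has as many minimal primes as its strict henselization, then `A^sh` is a strict
henselization of `D`. -/
theorem isStrictHenselization_of_card_eq [IsReduced D] [IsNoetherianRing D]
    (hinj : Function.Injective (algebraMap D S))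
    (hcard : ENat.card (minimalPrimes D) = ENat.card (minimalPrimes (SHens D))) :
    Hensel.IsStrictHenselization D S := by
  haveI : IsNoetherianRing (SHens D) :=
    (isNoetherianRing_iff_of_isStrictHenselization D (SHens D)).mp inferInstance
  obtain ⟨g, hg⟩ := exists_surjective_of_tower A D S (SHens D)
  have hgi : Function.Injective g := injective_of_card_eq D S (SHens D) hinj g
    (minimalPrimes.finite_of_isNoetherianRing _) hcard
  have h1 : EtPBC.IsIndEtale D S :=
    isIndEtale_of_algEquiv (R := D) (Ω := SepCl D) (AlgEquiv.ofBijective g ⟨hgi, hg⟩).symm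
  exact isStrictHenselization_of_hasFactorization D S
    ((isIndEtale_iff_hasFactorization S).mp h1) hS.henselian (isSepClosure_of_tower A D S)

end Tower

end FinSub

end Groth.Agent.Lib.Helper37.Hz
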