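import Groth.Agent.Lib.Helper37.Hz77

/-!
# Henselization project, part 78: translation between the elementwise purely inseparable
condition and "the image is separably closed in the residue field".
-/

set_option autoImplicit false
universe u

open IsLocalRing Polynomial

namespace Groth.Agent.Lib.Helper37.Hz

namespace PIEmb

/-- Let `K₁` be a ring isomorphic (via `φ`) to a field `L`, `r : D → K₁` a ring map whose range
is closed under inverses and over which `K₁` is integral.  Then every element of `K₁` has a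
`q^n`-th power in the range of `r` iff the subfield generated by the image of `D` is separably
closed in `L`. -/
theorem pow_mem_range_iff_separableClosure_eq_bot {D K₁ L : Type*} [CommRing D] [CommRing K₁]
    [Field L] (φ : K₁ →+* L) (hφ : Function.Bijective φ) (r : D →+* K₁)
    (hr : ∀ d, r d ≠ 0 → ∃ d', r d * r d' = 1)
    (halg : ∀ x : K₁, ∃ p : D[X], p.Monic ∧ eval₂ r x p = 0) :
    (∀ x : K₁, ∃ n : ℕ, x ^ (ringExpChar K₁) ^ n ∈ r.range) ↔
      separableClosure (Subfield.closure (Set.range (φ.comp r))) L = ⊥ := by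
  haveI : IsDomain K₁ := hφ.1.isDomain φ
  -- the range is a subfield
  let k₁ : Subfield L :=
    { (φ.comp r).range with
      inv_mem' := by
        rintro _ ⟨d, rfl⟩
        by_cases hd : r d = 0
        · refine ⟨0, ?_⟩
          simp [hd]
        · obtain ⟨d', hd'⟩ := hr d hd
          refine ⟨d', ?_⟩
          have h1 : φ (r d) * φ (r d') = 1 := by rw [← map_mul, hd', map_one]
          exact (eq_inv_of_mul_eq_one_right h1) }
  have hk : Subfield.closure (Set.range (φ.comp r)) = k₁ := by
    apply le_antisymm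
    · rw [Subfield.closure_le]
      rintro _ ⟨d, rfl⟩
      exact ⟨d, rfl⟩
    · rintro _ ⟨d, rfl⟩
      exact Subfield.subset_closure ⟨d, rfl⟩
  have hmem : ∀ y : L, y ∈ Subfield.closure (Set.range (φ.comp r)) ↔ ∃ d, φ (r d) = y := by
    intro y
    rw [hk]
    exact Iff.rfl
  haveI halg' : Algebra.IsAlgebraic (Subfield.closure (Set.range (φ.comp r))) L := by
    refine ⟨fun y => ?_⟩
    obtain ⟨x, rfl⟩ := hφ.2 y
    obtain ⟨p, hp, hpx⟩ := halg x
    let ρ : D →+* Subfield.closure (Set.range (φ.comp r)) :=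
      (φ.comp r).codRestrict _ (fun d => Subfield.subset_closure ⟨d, rfl⟩)
    refine IsIntegral.isAlgebraic ⟨p.map ρ, hp.map _, ?_⟩
    rw [eval₂_map]
    have h1 : (algebraMap (Subfield.closure (Set.range (φ.comp r))) L).comp ρ = φ.comp r := by
      ext d
      rfl
    rw [h1, ← hom_eval₂, hpx, map_zero]
  haveI : ExpChar L (ringExpChar K₁) := expChar_of_injective_ringHom hφ.1 _
  haveI : ExpChar (Subfield.closure (Set.range (φ.comp r))) (ringExpChar K₁) :=
    RingHom.expChar (algebraMap (Subfield.closure (Set.range (φ.comp r))) L)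
      (RingHom.injective _) _
  rw [separableClosure.eq_bot_iff,
    isPurelyInseparable_iff_pow_mem (Subfield.closure (Set.range (φ.comp r))) (ringExpChar K₁)]
  have hrange : ∀ y : L, y ∈ (algebraMap (Subfield.closure (Set.range (φ.comp r))) L).range ↔
      ∃ d, φ (r d) = y := by
    intro y
    rw [← hmem]
    constructor
    · rintro ⟨z, rfl⟩
      exact z.2
    · intro hy
      exact ⟨⟨y, hy⟩, rfl⟩
  constructor
  · intro h y
    obtain ⟨x, rfl⟩ := hφ.2 y
    obtain ⟨n, d, hd⟩ := h x
    refine ⟨n, (hrange _).mpr ⟨d, ?_⟩⟩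
    rw [hd, map_pow]
  · intro h x
    obtain ⟨n, hn⟩ := h (φ x)
    obtain ⟨d, hd⟩ := (hrange _).mp hn
    refine ⟨n, d, hφ.1 ?_⟩
    rw [hd, map_pow]

/-- Variant with the composite ring map given separately. -/
theorem pow_mem_range_iff_separableClosure_eq_bot' {D K₁ L : Type*} [CommRing D] [CommRing K₁]
    [Field L] (φ : K₁ →+* L) (hφ : Function.Bijective φ) (r : D →+* K₁)
    (hr : ∀ d, r d ≠ 0 → ∃ d', r d * r d' = 1)
    (halg : ∀ x : K₁, ∃ p : D[X], p.Monic ∧ eval₂ r x p = 0)
    (c : D →+* L) (hc : ∀ d, c d = φ (r d)) :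
    (∀ x : K₁, ∃ n : ℕ, x ^ (ringExpChar K₁) ^ n ∈ r.range) ↔
      separableClosure (Subfield.closure (Set.range c)) L = ⊥ := by
  have hcc : c = φ.comp r := RingHom.ext hc
  subst hcc
  exact pow_mem_range_iff_separableClosure_eq_bot φ hφ r hr halg

end PIEmb

end Groth.Agent.Lib.Helper37.Hz
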