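import Groth.Agent.Lib.Helper37.Hz78
import Groth.Agent.Lib.Helper90.EssEtSub
import Groth.Agent.S0735

/-!
# Henselization project, part 79: finite subalgebras `D` of the strict henselization `S` of a
henselian local ring `A`.
-/

set_option autoImplicit false
universe u

open TensorProduct IsLocalRing Groth.Agent.Lib.Helper4

namespace Groth.Agent.Lib.Helper37.Hz

namespace FinSub

lemma eq_zero_or_eq_one_of_isIdempotentElem {S : Type*} [CommRing S] [IsLocalRing S] (e : S)
    (he : IsIdempotentElem e) : e = 0 ∨ e = 1 := by
  rcases IsLocalRing.isUnit_or_isUnit_one_sub_self e with h | h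
  · right
    have h1 : e * e = e * 1 := by rw [mul_one]; exact he.eq
    exact h.mul_left_cancel h1
  · left
    have h1 : (1 - e) * e = (1 - e) * 0 := by
      rw [mul_zero, sub_mul, one_mul, he.eq, sub_self]
    exact h.mul_left_cancel h1

section Sub

variable (A S : Type u) [CommRing A] [hA : HenselianLocalRing A] [CommRing S] [IsLocalRing S]
  [Algebra A S] [IsLocalHom (algebraMap A S)] (D : Subalgebra A S) [Module.Finite A D]

/-- A finite subalgebra of a local algebra over a henselian local ring is local. -/
theorem isLocalRing_sub : IsLocalRing D := by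
  obtain ⟨ι, _, B, _, hloc, ⟨e⟩⟩ := Groth.Agent.Lib.Helper37.exists_pi_isLocalRing_of_finite A D
  haveI := hloc
  refine Unibranch.isLocalRing_of_pi e (fun c hc => ?_)
  have hcS : IsIdempotentElem (c : S) := by
    have h1 := congrArg Subtype.val hc.eq
    exact h1
  rcases eq_zero_or_eq_one_of_isIdempotentElem (c : S) hcS with h | h
  · left
    exact Subtype.ext h
  · right
    exact Subtype.ext h

variable [hDloc : IsLocalRing D]

/-- The inclusion of a finite local subalgebra is local. -/
theorem isLocalHom_sub : IsLocalHom (algebraMap D S) := by
  have h4 : IsLocalHom (algebraMap D S) ↔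
      (maximalIdeal S).comap (algebraMap D S) = maximalIdeal D :=
    (local_hom_TFAE (algebraMap D S)).out 0 4
  rw [h4]
  haveI : Algebra.IsIntegral A D := Algebra.IsIntegral.of_finite A D
  have h4' : IsLocalHom (algebraMap A S) ↔
      (maximalIdeal S).comap (algebraMap A S) = maximalIdeal A :=
    (local_hom_TFAE (algebraMap A S)).out 0 4
  have hA4 : (maximalIdeal S).comap (algebraMap A S) = maximalIdeal A := h4'.mp inferInstance
  have hmax : (((maximalIdeal S).comap (algebraMap D S)).comap (algebraMap A D)).IsMaximal := by
    rw [Ideal.comap_comap, ← IsScalarTower.algebraMap_eq, hA4]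
    exact maximalIdeal.isMaximal A
  haveI : ((maximalIdeal S).comap (algebraMap D S)).IsMaximal :=
    Ideal.isMaximal_of_isIntegral_of_isMaximal_comap (R := A) _ hmax
  exact IsLocalRing.eq_maximalIdeal inferInstance

/-- The structure map of a finite local subalgebra is local. -/
theorem isLocalHom_base : IsLocalHom (algebraMap A D) := by
  haveI := isLocalHom_sub A S D
  constructor
  intro a ha
  have h1 : IsUnit (algebraMap D S (algebraMap A D a)) := ha.map _
  rw [← IsScalarTower.algebraMap_apply] at h1
  exact isUnit_of_map_unit (algebraMap A S) a h1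

/-- A finite local subalgebra is henselian. -/
theorem henselianLocalRing_sub : HenselianLocalRing D := by
  haveI : Algebra.IsIntegral A D := Algebra.IsIntegral.of_finite A D
  exact henselianLocalRing_of_isIntegral A D

end Sub

section Etale

variable (A S : Type u) [CommRing A] [IsLocalRing A] [IsNoetherianRing A] [CommRing S]
  [IsLocalRing S] [Algebra A S] [IsLocalHom (algebraMap A S)]
  [hS : Hensel.IsStrictHenselization A S]
  (D : Subalgebra A S) [Module.Finite A D] [IsLocalRing D] [IsLocalHom (algebraMap D S)]
  [IsLocalHom (algebraMap A D)]

include hS in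
/-- If `S` is also a strict henselization of the finite local subalgebra `D`, then `D` is étale
over `A`. -/
theorem etale_of_isStrictHenselization [hDS : Hensel.IsStrictHenselization D S] :
    Algebra.Etale A D := by
  haveI : Module.FaithfullyFlat D S := faithfullyFlat_of_isStrictHenselization D S
  have hm : Ideal.map (algebraMap A D) (maximalIdeal A) = maximalIdeal D := by
    rw [← Ideal.comap_map_eq_self_of_faithfullyFlat (B := S) (Ideal.map (algebraMap A D)
      (maximalIdeal A)), ← Ideal.comap_map_eq_self_of_faithfullyFlat (B := S) (maximalIdeal D),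
      Ideal.map_map, ← IsScalarTower.algebraMap_eq, map_maximalIdeal_of_isStrictHenselization A S,
      map_maximalIdeal_of_isStrictHenselization D S]
  obtain ⟨C, _, _, q, _, hC, hq, ⟨e⟩⟩ :=
    Groth.Agent.Lib.Helper90.EssEtSub.isEssentiallyEtale_of_sub A S D hm
  haveI := hC
  haveI : Algebra.FormallyEtale C (Localization.AtPrime q) :=
    Algebra.FormallyEtale.of_isLocalization q.primeCompl
  haveI : Algebra.FormallyEtale A (Localization.AtPrime q) :=
    Algebra.FormallyEtale.comp A C (Localization.AtPrime q)
  haveI : Algebra.FormallyEtale A D := Algebra.FormallyEtale.of_equiv e.symm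
  haveI : Algebra.FinitePresentation A D :=
    Algebra.FinitePresentation.of_finiteType.mp inferInstance
  exact ⟨inferInstance, inferInstance⟩

include hS in
/-- If the finite local subalgebra `D` is étale over `A`, then `S` is a strict henselization
of `D`. -/
theorem isStrictHenselization_of_etale [Algebra.Etale A D] :
    Hensel.IsStrictHenselization D S := by
  have hAD : EtPBC.IsIndEtale A D :=
    (isIndEtale_iff_hasFactorization D).mpr (fun P _ _ _ φ =>
      ⟨D, inferInstance, inferInstance, (inferInstance : Algebra.Etale A D), φ, AlgHom.id A D,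
        AlgHom.id_comp φ⟩)
  have hAS : EtPBC.IsIndEtale A S := isIndEtale_of_isStrictHenselization A S
  have hDS : EtPBC.IsIndEtale D S := Groth.Agent.S0735.result A D S hAD hAS
  exact isStrictHenselization_of_hasFactorization D S
    ((isIndEtale_iff_hasFactorization S).mp hDS) hS.henselian (isSepClosure_of_tower A D S)

end Etale

end FinSub

end Groth.Agent.Lib.Helper37.Hz
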