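import Groth.Prelude.Def_Hensel
import Groth.Agent.Lib.Helper37.Hz4
import Groth.Agent.Lib.Helper37.Hz6
import Groth.Agent.Lib.Helper37.Hz7

/-!
# Henselization project, part 8: the henselization
-/

set_option autoImplicit false
universe u

namespace Groth.Agent.Lib.Helper37.Hz

open IsLocalRing

variable (R : Type u) [CommRing R] [IsLocalRing R]

instance isLocalHom_algebraMap_residueField : IsLocalHom (algebraMap R (ResidueField R)) :=
  inferInstanceAs (IsLocalHom (residue R))

/-- The henselization of `R`. -/
abbrev Hens : Type u := H R (ResidueField R)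

lemma ptInf_surjective : Function.Surjective (ptInf : Hens R →ₐ[R] ResidueField R) := by
  intro z
  obtain ⟨r, rfl⟩ := residue_surjective z
  exact ⟨algebraMap R (Hens R) r, (ptInf).commutes r⟩

variable {R} in
lemma residue_eq_of_comp_eq {T : Type u} [CommRing T] [IsLocalRing T] (f : R →+* T) [IsLocalHom f]
    (g : Hens R →+* T) (hg : g.comp (algebraMap R (Hens R)) = f) (x : Hens R) :
    residue T (g x) = ResidueField.map f (ptInf x) := by
  obtain ⟨r, hr⟩ := residue_surjective (ptInf x)
  have h1 : x - algebraMap R (Hens R) r ∈ maximalIdeal (Hens R) := by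
    rw [← ptInf_eq_zero_iff, map_sub, AlgHom.commutes, sub_eq_zero]
    exact hr.symm
  rw [← map_maximalIdeal_H] at h1
  have h2 : g (x - algebraMap R (Hens R) r) ∈
      ((maximalIdeal R).map (algebraMap R (Hens R))).map g := Ideal.mem_map_of_mem _ h1
  rw [Ideal.map_map, hg] at h2
  have h3 := IsLocalRing.map_maximalIdeal_le f h2
  rw [← residue_eq_zero_iff, map_sub, map_sub, sub_eq_zero] at h3
  rw [h3, ← hr, ResidueField.map_residue, ← hg]
  rfl

instance isHenselization_Hens : Hensel.IsHenselization R (Hens R) where
  henselian := inferInstance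
  universal T _ _ f hf := by
    haveI := hf
    have hτ : (ResidueField.map f).comp (algebraMap R (ResidueField R)) = (residue T).comp f := by
      ext r
      exact ResidueField.map_residue f r
    obtain ⟨g, ⟨hg1, hg2⟩, huniq⟩ := existsUnique_lift_H T f (ResidueField.map f) hτ
    refine ⟨g, hg1, ?_⟩
    intro g' hg'
    exact huniq g' ⟨hg', fun x => residue_eq_of_comp_eq f g' hg' x⟩

/-- Existence of the henselization. -/
theorem exists_isHenselization :
    ∃ (S : Type u) (_ : CommRing S) (_ : IsLocalRing S) (_ : Algebra R S)
      (_ : IsLocalHom (algebraMap R S)), Hensel.IsHenselization R S :=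
  ⟨Hens R, inferInstance, inferInstance, inferInstance, inferInstance, inferInstance⟩

end Groth.Agent.Lib.Helper37.Hz
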