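import Groth.Agent.Lib.Helper37.Hz79

/-!
# Henselization project, part 80: the Galois action on a strict henselization.

For a local ring `A` with strict henselization `S`, the group of `A`-algebra automorphisms of `S`
is identified with the Galois group of the residue field extension.
-/

set_option autoImplicit false
set_option linter.style.haveILetI false
universe u

open IsLocalRing

namespace Groth.Agent.Lib.Helper37.Hz

namespace Gal

section Basic

variable (A S : Type u) [CommRing A] [IsLocalRing A] [CommRing S] [IsLocalRing S]
  [Algebra A S] [IsLocalHom (algebraMap A S)] [hS : Hensel.IsStrictHenselization A S]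

include hS in
/-- Two `A`-algebra maps from `A^sh` to a henselian local ring inducing the same map on residue
fields agree. -/
theorem algHom_ext_of_residue (T : Type u) [CommRing T] [HenselianLocalRing T] [Algebra A T]
    [IsLocalHom (algebraMap A T)] (g₁ g₂ : S →ₐ[A] T)
    (τ : ResidueField S →+* ResidueField T)
    (h₁ : ∀ x, residue T (g₁ x) = τ (residue S x))
    (h₂ : ∀ x, residue T (g₂ x) = τ (residue S x)) : g₁ = g₂ := by
  have hτ : τ.comp (ResidueField.map (algebraMap A S)) = ResidueField.map (algebraMap A T) := by
    ext x
    obtain ⟨a, rfl⟩ := residue_surjective x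
    simp only [RingHom.comp_apply, ResidueField.map_residue]
    rw [← h₁, g₁.commutes]
  obtain ⟨k, -, hk⟩ := hS.universal T (algebraMap A T) τ hτ
  have e1 : (g₁ : S →+* T) = k := hk _ ⟨by ext a; exact g₁.commutes a, h₁⟩
  have e2 : (g₂ : S →+* T) = k := hk _ ⟨by ext a; exact g₂.commutes a, h₂⟩
  apply AlgHom.coe_ringHom_injective
  rw [e1, e2]

include hS in
/-- Existence of an `A`-algebra map from `A^sh` to a henselian local ring with prescribed residue
map. -/
theorem exists_algHom_of_residue (T : Type u) [CommRing T] [HenselianLocalRing T] [Algebra A T]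
    [IsLocalHom (algebraMap A T)]
    (τ : ResidueField S →ₐ[ResidueField A] ResidueField T) :
    ∃ g : S →ₐ[A] T, ∀ x, residue T (g x) = τ (residue S x) := by
  have hτ : (τ : ResidueField S →+* ResidueField T).comp (ResidueField.map (algebraMap A S)) =
      ResidueField.map (algebraMap A T) := by
    ext x
    exact τ.commutes x
  obtain ⟨k, ⟨hk1, hk2⟩, -⟩ := hS.universal T (algebraMap A T) (τ : _ →+* _) hτ
  exact ⟨{ toRingHom := k, commutes' := fun a => RingHom.congr_fun hk1 a }, hk2⟩

/-- The residue automorphism of an `A`-automorphism of `S`. -/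
noncomputable def resAut :
    (S ≃ₐ[A] S) →* (ResidueField S ≃ₐ[ResidueField A] ResidueField S) where
  toFun g := AlgEquiv.ofRingEquiv (f := ResidueField.mapEquiv (g : S ≃+* S)) (by
    intro x
    obtain ⟨a, rfl⟩ := residue_surjective x
    change ResidueField.map ((g : S ≃+* S) : S →+* S)
      (ResidueField.map (algebraMap A S) (residue A a)) = _
    rw [ResidueField.map_residue, ResidueField.map_residue]
    change residue S (g (algebraMap A S a)) = _
    rw [g.commutes]
    rfl)
  map_one' := by
    ext x
    obtain ⟨s, rfl⟩ := residue_surjective x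
    rfl
  map_mul' g₁ g₂ := by
    ext x
    obtain ⟨s, rfl⟩ := residue_surjective x
    rfl

theorem resAut_residue (g : S ≃ₐ[A] S) (x : S) :
    resAut A S g (residue S x) = residue S (g x) := rfl

include hS in
theorem resAut_injective : Function.Injective (resAut A S) := by
  haveI : HenselianLocalRing S := hS.henselian
  intro g₁ g₂ h
  have h1 : (g₁ : S →ₐ[A] S) = (g₂ : S →ₐ[A] S) :=
    algHom_ext_of_residue A S S (g₁ : S →ₐ[A] S) (g₂ : S →ₐ[A] S)
      ((resAut A S g₁ : ResidueField S ≃+* ResidueField S) : ResidueField S →+* ResidueField S)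
      (fun x => (resAut_residue A S g₁ x).symm)
      (fun x => by
        change residue S (g₂ x) = resAut A S g₁ (residue S x)
        rw [h]
        exact (resAut_residue A S g₂ x).symm)
  ext x
  exact AlgHom.congr_fun h1 x

include hS in
theorem resAut_surjective : Function.Surjective (resAut A S) := by
  haveI : HenselianLocalRing S := hS.henselian
  intro τ
  obtain ⟨g, hg⟩ := exists_algHom_of_residue A S S (τ : _ →ₐ[ResidueField A] _)
  obtain ⟨g', hg'⟩ := exists_algHom_of_residue A S S (τ.symm : _ →ₐ[ResidueField A] _)
  have h1 : g.comp g' = AlgHom.id A S :=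
    algHom_ext_of_residue A S S _ _ (RingHom.id _)
      (fun x => by
        change residue S (g (g' x)) = residue S x
        rw [hg, hg']
        exact τ.apply_symm_apply _)
      (fun x => rfl)
  have h2 : g'.comp g = AlgHom.id A S :=
    algHom_ext_of_residue A S S _ _ (RingHom.id _)
      (fun x => by
        change residue S (g' (g x)) = residue S x
        rw [hg', hg]
        exact τ.symm_apply_apply _)
      (fun x => rfl)
  refine ⟨AlgEquiv.ofAlgHom g g' h1 h2, ?_⟩
  ext x
  obtain ⟨s, rfl⟩ := residue_surjective x
  rw [resAut_residue]
  exact hg s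

end Basic

end Gal

end Groth.Agent.Lib.Helper37.Hz
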