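import Groth.Agent.Lib.Helper37.Hz80
import Groth.Agent.Lib.Helper90.SHensUnion2
import Groth.Agent.Lib.Helper31.HensQF

/-!
# Henselization project, part 81: the fixed ring of the Galois action on the strict henselization
of a henselian local ring is the base ring.
-/

set_option autoImplicit false
set_option linter.style.haveILetI false
set_option linter.unusedSectionVars false
universe u

open IsLocalRing TensorProduct

namespace Groth.Agent.Lib.Helper37.Hz

namespace Gal

section Integral

/-- An essentially étale local algebra over a henselian local ring is finite. -/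
theorem finite_of_isEssentiallyEtale (A E : Type u) [CommRing A] [HenselianLocalRing A]
    [CommRing E] [Algebra A E] (hE : EGA4loc.IsEssentiallyEtale A E) : Module.Finite A E := by
  obtain ⟨C, _, _, q, _, hC, hq, ⟨e⟩⟩ := hE
  haveI := hC
  haveI : q.LiesOver (maximalIdeal A) := ⟨hq.symm⟩
  haveI : Module.Finite A (Localization.AtPrime q) :=
    Groth.Agent.Lib.Helper31.HensQF.finite_atPrime A C q
  exact Module.Finite.equiv e.symm.toLinearEquiv

/-- The strict henselization of a henselian local ring is integral over it. -/
theorem isIntegral_of_henselian (A S : Type u) [CommRing A] [HenselianLocalRing A]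
    [CommRing S] [IsLocalRing S] [Algebra A S] [IsLocalHom (algebraMap A S)]
    [Hensel.IsStrictHenselization A S] : Algebra.IsIntegral A S := by
  classical
  constructor
  intro x
  obtain ⟨E, hxE, -, -, -, _, hE⟩ :=
    Groth.Agent.Lib.Helper90.SHensUnion.exists_essEtale_sub' A S {x}
  haveI : Module.Finite A E := finite_of_isEssentiallyEtale A E hE
  have hx : x ∈ E := hxE (by simp)
  have h1 : IsIntegral A (⟨x, hx⟩ : E) := Algebra.IsIntegral.isIntegral _
  exact h1.map E.val

end Integral

section Field

/-- Two embeddings of a separable closure of `k` into a field extension of `k` differ by a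
`k`-automorphism. -/
theorem exists_algEquiv_comp_eq (k K Ω : Type*) [Field k] [Field K] [Field Ω] [Algebra k K]
    [Algebra k Ω] [IsSepClosure k K] (u v : K →ₐ[k] Ω) :
    ∃ τ : K ≃ₐ[k] K, ∀ y, u (τ y) = v y := by
  haveI : IsSepClosed K := IsSepClosure.sep_closed k
  haveI : Algebra.IsSeparable k K := IsSepClosure.separable
  haveI : Algebra.IsAlgebraic k K := Algebra.IsSeparable.isAlgebraic k K
  have hmem : ∀ y, v y ∈ u.range := by
    intro y
    letI : Algebra K Ω := u.toRingHom.toAlgebra
    haveI : IsScalarTower k K Ω := IsScalarTower.of_algebraMap_eq (fun a => (u.commutes a).symm)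
    have hsep : IsSeparable k (v y) := by
      have h1 : IsSeparable k y := Algebra.IsSeparable.isSeparable k y
      unfold IsSeparable at h1 ⊢
      rwa [minpoly.algHom_eq v v.injective]
    have hsepK : IsSeparable K (v y) := hsep.tower_top K
    have hint : IsIntegral K (v y) := hsepK.isIntegral
    have hdeg : (minpoly K (v y)).degree = 1 :=
      IsSepClosed.degree_eq_one_of_irreducible K (minpoly.irreducible hint) hsepK
    have h2 := minpoly.mem_range_of_degree_eq_one K (v y) hdeg
    obtain ⟨z, hz⟩ := h2
    exact ⟨z, hz⟩
  let e : K ≃ₐ[k] u.range := AlgEquiv.ofInjective u u.injective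
  let τ₀ : K →ₐ[k] K := (e.symm : u.range →ₐ[k] K).comp (v.codRestrict u.range hmem)
  have hτ₀ : ∀ y, u (τ₀ y) = v y := by
    intro y
    have h1 : (e (τ₀ y) : Ω) = u (τ₀ y) := rfl
    rw [← h1]
    change ((e (e.symm (v.codRestrict u.range hmem y)) : u.range) : Ω) = v y
    rw [e.apply_symm_apply]
    rfl
  have hbij : Function.Bijective τ₀ := Algebra.IsAlgebraic.algHom_bijective τ₀
  exact ⟨AlgEquiv.ofBijective τ₀ hbij, hτ₀⟩

end Field

section Fixed

variable (A S : Type u) [CommRing A] [IsLocalRing A] [CommRing S] [IsLocalRing S]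
  [Algebra A S] [IsLocalHom (algebraMap A S)] [hS : Hensel.IsStrictHenselization A S]
  [Algebra.IsIntegral A S]

/-- `A`-algebra maps from an integral local `A`-algebra to a local `A`-algebra with local
structure map are local. -/
theorem isLocalHom_of_isIntegral (T : Type u) [CommRing T] [IsLocalRing T] [Algebra A T]
    [IsLocalHom (algebraMap A T)] (w : S →ₐ[A] T) : IsLocalHom w.toRingHom := by
  have h4 : IsLocalHom w.toRingHom ↔
      (maximalIdeal T).comap w.toRingHom = maximalIdeal S :=
    (local_hom_TFAE w.toRingHom).out 0 4
  rw [h4]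
  have hA : IsLocalHom (algebraMap A T) ↔
      (maximalIdeal T).comap (algebraMap A T) = maximalIdeal A :=
    (local_hom_TFAE (algebraMap A T)).out 0 4
  have hA' := hA.mp inferInstance
  haveI : ((maximalIdeal T).comap w.toRingHom).IsPrime := Ideal.comap_isPrime _ _
  have h1 : ((maximalIdeal T).comap w.toRingHom).comap (algebraMap A S) = maximalIdeal A := by
    rw [Ideal.comap_comap, ← hA']
    congr 1
    ext a
    exact w.commutes a
  have h2 : ((maximalIdeal T).comap w.toRingHom).IsMaximal :=
    Ideal.isMaximal_of_isIntegral_of_isMaximal_comap (R := A) _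
      (by rw [h1]; exact maximalIdeal.isMaximal A)
  exact IsLocalRing.eq_maximalIdeal h2

include hS in
/-- Two `A`-algebra maps from `A^sh` to a henselian local `A`-algebra differ by an
`A`-automorphism of `A^sh`. -/
theorem exists_aut_comp (T : Type u) [CommRing T] [HenselianLocalRing T] [Algebra A T]
    [IsLocalHom (algebraMap A T)] (u v : S →ₐ[A] T) :
    ∃ g : S ≃ₐ[A] S, ∀ s, v s = u (g s) := by
  haveI := hS.isSepClosure
  haveI hu : IsLocalHom u.toRingHom := isLocalHom_of_isIntegral A S T u
  haveI hv : IsLocalHom v.toRingHom := isLocalHom_of_isIntegral A S T v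
  let ub : ResidueField S →ₐ[ResidueField A] ResidueField T :=
    { toRingHom := ResidueField.map u.toRingHom
      commutes' := by
        intro x
        obtain ⟨a, rfl⟩ := residue_surjective x
        change ResidueField.map u.toRingHom (ResidueField.map (algebraMap A S) (residue A a)) =
          ResidueField.map (algebraMap A T) (residue A a)
        rw [ResidueField.map_residue, ResidueField.map_residue, ResidueField.map_residue]
        congr 1
        exact u.commutes a }
  let vb : ResidueField S →ₐ[ResidueField A] ResidueField T :=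
    { toRingHom := ResidueField.map v.toRingHom
      commutes' := by
        intro x
        obtain ⟨a, rfl⟩ := residue_surjective x
        change ResidueField.map v.toRingHom (ResidueField.map (algebraMap A S) (residue A a)) =
          ResidueField.map (algebraMap A T) (residue A a)
        rw [ResidueField.map_residue, ResidueField.map_residue, ResidueField.map_residue]
        congr 1
        exact v.commutes a }
  obtain ⟨τ, hτ⟩ := exists_algEquiv_comp_eq (ResidueField A) (ResidueField S) (ResidueField T)
    ub vb
  obtain ⟨g, rfl⟩ := resAut_surjective A S τ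
  refine ⟨g, ?_⟩
  have h1 : v = u.comp (g : S →ₐ[A] S) :=
    algHom_ext_of_residue A S T v (u.comp (g : S →ₐ[A] S)) (vb : _ →+* _)
      (fun x => (ResidueField.map_residue v.toRingHom x).symm)
      (fun x => by
        change residue T (u (g x)) = vb (residue S x)
        rw [← hτ, resAut_residue]
        exact (ResidueField.map_residue u.toRingHom (g x)).symm)
  intro s
  exact AlgHom.congr_fun h1 s

include hS in
/-- **The fixed ring.** An element of `A^sh` (integral over `A`, e.g. `A` henselian) fixed by all
`A`-automorphisms lies in `A`. -/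
theorem mem_range_of_fixed (x : S) (hx : ∀ g : S ≃ₐ[A] S, g x = x) :
    x ∈ Set.range (algebraMap A S) := by
  haveI : Module.FaithfullyFlat A S := faithfullyFlat_of_isStrictHenselization A S
  -- the key claim
  have hz : x ⊗ₜ[A] (1 : S) - (1 : S) ⊗ₜ[A] x = 0 := by
    apply eq_zero_of_localization
    intro J hJ
    haveI := hJ
    haveI : Algebra.IsIntegral A (S ⊗[A] S) := Algebra.IsIntegral.trans S
    let T₀ := Localization.AtPrime J
    let T := SHens T₀
    haveI : HenselianLocalRing T := (isStrictHenselization_SHens T₀).henselian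
    haveI : Module.FaithfullyFlat T₀ T := faithfullyFlat_of_isStrictHenselization T₀ T
    let φ : (S ⊗[A] S) →+* T := (algebraMap T₀ T).comp (algebraMap (S ⊗[A] S) T₀)
    letI : Algebra A T := (φ.comp (algebraMap A (S ⊗[A] S))).toAlgebra
    have hJA : J.comap (algebraMap A (S ⊗[A] S)) = maximalIdeal A :=
      IsLocalRing.eq_maximalIdeal (Ideal.isMaximal_comap_of_isIntegral_of_isMaximal J)
    haveI : IsLocalHom (algebraMap A T) := by
      constructor
      intro a ha
      by_contra hnu
      have h1 : a ∈ maximalIdeal A := (mem_maximalIdeal a).mpr hnu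
      rw [← hJA] at h1
      have h2 : algebraMap (S ⊗[A] S) T₀ (algebraMap A (S ⊗[A] S) a) ∈ maximalIdeal T₀ := by
        rw [← Localization.AtPrime.comap_maximalIdeal (I := J)] at h1
        exact h1
      have h3 : IsUnit (algebraMap (S ⊗[A] S) T₀ (algebraMap A (S ⊗[A] S) a)) :=
        isUnit_of_map_unit (algebraMap T₀ T) _ ha
      exact h2 h3
    let φA : (S ⊗[A] S) →ₐ[A] T := { toRingHom := φ, commutes' := fun a => rfl }
    let u : S →ₐ[A] T := φA.comp Algebra.TensorProduct.includeLeft
    let v : S →ₐ[A] T := φA.comp Algebra.TensorProduct.includeRight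
    obtain ⟨g, hg⟩ := exists_aut_comp A S T u v
    have h1 : v x = u x := by rw [hg, hx]
    have h2 : φ (x ⊗ₜ[A] (1 : S) - (1 : S) ⊗ₜ[A] x) = 0 := by
      rw [map_sub, sub_eq_zero]
      exact h1.symm
    have hinj : Function.Injective (algebraMap T₀ T) := FaithfulSMul.algebraMap_injective T₀ T
    exact hinj (by rw [map_zero]; exact h2)
  -- descent
  let π : S →ₗ[A] (S ⧸ LinearMap.range (Algebra.linearMap A S)) :=
    (LinearMap.range (Algebra.linearMap A S)).mkQ
  have hπ1 : π 1 = 0 := by
    rw [Submodule.mkQ_apply, Submodule.Quotient.mk_eq_zero]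
    exact ⟨1, by simp⟩
  have h1 : (π.lTensor S) (x ⊗ₜ[A] (1 : S) - (1 : S) ⊗ₜ[A] x) = 0 := by rw [hz, map_zero]
  rw [map_sub, LinearMap.lTensor_tmul, LinearMap.lTensor_tmul, hπ1, tmul_zero, zero_sub,
    neg_eq_zero] at h1
  have h2 : π x = 0 :=
    Module.FaithfullyFlat.tensorProduct_mk_injective (A := A) (B := S) _
      (by rw [map_zero]; exact h1)
  rw [Submodule.mkQ_apply, Submodule.Quotient.mk_eq_zero] at h2
  obtain ⟨a, ha⟩ := h2
  exact ⟨a, ha⟩

end Fixed

end Gal

end Groth.Agent.Lib.Helper37.Hz
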