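import Mathlib

/-!
# Henselization project, part 82: an Artin–Lagrange lemma.

Let a group `P` of automorphisms of a field `K` have its fixed elements in a subfield `L₀`.
Then an element fixed by the stabilizer of finitely many elements `t` (with finite orbits) lies in
`L₀(t)`.
-/

set_option autoImplicit false

open Polynomial

namespace Groth.Agent.Lib.Helper37.Hz

namespace Gal

theorem mem_closure_of_fixed_stabilizer {K : Type*} [Field K] (P : Subgroup (K ≃+* K))
    (L₀ : Subfield K) (hfix : ∀ c : K, (∀ φ ∈ P, φ c = c) → c ∈ L₀) (θ : K)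
    (horb : {z : K | ∃ φ ∈ P, φ θ = z}.Finite) (y : K)
    (hy : ∀ φ ∈ P, φ θ = θ → φ y = y) :
    y ∈ Subfield.closure ((L₀ : Set K) ∪ {θ}) := by
  classical
  set Θ : Finset K := horb.toFinset with hΘ
  have hmemΘ : ∀ z, z ∈ Θ ↔ ∃ φ ∈ P, φ θ = z := fun z => by
    rw [hΘ, Set.Finite.mem_toFinset]; rfl
  let r : K → K := fun z => if h : ∃ φ ∈ P, φ θ = z then (Classical.choose h) y else 0
  have key : ∀ φ ∈ P, r (φ θ) = φ y := by
    intro φ hφ
    have h : ∃ ψ ∈ P, ψ θ = φ θ := ⟨φ, hφ, rfl⟩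
    have hr : r (φ θ) = (Classical.choose h) y := dif_pos h
    obtain ⟨hψP, hψ⟩ := Classical.choose_spec h
    set ψ := Classical.choose h
    rw [hr]
    have h1 : (φ⁻¹ * ψ) θ = θ := by
      change φ⁻¹ (ψ θ) = θ
      rw [hψ]
      exact φ.symm_apply_apply θ
    have h2 := hy (φ⁻¹ * ψ) (P.mul_mem (P.inv_mem hφ) hψP) h1
    have h3 : φ⁻¹ (ψ y) = y := h2
    have h4 : φ (φ⁻¹ (ψ y)) = ψ y := φ.apply_symm_apply _
    rw [← h4, h3]
  have hθΘ : θ ∈ Θ := (hmemΘ θ).mpr ⟨1, P.one_mem, rfl⟩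
  set f : K[X] := Lagrange.interpolate Θ id r with hf
  have hinj : Set.InjOn (id : K → K) (Θ : Set K) := fun a _ b _ h => h
  have hmap : ∀ φ ∈ P, f.map ((φ : K ≃+* K) : K →+* K) = f := by
    intro φ hφ
    apply Lagrange.eq_interpolate_of_eval_eq r hinj
    · rw [Polynomial.degree_map]
      exact Lagrange.degree_interpolate_lt r hinj
    · intro z hz
      obtain ⟨ψ, hψP, rfl⟩ := (hmemΘ z).mp hz
      have hχP : φ⁻¹ * ψ ∈ P := P.mul_mem (P.inv_mem hφ) hψP
      have hχ : ∀ w, (φ⁻¹ * ψ) w = φ.symm (ψ w) := fun w => rfl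
      obtain ⟨z', hz'def⟩ : ∃ z' : K, z' = φ.symm (ψ θ) := ⟨_, rfl⟩
      have hz'Θ : z' ∈ Θ := (hmemΘ _).mpr ⟨φ⁻¹ * ψ, hχP, by rw [hχ, hz'def]⟩
      have hφz' : φ z' = ψ θ := by rw [hz'def]; exact φ.apply_symm_apply _
      have hrz' : r z' = φ.symm (ψ y) := by
        have := key _ hχP
        rw [hχ, hχ, ← hz'def] at this
        exact this
      have h2 : eval (id z') f = r z' := Lagrange.eval_interpolate_at_node r hinj hz'Θ
      have h5 : eval₂ ((φ : K ≃+* K) : K →+* K) (((φ : K ≃+* K) : K →+* K) z') f =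
          ((φ : K ≃+* K) : K →+* K) (eval z' f) :=
        Polynomial.eval₂_at_apply ((φ : K ≃+* K) : K →+* K) z'
      change eval (ψ θ) (f.map ((φ : K ≃+* K) : K →+* K)) = r (ψ θ)
      rw [key ψ hψP, Polynomial.eval_map, ← hφz']
      refine h5.trans ?_
      change φ (eval (id z') f) = ψ y
      rw [h2, hrz']
      exact φ.apply_symm_apply _
  have hcoeff : ∀ n, f.coeff n ∈ L₀ := by
    intro n
    apply hfix
    intro φ hφ
    have h1 := congrArg (fun p => p.coeff n) (hmap φ hφ)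
    simp only [Polynomial.coeff_map] at h1
    exact h1
  have hyf : y = eval θ f := by
    have h1 : eval θ f = r θ := Lagrange.eval_interpolate_at_node r hinj hθΘ
    have h2 : r θ = y := key 1 P.one_mem
    rw [h1, h2]
  rw [hyf, Polynomial.eval_eq_sum_range]
  refine Subfield.sum_mem _ (fun n _ => ?_)
  refine Subfield.mul_mem _ ?_ (Subfield.pow_mem _ ?_ n)
  · exact Subfield.subset_closure (Or.inl (hcoeff n))
  · exact Subfield.subset_closure (Or.inr rfl)

theorem mem_closure_of_fixed {K : Type*} [Field K] (P : Subgroup (K ≃+* K))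
    (L₀ : Subfield K) (hfix : ∀ c : K, (∀ φ ∈ P, φ c = c) → c ∈ L₀) (t : Finset K)
    (horb : ∀ θ ∈ t, {z : K | ∃ φ ∈ P, φ θ = z}.Finite) (y : K)
    (hy : ∀ φ ∈ P, (∀ θ ∈ t, φ θ = θ) → φ y = y) :
    y ∈ Subfield.closure ((L₀ : Set K) ∪ (t : Set K)) := by
  classical
  induction t using Finset.induction_on generalizing y with
  | empty =>
    have h1 : y ∈ L₀ := hfix y (fun φ hφ => hy φ hφ (fun θ hθ => absurd hθ (Finset.notMem_empty θ)))
    exact Subfield.subset_closure (Or.inl h1)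
  | insert θ t' hθ ih =>
    have horb' : ∀ θ' ∈ t', {z : K | ∃ φ ∈ P, φ θ' = z}.Finite :=
      fun θ' hθ' => horb θ' (Finset.mem_insert_of_mem hθ')
    let P' : Subgroup (K ≃+* K) :=
      { carrier := {φ | φ ∈ P ∧ ∀ θ' ∈ t', φ θ' = θ'}
        mul_mem' := by
          rintro a b ⟨ha, ha'⟩ ⟨hb, hb'⟩
          refine ⟨P.mul_mem ha hb, fun θ' hθ' => ?_⟩
          change a (b θ') = θ'
          rw [hb' θ' hθ', ha' θ' hθ']
        one_mem' := ⟨P.one_mem, fun _ _ => rfl⟩
        inv_mem' := by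
          rintro a ⟨ha, ha'⟩
          refine ⟨P.inv_mem ha, fun θ' hθ' => ?_⟩
          have h1 : a⁻¹ (a θ') = θ' := a.symm_apply_apply θ'
          rw [ha' θ' hθ'] at h1
          exact h1 }
    have hfix' : ∀ c : K, (∀ φ ∈ P', φ c = c) →
        c ∈ Subfield.closure ((L₀ : Set K) ∪ (t' : Set K)) := by
      intro c hc
      exact ih horb' c (fun φ hφ hφ' => hc φ ⟨hφ, hφ'⟩)
    have horbθ : {z : K | ∃ φ ∈ P', φ θ = z}.Finite := by
      refine (horb θ (Finset.mem_insert_self θ t')).subset ?_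
      rintro z ⟨φ, hφ, rfl⟩
      exact ⟨φ, hφ.1, rfl⟩
    have h1 := mem_closure_of_fixed_stabilizer P'
      (Subfield.closure ((L₀ : Set K) ∪ (t' : Set K))) hfix' θ horbθ y
      (fun φ hφ hφθ => hy φ hφ.1 (fun θ' hθ' => by
        rcases Finset.mem_insert.mp hθ' with rfl | h
        · exact hφθ
        · exact hφ.2 θ' h))
    refine (Subfield.closure_le.mpr ?_) h1
    rintro z (hz | hz)
    · refine (Subfield.closure_le.mpr ?_) hz
      rintro w (hw | hw)
      · exact Subfield.subset_closure (Or.inl hw)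
      · exact Subfield.subset_closure (Or.inr (Finset.mem_insert_of_mem hw))
    · rw [Set.mem_singleton_iff] at hz
      rw [hz]
      exact Subfield.subset_closure (Or.inr (Finset.mem_insert_self θ t'))

end Gal

end Groth.Agent.Lib.Helper37.Hz
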