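import Groth.Agent.Lib.Helper37.Hz81

/-!
# Henselization project, part 83: finite étale local subalgebras `A[α]` of the strict henselization
of a henselian local ring with prescribed residue field.
-/

set_option autoImplicit false
set_option linter.style.haveILetI false
set_option linter.unusedSectionVars false
universe u

open IsLocalRing Polynomial

namespace Groth.Agent.Lib.Helper37.Hz

namespace Gal

section Lift

variable (A S : Type u) [CommRing A] [IsLocalRing A] [CommRing S] [IsLocalRing S]
  [Algebra A S] [IsLocalHom (algebraMap A S)]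

theorem residue_comp_algebraMap :
    (residue S).comp (algebraMap A S) =
      (algebraMap (ResidueField A) (ResidueField S)).comp (residue A) := rfl

theorem residue_aeval (α : S) (q : A[X]) :
    residue S (aeval α q) = aeval (residue S α) (q.map (residue A)) := by
  rw [aeval_def, aeval_def, hom_eval₂, eval₂_map, residue_comp_algebraMap]

variable [hS : Hensel.IsStrictHenselization A S]

include hS in
/-- Lifting a primitive element of a finite subextension of the residue field extension. -/
theorem exists_root_lift (k₀ : IntermediateField (ResidueField A) (ResidueField S))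
    [FiniteDimensional (ResidueField A) k₀] :
    ∃ (α : S) (p : A[X]), p.Monic ∧ aeval α p = 0 ∧
      p.map (residue A) = minpoly (ResidueField A) (residue S α) ∧
      IntermediateField.adjoin (ResidueField A) {residue S α} = k₀ := by
  haveI := hS.isSepClosure
  haveI : HenselianLocalRing S := hS.henselian
  haveI : Algebra.IsSeparable (ResidueField A) (ResidueField S) := IsSepClosure.separable
  haveI : Algebra.IsSeparable (ResidueField A) k₀ :=
    Algebra.isSeparable_tower_bot_of_isSeparable (ResidueField A) k₀ (ResidueField S)
  obtain ⟨β, hβ⟩ := Field.exists_primitive_element (ResidueField A) k₀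
  have hadj : IntermediateField.adjoin (ResidueField A) {(β : ResidueField S)} = k₀ := by
    have h1 := IntermediateField.adjoin_map (ResidueField A) ({β} : Set k₀) k₀.val
    rw [hβ, Set.image_singleton, ← AlgHom.fieldRange_eq_map, IntermediateField.fieldRange_val]
      at h1
    exact h1.symm
  set pb : (ResidueField A)[X] := minpoly (ResidueField A) (β : ResidueField S) with hpb
  have hint : IsIntegral (ResidueField A) (β : ResidueField S) :=
    (Algebra.IsSeparable.isSeparable (ResidueField A) (β : ResidueField S)).isIntegral
  have hmon : pb.Monic := minpoly.monic hint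
  have hsep : pb.Separable := Algebra.IsSeparable.isSeparable (ResidueField A) (β : ResidueField S)
  obtain ⟨p, hp1, -, hp3⟩ := Polynomial.lifts_and_degree_eq_and_monic
    (Polynomial.mem_lifts_of_surjective residue_surjective pb) hmon
  obtain ⟨a₀, ha₀⟩ := residue_surjective (β : ResidueField S)
  have hev : ∀ q : A[X], residue S ((q.map (algebraMap A S)).eval a₀) =
      aeval (β : ResidueField S) (q.map (residue A)) := by
    intro q
    rw [← ha₀, ← residue_aeval, aeval_def, eval_map]
  have h₁ : (p.map (algebraMap A S)).eval a₀ ∈ maximalIdeal S := by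
    rw [← residue_eq_zero_iff, hev, hp1]
    exact minpoly.aeval _ _
  have h₂ : IsUnit ((p.map (algebraMap A S)).derivative.eval a₀) := by
    by_contra hnu
    have h3 : residue S ((p.map (algebraMap A S)).derivative.eval a₀) = 0 :=
      (residue_eq_zero_iff _).mpr ((mem_maximalIdeal _).mpr hnu)
    rw [derivative_map, hev, ← derivative_map, hp1] at h3
    exact hsep.aeval_derivative_ne_zero (minpoly.aeval _ _) h3
  obtain ⟨α, hα1, hα2⟩ := HenselianLocalRing.is_henselian (p.map (algebraMap A S))
    (hp3.map _) a₀ h₁ h₂
  have hres : residue S α = (β : ResidueField S) := by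
    rw [← ha₀, ← sub_eq_zero, ← map_sub, residue_eq_zero_iff]
    exact hα2
  refine ⟨α, p, hp3, ?_, ?_, ?_⟩
  · rw [aeval_def, ← eval_map]
    exact hα1
  · rw [hres, hp1]
  · rw [hres]
    exact hadj

end Lift

section Adjoin

variable (A S : Type u) [CommRing A] [HenselianLocalRing A] [CommRing S] [IsLocalRing S]
  [Algebra A S] [IsLocalHom (algebraMap A S)]
  (α : S) (p : A[X]) (hp : p.Monic) (hα : aeval α p = 0)
  (hmin : p.map (residue A) = minpoly (ResidueField A) (residue S α))

include hp hα in
theorem finite_adjoin : Module.Finite A (Algebra.adjoin A {α}) := by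
  have hint : IsIntegral A α := ⟨p, hp, by rw [← aeval_def]; exact hα⟩
  exact Module.Finite.iff_fg.mpr hint.fg_adjoin_singleton

theorem residue_mem_adjoin (d : S) (hd : d ∈ Algebra.adjoin A {α}) :
    residue S d ∈ IntermediateField.adjoin (ResidueField A) {residue S α} := by
  rw [Algebra.adjoin_singleton_eq_range_aeval] at hd
  obtain ⟨q, rfl⟩ := hd
  change residue S (aeval α q) ∈ _
  rw [residue_aeval]
  exact IntermediateField.algebra_adjoin_le_adjoin _ _ (aeval_mem_adjoin_singleton _ _)

include hα hmin in
/-- Elements of `A[α]` in the maximal ideal of `S` lie in `𝔪_A A[α]`. -/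
theorem mem_map_maximalIdeal (d : Algebra.adjoin A {α}) (hd : (d : S) ∈ maximalIdeal S) :
    d ∈ Ideal.map (algebraMap A (Algebra.adjoin A {α})) (maximalIdeal A) := by
  obtain ⟨d, hdm⟩ := d
  have hdm' := hdm
  rw [Algebra.adjoin_singleton_eq_range_aeval] at hdm'
  obtain ⟨q, hq⟩ := hdm'
  have hq' : aeval α q = d := hq
  have h1 : aeval (residue S α) (q.map (residue A)) = 0 := by
    rw [← residue_aeval, hq', residue_eq_zero_iff]
    exact hd
  obtain ⟨cb, hcb⟩ := minpoly.dvd (ResidueField A) (residue S α) h1
  obtain ⟨c, rfl⟩ := Polynomial.map_surjective (residue A) residue_surjective cb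
  set q₁ : A[X] := q - p * c with hq₁
  have hq₁map : q₁.map (residue A) = 0 := by
    rw [hq₁, Polynomial.map_sub, Polynomial.map_mul, hmin, hcb, sub_self]
  have hcoeff : ∀ n, q₁.coeff n ∈ maximalIdeal A := by
    intro n
    have h2 := congrArg (fun r => r.coeff n) hq₁map
    simp only [coeff_map, coeff_zero] at h2
    exact (residue_eq_zero_iff _).mp h2
  let αD : Algebra.adjoin A {α} := ⟨α, Algebra.self_mem_adjoin_singleton A α⟩
  have h3 : ((aeval αD q₁ : Algebra.adjoin A {α}) : S) = d := by
    rw [aeval_subalgebra_coe]
    change aeval α q₁ = d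
    rw [hq₁, map_sub, map_mul, hα, zero_mul, sub_zero, hq']
  have h4 : (⟨d, hdm⟩ : Algebra.adjoin A {α}) = aeval αD q₁ := Subtype.ext h3.symm
  rw [h4, aeval_eq_sum_range]
  refine Ideal.sum_mem _ (fun n _ => ?_)
  rw [Algebra.smul_def]
  exact Ideal.mul_mem_right _ _ (Ideal.mem_map_of_mem _ (hcoeff n))

end Adjoin

end Gal

end Groth.Agent.Lib.Helper37.Hz
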