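import Groth.Agent.Lib.Helper37.Hz82
import Groth.Agent.Lib.Helper37.Hz83
import Groth.Agent.Lib.Helper35.EssEtaleLift

/-!
# Henselization project, part 84: Galois action on the fraction field of a strict henselization
which is a domain.
-/

set_option autoImplicit false
set_option linter.style.haveILetI false
set_option linter.unusedSectionVars false
universe u

open IsLocalRing Polynomial

namespace Groth.Agent.Lib.Helper37.Hz

namespace Gal

section Fix

variable (A S : Type u) [CommRing A] [IsLocalRing A] [CommRing S] [IsLocalRing S]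
  [Algebra A S] [IsLocalHom (algebraMap A S)] [hS : Hensel.IsStrictHenselization A S]

include hS in
/-- An `A`-automorphism of `A^sh` acting trivially on the residue field of an essentially étale
local subalgebra fixes that subalgebra. -/
theorem fixes_of_residue (E : Subalgebra A S) [IsLocalRing E] [IsLocalHom (algebraMap A E)]
    [IsLocalHom (algebraMap E S)] (hE : EGA4loc.IsEssentiallyEtale A E) (g : S ≃ₐ[A] S)
    (h : ∀ e ∈ E, residue S (g e) = residue S e) : ∀ e ∈ E, g e = e := by
  haveI : HenselianLocalRing S := hS.henselian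
  have hα : (ResidueField.map (algebraMap E S)).comp (ResidueField.map (algebraMap A E)) =
      ResidueField.map (algebraMap A S) := by
    ext x
    obtain ⟨a, rfl⟩ := residue_surjective x
    simp only [RingHom.comp_apply, ResidueField.map_residue]
    rfl
  obtain ⟨ψ, -, huniq⟩ := Groth.Agent.Lib.Helper35.EssEtaleLift.existsUnique_lift A E hE S
    (algebraMap A S) (ResidueField.map (algebraMap E S)) hα
  have h1 : algebraMap E S = ψ := huniq _ ⟨inferInstance, rfl,
    fun x => (ResidueField.map_residue (algebraMap E S) x).symm⟩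
  have hloc : IsLocalHom (((g : S ≃+* S) : S →+* S).comp (algebraMap E S)) := by
    constructor
    intro x hx
    have h2 : IsUnit (g.symm (g (algebraMap E S x))) := hx.map g.symm
    rw [g.symm_apply_apply] at h2
    exact isUnit_of_map_unit (algebraMap E S) x h2
  have h2 : ((g : S ≃+* S) : S →+* S).comp (algebraMap E S) = ψ := huniq _ ⟨hloc, by
    ext a
    change g (algebraMap E S (algebraMap A E a)) = algebraMap A S a
    rw [← IsScalarTower.algebraMap_apply, g.commutes], fun x => by
    change residue S (g (x : S)) = _
    rw [h _ x.2]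
    exact (ResidueField.map_residue (algebraMap E S) x).symm⟩
  intro e he
  have h3 := RingHom.congr_fun (h2.trans h1.symm) ⟨e, he⟩
  exact h3

end Fix

section Frac

variable (A S : Type u) [CommRing A] [CommRing S] [Algebra A S]
  (K : Type*) [Field K] [Algebra S K] [IsFractionRing S K] [Algebra A K] [IsScalarTower A S K]

/-- Every element of the fraction field of a domain integral over `A` has a denominator in
`A`. -/
theorem exists_mul_eq_algebraMap [IsDomain S] [Nontrivial A] [Algebra.IsIntegral A S]
    (hinj : Function.Injective (algebraMap A S)) (c : K) :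
    ∃ a : A, algebraMap A S a ≠ 0 ∧ ∃ s : S, algebraMap A K a * c = algebraMap S K s := by
  obtain ⟨s₁, s₂, hs₂, rfl⟩ := IsFractionRing.div_surjective (A := S) c
  obtain ⟨r, hr, w, hw⟩ :=
    (Algebra.IsIntegral.isIntegral (R := A) s₂).isAlgebraic.exists_nonzero_dvd hs₂
  have hs₂0 : algebraMap S K s₂ ≠ 0 := by
    intro h0
    have : s₂ = 0 := (IsFractionRing.injective S K) (by rw [h0, map_zero])
    exact (nonZeroDivisors.ne_zero hs₂) this
  have hr0 : algebraMap A S r ≠ 0 := by
    intro h0
    exact hr (hinj (by rw [h0, map_zero]))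
  refine ⟨r, hr0, s₁ * w, ?_⟩
  rw [IsScalarTower.algebraMap_apply A S K, hw, map_mul, map_mul]
  field_simp

end Frac

section Group

variable (A S : Type u) [CommRing A] [CommRing S] [Algebra A S]
  (K : Type*) [Field K] [Algebra S K] [IsFractionRing S K] [Algebra A K] [IsScalarTower A S K]

/-- Ring automorphisms of `S` fixing `A`. -/
def autSub : Subgroup (S ≃+* S) where
  carrier := {e | ∀ a, e (algebraMap A S a) = algebraMap A S a}
  mul_mem' := by
    intro e₁ e₂ h₁ h₂ a
    change e₁ (e₂ _) = _
    rw [h₂ a, h₁ a]
  one_mem' := fun a => rfl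
  inv_mem' := by
    intro e h a
    have h1 : e⁻¹ (e (algebraMap A S a)) = algebraMap A S a := e.symm_apply_apply _
    rw [h a] at h1
    exact h1

theorem mem_autSub_iff (e : S ≃+* S) :
    e ∈ autSub A S ↔ ∀ a, e (algebraMap A S a) = algebraMap A S a := Iff.rfl

/-- The induced group of automorphisms of the fraction field. -/
noncomputable def fracSub : Subgroup (K ≃+* K) :=
  (autSub A S).map (IsFractionRing.ringEquivOfRingEquivHom S K)

theorem mem_fracSub_iff (φ : K ≃+* K) :
    φ ∈ fracSub A S K ↔ ∃ e ∈ autSub A S, IsFractionRing.ringEquivOfRingEquiv e = φ := by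
  unfold fracSub
  rw [Subgroup.mem_map]
  rfl

theorem ringEquivOfRingEquiv_mem (g : S ≃ₐ[A] S) :
    IsFractionRing.ringEquivOfRingEquiv (K := K) (L := K) (g : S ≃+* S) ∈ fracSub A S K :=
  (mem_fracSub_iff A S K _).mpr ⟨(g : S ≃+* S), fun a => g.commutes a, rfl⟩

theorem ringEquivOfRingEquiv_algebraMap_base (e : S ≃+* S) (he : e ∈ autSub A S) (a : A) :
    IsFractionRing.ringEquivOfRingEquiv (K := K) (L := K) e (algebraMap A K a) =
      algebraMap A K a := by
  rw [IsScalarTower.algebraMap_apply A S K, IsFractionRing.ringEquivOfRingEquiv_algebraMap, he a]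

variable [IsDomain S] [Nontrivial A] [Algebra.IsIntegral A S]

include A in
/-- Orbits in the fraction field are finite. -/
theorem finite_orbit (hinj : Function.Injective (algebraMap A S)) (θ : K) :
    {z : K | ∃ φ ∈ fracSub A S K, φ θ = z}.Finite := by
  classical
  obtain ⟨a, ha, s, hs⟩ := exists_mul_eq_algebraMap A S K hinj θ
  have haK : algebraMap A K a ≠ 0 := by
    rw [IsScalarTower.algebraMap_apply A S K]
    intro h0
    exact ha ((IsFractionRing.injective S K) (by rw [h0, map_zero]))
  obtain ⟨m, hm, hms⟩ := Algebra.IsIntegral.isIntegral (R := A) s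
  have hm0 : m.map (algebraMap A S) ≠ 0 := (hm.map _).ne_zero
  refine ((m.map (algebraMap A S)).roots.toFinset.finite_toSet.image
    (fun s' => algebraMap S K s' / algebraMap A K a)).subset ?_
  rintro z ⟨φ, hφ, rfl⟩
  obtain ⟨e, he, rfl⟩ := (mem_fracSub_iff A S K φ).mp hφ
  refine ⟨e s, ?_, ?_⟩
  · rw [Finset.mem_coe, Multiset.mem_toFinset, Polynomial.mem_roots hm0, Polynomial.IsRoot.def,
      Polynomial.eval_map]
    have h1 : (e : S →+* S).comp (algebraMap A S) = algebraMap A S := by
      ext b
      exact he b
    have h2 := Polynomial.hom_eval₂ m (algebraMap A S) (e : S →+* S) s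
    rw [hms, map_zero, h1] at h2
    exact h2.symm
  · have h1 := congrArg (IsFractionRing.ringEquivOfRingEquiv (K := K) (L := K) e) hs
    rw [map_mul, ringEquivOfRingEquiv_algebraMap_base A S K e he,
      IsFractionRing.ringEquivOfRingEquiv_algebraMap] at h1
    change algebraMap S K (e s) / algebraMap A K a = _
    rw [← h1, mul_div_assoc, mul_comm, div_mul_cancel₀ _ haK]

variable [IsLocalRing A] [IsLocalRing S] [IsLocalHom (algebraMap A S)]
  [hS : Hensel.IsStrictHenselization A S]

include hS in
/-- The fixed field of the Galois action on the fraction field of `A^sh` is the fraction field of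
`A`. -/
theorem mem_closure_of_fracSub_fixed (c : K) (hc : ∀ φ ∈ fracSub A S K, φ c = c) :
    c ∈ Subfield.closure (Set.range (algebraMap A K)) := by
  haveI : Module.FaithfullyFlat A S := faithfullyFlat_of_isStrictHenselization A S
  have hinj : Function.Injective (algebraMap A S) := FaithfulSMul.algebraMap_injective A S
  obtain ⟨a, ha, s, hs⟩ := exists_mul_eq_algebraMap A S K hinj c
  have haK : algebraMap A K a ≠ 0 := by
    rw [IsScalarTower.algebraMap_apply A S K]
    intro h0
    exact ha ((IsFractionRing.injective S K) (by rw [h0, map_zero]))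
  have hsfix : ∀ g : S ≃ₐ[A] S, g s = s := by
    intro g
    have hφ := ringEquivOfRingEquiv_mem A S K g
    have h1 := congrArg (IsFractionRing.ringEquivOfRingEquiv (K := K) (L := K) (g : S ≃+* S)) hs
    rw [map_mul, ringEquivOfRingEquiv_algebraMap_base A S K _ (fun a => g.commutes a),
      IsFractionRing.ringEquivOfRingEquiv_algebraMap, hc _ hφ, hs] at h1
    exact ((IsFractionRing.injective S K) h1).symm
  obtain ⟨a', ha'⟩ := mem_range_of_fixed A S s hsfix
  have hceq : c = algebraMap A K a' / algebraMap A K a := by
    rw [eq_div_iff haK, mul_comm, hs, ← ha', ← IsScalarTower.algebraMap_apply]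
  rw [hceq]
  exact Subfield.div_mem _ (Subfield.subset_closure ⟨a', rfl⟩) (Subfield.subset_closure ⟨a, rfl⟩)

end Group

end Gal

end Groth.Agent.Lib.Helper37.Hz
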