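import Groth.Agent.Lib.Helper37.Hz84

/-!
# Henselization project, part 85: for a henselian local ring `A` whose strict henselization `S` is a
domain, the intersection of `S` with a finitely generated subfield of `Frac S` over `Frac A` is a
finite étale local `A`-algebra.
-/

set_option autoImplicit false
set_option linter.style.haveILetI false
set_option linter.unusedSectionVars false
universe u

open IsLocalRing Polynomial

namespace Groth.Agent.Lib.Helper37.Hz

namespace Gal

section Etale

/-- A finite essentially étale local algebra over a Noetherian local ring is étale. -/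
theorem etale_of_isEssentiallyEtale (A D : Type u) [CommRing A] [IsLocalRing A]
    [IsNoetherianRing A] [CommRing D] [Algebra A D] [Module.Finite A D]
    (hD : EGA4loc.IsEssentiallyEtale A D) : Algebra.Etale A D := by
  obtain ⟨C, _, _, q, _, hC, hq, ⟨e⟩⟩ := hD
  haveI := hC
  haveI : Algebra.FormallyEtale C (Localization.AtPrime q) :=
    Algebra.FormallyEtale.of_isLocalization q.primeCompl
  haveI : Algebra.FormallyEtale A (Localization.AtPrime q) :=
    Algebra.FormallyEtale.comp A C (Localization.AtPrime q)
  haveI : Algebra.FormallyEtale A D := Algebra.FormallyEtale.of_equiv e.symm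
  haveI : Algebra.FinitePresentation A D :=
    Algebra.FinitePresentation.of_finiteType.mp inferInstance
  exact ⟨inferInstance, inferInstance⟩

end Etale

section Inter

variable (A S : Type u) [CommRing A] [CommRing S] [Algebra A S]
  (K : Type*) [Field K] [Algebra S K] [Algebra A K] [IsScalarTower A S K]

/-- The `A`-subalgebra of `S` of elements lying in a subfield `L ⊇ A` of `K`. -/
def interSub (L : Subfield K) (hL : Set.range (algebraMap A K) ⊆ (L : Set K)) : Subalgebra A S where
  carrier := (algebraMap S K) ⁻¹' (L : Set K)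
  mul_mem' := fun {a b} ha hb => by
    change algebraMap S K (a * b) ∈ L
    rw [map_mul]
    exact L.mul_mem ha hb
  add_mem' := fun {a b} ha hb => by
    change algebraMap S K (a + b) ∈ L
    rw [map_add]
    exact L.add_mem ha hb
  one_mem' := by
    change algebraMap S K 1 ∈ L
    rw [map_one]
    exact L.one_mem
  zero_mem' := by
    change algebraMap S K 0 ∈ L
    rw [map_zero]
    exact L.zero_mem
  algebraMap_mem' := fun a => by
    change algebraMap S K (algebraMap A S a) ∈ L
    rw [← IsScalarTower.algebraMap_apply]
    exact hL ⟨a, rfl⟩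

theorem mem_interSub (L : Subfield K) (hL : Set.range (algebraMap A K) ⊆ (L : Set K)) (d : S) :
    d ∈ interSub A S K L hL ↔ algebraMap S K d ∈ L := Iff.rfl

end Inter

section Main

variable (A S : Type u) [CommRing A] [hA : HenselianLocalRing A] [IsNoetherianRing A] [CommRing S]
  [IsLocalRing S] [Algebra A S] [IsLocalHom (algebraMap A S)]
  [hS : Hensel.IsStrictHenselization A S] [IsDomain S]
  (K : Type*) [Field K] [Algebra S K] [IsFractionRing S K] [Algebra A K] [IsScalarTower A S K]

include hS hA in
theorem exists_essEtale_eq_inter (t : Finset K) :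
    ∃ D : Subalgebra A S, (D : Set S) = (algebraMap S K) ⁻¹'
        (Subfield.closure (Set.range (algebraMap A K) ∪ (t : Set K)) : Set K) ∧
      ∃ _ : IsLocalRing D, IsLocalHom (algebraMap D S) ∧ EGA4loc.IsEssentiallyEtale A D := by
  classical
  haveI : Algebra.IsIntegral A S := isIntegral_of_henselian A S
  haveI : Module.FaithfullyFlat A S := faithfullyFlat_of_isStrictHenselization A S
  have hinj : Function.Injective (algebraMap A S) := FaithfulSMul.algebraMap_injective A S
  haveI := hS.isSepClosure
  haveI : HenselianLocalRing S := hS.henselian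
  haveI : Algebra.IsSeparable (ResidueField A) (ResidueField S) := IsSepClosure.separable
  haveI : Algebra.IsIntegral (ResidueField A) (ResidueField S) :=
    (Algebra.IsSeparable.isAlgebraic (ResidueField A) (ResidueField S)).isIntegral
  have hKinj : Function.Injective (algebraMap S K) := IsFractionRing.injective S K
  obtain ⟨L, hL⟩ : ∃ L : Subfield K,
      L = Subfield.closure (Set.range (algebraMap A K) ∪ (t : Set K)) := ⟨_, rfl⟩
  have hLA : Set.range (algebraMap A K) ⊆ (L : Set K) := by
    rw [hL]
    exact fun x hx => Subfield.subset_closure (Or.inl hx)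
  obtain ⟨D, hDdef⟩ : ∃ D : Subalgebra A S, D = interSub A S K L hLA := ⟨_, rfl⟩
  have hDmem : ∀ d : S, d ∈ D ↔ algebraMap S K d ∈ L := fun d => by rw [hDdef]; rfl
  -- numerators and the étale algebra `E`
  have hnum : ∀ θ : K, ∃ s : S, ∃ a : A, algebraMap A S a ≠ 0 ∧
      algebraMap A K a * θ = algebraMap S K s := fun θ => by
    obtain ⟨a, ha, s, hs⟩ := exists_mul_eq_algebraMap A S K hinj θ
    exact ⟨s, a, ha, hs⟩
  choose num den hden hnd using hnum
  obtain ⟨E, hσE, -, -, hsat, hEloc, hE⟩ :=
    Groth.Agent.Lib.Helper90.SHensUnion.exists_essEtale_sub' A S (t.image num)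
  haveI := hEloc
  haveI : Module.Finite A E := finite_of_isEssentiallyEtale A E hE
  haveI : IsLocalHom (algebraMap E S) := FinSub.isLocalHom_sub A S E
  haveI : IsLocalHom (algebraMap A E) := FinSub.isLocalHom_base A S E
  have hDE : ∀ d ∈ D, d ∈ E := by
    intro d hd
    have hLE : L ≤ Subfield.closure ((algebraMap S K) '' (E : Set S)) := by
      rw [hL]
      apply Subfield.closure_le.mpr
      rintro x (⟨a, rfl⟩ | hx)
      · exact Subfield.subset_closure ⟨algebraMap A S a, E.algebraMap_mem a,
          (IsScalarTower.algebraMap_apply A S K a).symm⟩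
      · have h1 := hnd x
        have hnumE : num x ∈ E := hσE (Finset.mem_coe.mpr (Finset.mem_image_of_mem num hx))
        have hdenK : algebraMap A K (den x) ≠ 0 := by
          rw [IsScalarTower.algebraMap_apply A S K]
          intro h0
          exact hden x (hKinj (by rw [h0, map_zero]))
        have hxeq : x = algebraMap S K (num x) / algebraMap A K (den x) := by
          rw [eq_div_iff hdenK, mul_comm]
          exact h1
        rw [hxeq]
        exact Subfield.div_mem _ (Subfield.subset_closure ⟨num x, hnumE, rfl⟩)
          (Subfield.subset_closure ⟨algebraMap A S (den x), E.algebraMap_mem _,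
            (IsScalarTower.algebraMap_apply A S K _).symm⟩)
    have h2 := hLE ((hDmem d).mp hd)
    rw [Subfield.mem_closure_iff] at h2
    obtain ⟨y, hy, z, hz, hyz⟩ := h2
    have himg : Subring.closure ((algebraMap S K) '' (E : Set S)) =
        E.toSubring.map (algebraMap S K) := by
      have h3 : ((algebraMap S K) '' (E : Set S)) =
          ((E.toSubring.map (algebraMap S K) : Subring K) : Set K) := by
        ext w
        simp only [Set.mem_image, SetLike.mem_coe, Subring.mem_map, Subalgebra.mem_toSubring]
      rw [h3, Subring.closure_eq]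
    rw [himg] at hy hz
    obtain ⟨e, he, rfl⟩ := hy
    obtain ⟨u, hu, rfl⟩ := hz
    by_cases hu0 : u = 0
    · rw [hu0, map_zero, div_zero] at hyz
      have hd0 : d = 0 := hKinj (by rw [← hyz, map_zero])
      rw [hd0]
      exact E.zero_mem
    · have huK : algebraMap S K u ≠ 0 := fun h0 => hu0 (hKinj (by rw [h0, map_zero]))
      have h3 : u * d = e := hKinj (by
        rw [map_mul, ← hyz]
        field_simp)
      exact hsat u hu e he (mem_nonZeroDivisors_of_ne_zero hu0) d h3
  -- the group `H`
  let H : Subgroup (S ≃ₐ[A] S) :=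
    { carrier := {g | ∀ d ∈ D, g d = d}
      mul_mem' := fun {g₁ g₂} h₁ h₂ d hd => by
        change g₁ (g₂ d) = d
        rw [h₂ d hd, h₁ d hd]
      one_mem' := fun d _ => rfl
      inv_mem' := fun {g} h d hd => by
        have h1 : g⁻¹ (g d) = d := g.symm_apply_apply d
        rw [h d hd] at h1
        exact h1 }
  have hHmem : ∀ g : S ≃ₐ[A] S, g ∈ H ↔ ∀ d ∈ D, g d = d := fun g => Iff.rfl
  obtain ⟨Hb, hHb⟩ : ∃ Hb : Subgroup (ResidueField S ≃ₐ[ResidueField A] ResidueField S),
      Hb = H.map (resAut A S) := ⟨_, rfl⟩
  obtain ⟨n, gen, hgen⟩ := Module.Finite.exists_fin (R := A) (M := E)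
  obtain ⟨kE, hkE⟩ : ∃ kE : IntermediateField (ResidueField A) (ResidueField S),
      kE = IntermediateField.adjoin (ResidueField A)
        (Set.range (fun i => residue S (gen i : S))) := ⟨_, rfl⟩
  haveI : FiniteDimensional (ResidueField A) kE := by
    rw [hkE]
    exact IntermediateField.finiteDimensional_adjoin
      (fun x _ => Algebra.IsIntegral.isIntegral x)
  have hle : kE.fixingSubgroup ≤ Hb := by
    intro τ hτ
    obtain ⟨g, rfl⟩ := resAut_surjective A S τ
    rw [hHb]
    refine Subgroup.mem_map.mpr ⟨g, ?_, rfl⟩
    have hres : ∀ e ∈ E, residue S (g e) = residue S e := by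
      intro e he
      have hmem : (⟨e, he⟩ : E) ∈ Submodule.span A (Set.range gen) := by
        rw [hgen]; trivial
      obtain ⟨c, hc⟩ := (Submodule.mem_span_range_iff_exists_fun A).mp hmem
      have he' : e = ∑ i, c i • (gen i : S) := by
        have h1 := congrArg (fun x : E => (x : S)) hc
        simp only [AddSubmonoidClass.coe_finset_sum, Subalgebra.coe_smul] at h1
        exact h1.symm
      rw [← resAut_residue, he', map_sum, map_sum]
      refine Finset.sum_congr rfl (fun i _ => ?_)
      rw [Algebra.smul_def, map_mul, map_mul]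
      congr 1
      · exact (resAut A S g).commutes (residue A (c i))
      · refine (IntermediateField.mem_fixingSubgroup_iff _ _).mp hτ _ ?_
        rw [hkE]
        exact IntermediateField.subset_adjoin _ _ ⟨i, rfl⟩
    intro d hd
    exact fixes_of_residue A S E hE g hres d (hDE d hd)
  have hopen : IsOpen (Hb : Set (ResidueField S ≃ₐ[ResidueField A] ResidueField S)) :=
    Subgroup.isOpen_mono hle (IntermediateField.fixingSubgroup_isOpen kE)
  have hclosed : IsClosed (Hb : Set (ResidueField S ≃ₐ[ResidueField A] ResidueField S)) :=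
    Subgroup.isClosed_of_isOpen Hb hopen
  obtain ⟨k₀, hk₀⟩ : ∃ k₀ : IntermediateField (ResidueField A) (ResidueField S),
      k₀ = IntermediateField.fixedField Hb := ⟨_, rfl⟩
  have hfixk₀ : k₀.fixingSubgroup = Hb := by
    rw [hk₀]
    exact InfiniteGalois.fixingSubgroup_fixedField ⟨Hb, hclosed⟩
  have hk₀E : k₀ ≤ kE := by
    intro x hx
    rw [← InfiniteGalois.fixedField_fixingSubgroup kE]
    rw [hk₀, IntermediateField.mem_fixedField_iff] at hx
    rw [IntermediateField.mem_fixedField_iff]
    intro τ hτ
    exact hx τ (hle hτ)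
  haveI : FiniteDimensional (ResidueField A) k₀ :=
    Module.Finite.of_injective (IntermediateField.inclusion hk₀E).toLinearMap
      (IntermediateField.inclusion hk₀E).injective
  -- the étale algebra `D₀`
  obtain ⟨α, p, hp, hαp, hmin, hadj⟩ := exists_root_lift A S k₀
  obtain ⟨D₀, hD₀⟩ : ∃ D₀ : Subalgebra A S, D₀ = Algebra.adjoin A {α} := ⟨_, rfl⟩
  have hαD₀ : α ∈ D₀ := by rw [hD₀]; exact Algebra.self_mem_adjoin_singleton A α
  haveI : Module.Finite A D₀ := by rw [hD₀]; exact finite_adjoin A S α p hp hαp
  haveI : IsLocalRing D₀ := FinSub.isLocalRing_sub A S D₀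
  haveI : IsLocalHom (algebraMap D₀ S) := FinSub.isLocalHom_sub A S D₀
  haveI : IsLocalHom (algebraMap A D₀) := FinSub.isLocalHom_base A S D₀
  have hm : Ideal.map (algebraMap A D₀) (maximalIdeal A) = maximalIdeal D₀ := by
    apply le_antisymm
    · rw [Ideal.map_le_iff_le_comap]
      intro a ha
      exact (mem_maximalIdeal _).mpr (fun hu => ((mem_maximalIdeal a).mp ha)
        (isUnit_of_map_unit (algebraMap A D₀) a hu))
    · intro d hd
      have hdS : ((d : D₀) : S) ∈ maximalIdeal S :=
        (mem_maximalIdeal _).mpr (fun hu => ((mem_maximalIdeal d).mp hd)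
          (isUnit_of_map_unit (algebraMap D₀ S) d hu))
      subst hD₀
      exact mem_map_maximalIdeal A S α p hαp hmin d hdS
  have hD₀ess : EGA4loc.IsEssentiallyEtale A D₀ :=
    Groth.Agent.Lib.Helper90.EssEtSub.isEssentiallyEtale_of_sub A S D₀ hm
  have hres₀ : ∀ d ∈ D₀, residue S d ∈ k₀ := by
    intro d hd
    rw [← hadj]
    rw [hD₀] at hd
    exact residue_mem_adjoin A S α d hd
  have hHfix : ∀ g ∈ H, ∀ d ∈ D₀, g d = d := by
    intro g hg
    apply fixes_of_residue A S D₀ hD₀ess g
    intro d hd
    rw [← resAut_residue]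
    have h1 : resAut A S g ∈ k₀.fixingSubgroup := by
      rw [hfixk₀, hHb]
      exact Subgroup.mem_map_of_mem _ hg
    exact (IntermediateField.mem_fixingSubgroup_iff _ _).mp h1 _ (hres₀ d hd)
  -- `D₀ ≤ D`
  have hαD : α ∈ D := by
    rw [hDmem]
    have hy : ∀ φ ∈ fracSub A S K, (∀ θ ∈ t, φ θ = θ) →
        φ (algebraMap S K α) = algebraMap S K α := by
      intro φ hφ hφt
      obtain ⟨e, he, rfl⟩ := (mem_fracSub_iff A S K φ).mp hφ
      let g : S ≃ₐ[A] S := AlgEquiv.ofRingEquiv (f := e) he
      have hge : ∀ x, g x = e x := fun x => rfl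
      have hφL : ∀ x ∈ L, IsFractionRing.ringEquivOfRingEquiv (K := K) (L := K) e x = x := by
        intro x hx
        have hLle : L ≤ RingHom.eqLocusField
            ((IsFractionRing.ringEquivOfRingEquiv (K := K) (L := K) e : K ≃+* K) : K →+* K)
            (RingHom.id K) := by
          rw [hL]
          apply Subfield.closure_le.mpr
          rintro y (⟨a, rfl⟩ | hy)
          · exact ringEquivOfRingEquiv_algebraMap_base A S K e he a
          · exact hφt y hy
        exact hLle hx
      have hgH : g ∈ H := by
        rw [hHmem]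
        intro d hd
        apply hKinj
        rw [hge, ← IsFractionRing.ringEquivOfRingEquiv_algebraMap (K := K) (L := K) e d]
        exact hφL _ ((hDmem d).mp hd)
      rw [IsFractionRing.ringEquivOfRingEquiv_algebraMap, ← hge, hHfix g hgH α hαD₀]
    have h1 := mem_closure_of_fixed (fracSub A S K)
      (Subfield.closure (Set.range (algebraMap A K)))
      (mem_closure_of_fracSub_fixed A S K) t (fun θ _ => finite_orbit A S K hinj θ)
      (algebraMap S K α) hy
    rw [hL]
    refine (Subfield.closure_le.mpr ?_) h1
    rintro x (hx | hx)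
    · exact (Subfield.closure_mono Set.subset_union_left) hx
    · exact Subfield.subset_closure (Or.inr hx)
  have hD₀D : D₀ ≤ D := by
    rw [hD₀]
    exact Algebra.adjoin_le (Set.singleton_subset_iff.mpr hαD)
  -- `D ≤ D₀`
  haveI : Algebra.Etale A D₀ := etale_of_isEssentiallyEtale A D₀ hD₀ess
  haveI : Hensel.IsStrictHenselization D₀ S := FinSub.isStrictHenselization_of_etale A S D₀
  haveI : HenselianLocalRing D₀ := FinSub.henselianLocalRing_sub A S D₀
  haveI : Algebra.IsIntegral D₀ S := isIntegral_of_henselian D₀ S
  have hDD₀ : D ≤ D₀ := by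
    intro d hd
    have hfixd : ∀ g₀ : S ≃ₐ[D₀] S, g₀ d = d := by
      intro g₀
      let g : S ≃ₐ[A] S := g₀.restrictScalars A
      have hgg₀ : ∀ x, g x = g₀ x := fun x => rfl
      have hgα : g α = α := g₀.commutes ⟨α, hαD₀⟩
      have hfixα : resAut A S g (residue S α) = residue S α := by
        rw [resAut_residue, hgα]
      have hmem : resAut A S g ∈ k₀.fixingSubgroup := by
        rw [IntermediateField.mem_fixingSubgroup_iff]
        intro x hx
        rw [← hadj] at hx
        have hx' : x ∈ Subfield.closure
            (Set.range (algebraMap (ResidueField A) (ResidueField S)) ∪ {residue S α}) := hx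
        have hle' : Subfield.closure
            (Set.range (algebraMap (ResidueField A) (ResidueField S)) ∪ {residue S α}) ≤
            RingHom.eqLocusField
              (((resAut A S g : ResidueField S ≃ₐ[ResidueField A] ResidueField S) :
                ResidueField S ≃+* ResidueField S) : ResidueField S →+* ResidueField S)
              (RingHom.id _) := by
          apply Subfield.closure_le.mpr
          rintro y (⟨a, rfl⟩ | hy)
          · exact (resAut A S g).commutes a
          · rw [Set.mem_singleton_iff] at hy
            rw [hy]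
            exact hfixα
        exact hle' hx'
      rw [hfixk₀, hHb] at hmem
      obtain ⟨h, hhH, hh⟩ := Subgroup.mem_map.mp hmem
      have hgh : h = g := resAut_injective A S hh
      rw [← hgg₀, ← hgh]
      exact hhH d hd
    obtain ⟨x, hx⟩ := mem_range_of_fixed D₀ S d hfixd
    rw [← hx]
    exact x.2
  have hDeq : D = D₀ := le_antisymm hDD₀ hD₀D
  refine ⟨D, ?_, ?_⟩
  · rw [hDdef, ← hL]
    rfl
  · rw [hDeq]
    exact ⟨inferInstance, inferInstance, hD₀ess⟩

end Main

end Gal

end Groth.Agent.Lib.Helper37.Hz
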