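import Groth.Agent.Lib.Helper37.Hz85

/-!
# Henselization project, part 86: orbits of the Galois action on a reduced strict henselization.
-/

set_option autoImplicit false
set_option linter.style.haveILetI false
set_option linter.unusedSectionVars false
universe u

open IsLocalRing Polynomial

namespace Groth.Agent.Lib.Helper37.Hz

namespace Gal

section Roots

theorem eq_zero_of_forall_mem_minimalPrimes {R : Type*} [CommRing R] [IsReduced R] (r : R)
    (h : ∀ P ∈ minimalPrimes R, r ∈ P) : r = 0 := by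
  have h1 : r ∈ sInf (⊥ : Ideal R).minimalPrimes := by
    rw [Ideal.mem_sInf]
    intro P hP
    exact h P hP
  rw [Ideal.sInf_minimalPrimes] at h1
  have h2 : IsNilpotent r := by
    obtain ⟨n, hn⟩ := h1
    exact ⟨n, by simpa using hn⟩
  exact h2.eq_zero

/-- A monic polynomial has finitely many roots in a reduced ring with finitely many minimal
primes. -/
theorem finite_roots_of_isReduced {R : Type*} [CommRing R] [IsReduced R]
    (hfin : (minimalPrimes R).Finite) (m : R[X]) (hm : m.Monic) :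
    {r : R | m.eval r = 0}.Finite := by
  classical
  haveI : Finite (minimalPrimes R) := hfin.to_subtype
  let ι : R → ∀ P : minimalPrimes R, R ⧸ P.1 := fun r P => Ideal.Quotient.mk P.1 r
  have hinj : Function.Injective ι := by
    intro r s hrs
    have h1 : r - s = 0 := by
      apply eq_zero_of_forall_mem_minimalPrimes
      intro P hP
      have h2 := congrFun hrs ⟨P, hP⟩
      exact Ideal.Quotient.eq.mp h2
    exact sub_eq_zero.mp h1
  let T : Set (∀ P : minimalPrimes R, R ⧸ P.1) :=
    Set.pi Set.univ (fun P => {z : R ⧸ P.1 | (m.map (Ideal.Quotient.mk P.1)).eval z = 0})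
  have hT : T.Finite := by
    apply Set.Finite.pi
    intro P
    haveI : P.1.IsPrime := P.2.1.1
    have hm0 : m.map (Ideal.Quotient.mk P.1) ≠ 0 := (hm.map _).ne_zero
    refine ((m.map (Ideal.Quotient.mk P.1)).roots.toFinset.finite_toSet).subset ?_
    intro z hz
    rw [Finset.mem_coe, Multiset.mem_toFinset, Polynomial.mem_roots hm0]
    exact hz
  refine (hT.preimage (hinj.injOn)).subset ?_
  intro r hr
  rw [Set.mem_preimage, Set.mem_pi]
  intro P _
  change (m.map (Ideal.Quotient.mk P.1)).eval (Ideal.Quotient.mk P.1 r) = 0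
  rw [Polynomial.eval_map, Polynomial.eval₂_at_apply]
  have hr' : m.eval r = 0 := hr
  rw [hr', map_zero]

end Roots

section Orbit

variable (A S : Type u) [CommRing A] [CommRing S] [Algebra A S]

/-- Orbits of `A`-automorphisms on a reduced ring with finitely many minimal primes, integral
over `A`, are finite. -/
theorem finite_orbit_of_isReduced [IsReduced S] (hfin : (minimalPrimes S).Finite)
    [Algebra.IsIntegral A S] (x : S) : {z : S | ∃ g : S ≃ₐ[A] S, g x = z}.Finite := by
  obtain ⟨m, hm, hmx⟩ := Algebra.IsIntegral.isIntegral (R := A) x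
  refine (finite_roots_of_isReduced hfin (m.map (algebraMap A S)) (hm.map _)).subset ?_
  rintro z ⟨g, rfl⟩
  change (m.map (algebraMap A S)).eval (g x) = 0
  rw [Polynomial.eval_map]
  have h1 := Polynomial.hom_eval₂ m (algebraMap A S) (g : S →+* S) x
  have h2 : ((g : S →+* S)).comp (algebraMap A S) = algebraMap A S := by
    ext a
    exact g.commutes a
  rw [hmx, map_zero, h2] at h1
  exact h1.symm

theorem mem_orbit_iff (Pg : Subgroup (S ≃ₐ[A] S)) (x : S) (F : Finset S)
    (hF : ∀ z, z ∈ F ↔ ∃ g ∈ Pg, g x = z) (h : S ≃ₐ[A] S) (hh : h ∈ Pg) (z : S) :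
    z ∈ F ↔ h z ∈ F := by
  rw [hF, hF]
  constructor
  · rintro ⟨g, hg, rfl⟩
    exact ⟨h * g, Pg.mul_mem hh hg, rfl⟩
  · rintro ⟨g, hg, hgz⟩
    refine ⟨h⁻¹ * g, Pg.mul_mem (Pg.inv_mem hh) hg, ?_⟩
    change h⁻¹ (g x) = z
    rw [hgz]
    exact h.symm_apply_apply z

theorem sum_orbit_fixed (Pg : Subgroup (S ≃ₐ[A] S)) (x : S) (F : Finset S)
    (hF : ∀ z, z ∈ F ↔ ∃ g ∈ Pg, g x = z) (h : S ≃ₐ[A] S) (hh : h ∈ Pg) :
    h (∑ z ∈ F, z) = ∑ z ∈ F, z := by
  rw [map_sum]
  exact Finset.sum_bijective h h.bijective (mem_orbit_iff A S Pg x F hF h hh) (fun z _ => rfl)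

theorem prod_orbit_fixed (Pg : Subgroup (S ≃ₐ[A] S)) (x : S) (F : Finset S)
    (hF : ∀ z, z ∈ F ↔ ∃ g ∈ Pg, g x = z) (h : S ≃ₐ[A] S) (hh : h ∈ Pg) :
    h (∏ z ∈ F, z) = ∏ z ∈ F, z := by
  rw [map_prod]
  exact Finset.prod_bijective h h.bijective (mem_orbit_iff A S Pg x F hF h hh) (fun z _ => rfl)

end Orbit

end Gal

end Groth.Agent.Lib.Helper37.Hz
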