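import Groth.Agent.Lib.Helper37.Hz86
import Groth.Agent.Lib.Helper7.FibBr2

/-!
# Henselization project, part 87: the decomposition group of a minimal prime of the strict
henselization of a reduced henselian local ring: fixed elements modulo the prime are fractions of
the base ring.
-/

set_option autoImplicit false
set_option linter.style.haveILetI false
set_option linter.unusedSectionVars false
universe u

open IsLocalRing Polynomial

namespace Groth.Agent.Lib.Helper37.Hz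

namespace Gal

section Trace

variable (A S : Type u) [CommRing A] [CommRing S] [Algebra A S] (Q : Ideal S)

/-- The stabilizer of an ideal. -/
def stab : Subgroup (S ≃ₐ[A] S) where
  carrier := {g | ∀ y, y ∈ Q ↔ g y ∈ Q}
  mul_mem' := fun {g h} hg hh y => by
    rw [hh y, hg (h y)]
    rfl
  one_mem' := fun y => Iff.rfl
  inv_mem' := fun {g} hg y => by
    have h1 := hg (g⁻¹ y)
    have h2 : g (g⁻¹ y) = y := g.apply_symm_apply y
    rw [h2] at h1
    exact h1.symm

theorem mem_stab_iff (g : S ≃ₐ[A] S) : g ∈ stab A S Q ↔ ∀ y, y ∈ Q ↔ g y ∈ Q := Iff.rfl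

theorem comap_mem_minimalPrimes_algEquiv (g : S ≃ₐ[A] S) (P : Ideal S)
    (hP : P ∈ minimalPrimes S) : P.comap (g : S →+* S) ∈ minimalPrimes S :=
  Groth.Agent.Lib.Helper7.FibBr.comap_mem_minimalPrimes_ringEquiv (g : S ≃+* S) P hP

variable [hA : HenselianLocalRing A] [IsNoetherianRing A] [IsReduced A]
  [IsLocalRing S] [IsLocalHom (algebraMap A S)] [hS : Hensel.IsStrictHenselization A S]
  [Q.IsPrime]

include hA hS in
/-- **Trace argument.** If `x` is fixed modulo the minimal prime `Q` by the stabilizer of `Q`,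
then `x` is modulo `Q` a fraction of elements of `A`. -/
theorem exists_mul_sub_mem (hQ : Q ∈ minimalPrimes S) (x : S)
    (hx : ∀ g ∈ stab A S Q, g x - x ∈ Q) :
    ∃ a b : A, algebraMap A S a ∉ Q ∧ algebraMap A S a * x - algebraMap A S b ∈ Q := by
  classical
  haveI : Algebra.IsIntegral A S := isIntegral_of_henselian A S
  haveI : IsReduced S := (isReduced_iff_of_isStrictHenselization A S).mp inferInstance
  haveI : IsNoetherianRing S :=
    (isNoetherianRing_iff_of_isStrictHenselization A S).mp inferInstance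
  have hfin : (minimalPrimes S).Finite := minimalPrimes.finite_of_isNoetherianRing S
  obtain ⟨others, hothers⟩ : ∃ others : Finset (Ideal S),
      ∀ Q', Q' ∈ others ↔ Q' ∈ minimalPrimes S ∧ Q' ≠ Q :=
    ⟨hfin.toFinset.erase Q, fun Q' => by
      rw [Finset.mem_erase, Set.Finite.mem_toFinset]
      exact and_comm⟩
  have hI₁ : ¬ others.inf id ≤ Q := by
    intro hle
    obtain ⟨Q', hQ', hQ'le⟩ := (Ideal.IsPrime.inf_le' (inferInstance : Q.IsPrime)).mp hle
    obtain ⟨hQ'min, hQ'ne⟩ := (hothers Q').mp hQ'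
    have h1 : Q ≤ Q' := hQ.2 ⟨hQ'min.1.1, bot_le⟩ hQ'le
    exact hQ'ne (le_antisymm hQ'le h1)
  obtain ⟨w₀, hw₀I, hw₀Q⟩ := SetLike.not_le_iff_exists.mp hI₁
  have hmemI : ∀ w : S, w ∈ others.inf id ↔ ∀ Q' ∈ others, w ∈ Q' := fun w => by
    rw [Submodule.mem_finsetInf]
    rfl
  -- comap by automorphisms permutes the other minimal primes
  have hcomap_ne : ∀ g : S ≃ₐ[A] S, ∀ Q' : Ideal S, Q'.comap (g : S →+* S) = Q →
      Q' = Q.comap ((g⁻¹ : S ≃ₐ[A] S) : S →+* S) := by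
    intro g Q' h
    ext y
    rw [Ideal.mem_comap, ← h, Ideal.mem_comap]
    change y ∈ Q' ↔ g (g⁻¹ y) ∈ Q'
    rw [show g (g⁻¹ y) = y from g.apply_symm_apply y]
  have hstab_comap : ∀ g ∈ stab A S Q, Q.comap (g : S →+* S) = Q := by
    intro g hg
    ext y
    exact ((mem_stab_iff A S Q g).mp hg y).symm
  have hI_stab : ∀ h ∈ stab A S Q, ∀ w ∈ others.inf id, h w ∈ others.inf id := by
    intro h hh w hw
    rw [hmemI] at hw ⊢
    intro Q' hQ'
    obtain ⟨hQ'min, hQ'ne⟩ := (hothers Q').mp hQ'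
    have h1 : Q'.comap (h : S →+* S) ∈ others := by
      rw [hothers]
      refine ⟨comap_mem_minimalPrimes_algEquiv A S h Q' hQ'min, ?_⟩
      intro heq
      have h2 := hcomap_ne h Q' heq
      rw [hstab_comap _ ((stab A S Q).inv_mem hh)] at h2
      exact hQ'ne h2
    exact hw _ h1
  have hnotQ_stab : ∀ h ∈ stab A S Q, ∀ w : S, w ∉ Q → h w ∉ Q := by
    intro h hh w hw hhw
    exact hw (((mem_stab_iff A S Q h).mp hh w).mpr hhw)
  -- the product `w` over the stabilizer orbit of `w₀`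
  have hforb : {z : S | ∃ g ∈ stab A S Q, g w₀ = z}.Finite := by
    refine (finite_orbit_of_isReduced A S hfin w₀).subset ?_
    rintro z ⟨g, -, rfl⟩
    exact ⟨g, rfl⟩
  obtain ⟨Fw, hFw⟩ : ∃ F : Finset S, ∀ z, z ∈ F ↔ ∃ g ∈ stab A S Q, g w₀ = z :=
    ⟨hforb.toFinset, fun z => by rw [Set.Finite.mem_toFinset]; rfl⟩
  obtain ⟨w, hwdef⟩ : ∃ w : S, w = ∏ z ∈ Fw, z := ⟨_, rfl⟩
  have hw_fix : ∀ h ∈ stab A S Q, h w = w := by
    intro h hh
    rw [hwdef]
    exact prod_orbit_fixed A S (stab A S Q) w₀ Fw hFw h hh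
  have hwI : w ∈ others.inf id := by
    have hw₀F : w₀ ∈ Fw := (hFw w₀).mpr ⟨1, (stab A S Q).one_mem, rfl⟩
    rw [hwdef, ← Finset.mul_prod_erase Fw _ hw₀F]
    exact Ideal.mul_mem_right _ _ hw₀I
  have hwQ : w ∉ Q := by
    rw [hwdef, Ideal.IsPrime.prod_mem_iff]
    rintro ⟨z, hz, hzQ⟩
    obtain ⟨g, hg, rfl⟩ := (hFw z).mp hz
    exact hnotQ_stab g hg w₀ hw₀Q hzQ
  -- `g w ∈ Q` for `g` outside the stabilizer
  have hgw : ∀ g : S ≃ₐ[A] S, g ∉ stab A S Q → g w ∈ Q := by
    intro g hg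
    have h1 : Q.comap (g : S →+* S) ∈ others := by
      rw [hothers]
      refine ⟨comap_mem_minimalPrimes_algEquiv A S g Q hQ, ?_⟩
      intro heq
      apply hg
      rw [mem_stab_iff]
      intro y
      have h3 : y ∈ Q.comap (g : S →+* S) ↔ g y ∈ Q := Ideal.mem_comap
      rw [← h3, heq]
    have h2 := (hmemI w).mp hwI _ h1
    exact h2
  -- stabilizer-invariance of `w * x`
  have hy_fix : ∀ h ∈ stab A S Q, h (w * x) = w * x := by
    intro h hh
    rw [map_mul, hw_fix h hh, ← sub_eq_zero, ← mul_sub]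
    apply eq_zero_of_forall_mem_minimalPrimes
    intro P hP
    by_cases hPQ : P = Q
    · rw [hPQ]
      exact Ideal.mul_mem_left _ _ (hx h hh)
    · have h1 : P ∈ others := (hothers P).mpr ⟨hP, hPQ⟩
      exact Ideal.mul_mem_right _ _ ((hmemI w).mp hwI P h1)
  -- sums over full orbits
  have key : ∀ y : S, (∀ h ∈ stab A S Q, h y = y) → (∀ g : S ≃ₐ[A] S, g ∉ stab A S Q → g y ∈ Q) →
      ∃ b : A, algebraMap A S b - y ∈ Q := by
    intro y hyfix hyQ
    have hforb' : {z : S | ∃ g ∈ (⊤ : Subgroup (S ≃ₐ[A] S)), g y = z}.Finite := by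
      refine (finite_orbit_of_isReduced A S hfin y).subset ?_
      rintro z ⟨g, -, rfl⟩
      exact ⟨g, rfl⟩
    obtain ⟨F, hF⟩ : ∃ F : Finset S, ∀ z, z ∈ F ↔ ∃ g ∈ (⊤ : Subgroup (S ≃ₐ[A] S)), g y = z :=
      ⟨hforb'.toFinset, fun z => by rw [Set.Finite.mem_toFinset]; rfl⟩
    have hfixed : ∀ g : S ≃ₐ[A] S, g (∑ z ∈ F, z) = ∑ z ∈ F, z := fun g =>
      sum_orbit_fixed A S ⊤ y F hF g (Subgroup.mem_top g)
    obtain ⟨b, hb⟩ := mem_range_of_fixed A S _ hfixed
    refine ⟨b, ?_⟩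
    have hyF : y ∈ F := (hF y).mpr ⟨1, Subgroup.mem_top _, rfl⟩
    rw [hb, ← Finset.add_sum_erase F _ hyF, add_sub_cancel_left]
    refine Ideal.sum_mem _ (fun z hz => ?_)
    obtain ⟨hzy, hzF⟩ := Finset.mem_erase.mp hz
    obtain ⟨g, -, rfl⟩ := (hF z).mp hzF
    apply hyQ
    intro hg
    exact hzy (hyfix g hg)
  obtain ⟨b, hb⟩ := key (w * x) hy_fix (fun g hg => by
    rw [map_mul]
    exact Ideal.mul_mem_right _ _ (hgw g hg))
  obtain ⟨a, ha⟩ := key w hw_fix hgw
  refine ⟨a, b, ?_, ?_⟩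
  · intro haQ
    apply hwQ
    have h1 : w = algebraMap A S a - (algebraMap A S a - w) := by ring
    rw [h1]
    exact Ideal.sub_mem _ haQ ha
  · have h1 : algebraMap A S a * x - algebraMap A S b =
        (algebraMap A S a - w) * x - (algebraMap A S b - w * x) := by ring
    rw [h1]
    exact Ideal.sub_mem _ (Ideal.mul_mem_right _ _ ha) hb

end Trace

end Gal

end Groth.Agent.Lib.Helper37.Hz
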