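import Groth.Agent.Lib.Helper37.Hz87

/-!
# Henselization project, part 88: a minimal prime of the strict henselization stabilized by all
automorphisms is extended from the base.
-/

set_option autoImplicit false
set_option linter.style.haveILetI false
set_option linter.unusedSectionVars false
universe u

open IsLocalRing Polynomial Groth.Agent.Lib.Helper4

namespace Groth.Agent.Lib.Helper37.Hz

namespace Gal

section Ext

variable (A S : Type u) [CommRing A] [hA : HenselianLocalRing A] [IsNoetherianRing A]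
  [IsReduced A] [CommRing S] [IsLocalRing S] [Algebra A S] [IsLocalHom (algebraMap A S)]
  [hS : Hensel.IsStrictHenselization A S] (Q : Ideal S) [Q.IsPrime]

include hA hS in
theorem eq_map_comap_of_forall_mem_stab (hQ : Q ∈ minimalPrimes S)
    (hstab : ∀ g : S ≃ₐ[A] S, g ∈ stab A S Q) :
    Q = (Q.comap (algebraMap A S)).map (algebraMap A S) := by
  classical
  haveI : Algebra.IsIntegral A S := isIntegral_of_henselian A S
  haveI : IsReduced S := (isReduced_iff_of_isStrictHenselization A S).mp inferInstance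
  haveI : IsNoetherianRing S :=
    (isNoetherianRing_iff_of_isStrictHenselization A S).mp inferInstance
  haveI : Module.FaithfullyFlat A S := faithfullyFlat_of_isStrictHenselization A S
  haveI : Module.Flat A S := Module.FaithfullyFlat.toFlat
  have hfin : (minimalPrimes S).Finite := minimalPrimes.finite_of_isNoetherianRing S
  set q₀ : Ideal A := Q.comap (algebraMap A S) with hq₀
  haveI : q₀.IsPrime := Ideal.comap_isPrime _ _
  set I : Ideal S := q₀.map (algebraMap A S) with hI
  have hIQ : I ≤ Q := Ideal.map_comap_le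
  -- `S / I` is reduced, so `I` is radical
  have hrad : I.IsRadical := by
    rw [Ideal.isRadical_iff_quotient_reduced]
    have h2 := (isIndEtale_iff_hasFactorization S).mp (isIndEtale_of_isStrictHenselization A S)
    exact isReduced_of_hasFactorization (SmoothBr.hasFactorization_quotient A S q₀ h2)
  apply le_antisymm _ hIQ
  rw [← hrad.radical, ← Ideal.sInf_minimalPrimes]
  apply le_sInf
  intro Q₂ hQ₂
  haveI : Q₂.IsPrime := hQ₂.1.1
  -- going down: `Q₂` contracts to `q₀`
  have hQ₂comap : Q₂.comap (algebraMap A S) = q₀ := by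
    have hge : q₀ ≤ Q₂.comap (algebraMap A S) := Ideal.le_comap_of_map_le hQ₂.1.2
    by_contra hne
    have hlt : q₀ < Q₂.comap (algebraMap A S) := lt_of_le_of_ne hge (Ne.symm hne)
    haveI : Q₂.LiesOver (Q₂.comap (algebraMap A S)) := ⟨rfl⟩
    obtain ⟨Q', hQ'lt, hQ'prime, hQ'over⟩ :=
      Ideal.exists_ideal_lt_liesOver_of_lt (p := q₀) (q := Q₂.comap (algebraMap A S)) Q₂ hlt
    have hIQ' : I ≤ Q' := by
      rw [hI, Ideal.map_le_iff_le_comap]
      exact hQ'over.over.le
    exact (not_le_of_gt hQ'lt) (hQ₂.2 ⟨hQ'prime, hIQ'⟩ hQ'lt.le)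
  -- `Q₂ ≤ Q` by the norm argument
  have hle : Q₂ ≤ Q := by
    intro x hx
    have hforb : {z : S | ∃ g ∈ (⊤ : Subgroup (S ≃ₐ[A] S)), g x = z}.Finite := by
      refine (finite_orbit_of_isReduced A S hfin x).subset ?_
      rintro z ⟨g, -, rfl⟩
      exact ⟨g, rfl⟩
    obtain ⟨F, hF⟩ : ∃ F : Finset S, ∀ z, z ∈ F ↔ ∃ g ∈ (⊤ : Subgroup (S ≃ₐ[A] S)), g x = z :=
      ⟨hforb.toFinset, fun z => by rw [Set.Finite.mem_toFinset]; rfl⟩
    have hfixed : ∀ g : S ≃ₐ[A] S, g (∏ z ∈ F, z) = ∏ z ∈ F, z := fun g =>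
      prod_orbit_fixed A S ⊤ x F hF g (Subgroup.mem_top g)
    obtain ⟨n, hn⟩ := mem_range_of_fixed A S _ hfixed
    have hxF : x ∈ F := (hF x).mpr ⟨1, Subgroup.mem_top _, rfl⟩
    have hNQ₂ : algebraMap A S n ∈ Q₂ := by
      rw [hn, ← Finset.mul_prod_erase F _ hxF]
      exact Ideal.mul_mem_right _ _ hx
    have hnq₀ : n ∈ q₀ := by
      rw [← hQ₂comap]
      exact hNQ₂
    have hNQ : ∏ z ∈ F, z ∈ Q := by
      rw [← hn]
      exact hnq₀
    rw [Ideal.IsPrime.prod_mem_iff] at hNQ
    obtain ⟨z, hz, hzQ⟩ := hNQ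
    obtain ⟨g, -, rfl⟩ := (hF z).mp hz
    exact ((mem_stab_iff A S Q g).mp (hstab g) x).mpr hzQ
  exact hQ.2 ⟨inferInstance, bot_le⟩ hle

end Ext

end Gal

end Groth.Agent.Lib.Helper37.Hz
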