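import Groth.Agent.Lib.Helper37.Hz88

/-!
# Henselization project, part 89: the fixed ring of the Galois action modulo an extended ideal.
-/

set_option autoImplicit false
set_option linter.style.haveILetI false
set_option linter.unusedSectionVars false
universe u

open IsLocalRing Polynomial Groth.Agent.Lib.Helper4

namespace Groth.Agent.Lib.Helper37.Hz

namespace Gal

section ModIdeal

variable (B S : Type u) [CommRing B] [hB : HenselianLocalRing B] [CommRing S] [IsLocalRing S]
  [Algebra B S] [IsLocalHom (algebraMap B S)] [hS : Hensel.IsStrictHenselization B S]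

include hB hS in
/-- If `x ∈ B^sh` is fixed modulo `q₀ B^sh` by all `B`-automorphisms, then `x` is congruent to an
element of `B` modulo `q₀ B^sh`. -/
theorem exists_sub_mem_map_of_fixed (q₀ : Ideal B) (hq₀ : q₀ ≤ maximalIdeal B) (x : S)
    (hx : ∀ g : S ≃ₐ[B] S, g x - x ∈ q₀.map (algebraMap B S)) :
    ∃ b : B, x - algebraMap B S b ∈ q₀.map (algebraMap B S) := by
  haveI : Algebra.IsIntegral B S := isIntegral_of_henselian B S
  haveI : HenselianLocalRing S := hS.henselian
  haveI := Groth.Agent.Lib.Helper7.FibBr.isLocalRing_quotient B q₀ hq₀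
  haveI : IsLocalRing (S ⧸ q₀.map (algebraMap B S)) :=
    Groth.Agent.Lib.Helper7.FibBr.isLocalRing_quotient S _
      (Groth.Agent.Lib.Helper7.FibBr.map_le_maximalIdeal B q₀ S hq₀)
  haveI := Groth.Agent.Lib.Helper7.FibBr.isLocalHom_quotient B q₀ S hq₀
  haveI : Hensel.IsStrictHenselization (B ⧸ q₀) (S ⧸ q₀.map (algebraMap B S)) :=
    Groth.Agent.Lib.Helper7.FibBr.isStrictHenselization_quotient B q₀ S
  haveI : HenselianLocalRing (B ⧸ q₀) := Groth.Agent.S13598.henselianLocalRing_quotient _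
  haveI : HenselianLocalRing (S ⧸ q₀.map (algebraMap B S)) :=
    Groth.Agent.S13598.henselianLocalRing_quotient _
  haveI : Algebra.IsIntegral (B ⧸ q₀) (S ⧸ q₀.map (algebraMap B S)) :=
    isIntegral_of_henselian _ _
  haveI : IsLocalHom (algebraMap B (S ⧸ q₀.map (algebraMap B S))) := by
    haveI h1 : IsLocalHom (Ideal.Quotient.mk (q₀.map (algebraMap B S))) :=
      IsLocalHom.of_surjective _ Ideal.Quotient.mk_surjective
    have h2 : algebraMap B (S ⧸ q₀.map (algebraMap B S)) =
        (Ideal.Quotient.mk (q₀.map (algebraMap B S))).comp (algebraMap B S) := rfl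
    rw [h2]
    exact RingHom.isLocalHom_comp _ _
  let π : S →ₐ[B] (S ⧸ q₀.map (algebraMap B S)) := Ideal.Quotient.mkₐ B _
  have hfix : ∀ γ : (S ⧸ q₀.map (algebraMap B S)) ≃ₐ[B ⧸ q₀] (S ⧸ q₀.map (algebraMap B S)),
      γ (π x) = π x := by
    intro γ
    let v : S →ₐ[B] (S ⧸ q₀.map (algebraMap B S)) :=
      ((γ.restrictScalars B : _ ≃ₐ[B] _) : _ →ₐ[B] _).comp π
    obtain ⟨g, hg⟩ := exists_aut_comp B S (S ⧸ q₀.map (algebraMap B S)) π v
    have h1 : γ (π x) = π (g x) := hg x
    rw [h1]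
    exact (Ideal.Quotient.eq.mpr (hx g))
  obtain ⟨bb, hbb⟩ := mem_range_of_fixed (B ⧸ q₀) (S ⧸ q₀.map (algebraMap B S)) (π x) hfix
  obtain ⟨b, rfl⟩ := Ideal.Quotient.mk_surjective bb
  refine ⟨b, ?_⟩
  have h1 : π x = π (algebraMap B S b) := by
    rw [← hbb]
    rfl
  exact Ideal.Quotient.eq.mp h1

end ModIdeal

section Denominators

variable (A S : Type u) [CommRing A] [CommRing S] [Algebra A S]
  (K : Type*) [Field K] [Algebra S K] [IsFractionRing S K] [Algebra A K] [IsScalarTower A S K]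

/-- Version of `exists_mul_eq_algebraMap` without injectivity of `A → S`. -/
theorem exists_mul_eq_algebraMap' [IsDomain S] [Algebra.IsIntegral A S] (c : K) :
    ∃ a : A, algebraMap A S a ≠ 0 ∧ ∃ s : S, algebraMap A K a * c = algebraMap S K s := by
  haveI : Algebra.IsIntegral (⊥ : Subalgebra A S) S :=
    ⟨fun s => (Algebra.IsIntegral.isIntegral (R := A) s).tower_top⟩
  obtain ⟨a', ha', s, hs⟩ := exists_mul_eq_algebraMap (⊥ : Subalgebra A S) S K
    Subtype.val_injective c
  obtain ⟨a, ha⟩ := Algebra.mem_bot.mp a'.2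
  refine ⟨a, ?_, s, ?_⟩
  · rw [ha]
    exact ha'
  · rw [← hs, IsScalarTower.algebraMap_apply A S K, ha]
    rfl

end Denominators

end Gal

end Groth.Agent.Lib.Helper37.Hz
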