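import Groth.Agent.Lib.Helper37.Hz89

/-!
# Henselization project, part 90: the Galois action on the fraction field of `A^sh / Q`, `Q` a
minimal prime.
-/

set_option autoImplicit false
set_option linter.style.haveILetI false
set_option linter.unusedSectionVars false
universe u

open IsLocalRing Polynomial Groth.Agent.Lib.Helper4

namespace Groth.Agent.Lib.Helper37.Hz

namespace Gal

section QuotAct

variable (A S : Type u) [CommRing A] [CommRing S] [Algebra A S] (Q : Ideal S) [Q.IsPrime]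
  (K : Type*) [Field K] [Algebra (S ⧸ Q) K] [IsFractionRing (S ⧸ Q) K] [Algebra A K]
  [IsScalarTower A (S ⧸ Q) K]

/-- The map `S → Frac (S/Q)`. -/
noncomputable def ιq : S →+* K := (algebraMap (S ⧸ Q) K).comp (Ideal.Quotient.mk Q)

theorem ιq_apply (x : S) : ιq S Q K x = algebraMap (S ⧸ Q) K (Ideal.Quotient.mk Q x) := rfl

theorem ιq_eq_iff (x y : S) : ιq S Q K x = ιq S Q K y ↔ x - y ∈ Q := by
  rw [ιq_apply, ιq_apply, (IsFractionRing.injective (S ⧸ Q) K).eq_iff, Ideal.Quotient.eq]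

theorem ιq_eq_zero_iff (x : S) : ιq S Q K x = 0 ↔ x ∈ Q := by
  have h := ιq_eq_iff S Q K x 0
  rw [map_zero, sub_zero] at h
  exact h

theorem algebraMap_eq_ιq (a : A) : algebraMap A K a = ιq S Q K (algebraMap A S a) := by
  rw [IsScalarTower.algebraMap_apply A (S ⧸ Q) K]
  rfl

theorem map_eq_of_mem_stab (g : S ≃ₐ[A] S) (hg : g ∈ stab A S Q) :
    Q = Ideal.map ((g : S ≃+* S) : S →+* S) Q := by
  apply le_antisymm
  · intro y hy
    have h1 : (g⁻¹ : S ≃ₐ[A] S) y ∈ Q :=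
      ((mem_stab_iff A S Q _).mp ((stab A S Q).inv_mem hg) y).mp hy
    have h2 : g ((g⁻¹ : S ≃ₐ[A] S) y) = y := g.apply_symm_apply y
    rw [← h2]
    exact Ideal.mem_map_of_mem _ h1
  · rw [Ideal.map_le_iff_le_comap]
    intro y hy
    exact ((mem_stab_iff A S Q g).mp hg y).mp hy

/-- The automorphism of `S/Q` induced by an element of the stabilizer of `Q`. -/
noncomputable def quotAut (g : S ≃ₐ[A] S) (hg : g ∈ stab A S Q) : (S ⧸ Q) ≃+* (S ⧸ Q) :=
  Ideal.quotientEquiv Q Q (g : S ≃+* S) (map_eq_of_mem_stab A S Q g hg)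

theorem quotAut_mk (g : S ≃ₐ[A] S) (hg : g ∈ stab A S Q) (x : S) :
    quotAut A S Q g hg (Ideal.Quotient.mk Q x) = Ideal.Quotient.mk Q (g x) := rfl

/-- The induced automorphism of the fraction field. -/
noncomputable def fracAut (g : S ≃ₐ[A] S) (hg : g ∈ stab A S Q) : K ≃+* K :=
  IsFractionRing.ringEquivOfRingEquiv (quotAut A S Q g hg)

theorem fracAut_ιq (g : S ≃ₐ[A] S) (hg : g ∈ stab A S Q) (x : S) :
    fracAut A S Q K g hg (ιq S Q K x) = ιq S Q K (g x) := by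
  unfold fracAut
  rw [ιq_apply, IsFractionRing.ringEquivOfRingEquiv_algebraMap, quotAut_mk]
  rfl

/-- The group of automorphisms of `Frac (S/Q)` induced by the stabilizer of `Q`. -/
def quotFracSub : Subgroup (K ≃+* K) where
  carrier := {φ | ∃ g ∈ stab A S Q, ∀ x : S, φ (ιq S Q K x) = ιq S Q K (g x)}
  mul_mem' := by
    rintro φ₁ φ₂ ⟨g₁, hg₁, h₁⟩ ⟨g₂, hg₂, h₂⟩
    refine ⟨g₁ * g₂, (stab A S Q).mul_mem hg₁ hg₂, fun x => ?_⟩
    change φ₁ (φ₂ (ιq S Q K x)) = ιq S Q K (g₁ (g₂ x))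
    rw [h₂, h₁]
  one_mem' := ⟨1, (stab A S Q).one_mem, fun x => rfl⟩
  inv_mem' := by
    rintro φ ⟨g, hg, h⟩
    refine ⟨g⁻¹, (stab A S Q).inv_mem hg, fun x => ?_⟩
    have h1 : φ (ιq S Q K ((g⁻¹ : S ≃ₐ[A] S) x)) = ιq S Q K x := by
      rw [h]
      congr 1
      exact g.apply_symm_apply x
    have h2 : φ⁻¹ (φ (ιq S Q K ((g⁻¹ : S ≃ₐ[A] S) x))) = ιq S Q K ((g⁻¹ : S ≃ₐ[A] S) x) :=
      φ.symm_apply_apply _
    rw [h1] at h2
    exact h2

theorem mem_quotFracSub_iff (φ : K ≃+* K) : φ ∈ quotFracSub A S Q K ↔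
    ∃ g ∈ stab A S Q, ∀ x : S, φ (ιq S Q K x) = ιq S Q K (g x) := Iff.rfl

theorem fracAut_mem (g : S ≃ₐ[A] S) (hg : g ∈ stab A S Q) :
    fracAut A S Q K g hg ∈ quotFracSub A S Q K :=
  ⟨g, hg, fracAut_ιq A S Q K g hg⟩

end QuotAct

end Gal

end Groth.Agent.Lib.Helper37.Hz
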