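import Groth.Agent.Lib.Helper37.Hz90

/-!
# Henselization project, part 91: fixed field and orbits for the decomposition group acting on
`Frac (A^sh / Q)`.
-/

set_option autoImplicit false
set_option linter.style.haveILetI false
set_option linter.unusedSectionVars false
universe u

open IsLocalRing Polynomial Groth.Agent.Lib.Helper4

namespace Groth.Agent.Lib.Helper37.Hz

namespace Gal

section QuotFix

variable (A S : Type u) [CommRing A] [hA : HenselianLocalRing A] [IsNoetherianRing A]
  [IsReduced A] [CommRing S] [IsLocalRing S] [Algebra A S] [IsLocalHom (algebraMap A S)]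
  [hS : Hensel.IsStrictHenselization A S] (Q : Ideal S) [Q.IsPrime]
  (K : Type*) [Field K] [Algebra (S ⧸ Q) K] [IsFractionRing (S ⧸ Q) K] [Algebra A K]
  [IsScalarTower A (S ⧸ Q) K]

include hA hS in
theorem exists_num_den (c : K) :
    ∃ a : A, algebraMap A S a ∉ Q ∧ ∃ s : S, algebraMap A K a * c = ιq S Q K s := by
  haveI : Algebra.IsIntegral A S := isIntegral_of_henselian A S
  haveI : Algebra.IsIntegral A (S ⧸ Q) :=
    Algebra.IsIntegral.of_surjective (Ideal.Quotient.mkₐ A Q) Ideal.Quotient.mk_surjective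
  obtain ⟨a, ha, sb, hs⟩ := exists_mul_eq_algebraMap' A (S ⧸ Q) K c
  obtain ⟨s, rfl⟩ := Ideal.Quotient.mk_surjective sb
  refine ⟨a, ?_, s, hs⟩
  intro haQ
  apply ha
  change Ideal.Quotient.mk Q (algebraMap A S a) = 0
  exact Ideal.Quotient.eq_zero_iff_mem.mpr haQ

include hA hS in
theorem mem_closure_of_quotFracSub_fixed (hQ : Q ∈ minimalPrimes S) (c : K)
    (hc : ∀ φ ∈ quotFracSub A S Q K, φ c = c) :
    c ∈ Subfield.closure (Set.range (algebraMap A K)) := by
  obtain ⟨a, ha, s, hs⟩ := exists_num_den A S Q K c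
  have haK : algebraMap A K a ≠ 0 := by
    rw [algebraMap_eq_ιq A S Q K]
    intro h0
    exact ha ((ιq_eq_zero_iff S Q K _).mp h0)
  have hsfix : ∀ g ∈ stab A S Q, g s - s ∈ Q := by
    intro g hg
    have h1 := congrArg (fracAut A S Q K g hg) hs
    rw [map_mul, hc _ (fracAut_mem A S Q K g hg), algebraMap_eq_ιq A S Q K, fracAut_ιq,
      fracAut_ιq, g.commutes, ← algebraMap_eq_ιq A S Q K, hs] at h1
    exact (ιq_eq_iff S Q K _ _).mp h1.symm
  obtain ⟨a', b, ha', hab⟩ := exists_mul_sub_mem A S Q hQ s hsfix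
  have ha'K : algebraMap A K a' ≠ 0 := by
    rw [algebraMap_eq_ιq A S Q K]
    intro h0
    exact ha' ((ιq_eq_zero_iff S Q K _).mp h0)
  have h2 : algebraMap A K a' * ιq S Q K s = algebraMap A K b := by
    rw [algebraMap_eq_ιq A S Q K, algebraMap_eq_ιq A S Q K, ← map_mul]
    exact (ιq_eq_iff S Q K _ _).mpr hab
  have hceq : c = algebraMap A K b / (algebraMap A K a' * algebraMap A K a) := by
    rw [eq_div_iff (mul_ne_zero ha'K haK), ← h2, ← hs]
    ring
  rw [hceq]
  exact Subfield.div_mem _ (Subfield.subset_closure ⟨b, rfl⟩)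
    (Subfield.mul_mem _ (Subfield.subset_closure ⟨a', rfl⟩) (Subfield.subset_closure ⟨a, rfl⟩))

include hA hS in
theorem finite_orbit_quot (θ : K) : {z : K | ∃ φ ∈ quotFracSub A S Q K, φ θ = z}.Finite := by
  haveI : Algebra.IsIntegral A S := isIntegral_of_henselian A S
  haveI : IsReduced S := (isReduced_iff_of_isStrictHenselization A S).mp inferInstance
  haveI : IsNoetherianRing S :=
    (isNoetherianRing_iff_of_isStrictHenselization A S).mp inferInstance
  have hfin : (minimalPrimes S).Finite := minimalPrimes.finite_of_isNoetherianRing S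
  obtain ⟨a, ha, s, hs⟩ := exists_num_den A S Q K θ
  have haK : algebraMap A K a ≠ 0 := by
    rw [algebraMap_eq_ιq A S Q K]
    intro h0
    exact ha ((ιq_eq_zero_iff S Q K _).mp h0)
  refine ((finite_orbit_of_isReduced A S hfin s).image
    (fun z => ιq S Q K z / algebraMap A K a)).subset ?_
  rintro z ⟨φ, hφ, rfl⟩
  obtain ⟨g, hg, hφg⟩ := (mem_quotFracSub_iff A S Q K φ).mp hφ
  refine ⟨g s, ⟨g, rfl⟩, ?_⟩
  have h1 := congrArg φ hs
  rw [map_mul, algebraMap_eq_ιq A S Q K, hφg, hφg, g.commutes, ← algebraMap_eq_ιq A S Q K] at h1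
  change ιq S Q K (g s) / algebraMap A K a = φ θ
  rw [← h1, mul_div_assoc, mul_comm, div_mul_cancel₀ _ haK]

end QuotFix

end Gal

end Groth.Agent.Lib.Helper37.Hz
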