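import Groth.Agent.Lib.Helper37.Hz91

/-!
# Henselization project, part 92: for a reduced henselian local ring `A`, a minimal prime `Q` of
`S = A^sh` and a finitely generated subfield `L` of `Frac (S/Q)` over `A`, the intersection
`L ∩ S/Q` is the image of a finite étale local `A`-subalgebra of `S`.
-/

set_option autoImplicit false
set_option linter.style.haveILetI false
set_option linter.unusedSectionVars false
universe u

open IsLocalRing Polynomial Groth.Agent.Lib.Helper4

namespace Groth.Agent.Lib.Helper37.Hz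

namespace Gal

section QuotMain

variable (A S : Type u) [CommRing A] [hA : HenselianLocalRing A] [IsNoetherianRing A]
  [IsReduced A] [CommRing S] [IsLocalRing S] [Algebra A S] [IsLocalHom (algebraMap A S)]
  [hS : Hensel.IsStrictHenselization A S] (Q : Ideal S) [Q.IsPrime]
  (K : Type*) [Field K] [Algebra (S ⧸ Q) K] [IsFractionRing (S ⧸ Q) K] [Algebra A K]
  [IsScalarTower A (S ⧸ Q) K]

include hA hS in
theorem exists_etale_sub_quotient (hQ : Q ∈ minimalPrimes S) (t : Finset K) :
    ∃ D₀ : Subalgebra A S, Module.Finite A D₀ ∧ Algebra.Etale A D₀ ∧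
      ∀ x : S, ιq S Q K x ∈
          Subfield.closure (Set.range (algebraMap A K) ∪ (t : Set K)) ↔
        ∃ d ∈ D₀, x - d ∈ Q := by
  classical
  haveI : Algebra.IsIntegral A S := isIntegral_of_henselian A S
  haveI : IsReduced S := (isReduced_iff_of_isStrictHenselization A S).mp inferInstance
  haveI : IsNoetherianRing S :=
    (isNoetherianRing_iff_of_isStrictHenselization A S).mp inferInstance
  haveI : Module.FaithfullyFlat A S := faithfullyFlat_of_isStrictHenselization A S
  haveI := hS.isSepClosure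
  haveI : HenselianLocalRing S := hS.henselian
  haveI : Algebra.IsSeparable (ResidueField A) (ResidueField S) := IsSepClosure.separable
  haveI : Algebra.IsIntegral (ResidueField A) (ResidueField S) :=
    (Algebra.IsSeparable.isAlgebraic (ResidueField A) (ResidueField S)).isIntegral
  obtain ⟨L, hL⟩ : ∃ L : Subfield K,
      L = Subfield.closure (Set.range (algebraMap A K) ∪ (t : Set K)) := ⟨_, rfl⟩
  rw [← hL]
  -- numerators, generators of `Q`, and the étale algebra `E`
  have hnum : ∀ θ : K, ∃ s : S, ∃ a : A, algebraMap A S a ∉ Q ∧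
      algebraMap A K a * θ = ιq S Q K s := fun θ => by
    obtain ⟨a, ha, s, hs⟩ := exists_num_den A S Q K θ
    exact ⟨s, a, ha, hs⟩
  choose num den hden hnd using hnum
  have hdenK : ∀ θ, algebraMap A K (den θ) ≠ 0 := by
    intro θ
    rw [algebraMap_eq_ιq A S Q K]
    intro h0
    exact hden θ ((ιq_eq_zero_iff S Q K _).mp h0)
  obtain ⟨GQ, hGQ⟩ : ∃ GQ : Finset S, Ideal.span (GQ : Set S) = Q :=
    (IsNoetherian.noetherian Q)
  obtain ⟨E, hσE, -, -, -, hEloc, hE⟩ :=
    Groth.Agent.Lib.Helper90.SHensUnion.exists_essEtale_sub' A S (GQ ∪ t.image num)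
  haveI := hEloc
  haveI : Module.Finite A E := finite_of_isEssentiallyEtale A E hE
  haveI : IsLocalHom (algebraMap E S) := FinSub.isLocalHom_sub A S E
  haveI : IsLocalHom (algebraMap A E) := FinSub.isLocalHom_base A S E
  have hGQE : ∀ γ ∈ GQ, γ ∈ E := fun γ hγ =>
    hσE (Finset.mem_coe.mpr (Finset.mem_union_left _ hγ))
  have hnumE : ∀ θ ∈ t, num θ ∈ E := fun θ hθ =>
    hσE (Finset.mem_coe.mpr (Finset.mem_union_right _ (Finset.mem_image_of_mem num hθ)))
  -- automorphisms fixing `E` stabilize `Q`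
  have hstabE : ∀ g : S ≃ₐ[A] S, (∀ e ∈ E, g e = e) → g ∈ stab A S Q := by
    have hmap : ∀ g : S ≃ₐ[A] S, (∀ e ∈ E, g e = e) → ∀ y ∈ Q, g y ∈ Q := by
      intro g hg y hy
      have h1 : g y ∈ Ideal.map ((g : S ≃+* S) : S →+* S) Q := Ideal.mem_map_of_mem _ hy
      rw [← hGQ, Ideal.map_span] at h1
      have h2 : ((g : S ≃+* S) : S →+* S) '' (GQ : Set S) = (GQ : Set S) := by
        ext z
        constructor
        · rintro ⟨γ, hγ, rfl⟩
          change g γ ∈ (GQ : Set S)
          rw [hg γ (hGQE γ hγ)]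
          exact hγ
        · intro hz
          exact ⟨z, hz, hg z (hGQE z hz)⟩
      rw [h2, hGQ] at h1
      exact h1
    intro g hg
    rw [mem_stab_iff]
    intro y
    refine ⟨hmap g hg y, fun hy => ?_⟩
    have hg' : ∀ e ∈ E, (g⁻¹ : S ≃ₐ[A] S) e = e := by
      intro e he
      have h1 : (g⁻¹ : S ≃ₐ[A] S) (g e) = e := g.symm_apply_apply e
      rw [hg e he] at h1
      exact h1
    have h1 := hmap g⁻¹ hg' (g y) hy
    have h2 : (g⁻¹ : S ≃ₐ[A] S) (g y) = y := g.symm_apply_apply y
    rw [h2] at h1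
    exact h1
  -- an element of the stabilizer whose fraction field automorphism fixes `t` fixes `L`
  have hfixL : ∀ φ ∈ quotFracSub A S Q K, (∀ θ ∈ t, φ θ = θ) → ∀ l ∈ L, φ l = l := by
    intro φ hφ hφt l hl
    obtain ⟨g, hg, hφg⟩ := (mem_quotFracSub_iff A S Q K φ).mp hφ
    have hLle : L ≤ RingHom.eqLocusField ((φ : K ≃+* K) : K →+* K) (RingHom.id K) := by
      rw [hL]
      apply Subfield.closure_le.mpr
      rintro y (⟨a, rfl⟩ | hy)
      · change φ (algebraMap A K a) = algebraMap A K a
        rw [algebraMap_eq_ιq A S Q K, hφg, g.commutes]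
      · exact hφt y hy
    exact hLle hl
  -- the group `H`
  let H : Subgroup (S ≃ₐ[A] S) :=
    { carrier := {g | g ∈ stab A S Q ∧ ∀ x : S, ιq S Q K x ∈ L → g x - x ∈ Q}
      mul_mem' := fun {g₁ g₂} h₁ h₂ => by
        refine ⟨(stab A S Q).mul_mem h₁.1 h₂.1, fun x hx => ?_⟩
        have h3 : ιq S Q K (g₂ x) ∈ L := by
          have h4 : ιq S Q K (g₂ x) = ιq S Q K x := (ιq_eq_iff S Q K _ _).mpr (h₂.2 x hx)
          rw [h4]
          exact hx
        have h5 : (g₁ * g₂) x - x = (g₁ (g₂ x) - g₂ x) + (g₂ x - x) := by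
          change g₁ (g₂ x) - x = _
          ring
        rw [h5]
        exact Ideal.add_mem _ (h₁.2 _ h3) (h₂.2 x hx)
      one_mem' := ⟨(stab A S Q).one_mem, fun x _ => by
        change x - x ∈ Q
        rw [sub_self]
        exact Q.zero_mem⟩
      inv_mem' := fun {g} h => by
        refine ⟨(stab A S Q).inv_mem h.1, fun x hx => ?_⟩
        have h1 := h.2 x hx
        have h2 : (g⁻¹ : S ≃ₐ[A] S) (g x - x) ∈ Q :=
          ((mem_stab_iff A S Q _).mp ((stab A S Q).inv_mem h.1) _).mp h1
        rw [map_sub, show (g⁻¹ : S ≃ₐ[A] S) (g x) = x from g.symm_apply_apply x] at h2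
        have h3 : (g⁻¹ : S ≃ₐ[A] S) x - x = -(x - (g⁻¹ : S ≃ₐ[A] S) x) := by ring
        rw [h3]
        exact Q.neg_mem h2 }
  have hHmem : ∀ g : S ≃ₐ[A] S, g ∈ H ↔
      (g ∈ stab A S Q ∧ ∀ x : S, ιq S Q K x ∈ L → g x - x ∈ Q) := fun g => Iff.rfl
  -- members of the stabilizer fixing `t` lie in `H`
  have hH_of_fix : ∀ (g : S ≃ₐ[A] S) (hg : g ∈ stab A S Q),
      (∀ θ ∈ t, fracAut A S Q K g hg θ = θ) → g ∈ H := by
    intro g hg hgt
    rw [hHmem]
    refine ⟨hg, fun x hx => ?_⟩
    have h1 := hfixL _ (fracAut_mem A S Q K g hg) hgt _ hx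
    rw [fracAut_ιq] at h1
    exact (ιq_eq_iff S Q K _ _).mp h1
  obtain ⟨Hb, hHb⟩ : ∃ Hb : Subgroup (ResidueField S ≃ₐ[ResidueField A] ResidueField S),
      Hb = H.map (resAut A S) := ⟨_, rfl⟩
  obtain ⟨n, gen, hgen⟩ := Module.Finite.exists_fin (R := A) (M := E)
  obtain ⟨kE, hkE⟩ : ∃ kE : IntermediateField (ResidueField A) (ResidueField S),
      kE = IntermediateField.adjoin (ResidueField A)
        (Set.range (fun i => residue S (gen i : S))) := ⟨_, rfl⟩
  haveI : FiniteDimensional (ResidueField A) kE := by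
    rw [hkE]
    exact IntermediateField.finiteDimensional_adjoin
      (fun x _ => Algebra.IsIntegral.isIntegral x)
  have hle : kE.fixingSubgroup ≤ Hb := by
    intro τ hτ
    obtain ⟨g, rfl⟩ := resAut_surjective A S τ
    rw [hHb]
    refine Subgroup.mem_map.mpr ⟨g, ?_, rfl⟩
    have hres : ∀ e ∈ E, residue S (g e) = residue S e := by
      intro e he
      have hmem : (⟨e, he⟩ : E) ∈ Submodule.span A (Set.range gen) := by
        rw [hgen]; trivial
      obtain ⟨c, hc⟩ := (Submodule.mem_span_range_iff_exists_fun A).mp hmem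
      have he' : e = ∑ i, c i • (gen i : S) := by
        have h1 := congrArg (fun x : E => (x : S)) hc
        simp only [AddSubmonoidClass.coe_finset_sum, Subalgebra.coe_smul] at h1
        exact h1.symm
      rw [← resAut_residue, he', map_sum, map_sum]
      refine Finset.sum_congr rfl (fun i _ => ?_)
      rw [Algebra.smul_def, map_mul, map_mul]
      congr 1
      · exact (resAut A S g).commutes (residue A (c i))
      · refine (IntermediateField.mem_fixingSubgroup_iff _ _).mp hτ _ ?_
        rw [hkE]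
        exact IntermediateField.subset_adjoin _ _ ⟨i, rfl⟩
    have hgE : ∀ e ∈ E, g e = e := fixes_of_residue A S E hE g hres
    have hgstab : g ∈ stab A S Q := hstabE g hgE
    refine hH_of_fix g hgstab (fun θ hθ => ?_)
    have h1 : θ = ιq S Q K (num θ) / algebraMap A K (den θ) := by
      rw [eq_div_iff (hdenK θ), mul_comm]
      exact hnd θ
    rw [h1, map_div₀, fracAut_ιq, hgE _ (hnumE θ hθ), algebraMap_eq_ιq A S Q K, fracAut_ιq,
      g.commutes]
  have hopen : IsOpen (Hb : Set (ResidueField S ≃ₐ[ResidueField A] ResidueField S)) :=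
    Subgroup.isOpen_mono hle (IntermediateField.fixingSubgroup_isOpen kE)
  have hclosed : IsClosed (Hb : Set (ResidueField S ≃ₐ[ResidueField A] ResidueField S)) :=
    Subgroup.isClosed_of_isOpen Hb hopen
  obtain ⟨k₀, hk₀⟩ : ∃ k₀ : IntermediateField (ResidueField A) (ResidueField S),
      k₀ = IntermediateField.fixedField Hb := ⟨_, rfl⟩
  have hfixk₀ : k₀.fixingSubgroup = Hb := by
    rw [hk₀]
    exact InfiniteGalois.fixingSubgroup_fixedField ⟨Hb, hclosed⟩
  have hk₀E : k₀ ≤ kE := by
    intro x hx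
    rw [← InfiniteGalois.fixedField_fixingSubgroup kE]
    rw [hk₀, IntermediateField.mem_fixedField_iff] at hx
    rw [IntermediateField.mem_fixedField_iff]
    intro τ hτ
    exact hx τ (hle hτ)
  haveI : FiniteDimensional (ResidueField A) k₀ :=
    Module.Finite.of_injective (IntermediateField.inclusion hk₀E).toLinearMap
      (IntermediateField.inclusion hk₀E).injective
  -- the étale algebra `D₀`
  obtain ⟨α, p, hp, hαp, hmin, hadj⟩ := exists_root_lift A S k₀
  obtain ⟨D₀, hD₀⟩ : ∃ D₀ : Subalgebra A S, D₀ = Algebra.adjoin A {α} := ⟨_, rfl⟩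
  have hαD₀ : α ∈ D₀ := by rw [hD₀]; exact Algebra.self_mem_adjoin_singleton A α
  haveI : Module.Finite A D₀ := by rw [hD₀]; exact finite_adjoin A S α p hp hαp
  haveI : IsLocalRing D₀ := FinSub.isLocalRing_sub A S D₀
  haveI : IsLocalHom (algebraMap D₀ S) := FinSub.isLocalHom_sub A S D₀
  haveI : IsLocalHom (algebraMap A D₀) := FinSub.isLocalHom_base A S D₀
  have hm : Ideal.map (algebraMap A D₀) (maximalIdeal A) = maximalIdeal D₀ := by
    apply le_antisymm
    · rw [Ideal.map_le_iff_le_comap]
      intro a ha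
      exact (mem_maximalIdeal _).mpr (fun hu => ((mem_maximalIdeal a).mp ha)
        (isUnit_of_map_unit (algebraMap A D₀) a hu))
    · intro d hd
      have hdS : ((d : D₀) : S) ∈ maximalIdeal S :=
        (mem_maximalIdeal _).mpr (fun hu => ((mem_maximalIdeal d).mp hd)
          (isUnit_of_map_unit (algebraMap D₀ S) d hu))
      subst hD₀
      exact mem_map_maximalIdeal A S α p hαp hmin d hdS
  have hD₀ess : EGA4loc.IsEssentiallyEtale A D₀ :=
    Groth.Agent.Lib.Helper90.EssEtSub.isEssentiallyEtale_of_sub A S D₀ hm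
  have hres₀ : ∀ d ∈ D₀, residue S d ∈ k₀ := by
    intro d hd
    rw [← hadj]
    rw [hD₀] at hd
    exact residue_mem_adjoin A S α d hd
  have hHfix : ∀ g ∈ H, ∀ d ∈ D₀, g d = d := by
    intro g hg
    apply fixes_of_residue A S D₀ hD₀ess g
    intro d hd
    rw [← resAut_residue]
    have h1 : resAut A S g ∈ k₀.fixingSubgroup := by
      rw [hfixk₀, hHb]
      exact Subgroup.mem_map_of_mem _ hg
    exact (IntermediateField.mem_fixingSubgroup_iff _ _).mp h1 _ (hres₀ d hd)
  -- automorphisms fixing `α` lie in `H`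
  have hH_of_α : ∀ g : S ≃ₐ[A] S, g α = α → g ∈ H := by
    intro g hgα
    have hfixα : resAut A S g (residue S α) = residue S α := by
      rw [resAut_residue, hgα]
    have hmem : resAut A S g ∈ k₀.fixingSubgroup := by
      rw [IntermediateField.mem_fixingSubgroup_iff]
      intro x hx
      rw [← hadj] at hx
      have hx' : x ∈ Subfield.closure
          (Set.range (algebraMap (ResidueField A) (ResidueField S)) ∪ {residue S α}) := hx
      have hle' : Subfield.closure
          (Set.range (algebraMap (ResidueField A) (ResidueField S)) ∪ {residue S α}) ≤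
          RingHom.eqLocusField
            (((resAut A S g : ResidueField S ≃ₐ[ResidueField A] ResidueField S) :
              ResidueField S ≃+* ResidueField S) : ResidueField S →+* ResidueField S)
            (RingHom.id _) := by
        apply Subfield.closure_le.mpr
        rintro y (⟨a, rfl⟩ | hy)
        · exact (resAut A S g).commutes a
        · rw [Set.mem_singleton_iff] at hy
          rw [hy]
          exact hfixα
      exact hle' hx'
    rw [hfixk₀, hHb] at hmem
    obtain ⟨h, hhH, hh⟩ := Subgroup.mem_map.mp hmem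
    have hgh : h = g := resAut_injective A S hh
    rw [← hgh]
    exact hhH
  -- `D₀` maps into `L`
  have hαL : ιq S Q K α ∈ L := by
    have hy : ∀ φ ∈ quotFracSub A S Q K, (∀ θ ∈ t, φ θ = θ) →
        φ (ιq S Q K α) = ιq S Q K α := by
      intro φ hφ hφt
      obtain ⟨g, hg, hφg⟩ := (mem_quotFracSub_iff A S Q K φ).mp hφ
      have hgH : g ∈ H := by
        rw [hHmem]
        refine ⟨hg, fun x hx => ?_⟩
        have h1 := hfixL φ hφ hφt _ hx
        rw [hφg] at h1
        exact (ιq_eq_iff S Q K _ _).mp h1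
      rw [hφg, hHfix g hgH α hαD₀]
    have h1 := mem_closure_of_fixed (quotFracSub A S Q K)
      (Subfield.closure (Set.range (algebraMap A K)))
      (mem_closure_of_quotFracSub_fixed A S Q K hQ) t
      (fun θ _ => finite_orbit_quot A S Q K θ) (ιq S Q K α) hy
    rw [hL]
    refine (Subfield.closure_le.mpr ?_) h1
    rintro x (hx | hx)
    · exact (Subfield.closure_mono Set.subset_union_left) hx
    · exact Subfield.subset_closure (Or.inr hx)
  have hLA : Set.range (algebraMap A K) ⊆ (L : Set K) := by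
    rw [hL]
    exact fun x hx => Subfield.subset_closure (Or.inl hx)
  have hD₀L : ∀ d ∈ D₀, ιq S Q K d ∈ L := by
    have hle2 : D₀ ≤ (interSub A (S ⧸ Q) K L hLA).comap (Ideal.Quotient.mkₐ A Q) := by
      rw [hD₀]
      apply Algebra.adjoin_le
      rw [Set.singleton_subset_iff]
      exact hαL
    intro d hd
    exact hle2 hd
  -- the étale structure
  haveI : Algebra.Etale A D₀ := etale_of_isEssentiallyEtale A D₀ hD₀ess
  haveI : Hensel.IsStrictHenselization D₀ S := FinSub.isStrictHenselization_of_etale A S D₀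
  haveI : HenselianLocalRing D₀ := FinSub.henselianLocalRing_sub A S D₀
  haveI : IsNoetherianRing D₀ := Algebra.FiniteType.isNoetherianRing A D₀
  haveI : IsReduced D₀ := isReduced_of_injective (algebraMap D₀ S) Subtype.val_injective
  -- all `D₀`-automorphisms lie in `H`
  have hautH : ∀ g₀ : S ≃ₐ[D₀] S, (g₀.restrictScalars A) ∈ H := by
    intro g₀
    apply hH_of_α
    exact g₀.commutes ⟨α, hαD₀⟩
  have hQext : Q = (Q.comap (algebraMap D₀ S)).map (algebraMap D₀ S) := by
    apply eq_map_comap_of_forall_mem_stab D₀ S Q hQ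
    intro g₀
    rw [mem_stab_iff]
    intro y
    exact (mem_stab_iff A S Q _).mp ((hHmem _).mp (hautH g₀)).1 y
  have hq₀le : Q.comap (algebraMap D₀ S) ≤ maximalIdeal D₀ :=
    IsLocalRing.le_maximalIdeal (Ideal.IsPrime.ne_top (Ideal.comap_isPrime _ _))
  refine ⟨D₀, inferInstance, inferInstance, fun x => ⟨fun hx => ?_, ?_⟩⟩
  · have hfix : ∀ g₀ : S ≃ₐ[D₀] S,
        g₀ x - x ∈ (Q.comap (algebraMap D₀ S)).map (algebraMap D₀ S) := by
      intro g₀
      rw [← hQext]
      exact ((hHmem _).mp (hautH g₀)).2 x hx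
    obtain ⟨b, hb⟩ := exists_sub_mem_map_of_fixed D₀ S (Q.comap (algebraMap D₀ S)) hq₀le x hfix
    rw [← hQext] at hb
    exact ⟨b, b.2, hb⟩
  · rintro ⟨d, hd, hxd⟩
    have h1 : ιq S Q K x = ιq S Q K d := (ιq_eq_iff S Q K _ _).mpr hxd
    rw [h1]
    exact hD₀L d hd

end QuotMain

end Gal

end Groth.Agent.Lib.Helper37.Hz
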