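import Mathlib
import Groth.Prelude
import Groth.Agent.Lib.Helper96.FiniteCompletion2

/-!
# Henselization project, part 93: a finite algebra over an excellent ring is excellent.

The G-ring part is helper96's `isRegularHom_adicCompletion_of_finite_global`; the universally
catenary and J-2 parts are formal (a finite type algebra over a finite algebra is of finite type
over the base).
-/

set_option autoImplicit false
set_option linter.style.haveILetI false
universe u

namespace Groth.Agent.Lib.Helper37.Hz

namespace Gal

/-- A finite algebra over a G-ring is a G-ring. -/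
theorem isGRing_of_finite (A B : Type u) [CommRing A] [CommRing B] [Algebra A B]
    [Module.Finite A B] (hA : CAlg.IsGRing A) : CAlg.IsGRing B := by
  haveI : IsNoetherianRing A := hA.1
  haveI : IsNoetherianRing B := IsNoetherianRing.of_finite A B
  refine ⟨inferInstance, fun q _ => ?_⟩
  exact Groth.Agent.Lib.Helper96.isRegularHom_adicCompletion_of_finite_global A B q
    (q.comap (algebraMap A B)) rfl (hA.2 (q.comap (algebraMap A B)))

/-- A finite algebra over a universally catenary ring is universally catenary. -/
theorem isUniversallyCatenary_of_finite (A B : Type u) [CommRing A] [CommRing B] [Algebra A B]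
    [Module.Finite A B] (hA : CAlg.IsUniversallyCatenary A) : CAlg.IsUniversallyCatenary B := by
  haveI : IsNoetherianRing A := hA.1
  haveI : IsNoetherianRing B := IsNoetherianRing.of_finite A B
  refine ⟨inferInstance, fun T _ _ hT => ?_⟩
  letI : Algebra A T := ((algebraMap B T).comp (algebraMap A B)).toAlgebra
  haveI : IsScalarTower A B T := .of_algebraMap_eq' rfl
  haveI : Algebra.FiniteType A B := inferInstance
  exact hA.2 T (Algebra.FiniteType.trans (R := A) (S := B) (A := T) inferInstance hT)

/-- A finite algebra over a J-2 ring is J-2. -/
theorem isJ2_of_finite (A B : Type u) [CommRing A] [CommRing B] [Algebra A B]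
    [Module.Finite A B] (hA : EGA4.IsJ2 A) : EGA4.IsJ2 B := by
  intro T _ _ hT
  letI : Algebra A T := ((algebraMap B T).comp (algebraMap A B)).toAlgebra
  haveI : IsScalarTower A B T := .of_algebraMap_eq' rfl
  haveI : Algebra.FiniteType A B := inferInstance
  exact hA T (Algebra.FiniteType.trans (R := A) (S := B) (A := T) inferInstance hT)

/-- A finite algebra over an excellent ring is excellent. -/
theorem isExcellent_of_finite (A B : Type u) [CommRing A] [CommRing B] [Algebra A B]
    [Module.Finite A B] (hA : EGA4.IsExcellent A) : EGA4.IsExcellent B := by
  haveI : IsNoetherianRing A := hA.1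
  exact ⟨IsNoetherianRing.of_finite A B, isUniversallyCatenary_of_finite A B hA.2.1,
    isGRing_of_finite A B hA.2.2.1, isJ2_of_finite A B hA.2.2.2⟩

end Gal

end Groth.Agent.Lib.Helper37.Hz
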