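import Mathlib
import Groth.Prelude
import Groth.Agent.Lib.Helper69.NormalSmooth

/-!
# Henselization project, part 94: the tensor lemma.

Let `B` be an integrally closed domain, integral over `A`, `E₀` an étale `A`-algebra and `E` a local
domain which is a `B`-algebra and the localization of `E₀` at a prime.  Then `E` is the localization
of the étale `B`-algebra `B ⊗[A] E₀` at a prime; in particular `E` is flat over `B`.
-/

set_option autoImplicit false
set_option linter.style.haveILetI false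
set_option linter.unusedSectionVars false
universe u

open IsLocalRing TensorProduct

namespace Groth.Agent.Lib.Helper37.Hz

namespace Gal

section TensorLemma

theorem flat_of_etale_tensor (A B E₀ E : Type u) [CommRing A] [CommRing B] [CommRing E₀]
    [CommRing E] [Algebra A B] [Algebra A E₀] [Algebra A E] [Algebra B E] [Algebra E₀ E]
    [IsScalarTower A B E] [IsScalarTower A E₀ E]
    [IsDomain B] [IsIntegrallyClosed B] [Algebra.IsIntegral A B]
    [Algebra.Etale A E₀] [IsLocalRing E] [IsDomain E]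
    (q : Ideal E₀) [q.IsPrime] [IsLocalization.AtPrime E q] : Module.Flat B E := by
  classical
  obtain ⟨C, hCdef⟩ : ∃ C : Type u, C = (B ⊗[A] E₀) := ⟨_, rfl⟩
  subst hCdef
  let μ : B ⊗[A] E₀ →ₐ[B] E :=
    Algebra.TensorProduct.lift (Algebra.ofId B E) (IsScalarTower.toAlgHom A E₀ E)
      (fun _ _ => Commute.all _ _)
  have hμ : ∀ (b : B) (x : E₀), μ (b ⊗ₜ x) = algebraMap B E b * algebraMap E₀ E x := by
    intro b x
    simp [μ, Algebra.ofId_apply]
  letI algCE : Algebra (B ⊗[A] E₀) E := μ.toRingHom.toAlgebra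
  haveI : IsScalarTower B (B ⊗[A] E₀) E := IsScalarTower.of_algebraMap_eq (fun b => by
    change algebraMap B E b = μ (algebraMap B (B ⊗[A] E₀) b)
    rw [μ.commutes])
  have halg : ∀ c : B ⊗[A] E₀, algebraMap (B ⊗[A] E₀) E c = μ c := fun c => rfl
  obtain ⟨P', hP'def⟩ : ∃ P' : Ideal (B ⊗[A] E₀),
      P' = (maximalIdeal E).comap (algebraMap (B ⊗[A] E₀) E) := ⟨_, rfl⟩
  haveI hP'prime : P'.IsPrime := by rw [hP'def]; exact Ideal.comap_isPrime _ _
  obtain ⟨hdom, -⟩ := Groth.Agent.Lib.Helper69.NormalSmooth.isIntegrallyClosed_localization_of_etale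
    B (B ⊗[A] E₀) P'
  haveI := hdom
  have hmemP' : ∀ c : B ⊗[A] E₀, c ∈ P' ↔ μ c ∈ maximalIdeal E := by
    intro c
    rw [hP'def]
    rfl
  have hunits : ∀ y : P'.primeCompl, IsUnit (algebraMap (B ⊗[A] E₀) E y) := by
    intro y
    have h1 : (y : B ⊗[A] E₀) ∉ P' := y.2
    rw [hmemP'] at h1
    by_contra h2
    exact h1 ((mem_maximalIdeal _).mpr h2)
  let μ' : Localization.AtPrime P' →+* E := IsLocalization.lift hunits
  have hμ' : ∀ c : B ⊗[A] E₀, μ' (algebraMap _ (Localization.AtPrime P') c) =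
      algebraMap (B ⊗[A] E₀) E c := fun c => IsLocalization.lift_eq hunits c
  -- surjectivity
  have hsurj : Function.Surjective μ' := by
    intro e
    obtain ⟨x, s, rfl⟩ := IsLocalization.exists_mk'_eq q.primeCompl e
    have hs : IsUnit (algebraMap E₀ E s) := IsLocalization.map_units E s
    have hsP : ((1 : B) ⊗ₜ[A] (s : E₀)) ∈ P'.primeCompl := by
      intro h
      rw [SetLike.mem_coe, hmemP', hμ, map_one, one_mul] at h
      exact (mem_maximalIdeal _).mp h hs
    refine ⟨IsLocalization.mk' (Localization.AtPrime P') ((1 : B) ⊗ₜ[A] x) ⟨_, hsP⟩, ?_⟩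
    rw [IsLocalization.lift_mk'_spec, halg, halg, hμ, hμ, map_one, one_mul, one_mul]
    exact (IsLocalization.mk'_spec' E x s).symm
  -- the two primes
  obtain ⟨P₀, hP₀⟩ : ∃ P₀ : Ideal (B ⊗[A] E₀),
      P₀ = RingHom.ker (algebraMap (B ⊗[A] E₀) (Localization.AtPrime P')) := ⟨_, rfl⟩
  obtain ⟨P₁, hP₁⟩ : ∃ P₁ : Ideal (B ⊗[A] E₀),
      P₁ = RingHom.ker (algebraMap (B ⊗[A] E₀) E) := ⟨_, rfl⟩
  haveI hP₀prime : P₀.IsPrime := by rw [hP₀]; exact RingHom.ker_isPrime _
  haveI hP₁prime : P₁.IsPrime := by rw [hP₁]; exact RingHom.ker_isPrime _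
  have hle : P₀ ≤ P₁ := by
    intro c hc
    rw [hP₀, RingHom.mem_ker] at hc
    rw [hP₁, RingHom.mem_ker, ← hμ', hc, map_zero]
  -- `E₀`-algebra structure on the tensor product via the right factor
  letI algE₀C : Algebra E₀ (B ⊗[A] E₀) :=
    (Algebra.TensorProduct.includeRight : E₀ →ₐ[A] B ⊗[A] E₀).toRingHom.toAlgebra
  have halg₀ : ∀ x : E₀, algebraMap E₀ (B ⊗[A] E₀) x = (1 : B) ⊗ₜ[A] x := fun x => rfl
  let ψ : E₀ ⊗[A] B →ₐ[E₀] B ⊗[A] E₀ :=
    { (Algebra.TensorProduct.comm A E₀ B).toAlgHom with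
      commutes' := fun x => by
        change (Algebra.TensorProduct.comm A E₀ B) (x ⊗ₜ[A] (1 : B)) = (1 : B) ⊗ₜ[A] x
        rw [Algebra.TensorProduct.comm_tmul] }
  haveI : Algebra.IsIntegral E₀ (B ⊗[A] E₀) := ⟨fun c => by
    obtain ⟨c', rfl⟩ := (Algebra.TensorProduct.comm A E₀ B).surjective c
    exact (Algebra.IsIntegral.isIntegral (R := E₀) c').map ψ⟩
  have hcomap : P₀.comap (algebraMap E₀ (B ⊗[A] E₀)) = P₁.comap (algebraMap E₀ (B ⊗[A] E₀)) := by
    apply le_antisymm (Ideal.comap_mono hle)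
    intro x hx
    rw [Ideal.mem_comap, hP₁, RingHom.mem_ker, halg₀, halg, hμ, map_one, one_mul] at hx
    obtain ⟨s, hs⟩ := (IsLocalization.map_eq_zero_iff q.primeCompl E x).mp hx
    have hsP : ((1 : B) ⊗ₜ[A] (s : E₀)) ∈ P'.primeCompl := by
      intro h
      rw [SetLike.mem_coe, hmemP', hμ, map_one, one_mul] at h
      exact (mem_maximalIdeal _).mp h (IsLocalization.map_units E s)
    rw [Ideal.mem_comap, hP₀, RingHom.mem_ker, halg₀]
    have h1 : ((1 : B) ⊗ₜ[A] (s : E₀)) * ((1 : B) ⊗ₜ[A] x) = 0 := by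
      rw [Algebra.TensorProduct.tmul_mul_tmul, one_mul, hs, TensorProduct.tmul_zero]
    have h2 := congrArg (algebraMap (B ⊗[A] E₀) (Localization.AtPrime P')) h1
    rw [map_mul, map_zero] at h2
    have h3 : IsUnit (algebraMap (B ⊗[A] E₀) (Localization.AtPrime P') ((1 : B) ⊗ₜ[A] (s : E₀))) :=
      IsLocalization.map_units (Localization.AtPrime P') ⟨_, hsP⟩
    exact h3.mul_right_eq_zero.mp h2
  have heq : P₀ = P₁ := by
    by_contra hne
    have hlt : P₀ < P₁ := lt_of_le_of_ne hle hne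
    have := Ideal.IsIntegral.comap_lt_comap (R := E₀) hlt
    rw [hcomap] at this
    exact lt_irrefl _ this
  -- injectivity
  have hinj : Function.Injective μ' := by
    rw [injective_iff_map_eq_zero]
    intro z hz
    obtain ⟨c, t, rfl⟩ := IsLocalization.exists_mk'_eq P'.primeCompl z
    have h1 : μ' (IsLocalization.mk' (Localization.AtPrime P') c t) *
        μ' (algebraMap _ (Localization.AtPrime P') (t : B ⊗[A] E₀)) =
        μ' (algebraMap _ (Localization.AtPrime P') c) := by
      rw [← map_mul, IsLocalization.mk'_spec]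
    rw [hz, zero_mul, hμ'] at h1
    have h2 : c ∈ P₀ := by
      rw [heq, hP₁, RingHom.mem_ker]
      exact h1.symm
    rw [hP₀, RingHom.mem_ker] at h2
    rw [IsLocalization.mk'_eq_zero_iff]
    exact (IsLocalization.map_eq_zero_iff P'.primeCompl (Localization.AtPrime P') c).mp h2
  -- flatness
  haveI : Module.Flat B (B ⊗[A] E₀) := inferInstance
  haveI : Module.Flat B (Localization.AtPrime P') :=
    Module.Flat.trans B (B ⊗[A] E₀) (Localization.AtPrime P')
  let eL : Localization.AtPrime P' ≃ₗ[B] E :=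
    { (RingEquiv.ofBijective μ' ⟨hinj, hsurj⟩).toAddEquiv with
      map_smul' := fun b z => by
        change μ' (b • z) = b • μ' z
        rw [Algebra.smul_def, Algebra.smul_def, map_mul,
          IsScalarTower.algebraMap_apply B (B ⊗[A] E₀) (Localization.AtPrime P'), hμ',
          ← IsScalarTower.algebraMap_apply] }
  exact Module.Flat.of_linearEquiv eL.symm

end TensorLemma

end Gal

end Groth.Agent.Lib.Helper37.Hz
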