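import Groth.Agent.Lib.Helper37.Hz94
import Groth.Agent.Lib.Helper14.EssEtale
import Groth.Agent.Lib.Helper90.FracEssEt

/-!
# Henselization project, part 95: preliminaries for intermediate normal rings
(essentially étale algebras over a normal domain are normal; fraction fields are finite separable;
elements of `K(s)` are fractions of elements of `A[s]`).
-/

set_option autoImplicit false
set_option linter.style.haveILetI false
set_option linter.unusedSectionVars false
universe u

open IsLocalRing TensorProduct

namespace Groth.Agent.Lib.Helper37.Hz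

namespace Gal

/-- An essentially étale local algebra over an integrally closed domain is an integrally closed
domain. -/
theorem isIntegrallyClosed_of_isEssentiallyEtale (A E : Type u) [CommRing A] [IsLocalRing A]
    [IsDomain A] [IsIntegrallyClosed A] [CommRing E] [Algebra A E]
    (hE : EGA4loc.IsEssentiallyEtale A E) : IsDomain E ∧ IsIntegrallyClosed E := by
  obtain ⟨C, _, _, q, _, hC, -, ⟨e⟩⟩ := hE
  haveI := hC
  obtain ⟨h1, h2⟩ :=
    Groth.Agent.Lib.Helper69.NormalSmooth.isIntegrallyClosed_localization_of_etale A C q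
  haveI := h1
  haveI := h2
  exact ⟨e.toRingEquiv.toMulEquiv.isDomain _, IsIntegrallyClosed.of_equiv e.toRingEquiv.symm⟩

/-- Fraction fields of an unramified essentially finite type extension of domains: finite
separable. -/
theorem finite_separable_fractionRing (A E K F : Type u) [CommRing A] [IsDomain A] [CommRing E]
    [IsDomain E] [Algebra A E] [Algebra.FormallyUnramified A E] [Algebra.EssFiniteType A E]
    [Field K] [Field F] [Algebra A K] [IsFractionRing A K] [Algebra E F] [IsFractionRing E F]
    [Algebra A F] [IsScalarTower A E F] [Algebra K F] [IsScalarTower A K F] :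
    Module.Finite K F ∧ Algebra.IsSeparable K F := by
  haveI : Algebra.FormallyUnramified E F :=
    Algebra.FormallyUnramified.of_isLocalization (nonZeroDivisors E)
  haveI : Algebra.FormallyUnramified A F := Algebra.FormallyUnramified.comp A E F
  haveI : Algebra.FormallyUnramified K F := Algebra.FormallyUnramified.of_restrictScalars A K F
  haveI : Algebra.EssFiniteType E F := Algebra.EssFiniteType.of_isLocalization F (nonZeroDivisors E)
  haveI : Algebra.EssFiniteType A F := Algebra.EssFiniteType.comp A E F
  haveI : Algebra.EssFiniteType K F := Algebra.EssFiniteType.of_comp A K F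
  exact ⟨Algebra.FormallyUnramified.finite_of_free K F, Algebra.FormallyUnramified.isSeparable K F⟩

section Frac

variable (A E K F : Type u) [CommRing A] [IsDomain A] [CommRing E] [IsDomain E] [Algebra A E]
    [Field K] [Field F] [Algebra A K] [IsFractionRing A K] [Algebra E F] [IsFractionRing E F]
    [Algebra A F] [IsScalarTower A E F] [Algebra K F] [IsScalarTower A K F]

/-- Elements of `K(s)` are fractions of elements of `A[s]`. -/
theorem exists_frac_of_mem_adjoin (s : Set E) (z : F)
    (hz : z ∈ IntermediateField.adjoin K ((algebraMap E F) '' s)) :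
    ∃ u ∈ Algebra.adjoin A s, ∃ v ∈ Algebra.adjoin A s, v ≠ 0 ∧
      algebraMap E F v * z = algebraMap E F u := by
  have hinj : Function.Injective (algebraMap E F) := IsFractionRing.injective E F
  induction hz using IntermediateField.adjoin_induction with
  | mem x hx =>
    obtain ⟨e, he, rfl⟩ := hx
    exact ⟨e, Algebra.subset_adjoin he, 1, Subalgebra.one_mem _, one_ne_zero, by rw [map_one, one_mul]⟩
  | algebraMap k =>
    obtain ⟨a, b, rfl⟩ := IsLocalization.exists_mk'_eq (nonZeroDivisors A) k
    by_cases hb0 : algebraMap A E (b : A) = 0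
    · refine ⟨0, Subalgebra.zero_mem _, 1, Subalgebra.one_mem _, one_ne_zero, ?_⟩
      have h1 : algebraMap K F (algebraMap A K (b : A)) = 0 := by
        rw [← IsScalarTower.algebraMap_apply, IsScalarTower.algebraMap_apply A E F, hb0, map_zero]
      have h2 : algebraMap A K (b : A) = 0 := (map_eq_zero _).mp h1
      have h3 : (b : A) = 0 := (IsFractionRing.injective A K) (by rw [h2, map_zero])
      exact absurd h3 (nonZeroDivisors.ne_zero b.2)
    · refine ⟨algebraMap A E a, Subalgebra.algebraMap_mem _ a, algebraMap A E b,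
        Subalgebra.algebraMap_mem _ _, hb0, ?_⟩
      rw [← IsScalarTower.algebraMap_apply, ← IsScalarTower.algebraMap_apply,
        IsScalarTower.algebraMap_apply A K F, IsScalarTower.algebraMap_apply A K F, ← map_mul,
        mul_comm, IsLocalization.mk'_spec]
  | add x y _ _ hx hy =>
    obtain ⟨u₁, hu₁, v₁, hv₁, hv₁0, h₁⟩ := hx
    obtain ⟨u₂, hu₂, v₂, hv₂, hv₂0, h₂⟩ := hy
    refine ⟨u₁ * v₂ + u₂ * v₁, Subalgebra.add_mem _ (Subalgebra.mul_mem _ hu₁ hv₂)
      (Subalgebra.mul_mem _ hu₂ hv₁), v₁ * v₂, Subalgebra.mul_mem _ hv₁ hv₂,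
      mul_ne_zero hv₁0 hv₂0, ?_⟩
    rw [map_mul, map_add, map_mul, map_mul, ← h₁, ← h₂]
    ring
  | inv x _ hx =>
    obtain ⟨u, hu, v, hv, hv0, h⟩ := hx
    by_cases hx0 : x = 0
    · subst hx0
      exact ⟨0, Subalgebra.zero_mem _, 1, Subalgebra.one_mem _, one_ne_zero, by simp⟩
    · have hu0 : u ≠ 0 := by
        rintro rfl
        rw [map_zero] at h
        rcases mul_eq_zero.mp h with h | h
        · exact hv0 (hinj (by rw [h, map_zero]))
        · exact hx0 h
      refine ⟨v, hv, u, hu, hu0, ?_⟩
      rw [← h]
      field_simp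
  | mul x y _ _ hx hy =>
    obtain ⟨u₁, hu₁, v₁, hv₁, hv₁0, h₁⟩ := hx
    obtain ⟨u₂, hu₂, v₂, hv₂, hv₂0, h₂⟩ := hy
    refine ⟨u₁ * u₂, Subalgebra.mul_mem _ hu₁ hu₂, v₁ * v₂, Subalgebra.mul_mem _ hv₁ hv₂,
      mul_ne_zero hv₁0 hv₂0, ?_⟩
    rw [map_mul, map_mul, ← h₁, ← h₂]
    ring

theorem mem_adjoin_of_frac (s : Set E) (x u v : E) (hu : u ∈ Algebra.adjoin A s)
    (hv : v ∈ Algebra.adjoin A s) (hv0 : v ≠ 0) (h : v * x = u) :
    algebraMap E F x ∈ IntermediateField.adjoin K ((algebraMap E F) '' s) := by
  have hinj : Function.Injective (algebraMap E F) := IsFractionRing.injective E F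
  have hle : ∀ w ∈ Algebra.adjoin A s,
      algebraMap E F w ∈ IntermediateField.adjoin K ((algebraMap E F) '' s) := by
    intro w hw
    induction hw using Algebra.adjoin_induction with
    | mem x hx => exact IntermediateField.subset_adjoin K _ ⟨x, hx, rfl⟩
    | algebraMap a =>
      rw [← IsScalarTower.algebraMap_apply, IsScalarTower.algebraMap_apply A K F]
      exact IntermediateField.algebraMap_mem _ _
    | add x y _ _ hx hy => rw [map_add]; exact add_mem hx hy
    | mul x y _ _ hx hy => rw [map_mul]; exact mul_mem hx hy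
  have hv0' : algebraMap E F v ≠ 0 := fun h0 => hv0 (hinj (by rw [h0, map_zero]))
  have hx : algebraMap E F x = algebraMap E F u * (algebraMap E F v)⁻¹ := by
    rw [← h, map_mul]
    field_simp
  rw [hx]
  exact mul_mem (hle u hu) (inv_mem (hle v hv))

end Frac

end Gal

end Groth.Agent.Lib.Helper37.Hz
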