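import Groth.Agent.Lib.Helper37.Hz95

/-!
# Henselization project, part 96: for an essentially étale local algebra `E` over a normal
Noetherian local domain `A` and a finite subset `s ⊆ E`, the ring `Frac(A[s]) ∩ E` is the
localization of a finite normal `A`-algebra at a prime, `E` is faithfully flat over it, and it is
unramified over `A`.
-/

set_option autoImplicit false
set_option linter.style.haveILetI false
set_option linter.unusedSectionVars false
set_option maxHeartbeats 1000000
universe u

open IsLocalRing TensorProduct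

namespace Groth.Agent.Lib.Helper37.Hz

namespace Gal

section Core

variable (A E : Type u) [CommRing A] [IsLocalRing A] [IsDomain A]
    [IsIntegrallyClosed A] [IsNoetherianRing A] [CommRing E] [IsLocalRing E] [Algebra A E]
    [IsLocalHom (algebraMap A E)]

local notation "KK" => FractionRing A
local notation "FF" => FractionRing E

theorem exists_inter_essFiniteType (hE : EGA4loc.IsEssentiallyEtale A E) (s : Finset E) :
    ∃ D' : Subalgebra A E,
      (∀ x : E, x ∈ D' ↔ ∃ u ∈ Algebra.adjoin A (s : Set E),
        ∃ v ∈ Algebra.adjoin A (s : Set E), v ≠ 0 ∧ v * x = u) ∧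
      (∀ x ∈ D', IsUnit x → ∃ y ∈ D', x * y = 1) ∧
      Algebra.EssFiniteType A D' ∧
      (∀ x : D', ¬ IsUnit (x : E) → x ∈ (maximalIdeal A).map (algebraMap A D')) ∧
      (∀ x ∈ D', ∃ b t : E, IsIntegral A b ∧ IsIntegral A t ∧ b ∈ D' ∧ t ∈ D' ∧ IsUnit t ∧
        x * t = b) := by
  classical
  obtain ⟨hdomE, hicE⟩ := isIntegrallyClosed_of_isEssentiallyEtale A E hE
  haveI := hdomE
  haveI := hicE
  obtain ⟨hunr, hess⟩ := Groth.Agent.Lib.Helper14.formallyUnramified_of_isEssentiallyEtale hE
  haveI := hunr
  haveI := hess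
  haveI : Module.Flat A E := Groth.Agent.Lib.Helper90.FracEssEt.flat_of_isEssentiallyEtale hE
  haveI : Module.FaithfullyFlat A E := Module.FaithfullyFlat.of_flat_of_isLocalHom
  have hinjAE : Function.Injective (algebraMap A E) := FaithfulSMul.algebraMap_injective A E
  have hinjEF : Function.Injective (algebraMap E FF) := IsFractionRing.injective E _
  haveI : FaithfulSMul A FF := (faithfulSMul_iff_algebraMap_injective A _).mpr (by
    rw [IsScalarTower.algebraMap_eq A E FF]
    exact hinjEF.comp hinjAE)
  letI : Algebra KK FF := FractionRing.liftAlgebra A FF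
  haveI : IsScalarTower A KK FF := FractionRing.isScalarTower_liftAlgebra A _
  obtain ⟨hfin, hsep⟩ := finite_separable_fractionRing A E KK FF
  haveI := hfin
  haveI := hsep
  -- the field `L'`
  obtain ⟨L', hL'⟩ : ∃ L' : IntermediateField KK FF,
      L' = IntermediateField.adjoin KK ((algebraMap E FF) '' (s : Set E)) := ⟨_, rfl⟩
  haveI : IsScalarTower A L' FF := IsScalarTower.of_algebraMap_eq (fun a => rfl)
  haveI : IsIntegrallyClosed (integralClosure A L') :=
    integralClosure.isIntegrallyClosedOfFiniteExtension KK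
  haveI : IsFractionRing (integralClosure A L') L' :=
    integralClosure.isFractionRing_of_finite_extension KK L'
  haveI : Module.Finite A (integralClosure A L') :=
    IsIntegralClosure.finite A KK L' (integralClosure A L')
  -- the ring `D'`
  obtain ⟨D', hD'⟩ : ∃ D' : Subalgebra A E,
      D' = (L'.toSubalgebra.restrictScalars A).comap (IsScalarTower.toAlgHom A E FF) := ⟨_, rfl⟩
  have hmemD : ∀ x : E, x ∈ D' ↔ algebraMap E FF x ∈ L' := fun x => by rw [hD']; rfl
  have hchar : ∀ x : E, x ∈ D' ↔ ∃ u ∈ Algebra.adjoin A (s : Set E),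
      ∃ v ∈ Algebra.adjoin A (s : Set E), v ≠ 0 ∧ v * x = u := by
    intro x
    rw [hmemD, hL']
    constructor
    · intro hx
      obtain ⟨u, hu, v, hv, hv0, h⟩ := exists_frac_of_mem_adjoin A E KK FF (s : Set E) _ hx
      refine ⟨u, hu, v, hv, hv0, hinjEF ?_⟩
      rw [map_mul]
      exact h
    · rintro ⟨u, hu, v, hv, hv0, h⟩
      exact mem_adjoin_of_frac A E KK FF (s : Set E) x u v hu hv hv0 h
  have hinvD : ∀ x ∈ D', IsUnit x → ∃ y ∈ D', x * y = 1 := by
    intro x hx hxu
    obtain ⟨y, hy⟩ := hxu.exists_right_inv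
    refine ⟨y, ?_, hy⟩
    rw [hmemD] at hx ⊢
    have h1 : algebraMap E FF x * algebraMap E FF y = 1 := by rw [← map_mul, hy, map_one]
    have h2 : algebraMap E FF y = (algebraMap E FF x)⁻¹ := (eq_inv_of_mul_eq_one_right h1)
    rw [h2]
    exact inv_mem hx
  -- the finite normal algebra `BE`
  obtain ⟨BE, hBE⟩ : ∃ BE : Subalgebra A E, BE = D' ⊓ integralClosure A E := ⟨_, rfl⟩
  have hmemB : ∀ x : E, x ∈ BE ↔ x ∈ D' ∧ IsIntegral A x := fun x => by rw [hBE]; rfl
  let θ : BE →ₐ[A] integralClosure A L' :=
    { toFun := fun e => ⟨⟨algebraMap E FF e.1, (hmemD _).mp ((hmemB _).mp e.2).1⟩,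
        (isIntegral_algHom_iff (IsScalarTower.toAlgHom A L' FF) Subtype.val_injective).mp
          (((hmemB _).mp e.2).2.map (IsScalarTower.toAlgHom A E FF))⟩
      map_one' := Subtype.ext (Subtype.ext (map_one _))
      map_mul' := fun x y => Subtype.ext (Subtype.ext (map_mul _ _ _))
      map_zero' := Subtype.ext (Subtype.ext (map_zero _))
      map_add' := fun x y => Subtype.ext (Subtype.ext (map_add _ _ _))
      commutes' := fun a => Subtype.ext (Subtype.ext
        ((IsScalarTower.algebraMap_apply A E FF a).symm)) }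
  have hθ : ∀ e : BE, (((θ e : integralClosure A L') : L') : FF) = algebraMap E FF (e : E) :=
    fun e => rfl
  have hθinj : Function.Injective θ := by
    intro e₁ e₂ h
    apply Subtype.ext
    apply hinjEF
    rw [← hθ, ← hθ, h]
  have hθsurj : Function.Surjective θ := by
    intro b
    have hb : IsIntegral A ((b : L') : FF) :=
      (isIntegral_algHom_iff (IsScalarTower.toAlgHom A L' FF) Subtype.val_injective).mpr b.2
    obtain ⟨e, he⟩ := IsIntegrallyClosed.algebraMap_eq_of_integral (hb.tower_top (A := E))
    have heD : e ∈ D' := by rw [hmemD, he]; exact (b : L').2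
    have heI : IsIntegral A e := by
      have h1 : IsIntegral A (IsScalarTower.toAlgHom A E FF e) := by
        change IsIntegral A (algebraMap E FF e)
        rw [he]
        exact hb
      exact (isIntegral_algHom_iff (IsScalarTower.toAlgHom A E FF) hinjEF).mp h1
    refine ⟨⟨e, (hmemB e).mpr ⟨heD, heI⟩⟩, ?_⟩
    apply Subtype.ext
    apply Subtype.ext
    exact he
  let θe : BE ≃ₐ[A] integralClosure A L' := AlgEquiv.ofBijective θ ⟨hθinj, hθsurj⟩
  haveI : IsIntegrallyClosed BE := IsIntegrallyClosed.of_equiv θe.symm.toRingEquiv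
  haveI : Module.Finite A BE := Module.Finite.equiv θe.symm.toLinearEquiv
  haveI : Algebra.IsIntegral A BE := Algebra.IsIntegral.of_finite A BE
  -- flatness of `E` over `BE`
  haveI : Module.Flat BE E := by
    obtain ⟨E₀, _, _, q, _, hEt, hq, ⟨e⟩⟩ := hE
    haveI := hEt
    letI algE₀E : Algebra E₀ E :=
      ((e.symm : Localization.AtPrime q →ₐ[A] E).toRingHom.comp
        (algebraMap E₀ (Localization.AtPrime q))).toAlgebra
    haveI : IsScalarTower A E₀ E := IsScalarTower.of_algebraMap_eq (fun a => by
      change algebraMap A E a = e.symm (algebraMap E₀ _ (algebraMap A E₀ a))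
      rw [← IsScalarTower.algebraMap_apply A E₀ (Localization.AtPrime q), e.symm.commutes])
    let e' : Localization.AtPrime q ≃ₐ[E₀] E :=
      { e.symm.toRingEquiv with commutes' := fun x => rfl }
    haveI : IsLocalization.AtPrime E q := IsLocalization.isLocalization_of_algEquiv q.primeCompl e'
    exact flat_of_etale_tensor A BE E₀ E q
  -- localization at the contraction of the maximal ideal
  obtain ⟨n, hn⟩ : ∃ n : Ideal BE, n = (maximalIdeal E).comap (algebraMap BE E) := ⟨_, rfl⟩
  haveI hnprime : n.IsPrime := by rw [hn]; exact Ideal.comap_isPrime _ _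
  have hmemn : ∀ b : BE, b ∈ n ↔ ¬ IsUnit (b : E) := by
    intro b
    rw [hn, Ideal.mem_comap, mem_maximalIdeal, mem_nonunits_iff]
    rfl
  have hunitsn : ∀ y : n.primeCompl, IsUnit (algebraMap BE E y) := by
    intro y
    have h1 : (y : BE) ∉ n := y.2
    rw [hmemn, not_not] at h1
    exact h1
  letI algBnE : Algebra (Localization.AtPrime n) E := (IsLocalization.lift hunitsn).toAlgebra
  haveI : IsScalarTower BE (Localization.AtPrime n) E :=
    IsScalarTower.of_algebraMap_eq (fun b => (IsLocalization.lift_eq hunitsn b).symm)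
  haveI : IsScalarTower A (Localization.AtPrime n) E := IsScalarTower.of_algebraMap_eq (fun a => by
    rw [IsScalarTower.algebraMap_apply A BE (Localization.AtPrime n),
      ← IsScalarTower.algebraMap_apply BE (Localization.AtPrime n) E,
      ← IsScalarTower.algebraMap_apply A BE E])
  haveI : Module.Flat (Localization.AtPrime n) E :=
    (Module.flat_iff_of_isLocalization (Localization.AtPrime n) n.primeCompl E).mpr inferInstance
  have hφmk : ∀ (b : BE) (t : n.primeCompl),
      algebraMap (Localization.AtPrime n) E (IsLocalization.mk' _ b t) * ((t : BE) : E) = (b : E) := by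
    intro b t
    have h1 := IsLocalization.mk'_spec (Localization.AtPrime n) b t
    have h2 := congrArg (algebraMap (Localization.AtPrime n) E) h1
    rw [map_mul, ← IsScalarTower.algebraMap_apply, ← IsScalarTower.algebraMap_apply] at h2
    exact h2
  haveI : IsLocalHom (algebraMap (Localization.AtPrime n) E) := by
    constructor
    intro z hz
    obtain ⟨b, t, rfl⟩ := IsLocalization.exists_mk'_eq n.primeCompl z
    have h1 := hφmk b t
    have h2 : IsUnit ((b : BE) : E) := by
      rw [← h1]
      exact hz.mul (hunitsn t)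
    have h3 : b ∈ n.primeCompl := fun h => (hmemn b).mp h h2
    exact (IsLocalization.AtPrime.isUnit_mk'_iff (Localization.AtPrime n) n b t).mpr h3
  haveI : Module.FaithfullyFlat (Localization.AtPrime n) E :=
    Module.FaithfullyFlat.of_flat_of_isLocalHom
  -- `D'` is the image of the localization
  have hBD : ∀ b : BE, (b : E) ∈ D' := fun b => ((hmemB _).mp b.2).1
  have hrange₁ : ∀ y : Localization.AtPrime n, algebraMap (Localization.AtPrime n) E y ∈ D' := by
    intro y
    obtain ⟨b, t, rfl⟩ := IsLocalization.exists_mk'_eq n.primeCompl y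
    have h1 := hφmk b t
    obtain ⟨t', ht'D, ht'⟩ := hinvD _ (hBD t) (hunitsn t)
    have h2 : algebraMap (Localization.AtPrime n) E (IsLocalization.mk' _ b t) = (b : E) * t' := by
      rw [← h1, mul_assoc, ht', mul_one]
    rw [h2]
    exact D'.mul_mem (hBD b) ht'D
  have hrange₂ : ∀ x ∈ D', ∃ y : Localization.AtPrime n,
      algebraMap (Localization.AtPrime n) E y = x := by
    intro x hx
    obtain ⟨c₁, c₂, hc⟩ := IsLocalization.exists_mk'_eq (nonZeroDivisors (integralClosure A L'))
      (⟨algebraMap E FF x, (hmemD x).mp hx⟩ : L')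
    have hc' := IsLocalization.mk'_spec (L' : Type u) c₁ c₂
    rw [hc] at hc'
    -- pull back to `BE`
    obtain ⟨c₁', hc₁'⟩ := hθsurj c₁
    obtain ⟨c₂', hc₂'⟩ := hθsurj (c₂ : integralClosure A L')
    have hc₂0 : (c₂' : E) ≠ 0 := by
      intro h0
      have h1 : c₂' = 0 := Subtype.ext h0
      have h2 : (c₂ : integralClosure A L') = 0 := by rw [← hc₂', h1, map_zero]
      exact nonZeroDivisors.ne_zero c₂.2 h2
    have hxc : x * (c₂' : E) = (c₁' : E) := by
      apply hinjEF
      rw [map_mul, ← hθ c₂', ← hθ c₁', hc₁', hc₂']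
      have := congrArg (fun z : L' => (z : FF)) hc'
      exact this
    -- use faithful flatness
    have hmem : algebraMap BE (Localization.AtPrime n) c₁' ∈
        (Ideal.span {algebraMap BE (Localization.AtPrime n) c₂'} :
          Ideal (Localization.AtPrime n)) := by
      rw [← Ideal.comap_map_eq_self_of_faithfullyFlat (B := E)
        (Ideal.span {algebraMap BE (Localization.AtPrime n) c₂'}), Ideal.mem_comap,
        ← IsScalarTower.algebraMap_apply]
      have h1 : algebraMap BE E c₂' ∈ (Ideal.span {algebraMap BE (Localization.AtPrime n) c₂'} :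
          Ideal (Localization.AtPrime n)).map (algebraMap (Localization.AtPrime n) E) := by
        rw [IsScalarTower.algebraMap_apply BE (Localization.AtPrime n) E]
        exact Ideal.mem_map_of_mem _ (Ideal.mem_span_singleton_self _)
      have h2 : algebraMap BE E c₁' = x * algebraMap BE E c₂' := hxc.symm
      rw [h2]
      exact Ideal.mul_mem_left _ _ h1
    obtain ⟨y, hy⟩ := Ideal.mem_span_singleton'.mp hmem
    refine ⟨y, ?_⟩
    have h3 := congrArg (algebraMap (Localization.AtPrime n) E) hy
    rw [map_mul, ← IsScalarTower.algebraMap_apply, ← IsScalarTower.algebraMap_apply] at h3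
    have h4 : (algebraMap (Localization.AtPrime n) E y - x) * (c₂' : E) = 0 := by
      rw [sub_mul, hxc]
      exact sub_eq_zero.mpr h3
    rcases mul_eq_zero.mp h4 with h | h
    · exact sub_eq_zero.mp h
    · exact absurd h hc₂0
  let φ' : Localization.AtPrime n →ₐ[A] D' :=
    AlgHom.codRestrict (IsScalarTower.toAlgHom A (Localization.AtPrime n) E) D' hrange₁
  have hφ'surj : Function.Surjective φ' := by
    rintro ⟨x, hx⟩
    obtain ⟨y, hy⟩ := hrange₂ x hx
    exact ⟨y, Subtype.ext hy⟩
  haveI : Algebra.EssFiniteType BE (Localization.AtPrime n) :=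
    Algebra.EssFiniteType.of_isLocalization (Localization.AtPrime n) n.primeCompl
  haveI : Algebra.EssFiniteType A (Localization.AtPrime n) :=
    Algebra.EssFiniteType.comp A BE (Localization.AtPrime n)
  refine ⟨D', hchar, hinvD, Algebra.EssFiniteType.of_surjective φ' hφ'surj, ?_, ?_⟩
  · intro x hx
    obtain ⟨y, rfl⟩ := hφ'surj x
    have hy : y ∈ (maximalIdeal A).map (algebraMap A (Localization.AtPrime n)) := by
      rw [← Ideal.comap_map_eq_self_of_faithfullyFlat (B := E)
        ((maximalIdeal A).map (algebraMap A (Localization.AtPrime n))), Ideal.mem_comap,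
        Ideal.map_map, ← IsScalarTower.algebraMap_eq, Algebra.FormallyUnramified.map_maximalIdeal,
        mem_maximalIdeal, mem_nonunits_iff]
      exact hx
    have h1 : φ' y ∈ ((maximalIdeal A).map (algebraMap A (Localization.AtPrime n))).map
        φ'.toRingHom := Ideal.mem_map_of_mem _ hy
    rw [Ideal.map_map] at h1
    have h2 : φ'.toRingHom.comp (algebraMap A (Localization.AtPrime n)) = algebraMap A D' :=
      φ'.comp_algebraMap
    rw [h2] at h1
    exact h1
  · intro x hx
    obtain ⟨y, rfl⟩ := hrange₂ x hx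
    obtain ⟨b, t, rfl⟩ := IsLocalization.exists_mk'_eq n.primeCompl y
    exact ⟨b, (t : BE), ((hmemB _).mp b.2).2, ((hmemB _).mp (t : BE).2).2, hBD b, hBD t,
      hunitsn t, hφmk b t⟩

end Core

end Gal

end Groth.Agent.Lib.Helper37.Hz
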