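import Groth.Agent.Lib.Helper37.Hz96
import Groth.Agent.Lib.Helper90.SHensUnion2
import Groth.Agent.Lib.Helper90.EssEtSub

/-!
# Henselization project, part 97: for a normal Noetherian local domain `A` with strict
henselization `S` and a finite subset `s ⊆ S`, the ring `Frac(A[s]) ∩ S` is an essentially étale
local `A`-subalgebra of `S`, the localization of a finite normal `A`-algebra.
-/

set_option autoImplicit false
set_option linter.style.haveILetI false
set_option linter.unusedSectionVars false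
set_option maxHeartbeats 1000000
universe u

open IsLocalRing TensorProduct

namespace Groth.Agent.Lib.Helper37.Hz

namespace Gal

section Local

/-- A subalgebra of a local ring closed under inverses of units is local and dominated. -/
theorem isLocalRing_of_inv_mem {A S : Type*} [CommRing A] [CommRing S] [IsLocalRing S]
    [Algebra A S] (D : Subalgebra A S) (h : ∀ x ∈ D, IsUnit x → ∃ y ∈ D, x * y = 1) :
    ∃ _ : IsLocalRing D, IsLocalHom (algebraMap D S) := by
  have hunit : ∀ x : D, IsUnit (x : S) → IsUnit x := by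
    intro x hx
    obtain ⟨y, hy, hxy⟩ := h x x.2 hx
    exact IsUnit.of_mul_eq_one (⟨y, hy⟩ : D) (Subtype.ext hxy)
  haveI : Nontrivial D := inferInstance
  refine ⟨IsLocalRing.of_isUnit_or_isUnit_one_sub_self fun x => ?_, ⟨fun x hx => hunit x hx⟩⟩
  rcases IsLocalRing.isUnit_or_isUnit_one_sub_self (x : S) with hx | hx
  · exact Or.inl (hunit x hx)
  · exact Or.inr (hunit (1 - x) hx)

end Local

/-- The strict henselization of a normal local domain is a domain. -/
theorem isDomain_of_normal (A S : Type u) [CommRing A] [IsLocalRing A] [IsDomain A]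
    [IsIntegrallyClosed A] [CommRing S] [IsLocalRing S] [Algebra A S]
    [IsLocalHom (algebraMap A S)] [Hensel.IsStrictHenselization A S] : IsDomain S := by
  haveI : Nontrivial S := inferInstance
  haveI : NoZeroDivisors S := by
    constructor
    intro x y hxy
    classical
    obtain ⟨E, hσ, -, -, -, hlocE, hessE⟩ :=
      Groth.Agent.Lib.Helper90.SHensUnion.exists_essEtale_sub' A S {x, y}
    obtain ⟨hdomE, -⟩ := isIntegrallyClosed_of_isEssentiallyEtale A E hessE
    haveI := hdomE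
    have hx : x ∈ E := hσ (by simp)
    have hy : y ∈ E := hσ (by simp)
    have h1 : (⟨x, hx⟩ : E) * ⟨y, hy⟩ = 0 := Subtype.ext hxy
    rcases mul_eq_zero.mp h1 with h | h
    · exact Or.inl (congrArg Subtype.val h)
    · exact Or.inr (congrArg Subtype.val h)
  exact NoZeroDivisors.to_isDomain S

section Main

variable (A S : Type u) [CommRing A] [IsLocalRing A] [IsDomain A]
    [IsIntegrallyClosed A] [IsNoetherianRing A] [CommRing S] [IsLocalRing S] [Algebra A S]
    [IsLocalHom (algebraMap A S)] [Hensel.IsStrictHenselization A S]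

theorem exists_essEtale_sub_of_normal (s : Finset S) :
    ∃ D' : Subalgebra A S, (s : Set S) ⊆ D' ∧
      (∃ _ : IsLocalRing D', IsLocalHom (algebraMap D' S) ∧ EGA4loc.IsEssentiallyEtale A D') ∧
      (∀ x ∈ D', ∃ b t : S, IsIntegral A b ∧ IsIntegral A t ∧ IsUnit t ∧ x * t = b ∧
        (∃ u ∈ Algebra.adjoin A (s : Set S), ∃ v ∈ Algebra.adjoin A (s : Set S),
          v ≠ 0 ∧ v * b = u) ∧
        (∃ u ∈ Algebra.adjoin A (s : Set S), ∃ v ∈ Algebra.adjoin A (s : Set S),
          v ≠ 0 ∧ v * t = u)) ∧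
      (∀ x : S, (∃ u ∈ Algebra.adjoin A (s : Set S), ∃ v ∈ Algebra.adjoin A (s : Set S),
          v ≠ 0 ∧ v * x = u) → x ∈ D') := by
  classical
  haveI : IsDomain S := isDomain_of_normal A S
  obtain ⟨E, hσ, hunitsE, hflatE, hsat, hlocE, hessE⟩ :=
    Groth.Agent.Lib.Helper90.SHensUnion.exists_essEtale_sub' A S s
  haveI := hlocE
  haveI hlocES : IsLocalHom (algebraMap E S) := by
    constructor
    intro x hx
    obtain ⟨y, hy, hxy⟩ := hunitsE x x.2 hx
    exact IsUnit.of_mul_eq_one (⟨y, hy⟩ : E) (Subtype.ext hxy)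
  haveI hlocAE : IsLocalHom (algebraMap A E) := by
    constructor
    intro a ha
    have h1 : IsUnit (algebraMap E S (algebraMap A E a)) := ha.map _
    rw [← IsScalarTower.algebraMap_apply] at h1
    exact isUnit_of_map_unit (algebraMap A S) a h1
  -- the finite set inside `E`
  obtain ⟨s', hs'⟩ : ∃ s' : Finset E, s' = s.attach.image (fun x => (⟨x.1, hσ x.2⟩ : E)) :=
    ⟨_, rfl⟩
  have himage : (E.val : E → S) '' (s' : Set E) = (s : Set S) := by
    ext x
    constructor
    · rintro ⟨e, he, rfl⟩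
      rw [hs', Finset.mem_coe, Finset.mem_image] at he
      obtain ⟨z, -, rfl⟩ := he
      exact z.2
    · intro hx
      refine ⟨⟨x, hσ hx⟩, ?_, rfl⟩
      rw [hs', Finset.mem_coe, Finset.mem_image]
      exact ⟨⟨x, hx⟩, Finset.mem_attach _ _, rfl⟩
  have hadj : (Algebra.adjoin A (s' : Set E)).map E.val = Algebra.adjoin A (s : Set S) := by
    rw [AlgHom.map_adjoin, himage]
  have hadj₁ : ∀ u ∈ Algebra.adjoin A (s : Set S),
      ∃ u' ∈ Algebra.adjoin A (s' : Set E), (u' : S) = u := by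
    intro u hu
    rw [← hadj] at hu
    obtain ⟨u', hu', rfl⟩ := hu
    exact ⟨u', hu', rfl⟩
  have hadj₂ : ∀ u' ∈ Algebra.adjoin A (s' : Set E), (u' : S) ∈ Algebra.adjoin A (s : Set S) := by
    intro u' hu'
    rw [← hadj]
    exact ⟨u', hu', rfl⟩
  obtain ⟨D₁, hchar, hinv, hessft, hmax, hint⟩ := exists_inter_essFiniteType A E hessE s'
  obtain ⟨D', hD'⟩ : ∃ D' : Subalgebra A S, D' = D₁.map E.val := ⟨_, rfl⟩
  have hmemD' : ∀ x : S, x ∈ D' ↔ ∃ x₁ ∈ D₁, (x₁ : S) = x := by
    intro x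
    rw [hD']
    rfl
  -- closure under inverses
  have hinv' : ∀ x ∈ D', IsUnit x → ∃ y ∈ D', x * y = 1 := by
    intro x hx hxu
    obtain ⟨x₁, hx₁, rfl⟩ := (hmemD' x).mp hx
    have hx₁u : IsUnit x₁ := hlocES.map_nonunit x₁ hxu
    obtain ⟨y₁, hy₁, hxy⟩ := hinv x₁ hx₁ hx₁u
    exact ⟨(y₁ : S), (hmemD' _).mpr ⟨y₁, hy₁, rfl⟩, congrArg Subtype.val hxy⟩
  obtain ⟨hlocD', hlocD'S⟩ := isLocalRing_of_inv_mem D' hinv'
  haveI := hlocD'
  haveI := hlocD'S
  let ε : D₁ ≃ₐ[A] D' := by
    rw [hD']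
    exact D₁.equivMapOfInjective E.val Subtype.val_injective
  have hε : ∀ x₁ : D₁, ((ε x₁ : D') : S) = ((x₁ : E) : S) := by
    intro x₁
    subst hD'
    rfl
  haveI : Algebra.EssFiniteType A D₁ := hessft
  haveI : Algebra.EssFiniteType A D' := (Algebra.EssFiniteType.iff_of_algEquiv ε).mp inferInstance
  have hm : Ideal.map (algebraMap A D') (maximalIdeal A) = maximalIdeal D' := by
    apply le_antisymm
    · rw [Ideal.map_le_iff_le_comap]
      intro a ha
      rw [Ideal.mem_comap, mem_maximalIdeal, mem_nonunits_iff]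
      intro hu
      have h1 : IsUnit (algebraMap D' S (algebraMap A D' a)) := hu.map _
      rw [← IsScalarTower.algebraMap_apply] at h1
      exact ha (isUnit_of_map_unit (algebraMap A S) a h1)
    · intro x hx
      obtain ⟨x₁, rfl⟩ := ε.surjective x
      have hx₁ : ¬ IsUnit ((x₁ : D₁) : E) := by
        intro hu
        apply hx
        have h1 : IsUnit (((x₁ : D₁) : E) : S) := hu.map (algebraMap E S)
        rw [← hε] at h1
        exact hlocD'S.map_nonunit _ h1
      have h2 := hmax x₁ hx₁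
      have h3 : ε x₁ ∈ ((maximalIdeal A).map (algebraMap A D₁)).map (ε : D₁ →ₐ[A] D').toRingHom :=
        Ideal.mem_map_of_mem _ h2
      rw [Ideal.map_map] at h3
      have h4 : (ε : D₁ →ₐ[A] D').toRingHom.comp (algebraMap A D₁) = algebraMap A D' :=
        (ε : D₁ →ₐ[A] D').comp_algebraMap
      rw [h4] at h3
      exact h3
  have hessD' : EGA4loc.IsEssentiallyEtale A D' :=
    Groth.Agent.Lib.Helper90.EssEtSub.isEssentiallyEtale_of_sub A S D' hm
  refine ⟨D', ?_, ⟨hlocD', hlocD'S, hessD'⟩, ?_, ?_⟩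
  · intro x hx
    rw [SetLike.mem_coe, hmemD']
    refine ⟨⟨x, hσ hx⟩, ?_, rfl⟩
    rw [hchar]
    have hmem : (⟨x, hσ hx⟩ : E) ∈ Algebra.adjoin A (s' : Set E) := by
      apply Algebra.subset_adjoin
      rw [hs', Finset.mem_coe, Finset.mem_image]
      exact ⟨⟨x, hx⟩, Finset.mem_attach _ _, rfl⟩
    exact ⟨_, hmem, 1, Subalgebra.one_mem _, one_ne_zero, one_mul _⟩
  · intro x hx
    obtain ⟨x₁, hx₁, rfl⟩ := (hmemD' x).mp hx
    obtain ⟨b, t, hbi, hti, hbD, htD, htu, hxt⟩ := hint x₁ hx₁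
    obtain ⟨u₁, hu₁, v₁, hv₁, hv₁0, h₁⟩ := (hchar b).mp hbD
    obtain ⟨u₂, hu₂, v₂, hv₂, hv₂0, h₂⟩ := (hchar t).mp htD
    refine ⟨(b : S), (t : S), hbi.map E.val, hti.map E.val, htu.map (algebraMap E S),
      congrArg Subtype.val hxt, ?_, ?_⟩
    · exact ⟨(u₁ : S), hadj₂ u₁ hu₁, (v₁ : S), hadj₂ v₁ hv₁,
        fun h0 => hv₁0 (Subtype.ext h0), congrArg Subtype.val h₁⟩
    · exact ⟨(u₂ : S), hadj₂ u₂ hu₂, (v₂ : S), hadj₂ v₂ hv₂,
        fun h0 => hv₂0 (Subtype.ext h0), congrArg Subtype.val h₂⟩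
  · rintro x ⟨u, hu, v, hv, hv0, h⟩
    obtain ⟨u', hu', rfl⟩ := hadj₁ u hu
    obtain ⟨v', hv', rfl⟩ := hadj₁ v hv
    have hvnzd : (v' : S) ∈ nonZeroDivisors S := mem_nonZeroDivisors_of_ne_zero hv0
    have hxE : x ∈ E := hsat (v' : S) v'.2 (u' : S) u'.2 hvnzd x h
    rw [hmemD']
    refine ⟨⟨x, hxE⟩, ?_, rfl⟩
    rw [hchar]
    exact ⟨u', hu', v', hv', fun h0 => hv0 (by rw [h0]; rfl), Subtype.ext h⟩

end Main

end Gal

end Groth.Agent.Lib.Helper37.Hz
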