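import Groth.Agent.Lib.Helper37.Hz97

/-!
# Henselization project, part 98: integrally closed intermediate rings.
-/

set_option autoImplicit false
set_option linter.style.haveILetI false
set_option linter.unusedSectionVars false
universe u

open IsLocalRing TensorProduct

namespace Groth.Agent.Lib.Helper37.Hz

namespace Gal

/-- An element of a domain `S` which is integral over `A` and a fraction of two elements of an
integrally closed subalgebra `D` lies in `D`. -/
theorem mem_of_isIntegral_of_frac {A S : Type u} [CommRing A] [CommRing S] [IsDomain S]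
    [Algebra A S] (D : Subalgebra A S) [IsIntegrallyClosed D] (c u v : S)
    (hc : IsIntegral A c) (hu : u ∈ D) (hv : v ∈ D) (hv0 : v ≠ 0) (h : v * c = u) : c ∈ D := by
  have hinjΩ : Function.Injective (algebraMap S (FractionRing S)) := IsFractionRing.injective S _
  have hginj : Function.Injective ((algebraMap S (FractionRing S)).comp (algebraMap D S)) :=
    hinjΩ.comp Subtype.val_injective
  let j : FractionRing D →+* FractionRing S := IsFractionRing.lift hginj
  have hj : ∀ d : D, j (algebraMap D (FractionRing D) d) = algebraMap S (FractionRing S) (d : S) :=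
    fun d => IsFractionRing.lift_algebraMap hginj d
  let jA : FractionRing D →ₐ[A] FractionRing S :=
    { j with
      commutes' := fun a => by
        change j (algebraMap A (FractionRing D) a) = algebraMap A (FractionRing S) a
        rw [IsScalarTower.algebraMap_apply A D (FractionRing D), hj,
          IsScalarTower.algebraMap_apply A S (FractionRing S)]
        rfl }
  have hjA : ∀ z, jA z = j z := fun z => rfl
  have hv0' : algebraMap D (FractionRing D) ⟨v, hv⟩ ≠ 0 := by
    intro h0
    have h1 : (⟨v, hv⟩ : D) = 0 := (IsFractionRing.injective D (FractionRing D)) (by rw [h0, map_zero])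
    exact hv0 (congrArg Subtype.val h1)
  obtain ⟨z, hz⟩ : ∃ z : FractionRing D, z = algebraMap D (FractionRing D) ⟨u, hu⟩ *
      (algebraMap D (FractionRing D) ⟨v, hv⟩)⁻¹ := ⟨_, rfl⟩
  have hzv : z * algebraMap D (FractionRing D) ⟨v, hv⟩ = algebraMap D (FractionRing D) ⟨u, hu⟩ := by
    rw [hz, mul_assoc, inv_mul_cancel₀ hv0', mul_one]
  have hjz : j z = algebraMap S (FractionRing S) c := by
    have h1 := congrArg j hzv
    rw [map_mul, hj, hj] at h1
    have h2 : algebraMap S (FractionRing S) v ≠ 0 := fun h0 => hv0 (hinjΩ (by rw [h0, map_zero]))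
    have h3 : algebraMap S (FractionRing S) c * algebraMap S (FractionRing S) v =
        algebraMap S (FractionRing S) u := by rw [← map_mul, mul_comm, h]
    exact mul_right_cancel₀ h2 (h1.trans h3.symm)
  have hzint : IsIntegral A z := by
    rw [← isIntegral_algHom_iff jA j.injective, hjA, hjz]
    exact hc.map (IsScalarTower.toAlgHom A S (FractionRing S))
  obtain ⟨d, hd⟩ := IsIntegrallyClosed.algebraMap_eq_of_integral (hzint.tower_top (A := D))
  have h4 : d * ⟨v, hv⟩ = ⟨u, hu⟩ := by
    apply IsFractionRing.injective D (FractionRing D)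
    rw [map_mul, hd, hzv]
  have h5 : (d : S) * v = u := congrArg Subtype.val h4
  have h6 : (d : S) = c := by
    have : (d : S) * v = c * v := by rw [h5, mul_comm, h]
    exact mul_right_cancel₀ hv0 this
  rw [← h6]
  exact d.2

/-- A subalgebra `D'` all of whose elements are fractions `b / t`, with `b`, `t` integral over `A`
and fractions of elements of `A[s]`, `t` a unit, is contained in every integrally closed dominated
subalgebra containing `s`. -/
theorem le_of_forall_frac {A S : Type u} [CommRing A] [CommRing S] [IsDomain S] [IsLocalRing S]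
    [Algebra A S] (D : Subalgebra A S) [IsLocalRing D] [IsLocalHom (algebraMap D S)]
    [IsIntegrallyClosed D] (s : Set S) (hs : s ⊆ D) (D' : Subalgebra A S)
    (h : ∀ x ∈ D', ∃ b t : S, IsIntegral A b ∧ IsIntegral A t ∧ IsUnit t ∧ x * t = b ∧
        (∃ u ∈ Algebra.adjoin A s, ∃ v ∈ Algebra.adjoin A s, v ≠ 0 ∧ v * b = u) ∧
        (∃ u ∈ Algebra.adjoin A s, ∃ v ∈ Algebra.adjoin A s, v ≠ 0 ∧ v * t = u)) :
    D' ≤ D := by
  have hadj : Algebra.adjoin A s ≤ D := Algebra.adjoin_le hs
  intro x hx
  obtain ⟨b, t, hbi, hti, htu, hxt, ⟨u₁, hu₁, v₁, hv₁, hv₁0, h₁⟩, ⟨u₂, hu₂, v₂, hv₂, hv₂0, h₂⟩⟩ :=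
    h x hx
  have hbD : b ∈ D := mem_of_isIntegral_of_frac D b u₁ v₁ hbi (hadj hu₁) (hadj hv₁) hv₁0 h₁
  have htD : t ∈ D := mem_of_isIntegral_of_frac D t u₂ v₂ hti (hadj hu₂) (hadj hv₂) hv₂0 h₂
  have htu' : IsUnit (⟨t, htD⟩ : D) := by
    have h1 : IsUnit (algebraMap D S ⟨t, htD⟩) := htu
    exact isUnit_of_map_unit (algebraMap D S) _ h1
  obtain ⟨t', ht'⟩ := htu'.exists_right_inv
  have h3 : t * (t' : S) = 1 := congrArg Subtype.val ht'
  have h4 : x = b * (t' : S) := by
    rw [← hxt, mul_assoc, h3, mul_one]
  rw [h4]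
  exact D.mul_mem hbD t'.2

end Gal

end Groth.Agent.Lib.Helper37.Hz
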