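import Groth.Agent.Lib.Helper37.Hz98

/-!
# Henselization project, part 99: a domain whose fraction field is generated by finitely many of
its elements over `A` consists of fractions of elements of `A[s]`.
-/

set_option autoImplicit false
set_option linter.style.haveILetI false
set_option linter.unusedSectionVars false
universe u

open IsLocalRing TensorProduct

namespace Groth.Agent.Lib.Helper37.Hz

namespace Gal

theorem exists_frac_of_closure_eq_top (A D : Type u) [CommRing A] [IsDomain A] [CommRing D]
    [IsDomain D] [Algebra A D] (hinj : Function.Injective (algebraMap A D)) (s : Finset D)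
    (hfg : Subfield.closure (Set.range (algebraMap A (FractionRing D)) ∪
        (algebraMap D (FractionRing D)) '' (s : Set D)) = ⊤) (d : D) :
    ∃ u ∈ Algebra.adjoin A (s : Set D), ∃ v ∈ Algebra.adjoin A (s : Set D), v ≠ 0 ∧ v * d = u := by
  have hinjDL : Function.Injective (algebraMap D (FractionRing D)) := IsFractionRing.injective D _
  haveI : FaithfulSMul A (FractionRing D) := (faithfulSMul_iff_algebraMap_injective A _).mpr (by
    rw [IsScalarTower.algebraMap_eq A D (FractionRing D)]
    exact hinjDL.comp hinj)
  letI : Algebra (FractionRing A) (FractionRing D) := FractionRing.liftAlgebra A (FractionRing D)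
  haveI : IsScalarTower A (FractionRing A) (FractionRing D) :=
    FractionRing.isScalarTower_liftAlgebra A _
  have hz : algebraMap D (FractionRing D) d ∈ IntermediateField.adjoin (FractionRing A)
      ((algebraMap D (FractionRing D)) '' (s : Set D)) := by
    rw [← IntermediateField.mem_toSubfield, IntermediateField.adjoin_toSubfield]
    have hle : Subfield.closure (Set.range (algebraMap A (FractionRing D)) ∪
        (algebraMap D (FractionRing D)) '' (s : Set D)) ≤
        Subfield.closure (Set.range (algebraMap (FractionRing A) (FractionRing D)) ∪
        (algebraMap D (FractionRing D)) '' (s : Set D)) := by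
      apply Subfield.closure_mono
      apply Set.union_subset_union_left
      rintro _ ⟨a, rfl⟩
      exact ⟨algebraMap A (FractionRing A) a,
        (IsScalarTower.algebraMap_apply A (FractionRing A) (FractionRing D) a).symm⟩
    apply hle
    rw [hfg]
    exact Subfield.mem_top _
  obtain ⟨u, hu, v, hv, hv0, h⟩ := exists_frac_of_mem_adjoin A D (FractionRing A) (FractionRing D)
    (s : Set D) _ hz
  refine ⟨u, hu, v, hv, hv0, hinjDL ?_⟩
  rw [map_mul]
  exact h

end Gal

end Groth.Agent.Lib.Helper37.Hz
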